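import Cfsg.Agent.Comp.TCDefs

set_option autoImplicit false
set_option maxRecDepth 1000000
set_option maxHeartbeats 0
set_option Elab.async false

namespace CF.Schur.L32

open CF.Comp

noncomputable def U0_0 : Net := (Net.cons (nat_lit 1) (nat_lit 17) (Net.cons (nat_lit 2) (nat_lit 2) (Net.cons (nat_lit 4) (nat_lit 6) (Net.cons (nat_lit 2) (nat_lit 19) Net.nil))))
noncomputable def U0_1 : Net := (Net.cons (nat_lit 1) (nat_lit 20) (Net.cons (nat_lit 2) (nat_lit 2) (Net.cons (nat_lit 4) (nat_lit 2) (Net.cons (nat_lit 2) (nat_lit 17) Net.nil))))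
noncomputable def U0 : List Net := [U0_0, U0_1]
noncomputable def U1_0 : Net := (Net.cons (nat_lit 1) (nat_lit 21) (Net.cons (nat_lit 2) (nat_lit 18) (Net.cons (nat_lit 4) (nat_lit 3) (Net.cons (nat_lit 2) (nat_lit 2) (Net.cons (nat_lit 1) (nat_lit 17) Net.nil)))))
noncomputable def U1_1 : Net := (Net.cons (nat_lit 1) (nat_lit 4) (Net.cons (nat_lit 2) (nat_lit 18) (Net.cons (nat_lit 1) (nat_lit 4) Net.nil)))
noncomputable def U1_2 : Net := (Net.cons (nat_lit 2) (nat_lit 2) (Net.cons (nat_lit 4) (nat_lit 6) (Net.cons (nat_lit 2) (nat_lit 2) Net.nil)))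
noncomputable def U1_3 : Net := (Net.cons (nat_lit 1) (nat_lit 4) (Net.cons (nat_lit 2) (nat_lit 2) (Net.cons (nat_lit 4) (nat_lit 6) (Net.cons (nat_lit 2) (nat_lit 2) (Net.cons (nat_lit 1) (nat_lit 4) Net.nil)))))
noncomputable def U1 : List Net := [U1_0, U1_1, U1_2, U1_3]
noncomputable def UW : List (List Nat) := [[(nat_lit 4), (nat_lit 2), (nat_lit 2), (nat_lit 3), (nat_lit 2), (nat_lit 4), (nat_lit 4), (nat_lit 4), (nat_lit 1), (nat_lit 3)],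
  [(nat_lit 1), (nat_lit 1), (nat_lit 3), (nat_lit 3)],
  [(nat_lit 8), (nat_lit 6), (nat_lit 7), (nat_lit 6)],
  [(nat_lit 8), (nat_lit 5), (nat_lit 7), (nat_lit 5), (nat_lit 7), (nat_lit 6)]]
noncomputable def UC : List Lvl := [⟨(nat_lit 0), [[(nat_lit 1)],
  [(nat_lit 3)]], (nat_lit 2)⟩,
  ⟨(nat_lit 1), [[(nat_lit 5)],
  [(nat_lit 7)]], (nat_lit 2)⟩,
  ⟨(nat_lit 2), [[(nat_lit 9)],
  [(nat_lit 11)]], (nat_lit 1)⟩]
noncomputable def UV : List (List Nat) := [[(nat_lit 88), (nat_lit 39)],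
  [(nat_lit 19), (nat_lit 108)],
  [(nat_lit 69), (nat_lit 58)]]
noncomputable def Uσ : Net := (Net.cons (nat_lit 2) (nat_lit 2) (Net.cons (nat_lit 4) (nat_lit 2) (Net.cons (nat_lit 2) (nat_lit 17) (Net.cons (nat_lit 1) (nat_lit 21) Net.nil))))
noncomputable def UCs : List (List Nat) := [[(nat_lit 0), (nat_lit 127)],
  [(nat_lit 0), (nat_lit 127)]]
noncomputable def UA : List (List (List Nat)) := [[[1, 1, 0], [0, 0, 1], [1, 0, 1]],
  [[1, 0, 1], [1, 0, 0], [0, 1, 1]]]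
noncomputable def UD : List (List (List (List Nat))) := [[[[1, 0, 0], [0, 1, 1], [0, 0, 1]],
  [[1, 0, 0], [1, 1, 0], [1, 1, 1]],
  [[1, 1, 0], [0, 1, 0], [0, 0, 1]]],
 [[[1, 0, 0], [0, 1, 1], [0, 0, 1]],
  [[1, 0, 0], [1, 1, 0], [0, 1, 1]],
  [[1, 0, 1], [0, 1, 0], [0, 0, 1]]]]
noncomputable def Nx2_0 : Net := (Net.cons (nat_lit 2) (nat_lit 2) (Net.cons (nat_lit 1) (nat_lit 16) Net.nil))
noncomputable def Nx2_1 : Net := (Net.cons (nat_lit 1) (nat_lit 16) (Net.cons (nat_lit 4) (nat_lit 6) (Net.cons (nat_lit 1) (nat_lit 16) Net.nil)))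
noncomputable def Nx2_2 : Net := (Net.cons (nat_lit 1) (nat_lit 20) (Net.cons (nat_lit 2) (nat_lit 16) (Net.cons (nat_lit 4) (nat_lit 6) (Net.cons (nat_lit 2) (nat_lit 16) (Net.cons (nat_lit 1) (nat_lit 20) Net.nil)))))
noncomputable def Nx2_3 : Net := (Net.cons (nat_lit 1) (nat_lit 16) (Net.cons (nat_lit 2) (nat_lit 16) (Net.cons (nat_lit 4) (nat_lit 3) (Net.cons (nat_lit 2) (nat_lit 19) (Net.cons (nat_lit 1) (nat_lit 16) Net.nil)))))
noncomputable def Nx2_4 : Net := (Net.cons (nat_lit 1) (nat_lit 20) (Net.cons (nat_lit 2) (nat_lit 18) Net.nil))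
noncomputable def Nx2 : List Net := [Nx2_0, Nx2_1, Nx2_2, Nx2_3, Nx2_4]

noncomputable def Np_0 : Net := (Net.cons (nat_lit 2) (nat_lit 2) (Net.cons (nat_lit 1) (nat_lit 16) Net.nil))
noncomputable def Np_1 : Net := (Net.cons (nat_lit 1) (nat_lit 21) (Net.cons (nat_lit 2) (nat_lit 18) (Net.cons (nat_lit 4) (nat_lit 3) (Net.cons (nat_lit 2) (nat_lit 2) (Net.cons (nat_lit 1) (nat_lit 17) Net.nil)))))
noncomputable def Np_2 : Net := (Net.cons (nat_lit 4) (nat_lit 1) (Net.cons (nat_lit 1) (nat_lit 4) Net.nil))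
noncomputable def Np : List Net := [Np_0, Np_1, Np_2]

noncomputable def Rp_0 : List (List Nat) := [[(nat_lit 1), (nat_lit 1)],
  [(nat_lit 3), (nat_lit 3), (nat_lit 3)],
  [(nat_lit 3), (nat_lit 1), (nat_lit 3), (nat_lit 1), (nat_lit 3), (nat_lit 1), (nat_lit 3), (nat_lit 1)]]

noncomputable def relsp : List (List Nat) := [[(nat_lit 1), (nat_lit 1)],
  [(nat_lit 3), (nat_lit 3), (nat_lit 3)],
  [(nat_lit 3), (nat_lit 1), (nat_lit 3), (nat_lit 1), (nat_lit 3), (nat_lit 1), (nat_lit 3), (nat_lit 1)],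
  [(nat_lit 5), (nat_lit 5)],
  [(nat_lit 5), (nat_lit 1), (nat_lit 5), (nat_lit 1), (nat_lit 5), (nat_lit 1)],
  [(nat_lit 3), (nat_lit 5), (nat_lit 3), (nat_lit 1), (nat_lit 4), (nat_lit 5), (nat_lit 1), (nat_lit 3), (nat_lit 1)]]

noncomputable def ep_0_c0 : BT (Bx Nat) := (BT.leaf (Bx.mk (nat_lit 0x0)))
noncomputable def ep_0_c1 : BT (Bx Nat) := (BT.leaf (Bx.mk (nat_lit 0x29728c424612108d8463cae46d235787323e469233649421a10b084841c8aa453228913c206444000)))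
noncomputable def ep_0_c2 : BT (Bx Nat) := (BT.leaf (Bx.mk (nat_lit 0x6d636a23564708d391bc329de50c97784321ddd0c777648c645f22d915c309dcd0c17724896446000)))
noncomputable def ep_0_c3 : BT (Bx Nat) := (BT.leaf (Bx.mk (nat_lit 0x10b5859a5e16ac9775aa32c6154caf854b2b6150cab853c8ca46122e9163296144ca3850c89a448000)))
noncomputable def ep_0_p : BT (Bx Nat) := (BT.leaf (Bx.mk (nat_lit 0x3542b30ac41b0063418c062838a0a2438909a0368099c3670998165051014305083420884321088410000000)))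
noncomputable def ep_0_e : BT Nat := BT.leaf (nat_lit 0)
noncomputable def ep_0_cols : List (BT (Bx Nat)) := [ep_0_c0, ep_0_c1, ep_0_c2, ep_0_c3]
noncomputable def ep_0_ch (x j : Nat) : Bx Nat := chunkG ep_0_cols (nat_lit 1) x j
noncomputable def ep_0_L (x : Nat) : Bx (Nat → Nat) := lookG ep_0_ch (nat_lit 8) (nat_lit 255) (nat_lit 13) (nat_lit 8191) x
noncomputable def ep_0_pc (_ j : Nat) : Bx Nat := ep_0_p.get j
noncomputable def ep_0_pb : Bx (Nat → Nat) := lookG ep_0_pc (nat_lit 8) (nat_lit 255) (nat_lit 14) (nat_lit 16383) (nat_lit 0)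
noncomputable def ep_0_rots : BT CW := (BT.node (nat_lit 5) (BT.node (nat_lit 2) (BT.node (nat_lit 1) (BT.leaf ⟨[], (nat_lit 1000000), (nat_lit 0), (nat_lit 0), (nat_lit 0)⟩) (BT.leaf ⟨[], (nat_lit 1000000), (nat_lit 0), (nat_lit 0), (nat_lit 1)⟩)) (BT.node (nat_lit 3) (BT.leaf ⟨[], (nat_lit 1000000), (nat_lit 0), (nat_lit 0), (nat_lit 2)⟩) (BT.node (nat_lit 4) (BT.leaf ⟨[(nat_lit 1), (nat_lit 1)], (nat_lit 0), (nat_lit 0), (nat_lit 0), (nat_lit 3)⟩) (BT.leaf ⟨[(nat_lit 3), (nat_lit 2)], (nat_lit 4), (nat_lit 1), (nat_lit 0), (nat_lit 3)⟩)))) (BT.node (nat_lit 8) (BT.node (nat_lit 6) (BT.leaf ⟨[(nat_lit 2), (nat_lit 3)], (nat_lit 4), (nat_lit 0), (nat_lit 0), (nat_lit 3)⟩) (BT.node (nat_lit 7) (BT.leaf ⟨[(nat_lit 2), (nat_lit 2), (nat_lit 2)], (nat_lit 1), (nat_lit 0), (nat_lit 0), (nat_lit 3)⟩) (BT.leaf ⟨[(nat_lit 1), (nat_lit 2), (nat_lit 1), (nat_lit 2), (nat_lit 1), (nat_lit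 2), (nat_lit 1), (nat_lit 2)], (nat_lit 2), (nat_lit 1), (nat_lit 0), (nat_lit 3)⟩))) (BT.node (nat_lit 9) (BT.leaf ⟨[(nat_lit 1), (nat_lit 3), (nat_lit 1), (nat_lit 3), (nat_lit 1), (nat_lit 3), (nat_lit 1), (nat_lit 3)], (nat_lit 8), (nat_lit 0), (nat_lit 0), (nat_lit 3)⟩) (BT.node (nat_lit 10) (BT.leaf ⟨[(nat_lit 3), (nat_lit 1), (nat_lit 3), (nat_lit 1), (nat_lit 3), (nat_lit 1), (nat_lit 3), (nat_lit 1)], (nat_lit 8), (nat_lit 1), (nat_lit 0), (nat_lit 3)⟩) (BT.leaf ⟨[(nat_lit 3), (nat_lit 3), (nat_lit 3)], (nat_lit 7), (nat_lit 0), (nat_lit 0), (nat_lit 3)⟩)))))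
noncomputable def ep_0_hcs : List CW := []
noncomputable def ep_0_H (x j : Nat) : Bx (Nat → Nat → Nat) := mkH ep_0_L ep_0_pb.1 ep_0_e.get (lmap CW.w ep_0_hcs) (nat_lit 24) (nat_lit 25) (nat_lit 4) (nat_lit 32) (nat_lit 512) (nat_lit 2047) x (ep_0_rots.get j)
noncomputable def ep_0_F (x b : Nat) : Bool := blkOK ep_0_H ep_0_ch (nat_lit 25) (nat_lit 32) (nat_lit 16) (nat_lit 8) (nat_lit 255) (nat_lit 13) (nat_lit 8191) x b

theorem ep_0_k0_0 : allFrom (ep_0_F (nat_lit 0)) (nat_lit 0) (nat_lit 4) = true := by decide +kernel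
theorem ep_0_k1_0 : allFrom (ep_0_F (nat_lit 1)) (nat_lit 0) (nat_lit 4) = true := by decide +kernel
theorem ep_0_k2_0 : allFrom (ep_0_F (nat_lit 2)) (nat_lit 0) (nat_lit 4) = true := by decide +kernel
theorem ep_0_k3_0 : allFrom (ep_0_F (nat_lit 3)) (nat_lit 0) (nat_lit 4) = true := by decide +kernel

noncomputable def ep_1_c0 : BT (Bx Nat) := (BT.leaf (Bx.mk (nat_lit 0x0)))
noncomputable def ep_1_c1 : BT (Bx Nat) := (BT.leaf (Bx.mk (nat_lit 0x4ced755735475502e0c800)))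
noncomputable def ep_1_c2 : BT (Bx Nat) := (BT.leaf (Bx.mk (nat_lit 0x776d1ddd34581d0320c800)))
noncomputable def ep_1_c3 : BT (Bx Nat) := (BT.leaf (Bx.mk (nat_lit 0x56cecd5a3b281f035d8800)))
noncomputable def ep_1_c4 : BT (Bx Nat) := (BT.leaf (Bx.mk (nat_lit 0x1ee338921ed696e8605000)))
noncomputable def ep_1_p : BT (Bx Nat) := (BT.leaf (Bx.mk (nat_lit 0xd87b0a41c8290291000000)))
noncomputable def ep_1_e0 : BT Nat := (BT.node (nat_lit 66) (BT.leaf (nat_lit 262146)) (BT.leaf (nat_lit 2)))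
noncomputable def ep_1_e : BT Nat := ep_1_e0
noncomputable def ep_1_cols : List (BT (Bx Nat)) := [ep_1_c0, ep_1_c1, ep_1_c2, ep_1_c3, ep_1_c4]
noncomputable def ep_1_ch (x j : Nat) : Bx Nat := chunkG ep_1_cols (nat_lit 1) x j
noncomputable def ep_1_L (x : Nat) : Bx (Nat → Nat) := lookG ep_1_ch (nat_lit 8) (nat_lit 255) (nat_lit 11) (nat_lit 2047) x
noncomputable def ep_1_pc (_ j : Nat) : Bx Nat := ep_1_p.get j
noncomputable def ep_1_pb : Bx (Nat → Nat) := lookG ep_1_pc (nat_lit 8) (nat_lit 255) (nat_lit 11) (nat_lit 2047) (nat_lit 0)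
noncomputable def ep_1_rots : BT CW := (BT.node (nat_lit 7) (BT.node (nat_lit 3) (BT.node (nat_lit 1) (BT.leaf ⟨[], (nat_lit 1000000), (nat_lit 0), (nat_lit 0), (nat_lit 0)⟩) (BT.node (nat_lit 2) (BT.leaf ⟨[], (nat_lit 1000000), (nat_lit 0), (nat_lit 0), (nat_lit 1)⟩) (BT.leaf ⟨[], (nat_lit 1000000), (nat_lit 0), (nat_lit 0), (nat_lit 2)⟩))) (BT.node (nat_lit 5) (BT.node (nat_lit 4) (BT.leaf ⟨[(nat_lit 4), (nat_lit 4)], (nat_lit 3), (nat_lit 0), (nat_lit 0), (nat_lit 3)⟩) (BT.leaf ⟨[(nat_lit 1), (nat_lit 1)], (nat_lit 0), (nat_lit 0), (nat_lit 0), (nat_lit 3)⟩)) (BT.node (nat_lit 6) (BT.leaf ⟨[(nat_lit 3), (nat_lit 2)], (nat_lit 7), (nat_lit 1), (nat_lit 0), (nat_lit 3)⟩) (BT.leaf ⟨[(nat_lit 2), (nat_lit 3)], (nat_lit 7), (nat_lit 0), (nat_lit 0), (nat_lit 3)⟩)))) (BT.node (nat_lit 10) (BT.node (nat_lit 8) (BT.leaf ⟨[(nat_lit 2), (nat_lit 2), (nat_lit 2)], (nat_lit 1), (nat_lit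 0), (nat_lit 0), (nat_lit 3)⟩) (BT.node (nat_lit 9) (BT.leaf ⟨[(nat_lit 4), (nat_lit 1), (nat_lit 4), (nat_lit 1), (nat_lit 4), (nat_lit 1)], (nat_lit 4), (nat_lit 0), (nat_lit 0), (nat_lit 3)⟩) (BT.leaf ⟨[(nat_lit 1), (nat_lit 3), (nat_lit 4), (nat_lit 1), (nat_lit 2), (nat_lit 1), (nat_lit 2), (nat_lit 4), (nat_lit 2)], (nat_lit 5), (nat_lit 3), (nat_lit 0), (nat_lit 3)⟩))) (BT.node (nat_lit 12) (BT.node (nat_lit 11) (BT.leaf ⟨[(nat_lit 1), (nat_lit 2), (nat_lit 4), (nat_lit 2), (nat_lit 1), (nat_lit 3), (nat_lit 4), (nat_lit 1), (nat_lit 2)], (nat_lit 5), (nat_lit 8), (nat_lit 0), (nat_lit 3)⟩) (BT.leaf ⟨[(nat_lit 1), (nat_lit 2), (nat_lit 1), (nat_lit 2), (nat_lit 1), (nat_lit 2), (nat_lit 1), (nat_lit 2)], (nat_lit 2), (nat_lit 1), (nat_lit 0), (nat_lit 3)⟩)) (BT.node (nat_lit 13) (BT.leaf ⟨[(nat_lit 4), (nat_lit 1), (nat_lit 2), (nat_lit 1), (nat_lit 2), (nat_lit 4),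 (nat_lit 2), (nat_lit 1), (nat_lit 3)], (nat_lit 5), (nat_lit 5), (nat_lit 0), (nat_lit 3)⟩) (BT.leaf ⟨[(nat_lit 4), (nat_lit 2), (nat_lit 1), (nat_lit 3), (nat_lit 4), (nat_lit 1), (nat_lit 2), (nat_lit 1), (nat_lit 2)], (nat_lit 5), (nat_lit 1), (nat_lit 0), (nat_lit 3)⟩)))))
noncomputable def ep_1_hcs : List CW := [⟨[(nat_lit 2)], (nat_lit 0), (nat_lit 0), (nat_lit 0), (nat_lit 0)⟩, ⟨[(nat_lit 1)], (nat_lit 1), (nat_lit 0), (nat_lit 0), (nat_lit 0)⟩, ⟨[(nat_lit 3)], (nat_lit 2), (nat_lit 0), (nat_lit 0), (nat_lit 0)⟩, ⟨[(nat_lit 1)], (nat_lit 3), (nat_lit 0), (nat_lit 0), (nat_lit 0)⟩]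
noncomputable def ep_1_H (x j : Nat) : Bx (Nat → Nat → Nat) := mkH ep_1_L ep_1_pb.1 ep_1_e.get (lmap CW.w ep_1_hcs) (nat_lit 7) (nat_lit 8) (nat_lit 5) (nat_lit 8) (nat_lit 128) (nat_lit 511) x (ep_1_rots.get j)
noncomputable def ep_1_F (x b : Nat) : Bool := blkOK ep_1_H ep_1_ch (nat_lit 8) (nat_lit 8) (nat_lit 16) (nat_lit 8) (nat_lit 255) (nat_lit 11) (nat_lit 2047) x b

theorem ep_1_k0_0 : allFrom (ep_1_F (nat_lit 0)) (nat_lit 0) (nat_lit 4) = true := by decide +kernel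
theorem ep_1_k1_0 : allFrom (ep_1_F (nat_lit 1)) (nat_lit 0) (nat_lit 4) = true := by decide +kernel
theorem ep_1_k2_0 : allFrom (ep_1_F (nat_lit 2)) (nat_lit 0) (nat_lit 4) = true := by decide +kernel
theorem ep_1_k3_0 : allFrom (ep_1_F (nat_lit 3)) (nat_lit 0) (nat_lit 4) = true := by decide +kernel
theorem ep_1_k4_0 : allFrom (ep_1_F (nat_lit 4)) (nat_lit 0) (nat_lit 4) = true := by decide +kernel

noncomputable def Kc2_0 : Net := (Net.cons (nat_lit 2) (nat_lit 48) (Net.cons (nat_lit 4) (nat_lit 12) (Net.cons (nat_lit 2) (nat_lit 48) (Net.cons (nat_lit 1) (nat_lit 65) Net.nil))))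
noncomputable def Kc2_1 : Net := (Net.cons (nat_lit 1) (nat_lit 4) (Net.cons (nat_lit 2) (nat_lit 18) (Net.cons (nat_lit 1) (nat_lit 16) Net.nil)))
noncomputable def Kc2_2 : Net := (Net.cons (nat_lit 2) (nat_lit 3) (Net.cons (nat_lit 1) (nat_lit 80) Net.nil))
noncomputable def Kc2 : List Net := [Kc2_0, Kc2_1, Kc2_2]
noncomputable def Ac2 : List Nat := [(nat_lit 77),
  (nat_lit 48),
  (nat_lit 83),
  full (nat_lit 8)]

noncomputable def Bc2 : List Nat := [(nat_lit 0),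
  (nat_lit 0),
  (nat_lit 0),
  (nat_lit 0)]


end CF.Schur.L32
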