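import Cfsg.Agent.Comp.Defs

set_option autoImplicit false
set_option maxRecDepth 1000000
set_option maxHeartbeats 0
set_option Elab.async false

namespace CF.Schur.Co1

open CF.Comp

noncomputable def Mx5 : List Nat := [(nat_lit 0x892988204d0a14bb60cfa7217f2405ee5e074d74a33eb6d70c0ed766722b974c9507fee18d379f4b721eb3a3c2eed66e8725092a081647c43d7c8cc7d97a50e7bc2a03e846e47df1),
  (nat_lit 0x838d8fd8e84246d6d355f428109480a9a841601da88725a47128365f6b7e36c3f8901394a547098968680c3bd731d1ba7fb1597fbe4decb71ab6594849d8b928da350d9bcf0abfd1),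
  (nat_lit 0xf3b144e08036b738138695aa475beb2f57375828049aefef86c02f726161cc81ec0bc6b3596ccac4e6f6ad238656a272a367502fee03452be67a26d6a3f20f7773d1a32f08478133),
  (nat_lit 0xa1bd8ebc9e7b032c724cba614dbf93c30647130ff7102164afb6df2ed70b7e295e3ca897312e71dbaa9460f2ea5c54fafbec2190643ff2f87a86290109b4c6f09ca675f4858e7175),
  (nat_lit 0xc92f5659697fc14a43ee3cf698c6a256be9d15128393b656b9f13c47e2d7abe7899ec80c27da932a889e54670eab961c7cbd8d8ae8af3e69d83ebc6d748c4a71af1db3c4856d7edd),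
  (nat_lit 0x9e6fdb3d85e60db0a200d592bf5578f760f4f748847b1d4f5be80f29123027ffc3caf2c84eb54c4613e2ae251a2be203939552489fbd3a251ec46ac7c6c28cdb5abe1a93ba637913),
  (nat_lit 0xa02000dc5eb27a24f68e1430d216314204b01a4830ea6405f8f673207c8c5ad64819381d9af426d8112826aee544281c9c5693c2c2c32ab6551872388ad0a8cd98038a135d0ca295),
  (nat_lit 0xfe84bb9263f00bc050352088691aeca36fea577eb7804b3d30e13071a1b87544ebb45d6fb53e860a09882c0752b7b66d06cf22474ae93e6cdaf3b7370d5ef70f9eb74e6a8159312c),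
  (nat_lit 0x3439fc1ac5c0f44cdaa88328e550e6efe7b9efd8263ba883d4ba1cfdbf767e8d6272b1082ba12b299e967cede8082da59886a52bf1d2af735b908861f6702f2278cf600b867ba20d),
  (nat_lit 0xd19eb6f936dafdf5e144276653d7bf117858afbddbcf3f3e8d286c43456abd928323068b715f4df0b48318d430cc89c2ce309fc42dda06b556f7c9ff307c20c0f594af048dab566d),
  (nat_lit 0x2422dbdf851e64da85f1df6b95550bda1d3fd1004b8f7fd427af7ad7166ebb74ca772a3e8d37ec003f6f36a8c4cb9a8bb2fc6d2b8e2a3bb5634fbfa9359dc998ca94f0672c4d6e6a),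
  (nat_lit 0x99bfc117befb31430f8b6fd89336cd7925c398ec3254db1151fff0d0b1ebdaa81f5280f86ac713e034267a6f1e9a4c4d0db1629cd2409a5d8a36a55c8f6a1c2b14f8da16ec9a1b43)]
noncomputable def Wx5 : List (List Nat) := [[(nat_lit 15), (nat_lit 17), (nat_lit 27), (nat_lit 5), (nat_lit 27), (nat_lit 4), (nat_lit 20), (nat_lit 4), (nat_lit 23), (nat_lit 14), (nat_lit 5), (nat_lit 5), (nat_lit 21), (nat_lit 9), (nat_lit 13), (nat_lit 9), (nat_lit 19), (nat_lit 23), (nat_lit 13), (nat_lit 13), (nat_lit 25)],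
  [(nat_lit 5), (nat_lit 2), (nat_lit 16), (nat_lit 29), (nat_lit 7), (nat_lit 3), (nat_lit 2), (nat_lit 16), (nat_lit 14), (nat_lit 7), (nat_lit 11), (nat_lit 11), (nat_lit 11), (nat_lit 10), (nat_lit 13), (nat_lit 20), (nat_lit 13), (nat_lit 13), (nat_lit 17), (nat_lit 19), (nat_lit 25)],
  [(nat_lit 16), (nat_lit 30), (nat_lit 9), (nat_lit 30), (nat_lit 3), (nat_lit 21), (nat_lit 1), (nat_lit 14), (nat_lit 6), (nat_lit 6), (nat_lit 16), (nat_lit 11), (nat_lit 25), (nat_lit 16), (nat_lit 13), (nat_lit 13), (nat_lit 21), (nat_lit 17), (nat_lit 19), (nat_lit 25)],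
  [(nat_lit 1), (nat_lit 1), (nat_lit 4), (nat_lit 27), (nat_lit 3), (nat_lit 8), (nat_lit 23), (nat_lit 1), (nat_lit 13), (nat_lit 20), (nat_lit 11), (nat_lit 5), (nat_lit 19), (nat_lit 10), (nat_lit 13), (nat_lit 16), (nat_lit 13), (nat_lit 20)],
  [(nat_lit 27), (nat_lit 10), (nat_lit 17), (nat_lit 5), (nat_lit 29), (nat_lit 19), (nat_lit 9), (nat_lit 2), (nat_lit 9), (nat_lit 8), (nat_lit 5), (nat_lit 12), (nat_lit 10), (nat_lit 14), (nat_lit 9), (nat_lit 20), (nat_lit 15), (nat_lit 15), (nat_lit 14), (nat_lit 17)],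
  [(nat_lit 1), (nat_lit 11), (nat_lit 7), (nat_lit 29), (nat_lit 28), (nat_lit 4), (nat_lit 5), (nat_lit 13), (nat_lit 1), (nat_lit 15), (nat_lit 9), (nat_lit 7), (nat_lit 16), (nat_lit 14), (nat_lit 12), (nat_lit 13), (nat_lit 13), (nat_lit 20), (nat_lit 13), (nat_lit 13), (nat_lit 20), (nat_lit 17)]]
noncomputable def Vx5 : List (List Nat) := [[(nat_lit 928595948), (nat_lit 145145875)],
  [(nat_lit 382750890), (nat_lit 690990933)],
  [(nat_lit 976497721), (nat_lit 97244102)],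
  [(nat_lit 356499778), (nat_lit 717242045)],
  [(nat_lit 14182275), (nat_lit 1059559548)],
  [(nat_lit 555149237), (nat_lit 518592586)],
  [(nat_lit 790385352), (nat_lit 283356471)],
  [(nat_lit 804104062), (nat_lit 269637761)],
  [(nat_lit 10657736), (nat_lit 1063084087)],
  [(nat_lit 692407749), (nat_lit 381334074)],
  [(nat_lit 901750408), (nat_lit 171991415)],
  [(nat_lit 957762294), (nat_lit 115979529)],
  [(nat_lit 410759147), (nat_lit 662982676)],
  [(nat_lit 485586844), (nat_lit 588154979)],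
  [(nat_lit 587988679), (nat_lit 485753144)],
  [(nat_lit 552826256), (nat_lit 520915567)],
  [(nat_lit 620215367), (nat_lit 453526456)],
  [(nat_lit 58655523), (nat_lit 1015086300)],
  [(nat_lit 462098715), (nat_lit 611643108)],
  [(nat_lit 123857569), (nat_lit 949884254)],
  [(nat_lit 629205264), (nat_lit 444536559)],
  [(nat_lit 475519864), (nat_lit 598221959)],
  [(nat_lit 355724695), (nat_lit 718017128)],
  [(nat_lit 141852242), (nat_lit 931889581)]]
noncomputable def σx5 : Net := (Net.cons (nat_lit 1) (nat_lit 268502276) (Net.cons (nat_lit 2) (nat_lit 50332176) (Net.cons (nat_lit 4) (nat_lit 51052544) (Net.cons (nat_lit 8) (nat_lit 1703936) (Net.cons (nat_lit 16) (nat_lit 16036) (Net.cons (nat_lit 8) (nat_lit 4128954) (Net.cons (nat_lit 4) (nat_lit 50463759) (Net.cons (nat_lit 2) (nat_lit 33751298) (Net.cons (nat_lit 1) (nat_lit 269554948) Net.nil)))))))))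
noncomputable def Nx5_0 : Net := (Net.cons (nat_lit 1) (nat_lit 17056000) (Net.cons (nat_lit 2) (nat_lit 2306306) (Net.cons (nat_lit 4) (nat_lit 34145288) (Net.cons (nat_lit 8) (nat_lit 65600) (Net.cons (nat_lit 16) (nat_lit 12754) (Net.cons (nat_lit 8) (nat_lit 1966216) (Net.cons (nat_lit 4) (nat_lit 50397703) (Net.cons (nat_lit 2) (nat_lit 17838080) (Net.cons (nat_lit 1) (nat_lit 84234245) Net.nil)))))))))
noncomputable def Nx5_1 : Net := (Net.cons (nat_lit 1) (nat_lit 20993348) (Net.cons (nat_lit 2) (nat_lit 18878482) (Net.cons (nat_lit 4) (nat_lit 50923524) (Net.cons (nat_lit 8) (nat_lit 1703936) (Net.cons (nat_lit 16) (nat_lit 2134) (Net.cons (nat_lit 8) (nat_lit 3014712) (Net.cons (nat_lit 4) (nat_lit 34145024) (Net.cons (nat_lit 2) (nat_lit 70195) (Net.cons (nat_lit 1) (nat_lit 268456209) Net.nil)))))))))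
noncomputable def Nx5_2 : Net := (Net.cons (nat_lit 1) (nat_lit 1069056) (Net.cons (nat_lit 2) (nat_lit 52429105) (Net.cons (nat_lit 4) (nat_lit 65536) (Net.cons (nat_lit 8) (nat_lit 196608) (Net.cons (nat_lit 16) (nat_lit 5637) (Net.cons (nat_lit 8) (nat_lit 262196) (Net.cons (nat_lit 4) (nat_lit 17368579) (Net.cons (nat_lit 2) (nat_lit 52564256) (Net.cons (nat_lit 1) (nat_lit 68174080) Net.nil)))))))))
noncomputable def Nx5_3 : Net := (Net.cons (nat_lit 1) (nat_lit 268763200) (Net.cons (nat_lit 2) (nat_lit 51580976) (Net.cons (nat_lit 4) (nat_lit 656388) (Net.cons (nat_lit 8) (nat_lit 589824) (Net.cons (nat_lit 16) (nat_lit 11361) (Net.cons (nat_lit 8) (nat_lit 3080423) (Net.cons (nat_lit 4) (nat_lit 34210563) (Net.cons (nat_lit 2) (nat_lit 34738480) (Net.cons (nat_lit 1) (nat_lit 336680273) Net.nil)))))))))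
noncomputable def Nx5 : List Net := [Nx5_0, Nx5_1, Nx5_2, Nx5_3]
noncomputable def Lx5 : List Lvl := [⟨(nat_lit 3), [[(nat_lit 3)],
  [(nat_lit 3)],
  [(nat_lit 3)],
  [(nat_lit 3)]], (nat_lit 1)⟩,
  ⟨(nat_lit 0), [[(nat_lit 1), (nat_lit 3), (nat_lit 5)],
  [(nat_lit 1), (nat_lit 3), (nat_lit 5)],
  [(nat_lit 1), (nat_lit 3), (nat_lit 5)],
  [(nat_lit 1), (nat_lit 3), (nat_lit 5)],
  [(nat_lit 7)],
  [(nat_lit 7)],
  [(nat_lit 7)],
  [(nat_lit 7)]], (nat_lit 1)⟩,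
  ⟨(nat_lit 1), [[(nat_lit 5), (nat_lit 7), (nat_lit 7), (nat_lit 7), (nat_lit 7)],
  [(nat_lit 5), (nat_lit 7), (nat_lit 7), (nat_lit 7), (nat_lit 7)],
  [(nat_lit 5), (nat_lit 7), (nat_lit 7), (nat_lit 7), (nat_lit 7)],
  [(nat_lit 5), (nat_lit 7), (nat_lit 7), (nat_lit 7), (nat_lit 7)]], (nat_lit 1)⟩]

end CF.Schur.Co1
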