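import Cfsg.Agent.Comp.Defs

set_option autoImplicit false
set_option maxRecDepth 1000000
set_option maxHeartbeats 0
set_option Elab.async false

namespace CF.Schur.Co1

open CF.Comp

noncomputable def Mx7 : List Nat := [(nat_lit 0xab92365b324e3444c29d0ee6c2a01239c6cea424c20c0cd35d332ee2625a69ddee6406bf64a5f912eaea093f9d6d86a79f843cbfc2c752bd2133a6dddd3aa5b46012202e673439bf),
  (nat_lit 0xbe0c43e18c7fba16ee06d6a5dda84f9ed982cfc497aa621ef16070f531556febb3fd7b328021e858d28e87c4bc2aed801e4d2c0879a933093cbf01ff39bade820dc1b9ce978a7946),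
  (nat_lit 0xbc43157110526acc24aa10d022834032be6c7e490741b8d8e0af3cc6a08310cef496aceaffa662cb3591a1833eacda559e267c8d3a73b1922e9f89d6a46d553426edcada8dcf4813),
  (nat_lit 0xeb88bf740a6b92b9cadd61e67e847d38ab325e073d648e76f06547076547f4f8867e1a53eb1d23f5de9e0cd961fd0518acd322c507c96e542d5e7c8db7b6ca61a771fa3d26ab1d1e),
  (nat_lit 0x6bc449cc7934928c28b86492de1cfcf37c36303af7afb235a05d8cd1338b16bc901d8d823a23eff31d04204ebf6fad65261572c54f09e35313d3d3c9a40aff2b4421474a011ac6df),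
  (nat_lit 0xe691081e955fcda0a7192eaa8aa4c45d6f8d9ea6a6c1806c3a3e4a2b2a41ecb69d5d271c4f5a938287286e985febf1626272d81251e4a7bb53fec7291141a608a3557115c4163497),
  (nat_lit 0xeef4e487677b3860da6019693c0a2ab1ed79f768a7716faf7276754bdce3dc017ec6f0af3db0d7cd8ea61afa59fbd531a0a3e3892688fc067d12f5b14d32357bea2f7a1082cd64e1),
  (nat_lit 0xb3440c86c88e45e84cf745aa72869ad1ea4aaa4a4b3c31b4ff00d6be687692d9d4b67b2fe5df918202b8610b1008c59fac0b24bb500f4be43d0d307f20283a4235a0f6d9b058ddeb)]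
noncomputable def Wx7 : List (List Nat) := [[(nat_lit 23), (nat_lit 29), (nat_lit 5), (nat_lit 27), (nat_lit 11), (nat_lit 15), (nat_lit 6), (nat_lit 1), (nat_lit 7), (nat_lit 11), (nat_lit 8), (nat_lit 5), (nat_lit 17), (nat_lit 19), (nat_lit 10), (nat_lit 21), (nat_lit 14), (nat_lit 16), (nat_lit 13), (nat_lit 19), (nat_lit 25)],
  [(nat_lit 20), (nat_lit 30), (nat_lit 8), (nat_lit 5), (nat_lit 27), (nat_lit 1), (nat_lit 20), (nat_lit 2), (nat_lit 2), (nat_lit 8), (nat_lit 23), (nat_lit 7), (nat_lit 10), (nat_lit 19), (nat_lit 15), (nat_lit 9), (nat_lit 21), (nat_lit 16), (nat_lit 20), (nat_lit 13), (nat_lit 13), (nat_lit 17), (nat_lit 20), (nat_lit 17), (nat_lit 25)],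
  [(nat_lit 30), (nat_lit 27), (nat_lit 4), (nat_lit 27), (nat_lit 1), (nat_lit 10), (nat_lit 13), (nat_lit 1), (nat_lit 21), (nat_lit 9), (nat_lit 5), (nat_lit 19), (nat_lit 11), (nat_lit 9), (nat_lit 25), (nat_lit 14), (nat_lit 15), (nat_lit 13), (nat_lit 21), (nat_lit 17), (nat_lit 20)],
  [(nat_lit 3), (nat_lit 16), (nat_lit 30), (nat_lit 13), (nat_lit 3), (nat_lit 27), (nat_lit 12), (nat_lit 2), (nat_lit 2), (nat_lit 19), (nat_lit 7), (nat_lit 10), (nat_lit 5), (nat_lit 21), (nat_lit 12), (nat_lit 12), (nat_lit 10), (nat_lit 25), (nat_lit 16), (nat_lit 14), (nat_lit 21), (nat_lit 20), (nat_lit 17), (nat_lit 25)]]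
noncomputable def Vx7 : List (List Nat) := [[(nat_lit 8520), (nat_lit 7863)],
  [(nat_lit 1771), (nat_lit 14612)],
  [(nat_lit 7583), (nat_lit 8800)],
  [(nat_lit 1046), (nat_lit 15337)],
  [(nat_lit 1836), (nat_lit 14547)],
  [(nat_lit 1781), (nat_lit 14602)],
  [(nat_lit 4542), (nat_lit 11841)],
  [(nat_lit 14409), (nat_lit 1974)],
  [(nat_lit 1046), (nat_lit 15337)],
  [(nat_lit 8436), (nat_lit 7947)],
  [(nat_lit 14920), (nat_lit 1463)],
  [(nat_lit 6153), (nat_lit 10230)],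
  [(nat_lit 4719), (nat_lit 11664)],
  [(nat_lit 15064), (nat_lit 1319)],
  [(nat_lit 11192), (nat_lit 5191)],
  [(nat_lit 9048), (nat_lit 7335)],
  [(nat_lit 9174), (nat_lit 7209)],
  [(nat_lit 507), (nat_lit 15876)],
  [(nat_lit 8268), (nat_lit 8115)],
  [(nat_lit 10938), (nat_lit 5445)],
  [(nat_lit 13151), (nat_lit 3232)],
  [(nat_lit 15550), (nat_lit 833)],
  [(nat_lit 11388), (nat_lit 4995)],
  [(nat_lit 8027), (nat_lit 8356)]]
noncomputable def σx7 : Net := (Net.cons (nat_lit 1) (nat_lit 16) (Net.cons (nat_lit 2) (nat_lit 18) (Net.cons (nat_lit 8) (nat_lit 26) (Net.cons (nat_lit 4) (nat_lit 515) (Net.cons (nat_lit 2) (nat_lit 786) (Net.cons (nat_lit 1) (nat_lit 1301) Net.nil))))))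
noncomputable def Nx7_0 : Net := (Net.cons (nat_lit 1) (nat_lit 340) (Net.cons (nat_lit 2) (nat_lit 257) (Net.cons (nat_lit 8) (nat_lit 20) (Net.cons (nat_lit 4) (nat_lit 1) (Net.cons (nat_lit 2) (nat_lit 272) (Net.cons (nat_lit 1) (nat_lit 324) Net.nil))))))
noncomputable def Nx7_1 : Net := (Net.cons (nat_lit 2) (nat_lit 16) (Net.cons (nat_lit 8) (nat_lit 27) (Net.cons (nat_lit 4) (nat_lit 776) (Net.cons (nat_lit 2) (nat_lit 513) (Net.cons (nat_lit 1) (nat_lit 1105) Net.nil)))))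
noncomputable def Nx7 : List Net := [Nx7_0, Nx7_1]
noncomputable def Lx7 : List Lvl := [⟨(nat_lit 0), [[(nat_lit 3)],
  [(nat_lit 3)],
  [(nat_lit 3)],
  [(nat_lit 3)],
  [(nat_lit 3)],
  [(nat_lit 3)]], (nat_lit 1)⟩,
  ⟨(nat_lit 1), [[(nat_lit 1), (nat_lit 3)],
  [(nat_lit 1), (nat_lit 3)],
  [(nat_lit 1), (nat_lit 3)],
  [(nat_lit 1), (nat_lit 3)],
  [(nat_lit 1), (nat_lit 3)],
  [(nat_lit 1), (nat_lit 3)]], (nat_lit 1)⟩]

end CF.Schur.Co1
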