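import Cfsg.Agent.Schur.Mdl
import Cfsg.Agent.Schur.HeD
import Cfsg.Agent.Comp.He.Main

/-! The Schur multiplier of He. -/

set_option autoImplicit false
set_option maxRecDepth 1000000
set_option maxHeartbeats 0

namespace CF.Schur.He

open CF.Comp CF.Schur.Pc Cfsg CF.Comp.He

theorem mdl : type_of% (mdl_of_exact exact (fun _ => trivial)) := mdl_of_exact exact (fun _ => trivial)

noncomputable def Wx2 : List (List Nat) := [[(nat_lit 30), (nat_lit 21), (nat_lit 13), (nat_lit 9), (nat_lit 1), (nat_lit 23), (nat_lit 22), (nat_lit 31), (nat_lit 29), (nat_lit 29)],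
  [(nat_lit 29), (nat_lit 22), (nat_lit 25), (nat_lit 3), (nat_lit 25), (nat_lit 9), (nat_lit 24), (nat_lit 28), (nat_lit 21), (nat_lit 27), (nat_lit 25), (nat_lit 27), (nat_lit 31), (nat_lit 30)],
  [(nat_lit 23), (nat_lit 13), (nat_lit 1), (nat_lit 24), (nat_lit 27), (nat_lit 27), (nat_lit 31), (nat_lit 29), (nat_lit 29)],
  [(nat_lit 26), (nat_lit 28), (nat_lit 23), (nat_lit 3), (nat_lit 23), (nat_lit 9), (nat_lit 24), (nat_lit 24), (nat_lit 27), (nat_lit 25)],
  [(nat_lit 13), (nat_lit 31), (nat_lit 22), (nat_lit 13), (nat_lit 1), (nat_lit 30), (nat_lit 1), (nat_lit 30), (nat_lit 21), (nat_lit 27), (nat_lit 29)],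
  [(nat_lit 29), (nat_lit 11), (nat_lit 20), (nat_lit 13), (nat_lit 20), (nat_lit 26), (nat_lit 23), (nat_lit 21), (nat_lit 21), (nat_lit 28), (nat_lit 25), (nat_lit 27), (nat_lit 25), (nat_lit 30)],
  [(nat_lit 13), (nat_lit 27), (nat_lit 3), (nat_lit 13), (nat_lit 25), (nat_lit 1), (nat_lit 31), (nat_lit 24), (nat_lit 28), (nat_lit 28), (nat_lit 29)],
  [(nat_lit 13), (nat_lit 27), (nat_lit 3), (nat_lit 13), (nat_lit 26), (nat_lit 23), (nat_lit 27), (nat_lit 25), (nat_lit 27), (nat_lit 29), (nat_lit 29)],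
  [(nat_lit 30), (nat_lit 25), (nat_lit 3), (nat_lit 13), (nat_lit 7), (nat_lit 11), (nat_lit 30), (nat_lit 21), (nat_lit 21), (nat_lit 28), (nat_lit 25), (nat_lit 27), (nat_lit 25), (nat_lit 31)],
  [(nat_lit 29), (nat_lit 22), (nat_lit 25), (nat_lit 3), (nat_lit 31), (nat_lit 20), (nat_lit 29), (nat_lit 21), (nat_lit 21), (nat_lit 28), (nat_lit 28), (nat_lit 29)],
  [(nat_lit 23), (nat_lit 25), (nat_lit 13), (nat_lit 11), (nat_lit 21), (nat_lit 11), (nat_lit 21), (nat_lit 30), (nat_lit 22), (nat_lit 27), (nat_lit 27), (nat_lit 30)],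
  [(nat_lit 9), (nat_lit 22), (nat_lit 7), (nat_lit 13), (nat_lit 30), (nat_lit 28), (nat_lit 11), (nat_lit 30), (nat_lit 28), (nat_lit 21), (nat_lit 27), (nat_lit 31)],
  [(nat_lit 15), (nat_lit 28), (nat_lit 21), (nat_lit 13), (nat_lit 20), (nat_lit 27), (nat_lit 1), (nat_lit 30), (nat_lit 24), (nat_lit 21), (nat_lit 28), (nat_lit 31), (nat_lit 27), (nat_lit 31), (nat_lit 29), (nat_lit 29)],
  [(nat_lit 13), (nat_lit 28), (nat_lit 19), (nat_lit 13), (nat_lit 23), (nat_lit 9), (nat_lit 1), (nat_lit 23), (nat_lit 22), (nat_lit 25), (nat_lit 27), (nat_lit 31), (nat_lit 30)]]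

theorem qx2_0 : allFrom (preRow N Nx2 Wx2 2058 12) 0 14 = true := by decide +kernel

theorem qx2 : ∀ j < 14, preRow N Nx2 Wx2 2058 12 j = true := by
  have h : ∀ j < 0, preRow N Nx2 Wx2 2058 12 j = true := by simp
  have h := forall_lt_add h (allFrom_iff.1 qx2_0)
  exact h

theorem wx2 : wfAll Nx2 2058 = true := by decide +kernel

noncomputable def Px2 : Dat := ⟨(nat_lit 2), (nat_lit 10), (nat_lit 8), (nat_lit 13), (nat_lit 68),
  (BT.node (nat_lit 27) (BT.node (nat_lit 13) (BT.node (nat_lit 6) (BT.node (nat_lit 3) (BT.node (nat_lit 1) (BT.leaf []) (BT.node (nat_lit 2) (BT.leaf [(nat_lit 1)]) (BT.leaf []))) (BT.node (nat_lit 4) (BT.leaf [(nat_lit 2), (nat_lit 4)]) (BT.node (nat_lit 5) (BT.leaf [(nat_lit 2), (nat_lit 4)]) (BT.leaf [])))) (BT.node (nat_lit 9) (BT.node (nat_lit 7) (BT.leaf [(nat_lit 3), (nat_lit 5)]) (BT.node (nat_lit 8) (BT.leaf [(nat_lit 3), (nat_lit 6)]) (BT.leaf [(nat_lit 3), (nat_lit 8)]))) (BT.node (nat_lit 11) (BT.node (nat_lit 10) (BT.leaf []) (BT.leaf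 [(nat_lit 4)])) (BT.node (nat_lit 12) (BT.leaf [(nat_lit 4)]) (BT.leaf [(nat_lit 4)]))))) (BT.node (nat_lit 20) (BT.node (nat_lit 16) (BT.node (nat_lit 14) (BT.leaf [(nat_lit 4), (nat_lit 8)]) (BT.node (nat_lit 15) (BT.leaf []) (BT.leaf [(nat_lit 5)]))) (BT.node (nat_lit 18) (BT.node (nat_lit 17) (BT.leaf [(nat_lit 5), (nat_lit 7)]) (BT.leaf [(nat_lit 5), (nat_lit 8)])) (BT.node (nat_lit 19) (BT.leaf [(nat_lit 5)]) (BT.leaf [(nat_lit 5), (nat_lit 9)])))) (BT.node (nat_lit 23) (BT.node (nat_lit 21) (BT.leaf []) (BT.node (nat_lit 22) (BT.leaf [(nat_lit 6), (nat_lit 7)]) (BT.leaf [(nat_lit 6)]))) (BT.node (nat_lit 25) (BT.node (nat_lit 24) (BT.leaf [(nat_lit 6), (nat_lit 8)]) (BT.leaf [(nat_lit 6)])) (BT.node (nat_lit 26) (BT.leaf [(nat_lit 6)]) (BT.leaf [(nat_lit 6)])))))) (BT.node (nat_lit 41) (BT.node (nat_lit 34) (BT.node (nat_lit 30) (BT.node (nat_lit 28) (BT.leaf []) (BT.node (nat_lit 29) (BT.leaf [(nat_lit 7)]) (BT.leaf [(nat_lit 7)]))) (BT.node (nat_lit 32) (BT.node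 (nat_lit 31) (BT.leaf [(nat_lit 7), (nat_lit 9)]) (BT.leaf [(nat_lit 7)])) (BT.node (nat_lit 33) (BT.leaf [(nat_lit 7)]) (BT.leaf [(nat_lit 7)])))) (BT.node (nat_lit 37) (BT.node (nat_lit 35) (BT.leaf [(nat_lit 7)]) (BT.node (nat_lit 36) (BT.leaf []) (BT.leaf [(nat_lit 8), (nat_lit 9)]))) (BT.node (nat_lit 39) (BT.node (nat_lit 38) (BT.leaf [(nat_lit 8)]) (BT.leaf [(nat_lit 8)])) (BT.node (nat_lit 40) (BT.leaf [(nat_lit 8)]) (BT.leaf [(nat_lit 8)]))))) (BT.node (nat_lit 48) (BT.node (nat_lit 44) (BT.node (nat_lit 42) (BT.leaf [(nat_lit 8)]) (BT.node (nat_lit 43) (BT.leaf [(nat_lit 8)]) (BT.leaf [(nat_lit 8)]))) (BT.node (nat_lit 46) (BT.node (nat_lit 45) (BT.leaf []) (BT.leaf [(nat_lit 9)])) (BT.node (nat_lit 47) (BT.leaf [(nat_lit 9)]) (BT.leaf [(nat_lit 9)])))) (BT.node (nat_lit 51) (BT.node (nat_lit 49) (BT.leaf [(nat_lit 9)]) (BT.node (nat_lit 50) (BT.leaf [(nat_lit 9)]) (BT.leaf [(nat_lit 9)]))) (BT.node (nat_lit 53) (BT.node (nat_lit 52) (BT.leaf [(nat_lit 9)]) (BT.leaf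 [(nat_lit 9)])) (BT.node (nat_lit 54) (BT.leaf [(nat_lit 9)]) (BT.leaf []))))))),
  [⟨(nat_lit 0), [(nat_lit 5)], [(nat_lit 0)]⟩,
  ⟨(nat_lit 1), [(nat_lit 7)], [(nat_lit 6)]⟩,
  ⟨(nat_lit 0), [(nat_lit 6)], [(nat_lit 1), (nat_lit 7)]⟩,
  ⟨(nat_lit 0), [(nat_lit 8)], [(nat_lit 4), (nat_lit 7)]⟩,
  ⟨(nat_lit 2), [(nat_lit 5)], [(nat_lit 3), (nat_lit 7)]⟩,
  ⟨(nat_lit 2), [(nat_lit 6)], [(nat_lit 3), (nat_lit 8)]⟩,
  ⟨(nat_lit 2), [(nat_lit 2)], [(nat_lit 4), (nat_lit 8), (nat_lit 9)]⟩,
  ⟨(nat_lit 3), [(nat_lit 8)], [(nat_lit 6)]⟩,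
  ⟨(nat_lit 3), [(nat_lit 5)], [(nat_lit 5), (nat_lit 8)]⟩,
  ⟨(nat_lit 1), [(nat_lit 4)], [(nat_lit 4), (nat_lit 8), (nat_lit 9)]⟩,
  ⟨(nat_lit 2), [(nat_lit 3)], [(nat_lit 3), (nat_lit 6)]⟩,
  ⟨(nat_lit 2), [(nat_lit 8)], [(nat_lit 8)]⟩,
  ⟨(nat_lit 0), [(nat_lit 2)], [(nat_lit 0), (nat_lit 1), (nat_lit 2), (nat_lit 5), (nat_lit 6), (nat_lit 7), (nat_lit 8)]⟩]⟩

noncomputable def Xx2_0 : List Test := [⟨(nat_lit 1), [(nat_lit 0), (nat_lit 0)], [], (nat_lit 0x10000000000000000000000000000000000000000000000000000000000000000000001000000000000000000000000000000000000000100000000000000000000000000)⟩,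
  ⟨(nat_lit 2), [(nat_lit 1), (nat_lit 1)], [], (nat_lit 0x10000000000000000000000000000000000000001000000000000000100000000000000000000000000000000000000000000000000000000000000000000000000000000)⟩,
  ⟨(nat_lit 1), [(nat_lit 2), (nat_lit 2)], [], (nat_lit 0x10000000000000000000000000000000000000001000000000001000100000000000000000000000000000000000000000000000001000000000000000000000000000000)⟩,
  ⟨(nat_lit 1), [(nat_lit 3), (nat_lit 3)], [], (nat_lit 0x10000000000000000000001000000000000000001000001000000000000000000000000000000000001000000000000000000000000000000000000000000000000000000)⟩,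
  ⟨(nat_lit 3), [(nat_lit 4), (nat_lit 4)], [], (nat_lit 0x10000000000000000000000000000000000000001000000010000000000000000000001000000000000000000000100000000000000000000000000000000000000000000)⟩,
  ⟨(nat_lit 3), [(nat_lit 5), (nat_lit 5)], [], (nat_lit 0x10000000000000000000001000000000100000000000000000000000100000000000000000000000000000000000100000000000000000000000000000000000000000000)⟩,
  ⟨(nat_lit 0), [(nat_lit 2)], [(nat_lit 0), (nat_lit 0)], (nat_lit 0x10000000000000000000000000000000000000000000000000000000000000000000000000000000001000000010000000000000000000000000000000000000000000000)⟩,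
  ⟨(nat_lit 0), [(nat_lit 2)], [(nat_lit 1), (nat_lit 1)], (nat_lit 0x10000000000000000000000000000000000000000000000000000000000000000000000000000000001000001000000000000000000000000000000000000000000000000)⟩,
  ⟨(nat_lit 0), [(nat_lit 3)], [(nat_lit 0), (nat_lit 0)], (nat_lit 0x10000000000000000000000000000000000000000000000000000000000000000000001000000000100000000000000000000000000000000000000000000000000000000)⟩,
  ⟨(nat_lit 0), [(nat_lit 3)], [(nat_lit 1), (nat_lit 1)], (nat_lit 0x10000000000000000000000000000000000000000000000000000000100000000010000000000000000000000000000000000000000000000000000000000000000000000)⟩,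
  ⟨(nat_lit 0), [(nat_lit 3)], [(nat_lit 2), (nat_lit 2)], (nat_lit 0x10000000000000000000001000000000001000000000000000000000000000000000000000000000000000000000000000000000000000000000000000000000000000000)⟩,
  ⟨(nat_lit 0), [(nat_lit 4)], [(nat_lit 3), (nat_lit 3)], (nat_lit 0x10000000000000000000001000000000100000000000000000000000000000000000000000000000000000000000000000000000000000000000000000000000000000000)⟩,
  ⟨(nat_lit 0), [(nat_lit 5)], [(nat_lit 1), (nat_lit 1)], (nat_lit 0x10000000000000000000000000000000000000001000000000001000000000000000000000000000000000000000000000000000000000000000000000000000000000000)⟩,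
  ⟨(nat_lit 0), [(nat_lit 5)], [(nat_lit 4), (nat_lit 4)], (nat_lit 0x10100000000010000000000000000000000000000000000000000000000000000000000000000000000000000000000000000000000000000000000000000000000000000)⟩,
  ⟨(nat_lit 0), [(nat_lit 6)], [(nat_lit 0), (nat_lit 0)], (nat_lit 0x10000000000000000000000000000000000000001000000000000010000000000000000000000000000000000000000000000000000000000000000000000000000000000)⟩,
  ⟨(nat_lit 0), [(nat_lit 7)], [(nat_lit 2), (nat_lit 2)], (nat_lit 0x10100000000000001000000000000000000000000000000000000000000000000000000000000000000000000000000000000000000000000000000000000000000000000)⟩,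
  ⟨(nat_lit 0), [(nat_lit 8)], [(nat_lit 0), (nat_lit 0)], (nat_lit 0x10100000000000000000100000000000000000000000000000000000000000000000000000000000000000000000000000000000000000000000000000000000000000000)⟩,
  ⟨(nat_lit 3), [(nat_lit 6), (nat_lit 6)], [], (nat_lit 0x10101000000010000000001000000010000000000000000000000000000000000000000000000000001000000000000000001000000000000000000000000000000000000)⟩,
  ⟨(nat_lit 1), [(nat_lit 2), (nat_lit 0)], [(nat_lit 0), (nat_lit 2)], (nat_lit 0x10000000000000000000000000000000000000000000000000000010001000000000000000000000000000000000000000000000000010000000000000000000000000000)⟩,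
  ⟨(nat_lit 4), [(nat_lit 7), (nat_lit 8)], [(nat_lit 8), (nat_lit 7)], (nat_lit 0x10000000000000000000000000101000000000000000000000000000001000000000000000000000000000000000000000000000000000000000000000000000000000000)⟩,
  ⟨(nat_lit 0), [(nat_lit 2)], [(nat_lit 2), (nat_lit 0)], (nat_lit 0x10000000000000000000000000000000000000000000000000000000000000000000000000000000001000100000000000000000000000000000000000000000000000000)⟩,
  ⟨(nat_lit 0), [(nat_lit 3)], [(nat_lit 3), (nat_lit 0)], (nat_lit 0x10000000000000000000000000000000000000000000000000000000000000000000001000100000000000000000000000000000000000000000000000000000000000000)⟩,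
  ⟨(nat_lit 0), [(nat_lit 3)], [(nat_lit 3), (nat_lit 1)], (nat_lit 0x10000000000000000000000000000000000000000000000000000000100000100000000000000000000000000000000000000000000000000000000000000000000000000)⟩,
  ⟨(nat_lit 0), [(nat_lit 4)], [(nat_lit 4), (nat_lit 3)], (nat_lit 0x10000000000000000000001000000010000000000000000000000000000000000000000000000000000000000000000000000000000000000000000000000000000000000)⟩,
  ⟨(nat_lit 0), [(nat_lit 5)], [(nat_lit 5), (nat_lit 1)], (nat_lit 0x10000000000000000000000000000000000000001000100000000000000000000000000000000000000000000000000000000000000000000000000000000000000000000)⟩,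
  ⟨(nat_lit 0), [(nat_lit 5)], [(nat_lit 5), (nat_lit 2)], (nat_lit 0x10000000000000000000001000001000000000000000000000000000000000000000000000000000000000000000000000000000000000000000000000000000000000000)⟩,
  ⟨(nat_lit 0), [(nat_lit 5)], [(nat_lit 5), (nat_lit 4)], (nat_lit 0x10100000001000000000000000000000000000000000000000000000000000000000000000000000000000000000000000000000000000000000000000000000000000000)⟩,
  ⟨(nat_lit 0), [(nat_lit 6)], [(nat_lit 6), (nat_lit 0)], (nat_lit 0x10000000000000000000000000000000000000001010000000000000000000000000000000000000000000000000000000000000000000000000000000000000000000000)⟩,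
  ⟨(nat_lit 0), [(nat_lit 6)], [(nat_lit 6), (nat_lit 2)], (nat_lit 0x10000000000000000000001000100000000000000000000000000000000000000000000000000000000000000000000000000000000000000000000000000000000000000)⟩,
  ⟨(nat_lit 0), [(nat_lit 7)], [(nat_lit 7), (nat_lit 2)], (nat_lit 0x10100010000000000000000000000000000000000000000000000000000000000000000000000000000000000000000000000000000000000000000000000000000000000)⟩,
  ⟨(nat_lit 0), [(nat_lit 8)], [(nat_lit 8), (nat_lit 0)], (nat_lit 0x10101000000000000000000000000000000000000000000000000000000000000000000000000000000000000000000000000000000000000000000000000000000000000)⟩,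
  ⟨(nat_lit 2), [(nat_lit 1), (nat_lit 9)], [(nat_lit 9), (nat_lit 1)], (nat_lit 0x10000000100000000000000000100000000000000000001000000000000010000000000000000000000000000000000000000000000000000000000000000000000000000)⟩,
  ⟨(nat_lit 0), [(nat_lit 5)], [(nat_lit 1), (nat_lit 0)], (nat_lit 0x10000000000000000000000000000000000000000000000000000010000000000000000000000000000000000000000000000000000000000000000000000000000000000)⟩,
  ⟨(nat_lit 0), [(nat_lit 5)], [(nat_lit 4), (nat_lit 0)], (nat_lit 0x10000000000000000000100000000000000000000000000000000000000000000000000000000000000000000000000000000000000000000000000000000000000000000)⟩,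
  ⟨(nat_lit 0), [(nat_lit 6)], [(nat_lit 4), (nat_lit 0)], (nat_lit 0x10000000000000000000000000000000000000000000001000000000000000000000000000000000000000000000000000000000000000000000000000000000000000000)⟩,
  ⟨(nat_lit 0), [(nat_lit 6)], [(nat_lit 4), (nat_lit 2)], (nat_lit 0x10000000000000000000000000000010000000000000000000000000000000000000000000000000000000000000000000000000000000000000000000000000000000000)⟩,
  ⟨(nat_lit 0), [(nat_lit 8)], [(nat_lit 1), (nat_lit 0)], (nat_lit 0x10000000000000000010000000000000000000000000000000000000000000000000000000000000000000000000000000000000000000000000000000000000000000000)⟩,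
  ⟨(nat_lit 0), [(nat_lit 6)], [(nat_lit 5), (nat_lit 4)], (nat_lit 0x10000000100000000000000000000000000000000000000000000000000000000000000000000000000000000000000000000000000000000000000000000000000000000)⟩,
  ⟨(nat_lit 0), [(nat_lit 7)], [(nat_lit 4), (nat_lit 3)], (nat_lit 0x10000000000000000000000010000000000000000000000000000000000000000000000000000000000000000000000000000000000000000000000000000000000000000)⟩,
  ⟨(nat_lit 0), [(nat_lit 4)], [(nat_lit 3), (nat_lit 1)], (nat_lit 0x10000000000000000000000000100000000010000000000000000000000010000000000000000000000000000000000000000000000000000000000000000000000000000)⟩,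
  ⟨(nat_lit 0), [(nat_lit 5)], [(nat_lit 3), (nat_lit 1)], (nat_lit 0x10000000000000000000000000000000000000000010000010000000001000000000000000000000000000000000000000000000000000000000000000000000000000000)⟩,
  ⟨(nat_lit 0), [(nat_lit 5)], [(nat_lit 4), (nat_lit 3)], (nat_lit 0x10001000000000100000000000001000000000000000000000000000000000000000000000000000000000000000000000000000000000000000000000000000000000000)⟩,
  ⟨(nat_lit 0), [(nat_lit 3)], [(nat_lit 1), (nat_lit 0)], (nat_lit 0x10000000000000000000000000000000000000000000000000000000001000000000100000000010000000000000000000000000000000000000000000000000000000000)⟩,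
  ⟨(nat_lit 3), [(nat_lit 10), (nat_lit 6)], [(nat_lit 6), (nat_lit 10), (nat_lit 11)], (nat_lit 0x10001000100000100000001000000000100000000000000000000000000010000000000000000000000010000000001000000000000000000010000000000000000000000)⟩,
  ⟨(nat_lit 3), [(nat_lit 4), (nat_lit 6)], [(nat_lit 6), (nat_lit 4), (nat_lit 11)], (nat_lit 0x10001010000000100000001000000000100000000000001000000000000000000000000000001000000010000000000000000000000000000010000000000000000000000)⟩,
  ⟨(nat_lit 0), [(nat_lit 4)], [(nat_lit 3), (nat_lit 0)], (nat_lit 0x10101000000000000000000000001000000000100000000000000000000000000000000010000000000000000000000000000000000000000000000000000000000000000)⟩,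
  ⟨(nat_lit 0), [(nat_lit 3)], [(nat_lit 2), (nat_lit 1)], (nat_lit 0x10000000000000000000000000000000000010000000000000000000000010001000000000000000000010000000000000000000000000000000000000000000000000000)⟩,
  ⟨(nat_lit 0), [(nat_lit 3)], [(nat_lit 2), (nat_lit 0)], (nat_lit 0x10000000000000000000000000000000000000100000000000000000000000000000000010001000000010000000000000000000000000000000000000000000000000000)⟩,
  ⟨(nat_lit 0), [(nat_lit 6)], [(nat_lit 2), (nat_lit 0)], (nat_lit 0x10000000000010000000000010000010000000100000001000100000000010000000000000000000000000000000000000000000000000000000000000000000000000000)⟩,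
  ⟨(nat_lit 1), [(nat_lit 12), (nat_lit 12)], [], (nat_lit 0x10101000000000001010000010001000001010100000100000100010101000001010101000001010101000001000000000000010101010100000000000000000000000000)⟩]

noncomputable def cx2 : Cert := ⟨Px2, (nat_lit 0), Xx2_0,
  [],
  [(nat_lit 0),
  (nat_lit 0),
  (nat_lit 0),
  (nat_lit 0),
  (nat_lit 0x10000000000000000000000000000000000000000000000000000000000000000000000000000000000000000000000000000000100000000000000000000000000000000),
  (nat_lit 0x10000000000000000000000000000000000000000000000000000000000000000000000000000000000000000000000000100000000000000000000000000000000000000),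
  (nat_lit 0x10000000000000000000000000000000000000000000000000000000000000000000000000000000000000000000000010000000000000000000000000000000000000000),
  (nat_lit 0x10000000000000000000000000000000000000000000000000000000000000000000000000000010000000000000000000000000000000000000000000000000000000000),
  (nat_lit 0x10000000000000000000000000000000000000000000000000000000000000000000000000000000000000000000001000000000000000000000000000000000000000000),
  (nat_lit 0x10000000000000000000000000000000000000000000000000000000000000000000000010000000000000000000000000000000000000000000000000000000000000000)],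
  (BT.node (nat_lit 27) (BT.node (nat_lit 13) (BT.node (nat_lit 6) (BT.node (nat_lit 3) (BT.node (nat_lit 1) (BT.leaf (nat_lit 0x1011a084833)) (BT.node (nat_lit 2) (BT.leaf (nat_lit 0x1120c0000)) (BT.leaf (nat_lit 0x100005006)))) (BT.node (nat_lit 4) (BT.leaf (nat_lit 0)) (BT.node (nat_lit 5) (BT.leaf (nat_lit 0x3e5150984ffb5)) (BT.leaf (nat_lit 0xf40036008))))) (BT.node (nat_lit 9) (BT.node (nat_lit 7) (BT.leaf (nat_lit 0)) (BT.node (nat_lit 8) (BT.leaf (nat_lit 0)) (BT.leaf (nat_lit 0)))) (BT.node (nat_lit 11) (BT.node (nat_lit 10) (BT.leaf (nat_lit 0x100004822)) (BT.leaf (nat_lit 0xd00804048))) (BT.node (nat_lit 12) (BT.leaf (nat_lit 0xd00804088)) (BT.leaf (nat_lit 0xd00904008)))))) (BT.node (nat_lit 20) (BT.node (nat_lit 16) (BT.node (nat_lit 14) (BT.leaf (nat_lit 0xb802f2010000)) (BT.node (nat_lit 15) (BT.leaf (nat_lit 0xd00804008)) (BT.leaf (nat_lit 0x1011a084932)))) (BT.node (nat_lit 18) (BT.node (nat_lit 17) (BT.leaf (nat_lit 0)) (BT.leaf (nat_lit 0x180ab0810000)))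 (BT.node (nat_lit 19) (BT.leaf (nat_lit 0x1011a284832)) (BT.leaf (nat_lit 0))))) (BT.node (nat_lit 23) (BT.node (nat_lit 21) (BT.leaf (nat_lit 0x1011a084832)) (BT.node (nat_lit 22) (BT.leaf (nat_lit 0x40012080000)) (BT.leaf (nat_lit 0x100004202)))) (BT.node (nat_lit 25) (BT.node (nat_lit 24) (BT.leaf (nat_lit 0xf88ae2810000)) (BT.leaf (nat_lit 0x100404002))) (BT.node (nat_lit 26) (BT.leaf (nat_lit 0x2c90800000)) (BT.leaf (nat_lit 302514176))))))) (BT.node (nat_lit 41) (BT.node (nat_lit 34) (BT.node (nat_lit 30) (BT.node (nat_lit 28) (BT.leaf (nat_lit 0x100004002)) (BT.node (nat_lit 29) (BT.leaf (nat_lit 0x100000000)) (BT.leaf (nat_lit 0x100005000)))) (BT.node (nat_lit 32) (BT.node (nat_lit 31) (BT.leaf (nat_lit 0x1206ad2012000)) (BT.leaf (nat_lit 0x1011a084000))) (BT.node (nat_lit 33) (BT.leaf (nat_lit 0x400000000)) (BT.leaf (nat_lit 0x101004000))))) (BT.node (nat_lit 37) (BT.node (nat_lit 35) (BT.leaf (nat_lit 0x108004000)) (BT.node (nat_lit 36) (BT.leaf (nat_lit 0x100004000))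 (BT.leaf (nat_lit 0x200842800000)))) (BT.node (nat_lit 39) (BT.node (nat_lit 38) (BT.leaf (nat_lit 0xa480000000)) (BT.leaf (nat_lit 0x800800400))) (BT.node (nat_lit 40) (BT.leaf (nat_lit 0x800800800)) (BT.leaf (nat_lit 0x800000000)))))) (BT.node (nat_lit 48) (BT.node (nat_lit 44) (BT.node (nat_lit 42) (BT.leaf (nat_lit 0x802800000)) (BT.node (nat_lit 43) (BT.leaf (nat_lit 0x810800000)) (BT.leaf (nat_lit 0x4000000000)))) (BT.node (nat_lit 46) (BT.node (nat_lit 45) (BT.leaf (nat_lit 0x800800000)) (BT.leaf (nat_lit 0x200000000))) (BT.node (nat_lit 47) (BT.leaf (nat_lit 0x1000000000)) (BT.leaf (nat_lit 0x200018000))))) (BT.node (nat_lit 51) (BT.node (nat_lit 49) (BT.leaf (nat_lit 0x20a42810000)) (BT.node (nat_lit 50) (BT.leaf (nat_lit 0x200012000)) (BT.leaf (nat_lit 0x204010000)))) (BT.node (nat_lit 53) (BT.node (nat_lit 52) (BT.leaf (nat_lit 0x2000000000)) (BT.leaf (nat_lit 0x220010000))) (BT.node (nat_lit 54) (BT.leaf (nat_lit 0x240010000)) (BT.leaf (nat_lit 0x200010000))))))))⟩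

theorem okx2 : cx2.OK := Cert.ok_of_check (by decide) (by decide +kernel)


noncomputable def Lx2 : List Lvl := [⟨(nat_lit 0), [[(nat_lit 1), (nat_lit 19)],
  [(nat_lit 5), (nat_lit 9)],
  [(nat_lit 9)],
  [(nat_lit 11)],
  [(nat_lit 17)],
  [(nat_lit 19)]], (nat_lit 1)⟩,
  ⟨(nat_lit 1), [[(nat_lit 3), (nat_lit 19)],
  [(nat_lit 13), (nat_lit 17), (nat_lit 19)],
  [(nat_lit 15), (nat_lit 17), (nat_lit 19)]], (nat_lit 1)⟩,
  ⟨(nat_lit 2), [[(nat_lit 7), (nat_lit 11), (nat_lit 17)]], (nat_lit 1)⟩]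


noncomputable def gx2 : List (List Nat) := [[(nat_lit 21)],
  [(nat_lit 23)],
  [(nat_lit 25)],
  [(nat_lit 27)]]

theorem hx2_0 : allFrom (relRow (sameW Nx2 2058 12) 0 Px2) 0 10 = true := by decide +kernel

theorem hx2 : ∀ j < 10, relRow (sameW Nx2 2058 12) 0 Px2 j = true := by
  have h : ∀ j < 0, relRow (sameW Nx2 2058 12) 0 Px2 j = true := by simp
  have h := forall_lt_add h (allFrom_iff.1 hx2_0)
  exact h

theorem px2 : lall (prAt (sameW Nx2 2058 12) 0 gx2) Px2.prs = true := by decide +kernel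

theorem lx2 : lowOK Nx2 2058 0 Px2 Lx2 = true := by decide +kernel

theorem pbdx2 : PBd (⊤ : Subgroup Spor.He) 2 1 :=
  have h := (mdl.new (k := 12) (l := 14) (by decide) wx2 (by decide +kernel) (by decide +kernel) qx2)
  h.pbd (h.sameW (k := 12) (by decide)) okx2 (gs := gx2) hx2 px2 lx2 (card_top_eq card) (by decide) rfl rfl

noncomputable def Wx3 : List (List Nat) := [[(nat_lit 28), (nat_lit 29), (nat_lit 7), (nat_lit 13), (nat_lit 22), (nat_lit 15), (nat_lit 1), (nat_lit 29), (nat_lit 21), (nat_lit 27), (nat_lit 27), (nat_lit 31), (nat_lit 29)],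
  [(nat_lit 9), (nat_lit 28), (nat_lit 19), (nat_lit 13), (nat_lit 27), (nat_lit 9), (nat_lit 29), (nat_lit 28), (nat_lit 24), (nat_lit 27), (nat_lit 25), (nat_lit 27), (nat_lit 29), (nat_lit 29)],
  [(nat_lit 25), (nat_lit 15), (nat_lit 29), (nat_lit 13), (nat_lit 25), (nat_lit 11), (nat_lit 1), (nat_lit 22), (nat_lit 23), (nat_lit 21), (nat_lit 31)],
  [(nat_lit 27), (nat_lit 21), (nat_lit 13), (nat_lit 9), (nat_lit 1), (nat_lit 29), (nat_lit 24), (nat_lit 27), (nat_lit 25), (nat_lit 30)]]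

theorem qx3_0 : allFrom (preRow N Nx3 Wx3 2058 12) 0 4 = true := by decide +kernel

theorem qx3 : ∀ j < 4, preRow N Nx3 Wx3 2058 12 j = true := by
  have h : ∀ j < 0, preRow N Nx3 Wx3 2058 12 j = true := by simp
  have h := forall_lt_add h (allFrom_iff.1 qx3_0)
  exact h

theorem wx3 : wfAll Nx3 2058 = true := by decide +kernel

noncomputable def Px3 : Dat := ⟨(nat_lit 3), (nat_lit 3), (nat_lit 6), (nat_lit 3), (nat_lit 9),
  (BT.node (nat_lit 3) (BT.node (nat_lit 1) (BT.leaf []) (BT.node (nat_lit 2) (BT.leaf [(nat_lit 1), (nat_lit 2)]) (BT.leaf []))) (BT.node (nat_lit 4) (BT.leaf [(nat_lit 2)]) (BT.node (nat_lit 5) (BT.leaf [(nat_lit 2)]) (BT.leaf [])))),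
  [⟨(nat_lit 0), [(nat_lit 0)], [(nat_lit 0), (nat_lit 0)]⟩,
  ⟨(nat_lit 0), [(nat_lit 2)], [(nat_lit 2)]⟩,
  ⟨(nat_lit 0), [(nat_lit 1)], [(nat_lit 1), (nat_lit 1), (nat_lit 2), (nat_lit 2)]⟩]⟩

noncomputable def Xx3_0 : List Test := [⟨(nat_lit 1), [(nat_lit 0), (nat_lit 0), (nat_lit 0)], [], (nat_lit 0x40000000040000)⟩,
  ⟨(nat_lit 1), [(nat_lit 1), (nat_lit 0)], [(nat_lit 0), (nat_lit 1)], (nat_lit 0x40001000000000)⟩,
  ⟨(nat_lit 1), [(nat_lit 1), (nat_lit 2)], [(nat_lit 2), (nat_lit 1)], (nat_lit 0x40040000000000)⟩,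
  ⟨(nat_lit 0), [(nat_lit 1)], [(nat_lit 0), (nat_lit 0), (nat_lit 0)], (nat_lit 0x41000000000000)⟩,
  ⟨(nat_lit 1), [(nat_lit 2), (nat_lit 2), (nat_lit 2)], [], (nat_lit 0x82000040000000)⟩]

noncomputable def cx3 : Cert := ⟨Px3, (nat_lit 0), Xx3_0,
  [],
  [(nat_lit 0),
  (nat_lit 0),
  (nat_lit 0x40000001000000)],
  (BT.node (nat_lit 3) (BT.node (nat_lit 1) (BT.leaf (nat_lit 2)) (BT.node (nat_lit 2) (BT.leaf (nat_lit 0)) (BT.leaf (nat_lit 216)))) (BT.node (nat_lit 4) (BT.leaf (nat_lit 6)) (BT.node (nat_lit 5) (BT.leaf (nat_lit 18)) (BT.leaf (nat_lit 54)))))⟩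

theorem okx3 : cx3.OK := Cert.ok_of_check (by decide) (by decide +kernel)


noncomputable def Lx3 : List Lvl := [⟨(nat_lit 0), [[(nat_lit 1), (nat_lit 3), (nat_lit 5)],
  [(nat_lit 1), (nat_lit 3), (nat_lit 5)],
  [(nat_lit 3), (nat_lit 5), (nat_lit 5)],
  [(nat_lit 3), (nat_lit 5), (nat_lit 5)],
  [(nat_lit 5)],
  [(nat_lit 5)]], (nat_lit 1)⟩]


noncomputable def gx3 : List (List Nat) := [[(nat_lit 7)]]

theorem hx3_0 : allFrom (relRow (sameW Nx3 2058 12) 0 Px3) 0 3 = true := by decide +kernel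

theorem hx3 : ∀ j < 3, relRow (sameW Nx3 2058 12) 0 Px3 j = true := by
  have h : ∀ j < 0, relRow (sameW Nx3 2058 12) 0 Px3 j = true := by simp
  have h := forall_lt_add h (allFrom_iff.1 hx3_0)
  exact h

theorem px3 : lall (prAt (sameW Nx3 2058 12) 0 gx3) Px3.prs = true := by decide +kernel

theorem lx3 : lowOK Nx3 2058 0 Px3 Lx3 = true := by decide +kernel

theorem pbdx3 : PBd (⊤ : Subgroup Spor.He) 3 1 :=
  have h := (mdl.new (k := 12) (l := 4) (by decide) wx3 (by decide +kernel) (by decide +kernel) qx3)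
  h.pbd (h.sameW (k := 12) (by decide)) okx3 (gs := gx3) hx3 px3 lx3 (card_top_eq card) (by decide) rfl rfl

noncomputable def Wx5 : List (List Nat) := [[(nat_lit 13), (nat_lit 7), (nat_lit 29), (nat_lit 3), (nat_lit 27), (nat_lit 30), (nat_lit 1), (nat_lit 24), (nat_lit 24), (nat_lit 28), (nat_lit 25), (nat_lit 27), (nat_lit 25), (nat_lit 29), (nat_lit 29)],
  [(nat_lit 13), (nat_lit 28), (nat_lit 3), (nat_lit 25), (nat_lit 3), (nat_lit 19), (nat_lit 30), (nat_lit 1), (nat_lit 21), (nat_lit 26), (nat_lit 23), (nat_lit 25), (nat_lit 27), (nat_lit 25)],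
  [(nat_lit 3), (nat_lit 23), (nat_lit 25), (nat_lit 3), (nat_lit 19), (nat_lit 9), (nat_lit 26), (nat_lit 28), (nat_lit 24), (nat_lit 25), (nat_lit 27), (nat_lit 27), (nat_lit 27), (nat_lit 31)],
  [(nat_lit 20), (nat_lit 23), (nat_lit 21), (nat_lit 13), (nat_lit 30), (nat_lit 1), (nat_lit 22), (nat_lit 25), (nat_lit 22), (nat_lit 25), (nat_lit 27), (nat_lit 25), (nat_lit 31), (nat_lit 30)]]

theorem qx5_0 : allFrom (preRow N Nx5 Wx5 2058 12) 0 4 = true := by decide +kernel

theorem qx5 : ∀ j < 4, preRow N Nx5 Wx5 2058 12 j = true := by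
  have h : ∀ j < 0, preRow N Nx5 Wx5 2058 12 j = true := by simp
  have h := forall_lt_add h (allFrom_iff.1 qx5_0)
  exact h

theorem wx5 : wfAll Nx5 2058 = true := by decide +kernel

noncomputable def Px5 : Dat := ⟨(nat_lit 5), (nat_lit 2), (nat_lit 7), (nat_lit 4), (nat_lit 7),
  (BT.node (nat_lit 1) (BT.leaf []) (BT.node (nat_lit 2) (BT.leaf [(nat_lit 1)]) (BT.leaf []))),
  [⟨(nat_lit 0), [(nat_lit 0)], [(nat_lit 0), (nat_lit 0)]⟩,
  ⟨(nat_lit 1), [(nat_lit 1)], [(nat_lit 0), (nat_lit 0), (nat_lit 0), (nat_lit 1), (nat_lit 1), (nat_lit 1), (nat_lit 1)]⟩,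
  ⟨(nat_lit 1), [(nat_lit 0)], [(nat_lit 0)]⟩,
  ⟨(nat_lit 0), [(nat_lit 1)], [(nat_lit 0), (nat_lit 1), (nat_lit 1), (nat_lit 1)]⟩]⟩

noncomputable def Xx5_0 : List Test := [⟨(nat_lit 1), [(nat_lit 0), (nat_lit 0), (nat_lit 0), (nat_lit 0), (nat_lit 0)], [], (nat_lit 0x2000010000000)⟩,
  ⟨(nat_lit 2), [(nat_lit 1), (nat_lit 2)], [(nat_lit 2), (nat_lit 1)], (nat_lit 0x6001800000000)⟩,
  ⟨(nat_lit 1), [(nat_lit 3), (nat_lit 3), (nat_lit 3), (nat_lit 3), (nat_lit 3)], [], (nat_lit 0x4080010000000)⟩]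

noncomputable def cx5 : Cert := ⟨Px5, (nat_lit 0), Xx5_0,
  [],
  [(nat_lit 0),
  (nat_lit 0)],
  (BT.node (nat_lit 1) (BT.leaf (nat_lit 4)) (BT.node (nat_lit 2) (BT.leaf (nat_lit 15)) (BT.leaf (nat_lit 53))))⟩

theorem okx5 : cx5.OK := Cert.ok_of_check (by decide) (by decide +kernel)


noncomputable def Lx5 : List Lvl := [⟨(nat_lit 0), [[(nat_lit 1), (nat_lit 3), (nat_lit 3), (nat_lit 3), (nat_lit 3)],
  [(nat_lit 1), (nat_lit 3), (nat_lit 3), (nat_lit 3), (nat_lit 3)],
  [(nat_lit 1), (nat_lit 3), (nat_lit 3), (nat_lit 3), (nat_lit 3)],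
  [(nat_lit 1), (nat_lit 3), (nat_lit 3), (nat_lit 3), (nat_lit 3)],
  [(nat_lit 3)],
  [(nat_lit 3)],
  [(nat_lit 3)],
  [(nat_lit 3)]], (nat_lit 1)⟩]


noncomputable def gx5 : List (List Nat) := [[(nat_lit 5)],
  [(nat_lit 7)]]

theorem hx5_0 : allFrom (relRow (sameW Nx5 2058 12) 0 Px5) 0 2 = true := by decide +kernel

theorem hx5 : ∀ j < 2, relRow (sameW Nx5 2058 12) 0 Px5 j = true := by
  have h : ∀ j < 0, relRow (sameW Nx5 2058 12) 0 Px5 j = true := by simp
  have h := forall_lt_add h (allFrom_iff.1 hx5_0)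
  exact h

theorem px5 : lall (prAt (sameW Nx5 2058 12) 0 gx5) Px5.prs = true := by decide +kernel

theorem lx5 : lowOK Nx5 2058 0 Px5 Lx5 = true := by decide +kernel

theorem pbdx5 : PBd (⊤ : Subgroup Spor.He) 5 1 :=
  have h := (mdl.new (k := 12) (l := 4) (by decide) wx5 (by decide +kernel) (by decide +kernel) qx5)
  h.pbd (h.sameW (k := 12) (by decide)) okx5 (gs := gx5) hx5 px5 lx5 (card_top_eq card) (by decide) rfl rfl

noncomputable def Wx7 : List (List Nat) := [[(nat_lit 28), (nat_lit 9), (nat_lit 7), (nat_lit 13), (nat_lit 27), (nat_lit 15), (nat_lit 21), (nat_lit 28), (nat_lit 24), (nat_lit 31), (nat_lit 27)],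
  [(nat_lit 20), (nat_lit 9), (nat_lit 30), (nat_lit 3), (nat_lit 20), (nat_lit 27), (nat_lit 1), (nat_lit 29), (nat_lit 21), (nat_lit 21), (nat_lit 28), (nat_lit 25), (nat_lit 27), (nat_lit 25), (nat_lit 31), (nat_lit 30)],
  [(nat_lit 11), (nat_lit 7), (nat_lit 26), (nat_lit 3), (nat_lit 25), (nat_lit 15), (nat_lit 30), (nat_lit 24), (nat_lit 21), (nat_lit 27), (nat_lit 25)],
  [(nat_lit 3), (nat_lit 31), (nat_lit 5), (nat_lit 3), (nat_lit 28), (nat_lit 20), (nat_lit 31), (nat_lit 26), (nat_lit 23), (nat_lit 28), (nat_lit 31), (nat_lit 29), (nat_lit 29)],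
  [(nat_lit 3), (nat_lit 21), (nat_lit 13), (nat_lit 27), (nat_lit 30), (nat_lit 1), (nat_lit 21), (nat_lit 31), (nat_lit 27), (nat_lit 25), (nat_lit 31)]]

theorem qx7_0 : allFrom (preRow N Nx7 Wx7 2058 12) 0 5 = true := by decide +kernel

theorem qx7 : ∀ j < 5, preRow N Nx7 Wx7 2058 12 j = true := by
  have h : ∀ j < 0, preRow N Nx7 Wx7 2058 12 j = true := by simp
  have h := forall_lt_add h (allFrom_iff.1 qx7_0)
  exact h

theorem wx7 : wfAll Nx7 2058 = true := by decide +kernel

noncomputable def Px7 : Dat := ⟨(nat_lit 7), (nat_lit 3), (nat_lit 9), (nat_lit 5), (nat_lit 11),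
  (BT.node (nat_lit 3) (BT.node (nat_lit 1) (BT.leaf []) (BT.node (nat_lit 2) (BT.leaf [(nat_lit 1), (nat_lit 2)]) (BT.leaf []))) (BT.node (nat_lit 4) (BT.leaf [(nat_lit 2)]) (BT.node (nat_lit 5) (BT.leaf [(nat_lit 2)]) (BT.leaf [])))),
  [⟨(nat_lit 0), [(nat_lit 2)], [(nat_lit 2), (nat_lit 2), (nat_lit 2)]⟩,
  ⟨(nat_lit 0), [(nat_lit 1)], [(nat_lit 1), (nat_lit 1), (nat_lit 2), (nat_lit 2), (nat_lit 2), (nat_lit 2), (nat_lit 2), (nat_lit 2)]⟩,
  ⟨(nat_lit 1), [(nat_lit 2)], [(nat_lit 2), (nat_lit 2), (nat_lit 2), (nat_lit 2), (nat_lit 2)]⟩,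
  ⟨(nat_lit 1), [(nat_lit 1)], [(nat_lit 0), (nat_lit 0), (nat_lit 1), (nat_lit 1), (nat_lit 1), (nat_lit 1), (nat_lit 1), (nat_lit 2), (nat_lit 2), (nat_lit 2)]⟩,
  ⟨(nat_lit 0), [(nat_lit 0)], [(nat_lit 0), (nat_lit 0), (nat_lit 0), (nat_lit 0), (nat_lit 0), (nat_lit 2), (nat_lit 2), (nat_lit 2), (nat_lit 2), (nat_lit 2)]⟩]⟩

noncomputable def Xx7_0 : List Test := [⟨(nat_lit 1), [(nat_lit 0), (nat_lit 1)], [(nat_lit 1), (nat_lit 0)], (nat_lit 0x28000a00000000000000000000)⟩,
  ⟨(nat_lit 0), [(nat_lit 1)], [(nat_lit 0), (nat_lit 0), (nat_lit 0), (nat_lit 0), (nat_lit 0), (nat_lit 0), (nat_lit 0)], (nat_lit 0x8040000000000000000000000)⟩,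
  ⟨(nat_lit 2), [(nat_lit 2), (nat_lit 3)], [(nat_lit 3), (nat_lit 2)], (nat_lit 0x18000603000000000000000000)⟩,
  ⟨(nat_lit 1), [(nat_lit 1), (nat_lit 1), (nat_lit 1), (nat_lit 1), (nat_lit 1), (nat_lit 1), (nat_lit 1)], [], (nat_lit 0x30180000008000000000000000)⟩,
  ⟨(nat_lit 1), [(nat_lit 4), (nat_lit 4), (nat_lit 4), (nat_lit 4), (nat_lit 4), (nat_lit 4), (nat_lit 4)], [], (nat_lit 0x28140000000000800000000000)⟩]

noncomputable def cx7 : Cert := ⟨Px7, (nat_lit 0), Xx7_0,
  [],
  [(nat_lit 0),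
  (nat_lit 0),
  (nat_lit 0x8000000000040000000000000)],
  (BT.node (nat_lit 3) (BT.node (nat_lit 1) (BT.leaf (nat_lit 12026)) (BT.node (nat_lit 2) (BT.leaf (nat_lit 0)) (BT.leaf (nat_lit 2100)))) (BT.node (nat_lit 4) (BT.leaf (nat_lit 101)) (BT.node (nat_lit 5) (BT.leaf (nat_lit 4)) (BT.leaf (nat_lit 42)))))⟩

theorem okx7 : cx7.OK := Cert.ok_of_check (by decide) (by decide +kernel)


noncomputable def Lx7 : List Lvl := [⟨(nat_lit 0), [[(nat_lit 1)],
  [(nat_lit 1)],
  [(nat_lit 1)],
  [(nat_lit 1)],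
  [(nat_lit 1)],
  [(nat_lit 1)],
  [(nat_lit 3)],
  [(nat_lit 3)],
  [(nat_lit 3)],
  [(nat_lit 3)],
  [(nat_lit 3)],
  [(nat_lit 3)],
  [(nat_lit 5)],
  [(nat_lit 5)],
  [(nat_lit 5)],
  [(nat_lit 5)],
  [(nat_lit 5)],
  [(nat_lit 5)]], (nat_lit 1)⟩]


noncomputable def gx7 : List (List Nat) := [[(nat_lit 7)],
  [(nat_lit 9)]]

theorem hx7_0 : allFrom (relRow (sameW Nx7 2058 12) 0 Px7) 0 3 = true := by decide +kernel

theorem hx7 : ∀ j < 3, relRow (sameW Nx7 2058 12) 0 Px7 j = true := by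
  have h : ∀ j < 0, relRow (sameW Nx7 2058 12) 0 Px7 j = true := by simp
  have h := forall_lt_add h (allFrom_iff.1 hx7_0)
  exact h

theorem px7 : lall (prAt (sameW Nx7 2058 12) 0 gx7) Px7.prs = true := by decide +kernel

theorem lx7 : lowOK Nx7 2058 0 Px7 Lx7 = true := by decide +kernel

theorem pbdx7 : PBd (⊤ : Subgroup Spor.He) 7 1 :=
  have h := (mdl.new (k := 12) (l := 5) (by decide) wx7 (by decide +kernel) (by decide +kernel) qx7)
  h.pbd (h.sameW (k := 12) (by decide)) okx7 (gs := gx7) hx7 px7 lx7 (card_top_eq card) (by decide) rfl rfl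

theorem mult : Nat.card (Mult (⊤ : Subgroup Spor.He)) ≤ 1 :=
  card_mult_le (b := 17) (k := 10) (card_top_eq card) [(2, 1), (3, 1), (5, 1), (7, 1)] (by decide +kernel) (by
    simp only [List.mem_cons, List.not_mem_nil, or_false, forall_eq_or_imp, forall_eq]
    exact ⟨⟨by decide, pbdx2⟩, ⟨by decide, pbdx3⟩, ⟨by decide, pbdx5⟩, ⟨by decide, pbdx7⟩⟩)

theorem schur : HasCyclicSchurMultiplier Spor.He 1 := trivial_of_mult_le (mult_of_top mult)

end CF.Schur.He
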