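import Cfsg.Agent.Comp.TCDefs

set_option autoImplicit false
set_option maxRecDepth 1000000
set_option maxHeartbeats 0
set_option Elab.async false

namespace CF.Schur.L34

open CF.Comp

noncomputable def U0_0 : Net := (Net.cons (nat_lit 1) (nat_lit 332037) (Net.cons (nat_lit 2) (nat_lit 73985) (Net.cons (nat_lit 4) (nat_lit 3332) (Net.cons (nat_lit 8) (nat_lit 12) (Net.cons (nat_lit 16) (nat_lit 12) (Net.cons (nat_lit 8) (nat_lit 184) (Net.cons (nat_lit 4) (nat_lit 68357) (Net.cons (nat_lit 2) (nat_lit 196656) (Net.cons (nat_lit 1) (nat_lit 16388) Net.nil)))))))))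
noncomputable def U0_1 : Net := (Net.cons (nat_lit 1) (nat_lit 21781) (Net.cons (nat_lit 2) (nat_lit 205344) (Net.cons (nat_lit 4) (nat_lit 3336) (Net.cons (nat_lit 8) (nat_lit 30) (Net.cons (nat_lit 16) (nat_lit 30) (Net.cons (nat_lit 8) (nat_lit 38) (Net.cons (nat_lit 4) (nat_lit 66821) (Net.cons (nat_lit 2) (nat_lit 803) (Net.cons (nat_lit 1) (nat_lit 282949) Net.nil)))))))))
noncomputable def U0 : List Net := [U0_0, U0_1]
noncomputable def U1_0 : Net := (Net.cons (nat_lit 1) (nat_lit 331797) (Net.cons (nat_lit 2) (nat_lit 204848) (Net.cons (nat_lit 4) (nat_lit 3080) (Net.cons (nat_lit 8) (nat_lit 6) (Net.cons (nat_lit 16) (nat_lit 31) (Net.cons (nat_lit 8) (nat_lit 242) (Net.cons (nat_lit 4) (nat_lit 69380) (Net.cons (nat_lit 2) (nat_lit 4896) (Net.cons (nat_lit 1) (nat_lit 1045) Net.nil)))))))))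
noncomputable def U1_1 : Net := (Net.cons (nat_lit 1) (nat_lit 348416) (Net.cons (nat_lit 2) (nat_lit 560) (Net.cons (nat_lit 4) (nat_lit 65546) (Net.cons (nat_lit 8) (nat_lit 3) (Net.cons (nat_lit 16) (nat_lit 11) (Net.cons (nat_lit 8) (nat_lit 149) (Net.cons (nat_lit 4) (nat_lit 2060) (Net.cons (nat_lit 2) (nat_lit 131600) (Net.cons (nat_lit 1) (nat_lit 344320) Net.nil)))))))))
noncomputable def U1_2 : Net := (Net.cons (nat_lit 1) (nat_lit 70916) (Net.cons (nat_lit 2) (nat_lit 69920) (Net.cons (nat_lit 4) (nat_lit 68866) (Net.cons (nat_lit 8) (nat_lit 9) (Net.cons (nat_lit 16) (nat_lit 27) (Net.cons (nat_lit 8) (nat_lit 201) (Net.cons (nat_lit 4) (nat_lit 67338) (Net.cons (nat_lit 2) (nat_lit 131584) (Net.cons (nat_lit 1) (nat_lit 69700) Net.nil)))))))))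
noncomputable def U1_3 : Net := (Net.cons (nat_lit 1) (nat_lit 83264) (Net.cons (nat_lit 2) (nat_lit 12288) (Net.cons (nat_lit 4) (nat_lit 2062) (Net.cons (nat_lit 8) (nat_lit 9) (Net.cons (nat_lit 16) (nat_lit 15) (Net.cons (nat_lit 8) (nat_lit 159) (Net.cons (nat_lit 4) (nat_lit 68110) (Net.cons (nat_lit 2) (nat_lit 78080) (Net.cons (nat_lit 1) (nat_lit 70996) Net.nil)))))))))
noncomputable def U1_4 : Net := (Net.cons (nat_lit 1) (nat_lit 1024) (Net.cons (nat_lit 2) (nat_lit 4113) (Net.cons (nat_lit 4) (nat_lit 3072) (Net.cons (nat_lit 8) (nat_lit 15) (Net.cons (nat_lit 16) (nat_lit 31) (Net.cons (nat_lit 8) (nat_lit 102) (Net.cons (nat_lit 4) (nat_lit 66561) (Net.cons (nat_lit 2) (nat_lit 139777) (Net.cons (nat_lit 1) (nat_lit 65552) Net.nil)))))))))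
noncomputable def U1_5 : Net := (Net.cons (nat_lit 1) (nat_lit 70916) (Net.cons (nat_lit 2) (nat_lit 69920) (Net.cons (nat_lit 4) (nat_lit 68866) (Net.cons (nat_lit 8) (nat_lit 9) (Net.cons (nat_lit 16) (nat_lit 27) (Net.cons (nat_lit 8) (nat_lit 201) (Net.cons (nat_lit 4) (nat_lit 67338) (Net.cons (nat_lit 2) (nat_lit 131584) (Net.cons (nat_lit 1) (nat_lit 69700) Net.nil)))))))))
noncomputable def U1 : List Net := [U1_0, U1_1, U1_2, U1_3, U1_4, U1_5]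
noncomputable def UW : List (List Nat) := [[(nat_lit 2), (nat_lit 3), (nat_lit 1), (nat_lit 4), (nat_lit 2), (nat_lit 2), (nat_lit 4), (nat_lit 2)],
  [(nat_lit 3), (nat_lit 3), (nat_lit 2)],
  [(nat_lit 8), (nat_lit 8), (nat_lit 8), (nat_lit 6), (nat_lit 8), (nat_lit 5), (nat_lit 5), (nat_lit 8)],
  [(nat_lit 6), (nat_lit 6), (nat_lit 8), (nat_lit 6), (nat_lit 6), (nat_lit 8), (nat_lit 8)],
  [(nat_lit 5), (nat_lit 8), (nat_lit 6)],
  [(nat_lit 12), (nat_lit 14), (nat_lit 10), (nat_lit 12), (nat_lit 14), (nat_lit 14), (nat_lit 12), (nat_lit 10)]]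
noncomputable def UC : List Lvl := [⟨(nat_lit 0), [[(nat_lit 1)],
  [(nat_lit 3)]], (nat_lit 5)⟩,
  ⟨(nat_lit 1), [[(nat_lit 5)],
  [(nat_lit 7)]], (nat_lit 4)⟩,
  ⟨(nat_lit 3), [[(nat_lit 9)],
  [(nat_lit 11)],
  [(nat_lit 13)]], (nat_lit 2)⟩,
  ⟨(nat_lit 2), [[(nat_lit 15)]], (nat_lit 2)⟩]
noncomputable def UV : List (List Nat) := [[(nat_lit 263392), (nat_lit 1833759), (nat_lit 0), (nat_lit 0)],
  [(nat_lit 19969), (nat_lit 819444), (nat_lit 1183746), (nat_lit 73992)],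
  [(nat_lit 393241), (nat_lit 11398), (nat_lit 1654848), (nat_lit 37664)]]
noncomputable def Uσ : Net := (Net.cons (nat_lit 1) (nat_lit 331856) (Net.cons (nat_lit 2) (nat_lit 74016) (Net.cons (nat_lit 4) (nat_lit 66566) (Net.cons (nat_lit 8) (nat_lit 1) (Net.cons (nat_lit 16) (nat_lit 23) (Net.cons (nat_lit 8) (nat_lit 208) (Net.cons (nat_lit 4) (nat_lit 69381) (Net.cons (nat_lit 2) (nat_lit 4129) (Net.cons (nat_lit 1) (nat_lit 20816) Net.nil)))))))))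
noncomputable def UCs : List (List Nat) := [[(nat_lit 0), (nat_lit 537633), (nat_lit 16850), (nat_lit 1542668)],
  [(nat_lit 0), (nat_lit 919808), (nat_lit 98435), (nat_lit 1078908)]]
noncomputable def UA : List (List (List Nat)) := [[[1, 2, 1], [2, 0, 0], [1, 3, 0]],
  [[3, 1, 2], [3, 2, 3], [3, 2, 0]]]
noncomputable def UD : List (List (List (List Nat))) := [[[[1, 0, 0], [2, 1, 0], [1, 2, 1]],
  [[1, 2, 1], [0, 3, 2], [0, 0, 2]]],
 [[[1, 0, 0], [1, 1, 0], [1, 1, 1]],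
  [[3, 1, 2], [0, 3, 1], [0, 0, 3]]]]
noncomputable def Nx2_0 : Net := (Net.cons (nat_lit 1) (nat_lit 260) (Net.cons (nat_lit 2) (nat_lit 800) (Net.cons (nat_lit 4) (nat_lit 1284) (Net.cons (nat_lit 8) (nat_lit 6) (Net.cons (nat_lit 16) (nat_lit 6) (Net.cons (nat_lit 8) (nat_lit 222) (Net.cons (nat_lit 4) (nat_lit 68878) (Net.cons (nat_lit 2) (nat_lit 800) (Net.cons (nat_lit 1) (nat_lit 260) Net.nil)))))))))
noncomputable def Nx2_1 : Net := (Net.cons (nat_lit 1) (nat_lit 69908) (Net.cons (nat_lit 4) (nat_lit 68098) (Net.cons (nat_lit 8) (nat_lit 18) (Net.cons (nat_lit 16) (nat_lit 23) (Net.cons (nat_lit 8) (nat_lit 227) (Net.cons (nat_lit 4) (nat_lit 2819) (Net.cons (nat_lit 2) (nat_lit 65537) (Net.cons (nat_lit 1) (nat_lit 69908) Net.nil))))))))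
noncomputable def Nx2_2 : Net := (Net.cons (nat_lit 1) (nat_lit 86080) (Net.cons (nat_lit 2) (nat_lit 8208) (Net.cons (nat_lit 4) (nat_lit 66304) (Net.cons (nat_lit 8) (nat_lit 16) (Net.cons (nat_lit 16) (nat_lit 16) (Net.cons (nat_lit 8) (nat_lit 253) (Net.cons (nat_lit 4) (nat_lit 66315) (Net.cons (nat_lit 2) (nat_lit 8754) (Net.cons (nat_lit 1) (nat_lit 81921) Net.nil)))))))))
noncomputable def Nx2_3 : Net := (Net.cons (nat_lit 1) (nat_lit 348420) (Net.cons (nat_lit 2) (nat_lit 4128) (Net.cons (nat_lit 4) (nat_lit 1034) (Net.cons (nat_lit 8) (nat_lit 2) (Net.cons (nat_lit 16) (nat_lit 10) (Net.cons (nat_lit 8) (nat_lit 39) (Net.cons (nat_lit 4) (nat_lit 68618) (Net.cons (nat_lit 2) (nat_lit 4128) (Net.cons (nat_lit 1) (nat_lit 348484) Net.nil)))))))))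
noncomputable def Nx2_4 : Net := (Net.cons (nat_lit 1) (nat_lit 325) (Net.cons (nat_lit 2) (nat_lit 288) (Net.cons (nat_lit 4) (nat_lit 3072) (Net.cons (nat_lit 8) (nat_lit 6) (Net.cons (nat_lit 16) (nat_lit 6) (Net.cons (nat_lit 8) (nat_lit 198) (Net.cons (nat_lit 4) (nat_lit 68610) (Net.cons (nat_lit 2) (nat_lit 289) (Net.cons (nat_lit 1) (nat_lit 4421) Net.nil)))))))))
noncomputable def Nx2_5 : Net := (Net.cons (nat_lit 1) (nat_lit 84) (Net.cons (nat_lit 2) (nat_lit 143633) (Net.cons (nat_lit 8) (nat_lit 24) (Net.cons (nat_lit 16) (nat_lit 24) (Net.cons (nat_lit 8) (nat_lit 222) (Net.cons (nat_lit 4) (nat_lit 1029) (Net.cons (nat_lit 2) (nat_lit 209169) (Net.cons (nat_lit 1) (nat_lit 84) Net.nil))))))))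
noncomputable def Nx2_6 : Net := (Net.cons (nat_lit 1) (nat_lit 262144) (Net.cons (nat_lit 2) (nat_lit 78368) (Net.cons (nat_lit 4) (nat_lit 66568) (Net.cons (nat_lit 8) (nat_lit 5) (Net.cons (nat_lit 16) (nat_lit 13) (Net.cons (nat_lit 8) (nat_lit 220) (Net.cons (nat_lit 4) (nat_lit 69120) (Net.cons (nat_lit 2) (nat_lit 209458) (Net.cons (nat_lit 1) (nat_lit 349184) Net.nil)))))))))
noncomputable def Nx2_7 : Net := (Net.cons (nat_lit 1) (nat_lit 327937) (Net.cons (nat_lit 2) (nat_lit 8448) (Net.cons (nat_lit 4) (nat_lit 66048) (Net.cons (nat_lit 8) (nat_lit 22) (Net.cons (nat_lit 16) (nat_lit 22) (Net.cons (nat_lit 8) (nat_lit 218) (Net.cons (nat_lit 4) (nat_lit 1034) (Net.cons (nat_lit 2) (nat_lit 139554) (Net.cons (nat_lit 1) (nat_lit 81921) Net.nil)))))))))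
noncomputable def Nx2_8 : Net := (Net.cons (nat_lit 1) (nat_lit 66580) (Net.cons (nat_lit 2) (nat_lit 139313) (Net.cons (nat_lit 4) (nat_lit 67840) (Net.cons (nat_lit 8) (nat_lit 1) (Net.cons (nat_lit 16) (nat_lit 29) (Net.cons (nat_lit 8) (nat_lit 150) (Net.cons (nat_lit 4) (nat_lit 69383) (Net.cons (nat_lit 2) (nat_lit 131617) (Net.cons (nat_lit 1) (nat_lit 16709) Net.nil)))))))))
noncomputable def Nx2 : List Net := [Nx2_0, Nx2_1, Nx2_2, Nx2_3, Nx2_4, Nx2_5, Nx2_6, Nx2_7, Nx2_8]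

noncomputable def Nx3_0 : Net := (Net.cons (nat_lit 1) (nat_lit 267268) (Net.cons (nat_lit 2) (nat_lit 135680) (Net.cons (nat_lit 4) (nat_lit 68610) (Net.cons (nat_lit 8) (nat_lit 12) (Net.cons (nat_lit 16) (nat_lit 30) (Net.cons (nat_lit 8) (nat_lit 12) (Net.cons (nat_lit 4) (nat_lit 1282) (Net.cons (nat_lit 2) (nat_lit 135970) (Net.cons (nat_lit 1) (nat_lit 279808) Net.nil)))))))))
noncomputable def Nx3_1 : Net := (Net.cons (nat_lit 1) (nat_lit 16640) (Net.cons (nat_lit 2) (nat_lit 197377) (Net.cons (nat_lit 4) (nat_lit 65794) (Net.cons (nat_lit 8) (nat_lit 4) (Net.cons (nat_lit 16) (nat_lit 22) (Net.cons (nat_lit 8) (nat_lit 146) (Net.cons (nat_lit 4) (nat_lit 6) (Net.cons (nat_lit 2) (nat_lit 139795) (Net.cons (nat_lit 1) (nat_lit 16644) Net.nil)))))))))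
noncomputable def Nx3_2 : Net := (Net.cons (nat_lit 1) (nat_lit 20736) (Net.cons (nat_lit 2) (nat_lit 768) (Net.cons (nat_lit 4) (nat_lit 65796) (Net.cons (nat_lit 8) (nat_lit 22) (Net.cons (nat_lit 16) (nat_lit 31) (Net.cons (nat_lit 8) (nat_lit 124) (Net.cons (nat_lit 4) (nat_lit 260) (Net.cons (nat_lit 2) (nat_lit 131378) (Net.cons (nat_lit 1) (nat_lit 278788) Net.nil)))))))))
noncomputable def Nx3 : List Net := [Nx3_0, Nx3_1, Nx3_2]

noncomputable def Np_0 : Net := (Net.cons (nat_lit 1) (nat_lit 5140) (Net.cons (nat_lit 2) (nat_lit 65569) (Net.cons (nat_lit 4) (nat_lit 66818) (Net.cons (nat_lit 8) (nat_lit 24) (Net.cons (nat_lit 16) (nat_lit 27) (Net.cons (nat_lit 8) (nat_lit 88) (Net.cons (nat_lit 4) (nat_lit 67338) (Net.cons (nat_lit 2) (nat_lit 69665) (Net.cons (nat_lit 1) (nat_lit 5140) Net.nil)))))))))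
noncomputable def Np_1 : Net := (Net.cons (nat_lit 1) (nat_lit 333072) (Net.cons (nat_lit 2) (nat_lit 512) (Net.cons (nat_lit 4) (nat_lit 512) (Net.cons (nat_lit 8) (nat_lit 10) (Net.cons (nat_lit 16) (nat_lit 26) (Net.cons (nat_lit 8) (nat_lit 154) (Net.cons (nat_lit 4) (nat_lit 67076) (Net.cons (nat_lit 2) (nat_lit 8992) (Net.cons (nat_lit 1) (nat_lit 1284) Net.nil)))))))))
noncomputable def Np_2 : Net := (Net.cons (nat_lit 1) (nat_lit 349188) (Net.cons (nat_lit 2) (nat_lit 200960) (Net.cons (nat_lit 4) (nat_lit 67072) (Net.cons (nat_lit 8) (nat_lit 7) (Net.cons (nat_lit 16) (nat_lit 23) (Net.cons (nat_lit 8) (nat_lit 143) (Net.cons (nat_lit 4) (nat_lit 67076) (Net.cons (nat_lit 2) (nat_lit 200960) (Net.cons (nat_lit 1) (nat_lit 349444) Net.nil)))))))))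
noncomputable def Np_3 : Net := (Net.cons (nat_lit 1) (nat_lit 83280) (Net.cons (nat_lit 2) (nat_lit 131584) (Net.cons (nat_lit 4) (nat_lit 2304) (Net.cons (nat_lit 8) (nat_lit 9) (Net.cons (nat_lit 16) (nat_lit 9) (Net.cons (nat_lit 8) (nat_lit 59) (Net.cons (nat_lit 4) (nat_lit 3336) (Net.cons (nat_lit 2) (nat_lit 131584) (Net.cons (nat_lit 1) (nat_lit 345424) Net.nil)))))))))
noncomputable def Np_4 : Net := (Net.cons (nat_lit 1) (nat_lit 344128) (Net.cons (nat_lit 2) (nat_lit 512) (Net.cons (nat_lit 4) (nat_lit 66566) (Net.cons (nat_lit 8) (nat_lit 8) (Net.cons (nat_lit 16) (nat_lit 30) (Net.cons (nat_lit 8) (nat_lit 72) (Net.cons (nat_lit 4) (nat_lit 66822) (Net.cons (nat_lit 2) (nat_lit 74256) (Net.cons (nat_lit 1) (nat_lit 344129) Net.nil)))))))))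
noncomputable def Np : List Net := [Np_0, Np_1, Np_2, Np_3, Np_4]

noncomputable def Rp_0 : List (List Nat) := [[(nat_lit 1), (nat_lit 1)],
  [(nat_lit 3), (nat_lit 3), (nat_lit 3)],
  [(nat_lit 5), (nat_lit 5)],
  [(nat_lit 5), (nat_lit 1), (nat_lit 5), (nat_lit 1)],
  [(nat_lit 3), (nat_lit 1), (nat_lit 3), (nat_lit 1), (nat_lit 3), (nat_lit 1)],
  [(nat_lit 5), (nat_lit 3), (nat_lit 5), (nat_lit 3), (nat_lit 5), (nat_lit 3)],
  [(nat_lit 4), (nat_lit 5), (nat_lit 3), (nat_lit 1), (nat_lit 4), (nat_lit 5), (nat_lit 3), (nat_lit 1)]]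

noncomputable def Rp_1 : List (List Nat) := [[(nat_lit 1), (nat_lit 1)],
  [(nat_lit 3), (nat_lit 3), (nat_lit 3)],
  [(nat_lit 5), (nat_lit 5)],
  [(nat_lit 5), (nat_lit 1), (nat_lit 5), (nat_lit 1)],
  [(nat_lit 3), (nat_lit 1), (nat_lit 3), (nat_lit 1), (nat_lit 3), (nat_lit 1)],
  [(nat_lit 5), (nat_lit 3), (nat_lit 5), (nat_lit 3), (nat_lit 5), (nat_lit 3)],
  [(nat_lit 4), (nat_lit 5), (nat_lit 3), (nat_lit 1), (nat_lit 4), (nat_lit 5), (nat_lit 3), (nat_lit 1)],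
  [(nat_lit 7), (nat_lit 7)],
  [(nat_lit 7), (nat_lit 5), (nat_lit 7), (nat_lit 5), (nat_lit 7), (nat_lit 5)],
  [(nat_lit 7), (nat_lit 3), (nat_lit 1), (nat_lit 7), (nat_lit 3), (nat_lit 1), (nat_lit 7), (nat_lit 3), (nat_lit 1)],
  [(nat_lit 5), (nat_lit 3), (nat_lit 7), (nat_lit 5), (nat_lit 1), (nat_lit 7), (nat_lit 4), (nat_lit 5), (nat_lit 1), (nat_lit 7), (nat_lit 4), (nat_lit 1)]]

noncomputable def relsp : List (List Nat) := [[(nat_lit 1), (nat_lit 1)],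
  [(nat_lit 3), (nat_lit 3), (nat_lit 3)],
  [(nat_lit 5), (nat_lit 5)],
  [(nat_lit 5), (nat_lit 1), (nat_lit 5), (nat_lit 1)],
  [(nat_lit 3), (nat_lit 1), (nat_lit 3), (nat_lit 1), (nat_lit 3), (nat_lit 1)],
  [(nat_lit 5), (nat_lit 3), (nat_lit 5), (nat_lit 3), (nat_lit 5), (nat_lit 3)],
  [(nat_lit 4), (nat_lit 5), (nat_lit 3), (nat_lit 1), (nat_lit 4), (nat_lit 5), (nat_lit 3), (nat_lit 1)],
  [(nat_lit 7), (nat_lit 7)],
  [(nat_lit 7), (nat_lit 5), (nat_lit 7), (nat_lit 5), (nat_lit 7), (nat_lit 5)],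
  [(nat_lit 7), (nat_lit 3), (nat_lit 1), (nat_lit 7), (nat_lit 3), (nat_lit 1), (nat_lit 7), (nat_lit 3), (nat_lit 1)],
  [(nat_lit 5), (nat_lit 3), (nat_lit 7), (nat_lit 5), (nat_lit 1), (nat_lit 7), (nat_lit 4), (nat_lit 5), (nat_lit 1), (nat_lit 7), (nat_lit 4), (nat_lit 1)],
  [(nat_lit 9), (nat_lit 9)],
  [(nat_lit 9), (nat_lit 1), (nat_lit 9), (nat_lit 1)],
  [(nat_lit 9), (nat_lit 4), (nat_lit 9), (nat_lit 3), (nat_lit 5), (nat_lit 3)],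
  [(nat_lit 9), (nat_lit 7), (nat_lit 9), (nat_lit 5), (nat_lit 7), (nat_lit 9), (nat_lit 5), (nat_lit 7), (nat_lit 5)]]

noncomputable def ep_0_c0 : BT (Bx Nat) := (BT.leaf (Bx.mk (nat_lit 0x0)))
noncomputable def ep_0_c1 : BT (Bx Nat) := (BT.leaf (Bx.mk (nat_lit 0x2cec44d32471a12213054cf245cc97912042572452489a92d88b70948c8c1c2884a1243a486d06e7247093148aa261a0d50929a0cd066a0cae48a483b91f920d417a82eb91a9208e45a481c245a0a3413dc84504ba09324068210000)))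
noncomputable def ep_0_c2 : BT (Bx Nat) := (BT.leaf (Bx.mk (nat_lit 0x322e933eea8a4cd422d494a48be4cb4229593a889d8cf4992844941c24c84221355468add53498c843941b1d07c98a843141a24c4c9888429418d8cad06085172616107505ba0b3415dcc8d0539305081e826c9818409411a8218000)))
noncomputable def ep_0_c3 : BT (Bx Nat) := (BT.leaf (Bx.mk (nat_lit 0x496212d4a5c1cb6495a22bc457dcb4495632ccc574cb5b96392a4c5b9cb04950a0deeb950b3b95b929941b64a5b957929541a5d88b95392914192164d06162b2e5364a2d05c729f416282ad054728d250a82739439283411e8220000)))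
noncomputable def ep_0_c4 : BT (Bx Nat) := (BT.leaf (Bx.mk (nat_lit 0x31e963d8c7750f2bb6f93b2c779df813a693aa27a15d6c3d353c327459f1c354939eeea9dd743cd53b1272e835b3db869d2726833b9e073c9271e83149c6a0bee75dcee49c4a0b5270e82b49c2a0a541424e0d04ca09541228228000)))
noncomputable def ep_0_p : BT (Bx Nat) := (BT.leaf (Bx.mk (nat_lit 0x5882af871c06341c6828c8917062c1c5828a891406260c48389051112201c4028788ce059a0b3036604cb1196132836504c911921b2036404c7118e0b1846302850d0a1210442028311060a084410682088221043208441040000000)))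
noncomputable def ep_0_e : BT Nat := BT.leaf (nat_lit 0)
noncomputable def ep_0_cols : List (BT (Bx Nat)) := [ep_0_c0, ep_0_c1, ep_0_c2, ep_0_c3, ep_0_c4]
noncomputable def ep_0_ch (x j : Nat) : Bx Nat := chunkG ep_0_cols (nat_lit 1) x j
noncomputable def ep_0_L (x : Nat) : Bx (Nat → Nat) := lookG ep_0_ch (nat_lit 8) (nat_lit 255) (nat_lit 15) (nat_lit 32767) x
noncomputable def ep_0_pc (_ j : Nat) : Bx Nat := ep_0_p.get j
noncomputable def ep_0_pb : Bx (Nat → Nat) := lookG ep_0_pc (nat_lit 8) (nat_lit 255) (nat_lit 15) (nat_lit 32767) (nat_lit 0)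
noncomputable def ep_0_rots : BT CW := (BT.node (nat_lit 9) (BT.node (nat_lit 4) (BT.node (nat_lit 2) (BT.node (nat_lit 1) (BT.leaf ⟨[], (nat_lit 1000000), (nat_lit 0), (nat_lit 0), (nat_lit 0)⟩) (BT.leaf ⟨[], (nat_lit 1000000), (nat_lit 0), (nat_lit 0), (nat_lit 1)⟩)) (BT.node (nat_lit 3) (BT.leaf ⟨[], (nat_lit 1000000), (nat_lit 0), (nat_lit 0), (nat_lit 2)⟩) (BT.leaf ⟨[(nat_lit 1), (nat_lit 1)], (nat_lit 0), (nat_lit 0), (nat_lit 0), (nat_lit 3)⟩))) (BT.node (nat_lit 6) (BT.node (nat_lit 5) (BT.leaf ⟨[(nat_lit 3), (nat_lit 2)], (nat_lit 10), (nat_lit 1), (nat_lit 0), (nat_lit 3)⟩) (BT.leaf ⟨[(nat_lit 2), (nat_lit 3)], (nat_lit 10), (nat_lit 0), (nat_lit 0), (nat_lit 3)⟩)) (BT.node (nat_lit 7) (BT.leaf ⟨[(nat_lit 4), (nat_lit 4)], (nat_lit 2), (nat_lit 0), (nat_lit 0), (nat_lit 3)⟩) (BT.node (nat_lit 8) (BT.leaf ⟨[(nat_lit 2), (nat_lit 2), (nat_lit 2)], (nat_lit 1), (nat_lit 0), (nat_lit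 0), (nat_lit 3)⟩) (BT.leaf ⟨[(nat_lit 1), (nat_lit 4), (nat_lit 1), (nat_lit 4)], (nat_lit 3), (nat_lit 1), (nat_lit 0), (nat_lit 3)⟩))))) (BT.node (nat_lit 14) (BT.node (nat_lit 11) (BT.node (nat_lit 10) (BT.leaf ⟨[(nat_lit 2), (nat_lit 1), (nat_lit 2), (nat_lit 1), (nat_lit 2), (nat_lit 1)], (nat_lit 4), (nat_lit 0), (nat_lit 0), (nat_lit 3)⟩) (BT.leaf ⟨[(nat_lit 3), (nat_lit 1), (nat_lit 3), (nat_lit 1), (nat_lit 3), (nat_lit 1)], (nat_lit 16), (nat_lit 1), (nat_lit 0), (nat_lit 3)⟩)) (BT.node (nat_lit 12) (BT.leaf ⟨[(nat_lit 3), (nat_lit 3), (nat_lit 3)], (nat_lit 13), (nat_lit 0), (nat_lit 0), (nat_lit 3)⟩) (BT.node (nat_lit 13) (BT.leaf ⟨[(nat_lit 4), (nat_lit 2), (nat_lit 4), (nat_lit 2), (nat_lit 4), (nat_lit 2)], (nat_lit 5), (nat_lit 0), (nat_lit 0), (nat_lit 3)⟩) (BT.leaf ⟨[(nat_lit 4), (nat_lit 1), (nat_lit 4), (nat_lit 1)], (nat_lit 3), (nat_lit 0), (nat_lit 0), (nat_lit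 3)⟩)))) (BT.node (nat_lit 16) (BT.node (nat_lit 15) (BT.leaf ⟨[(nat_lit 4), (nat_lit 3), (nat_lit 4), (nat_lit 3), (nat_lit 4), (nat_lit 3)], (nat_lit 17), (nat_lit 1), (nat_lit 0), (nat_lit 3)⟩) (BT.leaf ⟨[(nat_lit 1), (nat_lit 3), (nat_lit 1), (nat_lit 3), (nat_lit 1), (nat_lit 3)], (nat_lit 16), (nat_lit 0), (nat_lit 0), (nat_lit 3)⟩)) (BT.node (nat_lit 17) (BT.leaf ⟨[(nat_lit 1), (nat_lit 3), (nat_lit 4), (nat_lit 2), (nat_lit 1), (nat_lit 3), (nat_lit 4), (nat_lit 2)], (nat_lit 6), (nat_lit 3), (nat_lit 0), (nat_lit 3)⟩) (BT.node (nat_lit 18) (BT.leaf ⟨[(nat_lit 2), (nat_lit 4), (nat_lit 2), (nat_lit 4), (nat_lit 2), (nat_lit 4)], (nat_lit 5), (nat_lit 1), (nat_lit 0), (nat_lit 3)⟩) (BT.leaf ⟨[(nat_lit 1), (nat_lit 2), (nat_lit 1), (nat_lit 2), (nat_lit 1), (nat_lit 2)], (nat_lit 4), (nat_lit 1), (nat_lit 0), (nat_lit 3)⟩))))))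
noncomputable def ep_0_hcs : List CW := []
noncomputable def ep_0_H (x j : Nat) : Bx (Nat → Nat → Nat) := mkH ep_0_L ep_0_pb.1 ep_0_e.get (lmap CW.w ep_0_hcs) (nat_lit 48) (nat_lit 49) (nat_lit 5) (nat_lit 64) (nat_lit 2048) (nat_lit 4095) x (ep_0_rots.get j)
noncomputable def ep_0_F (x b : Nat) : Bool := blkOK ep_0_H ep_0_ch (nat_lit 49) (nat_lit 64) (nat_lit 32) (nat_lit 8) (nat_lit 255) (nat_lit 15) (nat_lit 32767) x b

theorem ep_0_k0_0 : allFrom (ep_0_F (nat_lit 0)) (nat_lit 0) (nat_lit 4) = true := by decide +kernel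
theorem ep_0_k1_0 : allFrom (ep_0_F (nat_lit 1)) (nat_lit 0) (nat_lit 4) = true := by decide +kernel
theorem ep_0_k2_0 : allFrom (ep_0_F (nat_lit 2)) (nat_lit 0) (nat_lit 4) = true := by decide +kernel
theorem ep_0_k3_0 : allFrom (ep_0_F (nat_lit 3)) (nat_lit 0) (nat_lit 4) = true := by decide +kernel
theorem ep_0_k4_0 : allFrom (ep_0_F (nat_lit 4)) (nat_lit 0) (nat_lit 4) = true := by decide +kernel

noncomputable def ep_1_c0 : BT (Bx Nat) := (BT.leaf (Bx.mk (nat_lit 0x0)))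
noncomputable def ep_1_c1 : BT (Bx Nat) := (BT.leaf (Bx.mk (nat_lit 0x1b340f6692b49c8a0ac915322a150925505154b52e617cc2e8a88c81565340a79145308e6308000)))
noncomputable def ep_1_c2 : BT (Bx Nat) := (BT.leaf (Bx.mk (nat_lit 0x11112ea9242c4899d0f4214a44a483c52d5a1d30c248245299859240e2934c28984ac40a6308000)))
noncomputable def ep_1_c3 : BT (Bx Nat) := (BT.leaf (Bx.mk (nat_lit 0x10f31ce2b9b8bba48ea44e0c92e07648e798649a3e07448e4985b0396471cc29984cd78a4708000)))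
noncomputable def ep_1_c4 : BT (Bx Nat) := (BT.leaf (Bx.mk (nat_lit 0x1ef445e71631178c56d519cb8be06840d2918d23158c42cc9918730ae61548c2984f30926308000)))
noncomputable def ep_1_c5 : BT (Bx Nat) := (BT.leaf (Bx.mk (nat_lit 0x4890911eb6ae4454c3498669b39186b887512530c51541c897b98ca8d2e2c5a4590d22066110000)))
noncomputable def ep_1_p : BT (Bx Nat) := (BT.leaf (Bx.mk (nat_lit 0x3405af16ac3aa16a828906201870e1c28612144640d90263118c3630908442048450000000)))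
noncomputable def ep_1_e0 : BT Nat := (BT.node (nat_lit 66) (BT.leaf (nat_lit 524290)) (BT.node (nat_lit 68) (BT.leaf (nat_lit 262146)) (BT.leaf (nat_lit 2))))
noncomputable def ep_1_e : BT Nat := ep_1_e0
noncomputable def ep_1_cols : List (BT (Bx Nat)) := [ep_1_c0, ep_1_c1, ep_1_c2, ep_1_c3, ep_1_c4, ep_1_c5]
noncomputable def ep_1_ch (x j : Nat) : Bx Nat := chunkG ep_1_cols (nat_lit 1) x j
noncomputable def ep_1_L (x : Nat) : Bx (Nat → Nat) := lookG ep_1_ch (nat_lit 8) (nat_lit 255) (nat_lit 15) (nat_lit 32767) x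
noncomputable def ep_1_pc (_ j : Nat) : Bx Nat := ep_1_p.get j
noncomputable def ep_1_pb : Bx (Nat → Nat) := lookG ep_1_pc (nat_lit 8) (nat_lit 255) (nat_lit 14) (nat_lit 16383) (nat_lit 0)
noncomputable def ep_1_rots : BT CW := (BT.node (nat_lit 14) (BT.node (nat_lit 7) (BT.node (nat_lit 3) (BT.node (nat_lit 1) (BT.leaf ⟨[], (nat_lit 1000000), (nat_lit 0), (nat_lit 0), (nat_lit 0)⟩) (BT.node (nat_lit 2) (BT.leaf ⟨[], (nat_lit 1000000), (nat_lit 0), (nat_lit 0), (nat_lit 1)⟩) (BT.leaf ⟨[], (nat_lit 1000000), (nat_lit 0), (nat_lit 0), (nat_lit 2)⟩))) (BT.node (nat_lit 5) (BT.node (nat_lit 4) (BT.leaf ⟨[(nat_lit 5), (nat_lit 5)], (nat_lit 7), (nat_lit 0), (nat_lit 0), (nat_lit 3)⟩) (BT.leaf ⟨[(nat_lit 1), (nat_lit 1)], (nat_lit 0), (nat_lit 0), (nat_lit 0), (nat_lit 3)⟩)) (BT.node (nat_lit 6) (BT.leaf ⟨[(nat_lit 4), (nat_lit 4)], (nat_lit 2), (nat_lit 0), (nat_lit 0), (nat_lit 3)⟩) (BT.leaf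 ⟨[(nat_lit 3), (nat_lit 2)], (nat_lit 14), (nat_lit 1), (nat_lit 0), (nat_lit 3)⟩)))) (BT.node (nat_lit 10) (BT.node (nat_lit 8) (BT.leaf ⟨[(nat_lit 2), (nat_lit 3)], (nat_lit 14), (nat_lit 0), (nat_lit 0), (nat_lit 3)⟩) (BT.node (nat_lit 9) (BT.leaf ⟨[(nat_lit 2), (nat_lit 2), (nat_lit 2)], (nat_lit 1), (nat_lit 0), (nat_lit 0), (nat_lit 3)⟩) (BT.leaf ⟨[(nat_lit 1), (nat_lit 4), (nat_lit 1), (nat_lit 4)], (nat_lit 3), (nat_lit 1), (nat_lit 0), (nat_lit 3)⟩))) (BT.node (nat_lit 12) (BT.node (nat_lit 11) (BT.leaf ⟨[(nat_lit 4), (nat_lit 2), (nat_lit 4), (nat_lit 2), (nat_lit 4), (nat_lit 2)], (nat_lit 5), (nat_lit 0), (nat_lit 0), (nat_lit 3)⟩) (BT.leaf ⟨[(nat_lit 4), (nat_lit 3), (nat_lit 4), (nat_lit 3), (nat_lit 4), (nat_lit 3)], (nat_lit 21), (nat_lit 1), (nat_lit 0), (nat_lit 3)⟩)) (BT.node (nat_lit 13) (BT.leaf ⟨[(nat_lit 5), (nat_lit 4), (nat_lit 5), (nat_lit 4), (nat_lit 5), (nat_lit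 4)], (nat_lit 8), (nat_lit 0), (nat_lit 0), (nat_lit 3)⟩) (BT.leaf ⟨[(nat_lit 5), (nat_lit 3), (nat_lit 4), (nat_lit 1), (nat_lit 5), (nat_lit 3), (nat_lit 1), (nat_lit 4), (nat_lit 2), (nat_lit 5), (nat_lit 4), (nat_lit 1)], (nat_lit 10), (nat_lit 5), (nat_lit 0), (nat_lit 3)⟩))))) (BT.node (nat_lit 21) (BT.node (nat_lit 17) (BT.node (nat_lit 15) (BT.leaf ⟨[(nat_lit 3), (nat_lit 1), (nat_lit 4), (nat_lit 2), (nat_lit 5), (nat_lit 4), (nat_lit 1), (nat_lit 5), (nat_lit 3), (nat_lit 4), (nat_lit 1), (nat_lit 5)], (nat_lit 10), (nat_lit 10), (nat_lit 0), (nat_lit 3)⟩) (BT.node (nat_lit 16) (BT.leaf ⟨[(nat_lit 1), (nat_lit 3), (nat_lit 1), (nat_lit 3), (nat_lit 1), (nat_lit 3)], (nat_lit 20), (nat_lit 0), (nat_lit 0), (nat_lit 3)⟩) (BT.leaf ⟨[(nat_lit 4), (nat_lit 1), (nat_lit 4), (nat_lit 1)], (nat_lit 3), (nat_lit 0), (nat_lit 0), (nat_lit 3)⟩))) (BT.node (nat_lit 19) (BT.node (nat_lit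 18) (BT.leaf ⟨[(nat_lit 3), (nat_lit 4), (nat_lit 2), (nat_lit 1), (nat_lit 3), (nat_lit 4), (nat_lit 2), (nat_lit 1)], (nat_lit 6), (nat_lit 0), (nat_lit 0), (nat_lit 3)⟩) (BT.leaf ⟨[(nat_lit 3), (nat_lit 3), (nat_lit 3)], (nat_lit 17), (nat_lit 0), (nat_lit 0), (nat_lit 3)⟩)) (BT.node (nat_lit 20) (BT.leaf ⟨[(nat_lit 3), (nat_lit 1), (nat_lit 3), (nat_lit 1), (nat_lit 3), (nat_lit 1)], (nat_lit 20), (nat_lit 1), (nat_lit 0), (nat_lit 3)⟩) (BT.leaf ⟨[(nat_lit 5), (nat_lit 1), (nat_lit 3), (nat_lit 5), (nat_lit 1), (nat_lit 3), (nat_lit 5), (nat_lit 1), (nat_lit 3)], (nat_lit 25), (nat_lit 2), (nat_lit 0), (nat_lit 3)⟩)))) (BT.node (nat_lit 25) (BT.node (nat_lit 23) (BT.node (nat_lit 22) (BT.leaf ⟨[(nat_lit 5), (nat_lit 3), (nat_lit 1), (nat_lit 4), (nat_lit 2), (nat_lit 5), (nat_lit 4), (nat_lit 1), (nat_lit 5), (nat_lit 3), (nat_lit 4), (nat_lit 1)], (nat_lit 10), (nat_lit 9), (nat_lit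 0), (nat_lit 3)⟩) (BT.leaf ⟨[(nat_lit 4), (nat_lit 5), (nat_lit 4), (nat_lit 5), (nat_lit 4), (nat_lit 5)], (nat_lit 8), (nat_lit 1), (nat_lit 0), (nat_lit 3)⟩)) (BT.node (nat_lit 24) (BT.leaf ⟨[(nat_lit 5), (nat_lit 2), (nat_lit 1), (nat_lit 5), (nat_lit 2), (nat_lit 1), (nat_lit 5), (nat_lit 2), (nat_lit 1)], (nat_lit 9), (nat_lit 0), (nat_lit 0), (nat_lit 3)⟩) (BT.leaf ⟨[(nat_lit 1), (nat_lit 5), (nat_lit 3), (nat_lit 4), (nat_lit 1), (nat_lit 5), (nat_lit 3), (nat_lit 1), (nat_lit 4), (nat_lit 2), (nat_lit 5), (nat_lit 4)], (nat_lit 10), (nat_lit 4), (nat_lit 0), (nat_lit 3)⟩))) (BT.node (nat_lit 27) (BT.node (nat_lit 26) (BT.leaf ⟨[(nat_lit 2), (nat_lit 1), (nat_lit 5), (nat_lit 2), (nat_lit 1), (nat_lit 5), (nat_lit 2), (nat_lit 1), (nat_lit 5)], (nat_lit 9), (nat_lit 1), (nat_lit 0), (nat_lit 3)⟩) (BT.leaf ⟨[(nat_lit 3), (nat_lit 4), (nat_lit 1), (nat_lit 5), (nat_lit 3), (nat_lit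 1), (nat_lit 4), (nat_lit 2), (nat_lit 5), (nat_lit 4), (nat_lit 1), (nat_lit 5)], (nat_lit 10), (nat_lit 6), (nat_lit 0), (nat_lit 3)⟩)) (BT.node (nat_lit 28) (BT.leaf ⟨[(nat_lit 1), (nat_lit 3), (nat_lit 5), (nat_lit 1), (nat_lit 3), (nat_lit 5), (nat_lit 1), (nat_lit 3), (nat_lit 5)], (nat_lit 25), (nat_lit 0), (nat_lit 0), (nat_lit 3)⟩) (BT.leaf ⟨[(nat_lit 1), (nat_lit 2), (nat_lit 1), (nat_lit 2), (nat_lit 1), (nat_lit 2)], (nat_lit 4), (nat_lit 1), (nat_lit 0), (nat_lit 3)⟩))))))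
noncomputable def ep_1_hcs : List CW := [⟨[(nat_lit 4)], (nat_lit 0), (nat_lit 0), (nat_lit 0), (nat_lit 0)⟩, ⟨[(nat_lit 2)], (nat_lit 1), (nat_lit 0), (nat_lit 0), (nat_lit 0)⟩, ⟨[(nat_lit 1)], (nat_lit 2), (nat_lit 0), (nat_lit 0), (nat_lit 0)⟩, ⟨[(nat_lit 4)], (nat_lit 3), (nat_lit 0), (nat_lit 0), (nat_lit 0)⟩, ⟨[(nat_lit 3)], (nat_lit 4), (nat_lit 0), (nat_lit 0), (nat_lit 0)⟩, ⟨[(nat_lit 1)], (nat_lit 5), (nat_lit 0), (nat_lit 0), (nat_lit 0)⟩]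
noncomputable def ep_1_H (x j : Nat) : Bx (Nat → Nat → Nat) := mkH ep_1_L ep_1_pb.1 ep_1_e.get (lmap CW.w ep_1_hcs) (nat_lit 20) (nat_lit 21) (nat_lit 6) (nat_lit 32) (nat_lit 1024) (nat_lit 2047) x (ep_1_rots.get j)
noncomputable def ep_1_F (x b : Nat) : Bool := blkOK ep_1_H ep_1_ch (nat_lit 21) (nat_lit 32) (nat_lit 32) (nat_lit 8) (nat_lit 255) (nat_lit 15) (nat_lit 32767) x b

theorem ep_1_k0_0 : allFrom (ep_1_F (nat_lit 0)) (nat_lit 0) (nat_lit 4) = true := by decide +kernel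
theorem ep_1_k1_0 : allFrom (ep_1_F (nat_lit 1)) (nat_lit 0) (nat_lit 4) = true := by decide +kernel
theorem ep_1_k2_0 : allFrom (ep_1_F (nat_lit 2)) (nat_lit 0) (nat_lit 4) = true := by decide +kernel
theorem ep_1_k3_0 : allFrom (ep_1_F (nat_lit 3)) (nat_lit 0) (nat_lit 4) = true := by decide +kernel
theorem ep_1_k4_0 : allFrom (ep_1_F (nat_lit 4)) (nat_lit 0) (nat_lit 4) = true := by decide +kernel
theorem ep_1_k5_0 : allFrom (ep_1_F (nat_lit 5)) (nat_lit 0) (nat_lit 4) = true := by decide +kernel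

noncomputable def ep_2_c0 : BT (Bx Nat) := (BT.leaf (Bx.mk (nat_lit 0x0)))
noncomputable def ep_2_c1 : BT (Bx Nat) := (BT.leaf (Bx.mk (nat_lit 0x4bf50af452ee39d2496d90ca90c948d340d1616b58cc9830982f896560c66ae780c890c3982489c298610000)))
noncomputable def ep_2_c2 : BT (Bx Nat) := (BT.leaf (Bx.mk (nat_lit 0x24323415912c14544950534b59539128894e632f98319125894a982d912489479829982672c3812298610000)))
noncomputable def ep_2_c3 : BT (Bx Nat) := (BT.leaf (Bx.mk (nat_lit 0x29140912510f1915910b4111590c810d91089833491081099105982e81069104982a9827690389e291010000)))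
noncomputable def ep_2_c4 : BT (Bx Nat) := (BT.leaf (Bx.mk (nat_lit 0x539543946a0d5392898e630f58f080f160f360e790e660e9698a90e46a0c982b90e398289825820298610000)))
noncomputable def ep_2_c5 : BT (Bx Nat) := (BT.leaf (Bx.mk (nat_lit 0x90b190b058ac90ab983598344baf5b6e70a86233983238a943aa7aad60a45b667a256ba790a2982398610000)))
noncomputable def ep_2_c6 : BT (Bx Nat) := (BT.leaf (Bx.mk (nat_lit 0x40923a5489ae4bd56a8d6270626f809360919086608769aa6a89726469ab982c708368887a45908198220000)))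
noncomputable def ep_2_p : BT (Bx Nat) := (BT.leaf (Bx.mk (nat_lit 0xf117405cc0f2c5cb0aa81a906a03a80a986a612143850a104840e10263118c142148460000000)))
noncomputable def ep_2_e0 : BT Nat := (BT.node (nat_lit 68) (BT.node (nat_lit 66) (BT.leaf (nat_lit 786434)) (BT.leaf (nat_lit 524290))) (BT.node (nat_lit 69) (BT.leaf (nat_lit 262146)) (BT.leaf (nat_lit 2))))
noncomputable def ep_2_e : BT Nat := ep_2_e0
noncomputable def ep_2_cols : List (BT (Bx Nat)) := [ep_2_c0, ep_2_c1, ep_2_c2, ep_2_c3, ep_2_c4, ep_2_c5, ep_2_c6]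
noncomputable def ep_2_ch (x j : Nat) : Bx Nat := chunkG ep_2_cols (nat_lit 1) x j
noncomputable def ep_2_L (x : Nat) : Bx (Nat → Nat) := lookG ep_2_ch (nat_lit 8) (nat_lit 255) (nat_lit 16) (nat_lit 65535) x
noncomputable def ep_2_pc (_ j : Nat) : Bx Nat := ep_2_p.get j
noncomputable def ep_2_pb : Bx (Nat → Nat) := lookG ep_2_pc (nat_lit 8) (nat_lit 255) (nat_lit 14) (nat_lit 16383) (nat_lit 0)
noncomputable def ep_2_rots : BT CW := (BT.node (nat_lit 17) (BT.node (nat_lit 8) (BT.node (nat_lit 4) (BT.node (nat_lit 2) (BT.node (nat_lit 1) (BT.leaf ⟨[], (nat_lit 1000000), (nat_lit 0), (nat_lit 0), (nat_lit 0)⟩) (BT.leaf ⟨[], (nat_lit 1000000), (nat_lit 0), (nat_lit 0), (nat_lit 1)⟩)) (BT.node (nat_lit 3) (BT.leaf ⟨[], (nat_lit 1000000), (nat_lit 0), (nat_lit 0), (nat_lit 2)⟩) (BT.leaf ⟨[(nat_lit 6), (nat_lit 6)], (nat_lit 11), (nat_lit 0), (nat_lit 0), (nat_lit 3)⟩))) (BT.node (nat_lit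 6) (BT.node (nat_lit 5) (BT.leaf ⟨[(nat_lit 5), (nat_lit 5)], (nat_lit 7), (nat_lit 0), (nat_lit 0), (nat_lit 3)⟩) (BT.leaf ⟨[(nat_lit 1), (nat_lit 1)], (nat_lit 0), (nat_lit 0), (nat_lit 0), (nat_lit 3)⟩)) (BT.node (nat_lit 7) (BT.leaf ⟨[(nat_lit 4), (nat_lit 4)], (nat_lit 2), (nat_lit 0), (nat_lit 0), (nat_lit 3)⟩) (BT.leaf ⟨[(nat_lit 3), (nat_lit 2)], (nat_lit 18), (nat_lit 1), (nat_lit 0), (nat_lit 3)⟩)))) (BT.node (nat_lit 12) (BT.node (nat_lit 10) (BT.node (nat_lit 9) (BT.leaf ⟨[(nat_lit 2), (nat_lit 3)], (nat_lit 18), (nat_lit 0), (nat_lit 0), (nat_lit 3)⟩) (BT.leaf ⟨[(nat_lit 2), (nat_lit 2), (nat_lit 2)], (nat_lit 1), (nat_lit 0), (nat_lit 0), (nat_lit 3)⟩)) (BT.node (nat_lit 11) (BT.leaf ⟨[(nat_lit 1), (nat_lit 4), (nat_lit 1), (nat_lit 4)], (nat_lit 3), (nat_lit 1), (nat_lit 0), (nat_lit 3)⟩) (BT.leaf ⟨[(nat_lit 4), (nat_lit 2), (nat_lit 4), (nat_lit 2), (nat_lit 4), (nat_lit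 2)], (nat_lit 5), (nat_lit 0), (nat_lit 0), (nat_lit 3)⟩))) (BT.node (nat_lit 14) (BT.node (nat_lit 13) (BT.leaf ⟨[(nat_lit 6), (nat_lit 2), (nat_lit 4), (nat_lit 2), (nat_lit 6), (nat_lit 3)], (nat_lit 13), (nat_lit 2), (nat_lit 0), (nat_lit 3)⟩) (BT.leaf ⟨[(nat_lit 1), (nat_lit 6), (nat_lit 1), (nat_lit 6)], (nat_lit 12), (nat_lit 1), (nat_lit 0), (nat_lit 3)⟩)) (BT.node (nat_lit 15) (BT.leaf ⟨[(nat_lit 3), (nat_lit 6), (nat_lit 2), (nat_lit 4), (nat_lit 2), (nat_lit 6)], (nat_lit 13), (nat_lit 1), (nat_lit 0), (nat_lit 3)⟩) (BT.node (nat_lit 16) (BT.leaf ⟨[(nat_lit 4), (nat_lit 3), (nat_lit 6), (nat_lit 2), (nat_lit 6), (nat_lit 3)], (nat_lit 33), (nat_lit 1), (nat_lit 0), (nat_lit 3)⟩) (BT.leaf ⟨[(nat_lit 5), (nat_lit 4), (nat_lit 5), (nat_lit 4), (nat_lit 5), (nat_lit 4)], (nat_lit 8), (nat_lit 0), (nat_lit 0), (nat_lit 3)⟩)))))) (BT.node (nat_lit 25) (BT.node (nat_lit 21) (BT.node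 (nat_lit 19) (BT.node (nat_lit 18) (BT.leaf ⟨[(nat_lit 6), (nat_lit 4), (nat_lit 5), (nat_lit 4), (nat_lit 6), (nat_lit 5), (nat_lit 6), (nat_lit 4), (nat_lit 5)], (nat_lit 14), (nat_lit 5), (nat_lit 0), (nat_lit 3)⟩) (BT.leaf ⟨[(nat_lit 6), (nat_lit 1), (nat_lit 6), (nat_lit 1)], (nat_lit 12), (nat_lit 0), (nat_lit 0), (nat_lit 3)⟩)) (BT.node (nat_lit 20) (BT.leaf ⟨[(nat_lit 6), (nat_lit 3), (nat_lit 6), (nat_lit 2), (nat_lit 4), (nat_lit 2)], (nat_lit 13), (nat_lit 0), (nat_lit 0), (nat_lit 3)⟩) (BT.leaf ⟨[(nat_lit 5), (nat_lit 3), (nat_lit 4), (nat_lit 1), (nat_lit 5), (nat_lit 3), (nat_lit 1), (nat_lit 4), (nat_lit 2), (nat_lit 5), (nat_lit 4), (nat_lit 1)], (nat_lit 10), (nat_lit 5), (nat_lit 0), (nat_lit 3)⟩))) (BT.node (nat_lit 23) (BT.node (nat_lit 22) (BT.leaf ⟨[(nat_lit 2), (nat_lit 5), (nat_lit 1), (nat_lit 4), (nat_lit 2), (nat_lit 5), (nat_lit 1), (nat_lit 4), (nat_lit 5),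 (nat_lit 3), (nat_lit 4), (nat_lit 1)], (nat_lit 30), (nat_lit 1), (nat_lit 0), (nat_lit 3)⟩) (BT.leaf ⟨[(nat_lit 1), (nat_lit 2), (nat_lit 1), (nat_lit 2), (nat_lit 1), (nat_lit 2)], (nat_lit 4), (nat_lit 1), (nat_lit 0), (nat_lit 3)⟩)) (BT.node (nat_lit 24) (BT.leaf ⟨[(nat_lit 4), (nat_lit 1), (nat_lit 4), (nat_lit 1)], (nat_lit 3), (nat_lit 0), (nat_lit 0), (nat_lit 3)⟩) (BT.leaf ⟨[(nat_lit 2), (nat_lit 1), (nat_lit 3), (nat_lit 4), (nat_lit 2), (nat_lit 1), (nat_lit 3), (nat_lit 4)], (nat_lit 6), (nat_lit 2), (nat_lit 0), (nat_lit 3)⟩)))) (BT.node (nat_lit 29) (BT.node (nat_lit 27) (BT.node (nat_lit 26) (BT.leaf ⟨[(nat_lit 2), (nat_lit 1), (nat_lit 2), (nat_lit 1), (nat_lit 2), (nat_lit 1)], (nat_lit 4), (nat_lit 0), (nat_lit 0), (nat_lit 3)⟩) (BT.leaf ⟨[(nat_lit 5), (nat_lit 6), (nat_lit 4), (nat_lit 5), (nat_lit 4), (nat_lit 6), (nat_lit 5), (nat_lit 6), (nat_lit 4)], (nat_lit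 14), (nat_lit 4), (nat_lit 0), (nat_lit 3)⟩)) (BT.node (nat_lit 28) (BT.leaf ⟨[(nat_lit 4), (nat_lit 5), (nat_lit 4), (nat_lit 5), (nat_lit 4), (nat_lit 5)], (nat_lit 8), (nat_lit 1), (nat_lit 0), (nat_lit 3)⟩) (BT.leaf ⟨[(nat_lit 5), (nat_lit 2), (nat_lit 1), (nat_lit 5), (nat_lit 2), (nat_lit 1), (nat_lit 5), (nat_lit 2), (nat_lit 1)], (nat_lit 9), (nat_lit 0), (nat_lit 0), (nat_lit 3)⟩))) (BT.node (nat_lit 31) (BT.node (nat_lit 30) (BT.leaf ⟨[(nat_lit 6), (nat_lit 4), (nat_lit 5), (nat_lit 6), (nat_lit 4), (nat_lit 5), (nat_lit 4), (nat_lit 6), (nat_lit 5)], (nat_lit 14), (nat_lit 2), (nat_lit 0), (nat_lit 3)⟩) (BT.leaf ⟨[(nat_lit 1), (nat_lit 5), (nat_lit 3), (nat_lit 4), (nat_lit 1), (nat_lit 5), (nat_lit 3), (nat_lit 1), (nat_lit 4), (nat_lit 2), (nat_lit 5), (nat_lit 4)], (nat_lit 10), (nat_lit 4), (nat_lit 0), (nat_lit 3)⟩)) (BT.node (nat_lit 32) (BT.leaf ⟨[(nat_lit 2), (nat_lit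 1), (nat_lit 5), (nat_lit 2), (nat_lit 1), (nat_lit 5), (nat_lit 2), (nat_lit 1), (nat_lit 5)], (nat_lit 9), (nat_lit 1), (nat_lit 0), (nat_lit 3)⟩) (BT.node (nat_lit 33) (BT.leaf ⟨[(nat_lit 2), (nat_lit 6), (nat_lit 3), (nat_lit 6), (nat_lit 2), (nat_lit 4)], (nat_lit 13), (nat_lit 5), (nat_lit 0), (nat_lit 3)⟩) (BT.leaf ⟨[(nat_lit 2), (nat_lit 4), (nat_lit 2), (nat_lit 6), (nat_lit 3), (nat_lit 6)], (nat_lit 13), (nat_lit 3), (nat_lit 0), (nat_lit 3)⟩)))))))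
noncomputable def ep_2_hcs : List CW := [⟨[(nat_lit 5)], (nat_lit 0), (nat_lit 0), (nat_lit 0), (nat_lit 0)⟩, ⟨[(nat_lit 4)], (nat_lit 1), (nat_lit 0), (nat_lit 0), (nat_lit 0)⟩, ⟨[(nat_lit 2)], (nat_lit 2), (nat_lit 0), (nat_lit 0), (nat_lit 0)⟩, ⟨[(nat_lit 1)], (nat_lit 3), (nat_lit 0), (nat_lit 0), (nat_lit 0)⟩, ⟨[(nat_lit 5)], (nat_lit 4), (nat_lit 0), (nat_lit 0), (nat_lit 0)⟩, ⟨[(nat_lit 4)], (nat_lit 5), (nat_lit 0), (nat_lit 0), (nat_lit 0)⟩, ⟨[(nat_lit 3)], (nat_lit 6), (nat_lit 0), (nat_lit 0), (nat_lit 0)⟩, ⟨[(nat_lit 1)], (nat_lit 7), (nat_lit 0), (nat_lit 0), (nat_lit 0)⟩]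
noncomputable def ep_2_H (x j : Nat) : Bx (Nat → Nat → Nat) := mkH ep_2_L ep_2_pb.1 ep_2_e.get (lmap CW.w ep_2_hcs) (nat_lit 21) (nat_lit 22) (nat_lit 7) (nat_lit 32) (nat_lit 2048) (nat_lit 2047) x (ep_2_rots.get j)
noncomputable def ep_2_F (x b : Nat) : Bool := blkOK ep_2_H ep_2_ch (nat_lit 22) (nat_lit 32) (nat_lit 64) (nat_lit 8) (nat_lit 255) (nat_lit 16) (nat_lit 65535) x b

theorem ep_2_k0_0 : allFrom (ep_2_F (nat_lit 0)) (nat_lit 0) (nat_lit 4) = true := by decide +kernel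
theorem ep_2_k1_0 : allFrom (ep_2_F (nat_lit 1)) (nat_lit 0) (nat_lit 4) = true := by decide +kernel
theorem ep_2_k2_0 : allFrom (ep_2_F (nat_lit 2)) (nat_lit 0) (nat_lit 4) = true := by decide +kernel
theorem ep_2_k3_0 : allFrom (ep_2_F (nat_lit 3)) (nat_lit 0) (nat_lit 4) = true := by decide +kernel
theorem ep_2_k4_0 : allFrom (ep_2_F (nat_lit 4)) (nat_lit 0) (nat_lit 4) = true := by decide +kernel
theorem ep_2_k5_0 : allFrom (ep_2_F (nat_lit 5)) (nat_lit 0) (nat_lit 4) = true := by decide +kernel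
theorem ep_2_k6_0 : allFrom (ep_2_F (nat_lit 6)) (nat_lit 0) (nat_lit 4) = true := by decide +kernel

noncomputable def Kc3_0 : Net := (Net.cons (nat_lit 1) (nat_lit 5140) (Net.cons (nat_lit 2) (nat_lit 65569) (Net.cons (nat_lit 4) (nat_lit 66818) (Net.cons (nat_lit 8) (nat_lit 24) (Net.cons (nat_lit 16) (nat_lit 27) (Net.cons (nat_lit 8) (nat_lit 88) (Net.cons (nat_lit 4) (nat_lit 67338) (Net.cons (nat_lit 2) (nat_lit 69665) (Net.cons (nat_lit 1) (nat_lit 5140) Net.nil)))))))))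
noncomputable def Kc3_1 : Net := (Net.cons (nat_lit 1) (nat_lit 333072) (Net.cons (nat_lit 2) (nat_lit 512) (Net.cons (nat_lit 4) (nat_lit 512) (Net.cons (nat_lit 8) (nat_lit 10) (Net.cons (nat_lit 16) (nat_lit 26) (Net.cons (nat_lit 8) (nat_lit 154) (Net.cons (nat_lit 4) (nat_lit 67076) (Net.cons (nat_lit 2) (nat_lit 8992) (Net.cons (nat_lit 1) (nat_lit 1284) Net.nil)))))))))
noncomputable def Kc3_2 : Net := (Net.cons (nat_lit 1) (nat_lit 349188) (Net.cons (nat_lit 2) (nat_lit 200960) (Net.cons (nat_lit 4) (nat_lit 67072) (Net.cons (nat_lit 8) (nat_lit 7) (Net.cons (nat_lit 16) (nat_lit 23) (Net.cons (nat_lit 8) (nat_lit 143) (Net.cons (nat_lit 4) (nat_lit 67076) (Net.cons (nat_lit 2) (nat_lit 200960) (Net.cons (nat_lit 1) (nat_lit 349444) Net.nil)))))))))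
noncomputable def Kc3_3 : Net := (Net.cons (nat_lit 1) (nat_lit 83280) (Net.cons (nat_lit 2) (nat_lit 131584) (Net.cons (nat_lit 4) (nat_lit 2304) (Net.cons (nat_lit 8) (nat_lit 9) (Net.cons (nat_lit 16) (nat_lit 9) (Net.cons (nat_lit 8) (nat_lit 59) (Net.cons (nat_lit 4) (nat_lit 3336) (Net.cons (nat_lit 2) (nat_lit 131584) (Net.cons (nat_lit 1) (nat_lit 345424) Net.nil)))))))))
noncomputable def Kc3_4 : Net := (Net.cons (nat_lit 1) (nat_lit 344128) (Net.cons (nat_lit 2) (nat_lit 512) (Net.cons (nat_lit 4) (nat_lit 66566) (Net.cons (nat_lit 8) (nat_lit 8) (Net.cons (nat_lit 16) (nat_lit 30) (Net.cons (nat_lit 8) (nat_lit 72) (Net.cons (nat_lit 4) (nat_lit 66822) (Net.cons (nat_lit 2) (nat_lit 74256) (Net.cons (nat_lit 1) (nat_lit 344129) Net.nil)))))))))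
noncomputable def Kc3 : List Net := [Kc3_0, Kc3_1, Kc3_2, Kc3_3, Kc3_4]
noncomputable def Ac3 : List Nat := [(nat_lit 282752),
  (nat_lit 1066016),
  (nat_lit 1836296),
  (nat_lit 0),
  (nat_lit 16820),
  full (nat_lit 21)]

noncomputable def Bc3 : List Nat := [(nat_lit 140032),
  (nat_lit 38914),
  (nat_lit 254115),
  (nat_lit 0),
  (nat_lit 734208),
  (nat_lit 0)]

noncomputable def Kc4_0 : Net := (Net.cons (nat_lit 1) (nat_lit 0x50555104110010510015015100) (Net.cons (nat_lit 2) (nat_lit 0x1002002213220000200003020110) (Net.cons (nat_lit 4) (nat_lit 0x20d020d0404000108030b000200) (Net.cons (nat_lit 8) (nat_lit 0xc8000c00800003008600100000) (Net.cons (nat_lit 16) (nat_lit 0xc812000000df00000000) (Net.cons (nat_lit 32) (nat_lit 3355443200) (Net.cons (nat_lit 64) (nat_lit 3355443200) (Net.cons (nat_lit 32) (nat_lit 0xc81200000000c8df1000) (Net.cons (nat_lit 16) (nat_lit 0xfcfa000003df00009310)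 (Net.cons (nat_lit 8) (nat_lit 0xe800850009000300f200200074) (Net.cons (nat_lit 4) (nat_lit 0xb050a050c0c0a010c070f040208) (Net.cons (nat_lit 2) (nat_lit 0x1012002213320001200003020110) (Net.cons (nat_lit 1) (nat_lit 0x1050555104110010510015015101) Net.nil)))))))))))))
noncomputable def Kc4_1 : Net := (Net.cons (nat_lit 1) (nat_lit 0x140514000005000404055400104) (Net.cons (nat_lit 2) (nat_lit 0x2102020101230001203312200000) (Net.cons (nat_lit 4) (nat_lit 0x90f0804010600020c0606080c00) (Net.cons (nat_lit 8) (nat_lit 0xc0050001a002200590000) (Net.cons (nat_lit 16) (nat_lit 0x313f0000480600000008) (Net.cons (nat_lit 32) (nat_lit 0x40000000000020180000) (Net.cons (nat_lit 64) (nat_lit 0x400020180000) (Net.cons (nat_lit 32) (nat_lit 0x513f00000000601e2808) (Net.cons (nat_lit 16) (nat_lit 0x3bba0000520700002ff8) (Net.cons (nat_lit 8) (nat_lit 0xc003000b0001a00e8000800fc) (Net.cons (nat_lit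 4) (nat_lit 0xa000904090d0e00060604030206) (Net.cons (nat_lit 2) (nat_lit 0x2221303110202212032121323123) (Net.cons (nat_lit 1) (nat_lit 0x100515450105500414010105550) Net.nil)))))))))))))
noncomputable def Kc4_2 : Net := (Net.cons (nat_lit 1) (nat_lit 0x4500510440050041100504054004) (Net.cons (nat_lit 2) (nat_lit 0x212021002212020010230301220) (Net.cons (nat_lit 4) (nat_lit 0x2000c080c090000040303030100) (Net.cons (nat_lit 8) (nat_lit 0x1000000010000a002300000000) (Net.cons (nat_lit 16) (nat_lit 0xb1690000040300000000) (Net.cons (nat_lit 32) (nat_lit 2416443392) (Net.cons (nat_lit 64) (nat_lit 2416443392) (Net.cons (nat_lit 32) (nat_lit 0x316100000000940b2100) (Net.cons (nat_lit 16) (nat_lit 0xfbeb00000ea300005250) (Net.cons (nat_lit 8) (nat_lit 0x1000040014000a00bb00000088) (Net.cons (nat_lit 4) (nat_lit 0xe080c080c0902080c0f03030102) (Net.cons (nat_lit 2) (nat_lit 0x212021002312131010230321221)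 (Net.cons (nat_lit 1) (nat_lit 0x5514551444050041100504054004) Net.nil)))))))))))))
noncomputable def Kc4_3 : Net := (Net.cons (nat_lit 1) (nat_lit 0x5115450005554404404014550540) (Net.cons (nat_lit 2) (nat_lit 0x1110120302210000120211222020) (Net.cons (nat_lit 4) (nat_lit 0xe0f05010300000d0001040f0c00) (Net.cons (nat_lit 8) (nat_lit 0x880000000a008500a000860000) (Net.cons (nat_lit 16) (nat_lit 0x6aa10000001c00004880) (Net.cons (nat_lit 32) (nat_lit 1786773504) (Net.cons (nat_lit 64) (nat_lit 1786773504) (Net.cons (nat_lit 32) (nat_lit 0x6aa1000000006a9c6880) (Net.cons (nat_lit 16) (nat_lit 0x7eb30000851c0000dfc0) (Net.cons (nat_lit 8) (nat_lit 0x8c00a8000b008500aa009a004c) (Net.cons (nat_lit 4) (nat_lit 0xd050f090304000f0001040b0807) (Net.cons (nat_lit 2) (nat_lit 0x1333102302210101121301233020) (Net.cons (nat_lit 1) (nat_lit 0x5115450005554404404014550540) Net.nil)))))))))))))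
noncomputable def Kc4_4 : Net := (Net.cons (nat_lit 1) (nat_lit 0x5454550000044010400444150) (Net.cons (nat_lit 2) (nat_lit 0x1002220001103002311203033200) (Net.cons (nat_lit 4) (nat_lit 0x40b050a04080000010b00010000) (Net.cons (nat_lit 8) (nat_lit 0xc0004400900002000300430000) (Net.cons (nat_lit 16) (nat_lit 0xbc700000012200000000) (Net.cons (nat_lit 32) (nat_lit 0x200000000bc000000) (Net.cons (nat_lit 64) (nat_lit 0x2bc000000) (Net.cons (nat_lit 32) (nat_lit 0x807200000000bd229000) (Net.cons (nat_lit 16) (nat_lit 0xfff500000322000097e0) (Net.cons (nat_lit 8) (nat_lit 0xc000e8000c000200b20050006e) (Net.cons (nat_lit 4) (nat_lit 0x50f050a0c080d00020e0f020d07) (Net.cons (nat_lit 2) (nat_lit 0x1020020221102112111021031002) (Net.cons (nat_lit 1) (nat_lit 0x5054100544445410500454150) Net.nil)))))))))))))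
noncomputable def Kc4 : List Net := [Kc4_0, Kc4_1, Kc4_2, Kc4_3, Kc4_4]
noncomputable def Ac4 : List Nat := [(nat_lit 0x8842423000100800010042080000),
  (nat_lit 0x1840f7069040110041405120),
  (nat_lit 0x71d221e431d44040150076781644),
  (nat_lit 0x52d4a8758560300d0044404a5100),
  (nat_lit 0xba5b037320b10000000026080000),
  (nat_lit 0xffffffffffffff),
  (nat_lit 0xffffffffffffff00000000000000)]

noncomputable def Bc4 : List Nat := [(nat_lit 0x8024ca09c6a189d808544282000),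
  (nat_lit 0xf00be40ac0410eeb039cc60cd80),
  (nat_lit 0xf1aa1789f4092b7333893919fc53),
  (nat_lit 0x26dd5cf4a76ae72a6040822a4120),
  (nat_lit 0xe434420667b1ef4c2820ac800800),
  (nat_lit 0),
  (nat_lit 0)]


end CF.Schur.L34
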