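import Cfsg.Agent.Schur.Pc
import Cfsg.Agent.Comp.Mat

/-! Upper bounds for the multipliers of the Mathieu groups. -/

set_option autoImplicit false
set_option maxRecDepth 1000000
set_option maxHeartbeats 0

namespace CF.Schur.Mat

open CF.Comp CF.Comp.Mat CF.Schur.Pc Cfsg Cfsg.Spor

theorem same_el {nets : List Net} (h : Reps D0 nets (el nets)) (u w : List ℕ) (hc : sameW nets 24 5 u w = true) :
    ev (el nets) u = ev (el nets) w :=
  h.eq_of_sameW k5 (D0_full.faithful ⊤) trivial trivial hc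

instance finiteM11 : Finite M11 := Nat.finite_of_card_ne_zero (by rw [card_M11]; decide)

noncomputable def NM11x2_0 : Net := (Net.cons (nat_lit 1) (nat_lit 266256) (Net.cons (nat_lit 2) (nat_lit 3211264) (Net.cons (nat_lit 4) (nat_lit 1536) (Net.cons (nat_lit 8) (nat_lit 64) (Net.cons (nat_lit 16) (nat_lit 92) (Net.cons (nat_lit 8) (nat_lit 194) (Net.cons (nat_lit 4) (nat_lit 132864) (Net.cons (nat_lit 2) (nat_lit 3211264) (Net.cons (nat_lit 1) (nat_lit 266256) Net.nil)))))))))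
noncomputable def NM11x2_1 : Net := (Net.cons (nat_lit 1) (nat_lit 1364) (Net.cons (nat_lit 2) (nat_lit 1245184) (Net.cons (nat_lit 4) (nat_lit 524288) (Net.cons (nat_lit 8) (nat_lit 134) (Net.cons (nat_lit 16) (nat_lit 134) (Net.cons (nat_lit 8) (nat_lit 244) (Net.cons (nat_lit 4) (nat_lit 265226) (Net.cons (nat_lit 2) (nat_lit 2166832) (Net.cons (nat_lit 1) (nat_lit 5313812) Net.nil)))))))))
noncomputable def NM11x2_2 : Net := (Net.cons (nat_lit 1) (nat_lit 4539396) (Net.cons (nat_lit 2) (nat_lit 2175264) (Net.cons (nat_lit 4) (nat_lit 263680) (Net.cons (nat_lit 8) (nat_lit 7) (Net.cons (nat_lit 16) (nat_lit 167) (Net.cons (nat_lit 8) (nat_lit 213) (Net.cons (nat_lit 4) (nat_lit 198144) (Net.cons (nat_lit 2) (nat_lit 65810) (Net.cons (nat_lit 1) (nat_lit 4476996) Net.nil)))))))))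
noncomputable def NM11x2_3 : Net := (Net.cons (nat_lit 1) (nat_lit 82176) (Net.cons (nat_lit 2) (nat_lit 1052672) (Net.cons (nat_lit 4) (nat_lit 66560) (Net.cons (nat_lit 8) (nat_lit 88) (Net.cons (nat_lit 16) (nat_lit 218) (Net.cons (nat_lit 8) (nat_lit 92) (Net.cons (nat_lit 4) (nat_lit 67072) (Net.cons (nat_lit 2) (nat_lit 1052688) (Net.cons (nat_lit 1) (nat_lit 82176) Net.nil)))))))))
noncomputable def NM11x2_4 : Net := (Net.cons (nat_lit 1) (nat_lit 5525840) (Net.cons (nat_lit 2) (nat_lit 8960) (Net.cons (nat_lit 4) (nat_lit 786944) (Net.cons (nat_lit 8) (nat_lit 97) (Net.cons (nat_lit 16) (nat_lit 227) (Net.cons (nat_lit 8) (nat_lit 185) (Net.cons (nat_lit 4) (nat_lit 787210) (Net.cons (nat_lit 2) (nat_lit 2171698) (Net.cons (nat_lit 1) (nat_lit 5587216) Net.nil)))))))))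
noncomputable def NM11x2_5 : Net := (Net.cons (nat_lit 1) (nat_lit 5509136) (Net.cons (nat_lit 2) (nat_lit 1257728) (Net.cons (nat_lit 4) (nat_lit 512) (Net.cons (nat_lit 8) (nat_lit 2) (Net.cons (nat_lit 16) (nat_lit 158) (Net.cons (nat_lit 8) (nat_lit 178) (Net.cons (nat_lit 4) (nat_lit 131342) (Net.cons (nat_lit 2) (nat_lit 3215618) (Net.cons (nat_lit 1) (nat_lit 1331216) Net.nil)))))))))
noncomputable def NM11x2 : List Net := [NM11x2_0, NM11x2_1, NM11x2_2, NM11x2_3, NM11x2_4, NM11x2_5]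

noncomputable def PM11x2 : Dat := ⟨(nat_lit 2), (nat_lit 4), (nat_lit 6), (nat_lit 4), (nat_lit 14),
  (BT.node (nat_lit 5) (BT.node (nat_lit 2) (BT.node (nat_lit 1) (BT.leaf []) (BT.leaf [(nat_lit 1), (nat_lit 2)])) (BT.node (nat_lit 3) (BT.leaf [(nat_lit 3)]) (BT.node (nat_lit 4) (BT.leaf [(nat_lit 2), (nat_lit 3)]) (BT.leaf [(nat_lit 2), (nat_lit 3)])))) (BT.node (nat_lit 7) (BT.node (nat_lit 6) (BT.leaf [(nat_lit 3)]) (BT.leaf [(nat_lit 3)])) (BT.node (nat_lit 8) (BT.leaf [(nat_lit 3)]) (BT.node (nat_lit 9) (BT.leaf [(nat_lit 3)]) (BT.leaf []))))),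
  [⟨(nat_lit 0), [(nat_lit 3)], [(nat_lit 0)]⟩,
  ⟨(nat_lit 1), [(nat_lit 2)], [(nat_lit 1), (nat_lit 3)]⟩,
  ⟨(nat_lit 1), [(nat_lit 3)], [(nat_lit 3)]⟩,
  ⟨(nat_lit 1), [(nat_lit 1)], [(nat_lit 1), (nat_lit 2), (nat_lit 3)]⟩]⟩

noncomputable def XM11x2_0 : List Test := [⟨(nat_lit 1), [(nat_lit 0), (nat_lit 0)], [], (nat_lit 0x1040000000000001000000)⟩,
  ⟨(nat_lit 0), [(nat_lit 1)], [(nat_lit 1), (nat_lit 1)], (nat_lit 0x1000040000000000000000)⟩,
  ⟨(nat_lit 0), [(nat_lit 2)], [(nat_lit 2), (nat_lit 2)], (nat_lit 0x1001000000000000000000)⟩,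
  ⟨(nat_lit 2), [(nat_lit 1), (nat_lit 1)], [(nat_lit 2)], (nat_lit 0x1040040040001000001000)⟩,
  ⟨(nat_lit 0), [(nat_lit 2)], [(nat_lit 0), (nat_lit 0)], (nat_lit 0x1040001000000000000000)⟩,
  ⟨(nat_lit 0), [(nat_lit 1)], [(nat_lit 0), (nat_lit 0)], (nat_lit 0x1040000040040000000000)⟩,
  ⟨(nat_lit 0), [(nat_lit 2)], [(nat_lit 1), (nat_lit 1)], (nat_lit 0x1041040000000000000000)⟩,
  ⟨(nat_lit 2), [(nat_lit 3), (nat_lit 3)], [(nat_lit 2)], (nat_lit 0x1000040041000000001000)⟩,
  ⟨(nat_lit 0), [(nat_lit 1)], [(nat_lit 1), (nat_lit 0)], (nat_lit 0x1041001041000000000000)⟩]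

noncomputable def cM11x2 : Cert := ⟨PM11x2, (nat_lit 0), XM11x2_0,
  [],
  [(nat_lit 0),
  (nat_lit 0),
  (nat_lit 0x1000000000000040000000),
  (nat_lit 0x1000000000001000000000)],
  (BT.node (nat_lit 5) (BT.node (nat_lit 2) (BT.node (nat_lit 1) (BT.leaf (nat_lit 71)) (BT.leaf (nat_lit 0))) (BT.node (nat_lit 3) (BT.leaf (nat_lit 0)) (BT.node (nat_lit 4) (BT.leaf (nat_lit 444)) (BT.leaf (nat_lit 206))))) (BT.node (nat_lit 7) (BT.node (nat_lit 6) (BT.leaf (nat_lit 474)) (BT.leaf (nat_lit 86))) (BT.node (nat_lit 8) (BT.leaf (nat_lit 2)) (BT.node (nat_lit 9) (BT.leaf (nat_lit 4)) (BT.leaf (nat_lit 70))))))⟩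

theorem okM11x2 : cM11x2.OK := Cert.ok_of_check (by decide) (by decide +kernel)

noncomputable def LM11x2 : List Lvl := [⟨(nat_lit 1), [[(nat_lit 3)],
  [(nat_lit 5)],
  [(nat_lit 7)]], (nat_lit 1)⟩,
  ⟨(nat_lit 2), [[(nat_lit 1), (nat_lit 5)]], (nat_lit 1)⟩]

noncomputable def gM11x2 : List (List Nat) := [[(nat_lit 9)],
  [(nat_lit 11)]]

theorem pbdM11x2 : PBd M11 2 1 := by
  have h : Reps D0 NM11x2 (el NM11x2) := reps_el (by decide +kernel)
  have hm : ∀ i, el NM11x2 i ∈ M11 := el_mem (m := 6) rfl (mem_M11_of h (by decide +kernel) (by decide +kernel) (by decide +kernel))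
  exact okM11x2.pbd (holds_sub (same_el h) (o := 0) (gs := gM11x2) (allFrom_zero.1 (by decide +kernel))
    (by decide +kernel) hm) (low_sub h (by decide) (c := LM11x2) (by decide +kernel) hm) card_M11 (by decide) rfl rfl

noncomputable def NM11x3_0 : Net := (Net.cons (nat_lit 1) (nat_lit 345172) (Net.cons (nat_lit 2) (nat_lit 2228480) (Net.cons (nat_lit 4) (nat_lit 983296) (Net.cons (nat_lit 8) (nat_lit 24) (Net.cons (nat_lit 16) (nat_lit 120) (Net.cons (nat_lit 8) (nat_lit 8) (Net.cons (nat_lit 4) (nat_lit 723722) (Net.cons (nat_lit 2) (nat_lit 2228480) (Net.cons (nat_lit 1) (nat_lit 345424) Net.nil)))))))))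
noncomputable def NM11x3_1 : Net := (Net.cons (nat_lit 1) (nat_lit 4456772) (Net.cons (nat_lit 2) (nat_lit 1061136) (Net.cons (nat_lit 4) (nat_lit 590336) (Net.cons (nat_lit 8) (nat_lit 131) (Net.cons (nat_lit 16) (nat_lit 163) (Net.cons (nat_lit 8) (nat_lit 47) (Net.cons (nat_lit 4) (nat_lit 723214) (Net.cons (nat_lit 2) (nat_lit 13104) (Net.cons (nat_lit 1) (nat_lit 5521732) Net.nil)))))))))
noncomputable def NM11x3_2 : Net := (Net.cons (nat_lit 1) (nat_lit 4194624) (Net.cons (nat_lit 2) (nat_lit 512) (Net.cons (nat_lit 4) (nat_lit 3328) (Net.cons (nat_lit 8) (nat_lit 67) (Net.cons (nat_lit 16) (nat_lit 71) (Net.cons (nat_lit 8) (nat_lit 211) (Net.cons (nat_lit 4) (nat_lit 3328) (Net.cons (nat_lit 2) (nat_lit 512) (Net.cons (nat_lit 1) (nat_lit 5259584) Net.nil)))))))))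
noncomputable def NM11x3_3 : Net := (Net.cons (nat_lit 1) (nat_lit 1115456) (Net.cons (nat_lit 2) (nat_lit 1180432) (Net.cons (nat_lit 4) (nat_lit 920832) (Net.cons (nat_lit 8) (nat_lit 74) (Net.cons (nat_lit 16) (nat_lit 122) (Net.cons (nat_lit 8) (nat_lit 154) (Net.cons (nat_lit 4) (nat_lit 984844) (Net.cons (nat_lit 2) (nat_lit 3285264) (Net.cons (nat_lit 1) (nat_lit 83264) Net.nil)))))))))
noncomputable def NM11x3 : List Net := [NM11x3_0, NM11x3_1, NM11x3_2, NM11x3_3]

noncomputable def PM11x3 : Dat := ⟨(nat_lit 3), (nat_lit 2), (nat_lit 6), (nat_lit 3), (nat_lit 6),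
  (BT.node (nat_lit 1) (BT.leaf []) (BT.node (nat_lit 2) (BT.leaf [(nat_lit 1)]) (BT.leaf []))),
  [⟨(nat_lit 0), [(nat_lit 1)], [(nat_lit 1), (nat_lit 1)]⟩,
  ⟨(nat_lit 1), [(nat_lit 1)], [(nat_lit 0), (nat_lit 1)]⟩,
  ⟨(nat_lit 0), [(nat_lit 0)], [(nat_lit 0), (nat_lit 1), (nat_lit 1)]⟩]⟩

noncomputable def XM11x3_0 : List Test := [⟨(nat_lit 1), [(nat_lit 0), (nat_lit 0), (nat_lit 0)], [], (nat_lit 0x1040000000)⟩,
  ⟨(nat_lit 2), [(nat_lit 1), (nat_lit 1), (nat_lit 1)], [], (nat_lit 0x1000040000)⟩,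
  ⟨(nat_lit 1), [(nat_lit 0), (nat_lit 2)], [(nat_lit 2), (nat_lit 0)], (nat_lit 0x1001000000)⟩]

noncomputable def cM11x3 : Cert := ⟨PM11x3, (nat_lit 0), XM11x3_0,
  [],
  [(nat_lit 0),
  (nat_lit 0)],
  (BT.node (nat_lit 1) (BT.leaf (nat_lit 6)) (BT.node (nat_lit 2) (BT.leaf (nat_lit 18)) (BT.leaf (nat_lit 2))))⟩

theorem okM11x3 : cM11x3.OK := Cert.ok_of_check (by decide) (by decide +kernel)

noncomputable def LM11x3 : List Lvl := [⟨(nat_lit 1), [[(nat_lit 1), (nat_lit 3), (nat_lit 3)],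
  [(nat_lit 1), (nat_lit 3), (nat_lit 3)],
  [(nat_lit 3)],
  [(nat_lit 3)]], (nat_lit 1)⟩]

noncomputable def gM11x3 : List (List Nat) := [[(nat_lit 5)],
  [(nat_lit 7)]]

theorem pbdM11x3 : PBd M11 3 1 := by
  have h : Reps D0 NM11x3 (el NM11x3) := reps_el (by decide +kernel)
  have hm : ∀ i, el NM11x3 i ∈ M11 := el_mem (m := 4) rfl (mem_M11_of h (by decide +kernel) (by decide +kernel) (by decide +kernel))
  exact okM11x3.pbd (holds_sub (same_el h) (o := 0) (gs := gM11x3) (allFrom_zero.1 (by decide +kernel))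
    (by decide +kernel) hm) (low_sub h (by decide) (c := LM11x3) (by decide +kernel) hm) card_M11 (by decide) rfl rfl

theorem multM11 : Nat.card (Mult M11) ≤ 1 :=
  card_mult_le (b := 23) (k := 10) card_M11 [(2, 1), (3, 1)] (by decide +kernel) (by
    simp only [List.mem_cons, List.not_mem_nil, or_false, forall_eq_or_imp, forall_eq]
    exact ⟨⟨Nat.prime_two, pbdM11x2⟩, Nat.prime_three, pbdM11x3⟩)

instance finiteM12 : Finite M12 := Nat.finite_of_card_ne_zero (by rw [card_M12]; decide)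

noncomputable def NM12x2_0 : Net := (Net.cons (nat_lit 1) (nat_lit 5570560) (Net.cons (nat_lit 2) (nat_lit 3150096) (Net.cons (nat_lit 4) (nat_lit 786432) (Net.cons (nat_lit 8) (nat_lit 1) (Net.cons (nat_lit 16) (nat_lit 165) (Net.cons (nat_lit 8) (nat_lit 1) (Net.cons (nat_lit 4) (nat_lit 1548) (Net.cons (nat_lit 2) (nat_lit 1052976) (Net.cons (nat_lit 1) (nat_lit 4259860) Net.nil)))))))))
noncomputable def NM12x2_1 : Net := (Net.cons (nat_lit 1) (nat_lit 328704) (Net.cons (nat_lit 2) (nat_lit 1183776) (Net.cons (nat_lit 4) (nat_lit 3328) (Net.cons (nat_lit 8) (nat_lit 12) (Net.cons (nat_lit 16) (nat_lit 142) (Net.cons (nat_lit 8) (nat_lit 178) (Net.cons (nat_lit 4) (nat_lit 590341) (Net.cons (nat_lit 2) (nat_lit 1049363) (Net.cons (nat_lit 1) (nat_lit 1119248) Net.nil)))))))))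
noncomputable def NM12x2_2 : Net := (Net.cons (nat_lit 1) (nat_lit 4194624) (Net.cons (nat_lit 2) (nat_lit 512) (Net.cons (nat_lit 4) (nat_lit 3328) (Net.cons (nat_lit 8) (nat_lit 67) (Net.cons (nat_lit 16) (nat_lit 71) (Net.cons (nat_lit 8) (nat_lit 211) (Net.cons (nat_lit 4) (nat_lit 3328) (Net.cons (nat_lit 2) (nat_lit 512) (Net.cons (nat_lit 1) (nat_lit 5259584) Net.nil)))))))))
noncomputable def NM12x2_3 : Net := (Net.cons (nat_lit 1) (nat_lit 4457488) (Net.cons (nat_lit 2) (nat_lit 139264) (Net.cons (nat_lit 4) (nat_lit 854528) (Net.cons (nat_lit 8) (nat_lit 132) (Net.cons (nat_lit 16) (nat_lit 212) (Net.cons (nat_lit 8) (nat_lit 172) (Net.cons (nat_lit 4) (nat_lit 854784) (Net.cons (nat_lit 2) (nat_lit 204816) (Net.cons (nat_lit 1) (nat_lit 5506064) Net.nil)))))))))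
noncomputable def NM12x2_4 : Net := (Net.cons (nat_lit 1) (nat_lit 4280644) (Net.cons (nat_lit 2) (nat_lit 2236944) (Net.cons (nat_lit 8) (nat_lit 44) (Net.cons (nat_lit 16) (nat_lit 45) (Net.cons (nat_lit 8) (nat_lit 249) (Net.cons (nat_lit 4) (nat_lit 265217) (Net.cons (nat_lit 2) (nat_lit 2306819) (Net.cons (nat_lit 1) (nat_lit 4265285) Net.nil))))))))
noncomputable def NM12x2_5 : Net := (Net.cons (nat_lit 1) (nat_lit 4195328) (Net.cons (nat_lit 2) (nat_lit 131088) (Net.cons (nat_lit 4) (nat_lit 66560) (Net.cons (nat_lit 8) (nat_lit 72) (Net.cons (nat_lit 16) (nat_lit 220) (Net.cons (nat_lit 8) (nat_lit 72) (Net.cons (nat_lit 4) (nat_lit 66816) (Net.cons (nat_lit 2) (nat_lit 131088) (Net.cons (nat_lit 1) (nat_lit 4211713) Net.nil)))))))))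
noncomputable def NM12x2_6 : Net := (Net.cons (nat_lit 1) (nat_lit 5570816) (Net.cons (nat_lit 2) (nat_lit 1191952) (Net.cons (nat_lit 4) (nat_lit 132608) (Net.cons (nat_lit 8) (nat_lit 12) (Net.cons (nat_lit 16) (nat_lit 188) (Net.cons (nat_lit 8) (nat_lit 160) (Net.cons (nat_lit 4) (nat_lit 593412) (Net.cons (nat_lit 2) (nat_lit 1257520) (Net.cons (nat_lit 1) (nat_lit 5244244) Net.nil)))))))))
noncomputable def NM12x2_7 : Net := (Net.cons (nat_lit 1) (nat_lit 345088) (Net.cons (nat_lit 2) (nat_lit 1126400) (Net.cons (nat_lit 4) (nat_lit 3584) (Net.cons (nat_lit 8) (nat_lit 194) (Net.cons (nat_lit 16) (nat_lit 235) (Net.cons (nat_lit 8) (nat_lit 110) (Net.cons (nat_lit 4) (nat_lit 264451) (Net.cons (nat_lit 2) (nat_lit 3154224) (Net.cons (nat_lit 1) (nat_lit 5525573) Net.nil)))))))))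
noncomputable def NM12x2 : List Net := [NM12x2_0, NM12x2_1, NM12x2_2, NM12x2_3, NM12x2_4, NM12x2_5, NM12x2_6, NM12x2_7]

noncomputable def PM12x2 : Dat := ⟨(nat_lit 2), (nat_lit 6), (nat_lit 9), (nat_lit 8), (nat_lit 29),
  (BT.node (nat_lit 10) (BT.node (nat_lit 5) (BT.node (nat_lit 2) (BT.node (nat_lit 1) (BT.leaf []) (BT.leaf [(nat_lit 1)])) (BT.node (nat_lit 3) (BT.leaf []) (BT.node (nat_lit 4) (BT.leaf [(nat_lit 2), (nat_lit 3)]) (BT.leaf [(nat_lit 2), (nat_lit 4)])))) (BT.node (nat_lit 7) (BT.node (nat_lit 6) (BT.leaf []) (BT.leaf [(nat_lit 3)])) (BT.node (nat_lit 8) (BT.leaf [(nat_lit 3), (nat_lit 5)]) (BT.node (nat_lit 9) (BT.leaf [(nat_lit 3)]) (BT.leaf []))))) (BT.node (nat_lit 15) (BT.node (nat_lit 12) (BT.node (nat_lit 11) (BT.leaf [(nat_lit 4), (nat_lit 5)]) (BT.leaf [(nat_lit 4), (nat_lit 5)])) (BT.node (nat_lit 13) (BT.leaf [(nat_lit 4), (nat_lit 5)]) (BT.node (nat_lit 14) (BT.leaf [(nat_lit 4)]) (BT.leaf [(nat_lit 5)])))) (BT.node (nat_lit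 18) (BT.node (nat_lit 16) (BT.leaf [(nat_lit 5)]) (BT.node (nat_lit 17) (BT.leaf [(nat_lit 5)]) (BT.leaf [(nat_lit 5)]))) (BT.node (nat_lit 19) (BT.leaf [(nat_lit 5)]) (BT.node (nat_lit 20) (BT.leaf [(nat_lit 5)]) (BT.leaf [])))))),
  [⟨(nat_lit 0), [(nat_lit 3)], [(nat_lit 0)]⟩,
  ⟨(nat_lit 1), [(nat_lit 3)], [(nat_lit 5)]⟩,
  ⟨(nat_lit 0), [(nat_lit 0)], [(nat_lit 0), (nat_lit 3)]⟩,
  ⟨(nat_lit 1), [(nat_lit 0)], [(nat_lit 2), (nat_lit 3)]⟩,
  ⟨(nat_lit 1), [(nat_lit 5)], [(nat_lit 3), (nat_lit 5)]⟩,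
  ⟨(nat_lit 0), [(nat_lit 4)], [(nat_lit 1), (nat_lit 3)]⟩,
  ⟨(nat_lit 0), [(nat_lit 5)], [(nat_lit 5)]⟩,
  ⟨(nat_lit 1), [(nat_lit 2)], [(nat_lit 2), (nat_lit 4), (nat_lit 5)]⟩]⟩

noncomputable def XM12x2_0 : List Test := [⟨(nat_lit 1), [(nat_lit 0), (nat_lit 0)], [], (nat_lit 0x600000000000000000000000000600000000000000000001000000000000000002)⟩,
  ⟨(nat_lit 2), [(nat_lit 1), (nat_lit 1)], [], (nat_lit 0x601000000000000000000000000600000000000000000000000000000000000400)⟩,
  ⟨(nat_lit 1), [(nat_lit 2), (nat_lit 2)], [], (nat_lit 0x400000000000000000000000000200000040000000000000000000000000080000)⟩,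
  ⟨(nat_lit 2), [(nat_lit 3), (nat_lit 3)], [], (nat_lit 0x600000000000000000000000000201000000200000000003000000000010000000)⟩,
  ⟨(nat_lit 2), [(nat_lit 4), (nat_lit 4)], [], (nat_lit 0x400000040000000000000000000200000000000000000000000000002000000000)⟩,
  ⟨(nat_lit 0), [(nat_lit 4)], [(nat_lit 4), (nat_lit 4)], (nat_lit 0x200008000000000000000000000000000000000000000000000000000000000000)⟩,
  ⟨(nat_lit 0), [(nat_lit 3)], [(nat_lit 1), (nat_lit 1)], (nat_lit 0x401000000001000000000000000000010000000000000000000000000000000000)⟩,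
  ⟨(nat_lit 0), [(nat_lit 4)], [(nat_lit 0), (nat_lit 0)], (nat_lit 0x401000000000008000000000080000000000000000000000000000000000000000)⟩,
  ⟨(nat_lit 0), [(nat_lit 4)], [(nat_lit 1), (nat_lit 1)], (nat_lit 0x401000000001000000000010000000000000000000000000000000000000000000)⟩,
  ⟨(nat_lit 0), [(nat_lit 4)], [(nat_lit 2), (nat_lit 2)], (nat_lit 0x401000000200000000002000000000000000000000000000000000000000000000)⟩,
  ⟨(nat_lit 1), [(nat_lit 5), (nat_lit 5)], [(nat_lit 6)], (nat_lit 0x6000000400000000c00000000002000080000000000400000000c0400000000000)⟩,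
  ⟨(nat_lit 2), [(nat_lit 7), (nat_lit 7)], [], (nat_lit 0x402000000200000040001000000000000000000000000000010000000000000000)⟩,
  ⟨(nat_lit 0), [(nat_lit 2)], [(nat_lit 1), (nat_lit 1)], (nat_lit 0x401000000000000040000008000000000000002000000000000000000000000000)⟩,
  ⟨(nat_lit 0), [(nat_lit 4)], [(nat_lit 4), (nat_lit 3)], (nat_lit 0x400000040000000000400000000000000000000000000000000000000000000000)⟩,
  ⟨(nat_lit 1), [(nat_lit 5), (nat_lit 0)], [(nat_lit 0), (nat_lit 5)], (nat_lit 0x600000000000000000600000000000000040000000000200000000000000000000)⟩,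
  ⟨(nat_lit 0), [(nat_lit 2)], [(nat_lit 2), (nat_lit 0)], (nat_lit 0x600000000000000000000000000603000000000010000000000000000000000000)⟩,
  ⟨(nat_lit 1), [(nat_lit 5), (nat_lit 2)], [(nat_lit 2), (nat_lit 5), (nat_lit 6)], (nat_lit 0x6030000c00000000000000000c00000180400000000002000000c0000000000000)⟩,
  ⟨(nat_lit 0), [(nat_lit 3)], [(nat_lit 2), (nat_lit 1)], (nat_lit 0x600018000600000000200000000000000000000000000000000000000000000000)⟩,
  ⟨(nat_lit 0), [(nat_lit 2)], [(nat_lit 1), (nat_lit 0)], (nat_lit 0x600000000000000000600000040000018000000000000000000000000000000000)⟩]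

noncomputable def cM12x2 : Cert := ⟨PM12x2, (nat_lit 1), XM12x2_0,
  [⟨(nat_lit 0x600000000000000000000008000000018000000000000000000000000000000000), (nat_lit 2), (nat_lit 200704)⟩],
  [(nat_lit 0),
  (nat_lit 0),
  (nat_lit 0),
  (nat_lit 0x200000000000000000000000000000000000000008000000000000000000000000),
  (nat_lit 0x200000000000000000000000000000000000001000000000000000000000000000),
  (nat_lit 0x200000000000000000000000000000008000000000000000000000000000000000)],
  (BT.node (nat_lit 10) (BT.node (nat_lit 5) (BT.node (nat_lit 2) (BT.node (nat_lit 1) (BT.leaf (nat_lit 16418)) (BT.leaf (nat_lit 296012))) (BT.node (nat_lit 3) (BT.leaf (nat_lit 714785)) (BT.node (nat_lit 4) (BT.leaf (nat_lit 0)) (BT.leaf (nat_lit 0))))) (BT.node (nat_lit 7) (BT.node (nat_lit 6) (BT.leaf (nat_lit 81970)) (BT.leaf (nat_lit 16424))) (BT.node (nat_lit 8) (BT.leaf (nat_lit 0)) (BT.node (nat_lit 9) (BT.leaf (nat_lit 81952)) (BT.leaf (nat_lit 16416)))))) (BT.node (nat_lit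 15) (BT.node (nat_lit 12) (BT.node (nat_lit 11) (BT.leaf (nat_lit 803940)) (BT.leaf (nat_lit 1))) (BT.node (nat_lit 13) (BT.leaf (nat_lit 13313)) (BT.node (nat_lit 14) (BT.leaf (nat_lit 279652)) (BT.leaf (nat_lit 24613))))) (BT.node (nat_lit 18) (BT.node (nat_lit 16) (BT.leaf (nat_lit 16676)) (BT.node (nat_lit 17) (BT.leaf (nat_lit 16548)) (BT.leaf (nat_lit 17444)))) (BT.node (nat_lit 19) (BT.leaf (nat_lit 16384)) (BT.node (nat_lit 20) (BT.leaf (nat_lit 64)) (BT.leaf (nat_lit 16420)))))))⟩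

theorem okM12x2 : cM12x2.OK := Cert.ok_of_check (by decide) (by decide +kernel)

noncomputable def LM12x2 : List Lvl := [⟨(nat_lit 0), [[(nat_lit 3)],
  [(nat_lit 9)],
  [(nat_lit 11)]], (nat_lit 1)⟩,
  ⟨(nat_lit 3), [[(nat_lit 1)],
  [(nat_lit 7)]], (nat_lit 1)⟩,
  ⟨(nat_lit 2), [[(nat_lit 5)]], (nat_lit 1)⟩]

noncomputable def gM12x2 : List (List Nat) := [[(nat_lit 13)],
  [(nat_lit 15)]]

theorem pbdM12x2 : PBd M12 2 2 := by
  have h : Reps D0 NM12x2 (el NM12x2) := reps_el (by decide +kernel)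
  have hm : ∀ i, el NM12x2 i ∈ M12 := el_mem (m := 8) rfl (mem_M12_of h (by decide +kernel) (by decide +kernel))
  exact okM12x2.pbd (holds_sub (same_el h) (o := 0) (gs := gM12x2) (allFrom_zero.1 (by decide +kernel))
    (by decide +kernel) hm) (low_sub h (by decide) (c := LM12x2) (by decide +kernel) hm) card_M12 (by decide) rfl rfl

noncomputable def NM12x3_0 : Net := (Net.cons (nat_lit 1) (nat_lit 4457476) (Net.cons (nat_lit 2) (nat_lit 1249824) (Net.cons (nat_lit 8) (nat_lit 22) (Net.cons (nat_lit 16) (nat_lit 159) (Net.cons (nat_lit 8) (nat_lit 93) (Net.cons (nat_lit 4) (nat_lit 133888) (Net.cons (nat_lit 2) (nat_lit 4370) (Net.cons (nat_lit 1) (nat_lit 5521665) Net.nil))))))))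
noncomputable def NM12x3_1 : Net := (Net.cons (nat_lit 1) (nat_lit 86352) (Net.cons (nat_lit 2) (nat_lit 2171136) (Net.cons (nat_lit 4) (nat_lit 655872) (Net.cons (nat_lit 8) (nat_lit 11) (Net.cons (nat_lit 16) (nat_lit 111) (Net.cons (nat_lit 8) (nat_lit 14) (Net.cons (nat_lit 4) (nat_lit 198656) (Net.cons (nat_lit 2) (nat_lit 561) (Net.cons (nat_lit 1) (nat_lit 65877) Net.nil)))))))))
noncomputable def NM12x3_2 : Net := (Net.cons (nat_lit 1) (nat_lit 4277504) (Net.cons (nat_lit 2) (nat_lit 2162944) (Net.cons (nat_lit 4) (nat_lit 1024) (Net.cons (nat_lit 8) (nat_lit 4) (Net.cons (nat_lit 16) (nat_lit 6) (Net.cons (nat_lit 8) (nat_lit 86) (Net.cons (nat_lit 4) (nat_lit 790017) (Net.cons (nat_lit 2) (nat_lit 2162960) (Net.cons (nat_lit 1) (nat_lit 5328897) Net.nil)))))))))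
noncomputable def NM12x3_3 : Net := (Net.cons (nat_lit 1) (nat_lit 4194576) (Net.cons (nat_lit 2) (nat_lit 196608) (Net.cons (nat_lit 4) (nat_lit 264448) (Net.cons (nat_lit 8) (nat_lit 8) (Net.cons (nat_lit 16) (nat_lit 200) (Net.cons (nat_lit 8) (nat_lit 43) (Net.cons (nat_lit 4) (nat_lit 396544) (Net.cons (nat_lit 2) (nat_lit 196608) (Net.cons (nat_lit 1) (nat_lit 4194576) Net.nil)))))))))
noncomputable def NM12x3_4 : Net := (Net.cons (nat_lit 1) (nat_lit 4526080) (Net.cons (nat_lit 2) (nat_lit 2101520) (Net.cons (nat_lit 4) (nat_lit 131072) (Net.cons (nat_lit 8) (nat_lit 160) (Net.cons (nat_lit 16) (nat_lit 160) (Net.cons (nat_lit 8) (nat_lit 224) (Net.cons (nat_lit 4) (nat_lit 131329) (Net.cons (nat_lit 2) (nat_lit 3215632) (Net.cons (nat_lit 1) (nat_lit 4526084) Net.nil)))))))))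
noncomputable def NM12x3 : List Net := [NM12x3_0, NM12x3_1, NM12x3_2, NM12x3_3, NM12x3_4]

noncomputable def PM12x3 : Dat := ⟨(nat_lit 3), (nat_lit 3), (nat_lit 6), (nat_lit 4), (nat_lit 10),
  (BT.node (nat_lit 3) (BT.node (nat_lit 1) (BT.leaf []) (BT.node (nat_lit 2) (BT.leaf [(nat_lit 1), (nat_lit 2)]) (BT.leaf []))) (BT.node (nat_lit 4) (BT.leaf [(nat_lit 2)]) (BT.node (nat_lit 5) (BT.leaf [(nat_lit 2)]) (BT.leaf [])))),
  [⟨(nat_lit 0), [(nat_lit 0)], [(nat_lit 1), (nat_lit 2), (nat_lit 2)]⟩,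
  ⟨(nat_lit 0), [(nat_lit 2)], [(nat_lit 2), (nat_lit 2)]⟩,
  ⟨(nat_lit 1), [(nat_lit 0)], [(nat_lit 1), (nat_lit 1), (nat_lit 2)]⟩,
  ⟨(nat_lit 1), [(nat_lit 2)], [(nat_lit 2), (nat_lit 2)]⟩]⟩

noncomputable def XM12x3_0 : List Test := [⟨(nat_lit 1), [(nat_lit 0), (nat_lit 0), (nat_lit 0)], [], (nat_lit 0x2080001002000000)⟩,
  ⟨(nat_lit 1), [(nat_lit 1), (nat_lit 0)], [(nat_lit 0), (nat_lit 1)], (nat_lit 0x2002080000000000)⟩,
  ⟨(nat_lit 0), [(nat_lit 1)], [(nat_lit 0), (nat_lit 0), (nat_lit 0)], (nat_lit 0x1040000000000000)⟩,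
  ⟨(nat_lit 2), [(nat_lit 2), (nat_lit 2), (nat_lit 2)], [], (nat_lit 0x2040002002000000)⟩,
  ⟨(nat_lit 2), [(nat_lit 3), (nat_lit 2)], [(nat_lit 2), (nat_lit 3)], (nat_lit 0x2001080000000000)⟩]

noncomputable def cM12x3 : Cert := ⟨PM12x3, (nat_lit 0), XM12x3_0,
  [],
  [(nat_lit 0),
  (nat_lit 0),
  (nat_lit 0x1000000040000000)],
  (BT.node (nat_lit 3) (BT.node (nat_lit 1) (BT.leaf (nat_lit 56)) (BT.node (nat_lit 2) (BT.leaf (nat_lit 0)) (BT.leaf (nat_lit 73)))) (BT.node (nat_lit 4) (BT.leaf (nat_lit 168)) (BT.node (nat_lit 5) (BT.leaf (nat_lit 87)) (BT.leaf (nat_lit 18)))))⟩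

theorem okM12x3 : cM12x3.OK := Cert.ok_of_check (by decide) (by decide +kernel)

noncomputable def LM12x3 : List Lvl := [⟨(nat_lit 0), [[(nat_lit 3), (nat_lit 5), (nat_lit 5)],
  [(nat_lit 3), (nat_lit 5), (nat_lit 5)],
  [(nat_lit 5)],
  [(nat_lit 5)]], (nat_lit 1)⟩,
  ⟨(nat_lit 1), [[(nat_lit 1), (nat_lit 3)],
  [(nat_lit 1), (nat_lit 3)]], (nat_lit 1)⟩]

noncomputable def gM12x3 : List (List Nat) := [[(nat_lit 7)],
  [(nat_lit 9)]]

theorem pbdM12x3 : PBd M12 3 1 := by
  have h : Reps D0 NM12x3 (el NM12x3) := reps_el (by decide +kernel)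
  have hm : ∀ i, el NM12x3 i ∈ M12 := el_mem (m := 5) rfl (mem_M12_of h (by decide +kernel) (by decide +kernel))
  exact okM12x3.pbd (holds_sub (same_el h) (o := 0) (gs := gM12x3) (allFrom_zero.1 (by decide +kernel))
    (by decide +kernel) hm) (low_sub h (by decide) (c := LM12x3) (by decide +kernel) hm) card_M12 (by decide) rfl rfl

theorem multM12 : Nat.card (Mult M12) ≤ 2 :=
  card_mult_le (b := 23) (k := 10) card_M12 [(2, 2), (3, 1)] (by decide +kernel) (by
    simp only [List.mem_cons, List.not_mem_nil, or_false, forall_eq_or_imp, forall_eq]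
    exact ⟨⟨Nat.prime_two, pbdM12x2⟩, Nat.prime_three, pbdM12x3⟩)

instance finiteM22 : Finite M22 := Nat.finite_of_card_ne_zero (by rw [card_M22]; decide)

noncomputable def NM22x2_0 : Net := (Net.cons (nat_lit 1) (nat_lit 5242880) (Net.cons (nat_lit 2) (nat_lit 3146528) (Net.cons (nat_lit 4) (nat_lit 459776) (Net.cons (nat_lit 8) (nat_lit 66) (Net.cons (nat_lit 16) (nat_lit 86) (Net.cons (nat_lit 8) (nat_lit 202) (Net.cons (nat_lit 4) (nat_lit 461834) (Net.cons (nat_lit 2) (nat_lit 3146528) (Net.cons (nat_lit 1) (nat_lit 5246976) Net.nil)))))))))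
noncomputable def NM22x2_1 : Net := (Net.cons (nat_lit 1) (nat_lit 4526096) (Net.cons (nat_lit 2) (nat_lit 196624) (Net.cons (nat_lit 4) (nat_lit 920064) (Net.cons (nat_lit 8) (nat_lit 96) (Net.cons (nat_lit 16) (nat_lit 224) (Net.cons (nat_lit 8) (nat_lit 192) (Net.cons (nat_lit 4) (nat_lit 985604) (Net.cons (nat_lit 2) (nat_lit 2171440) (Net.cons (nat_lit 1) (nat_lit 4526096) Net.nil)))))))))
noncomputable def NM22x2_2 : Net := (Net.cons (nat_lit 1) (nat_lit 282880) (Net.cons (nat_lit 2) (nat_lit 3346688) (Net.cons (nat_lit 4) (nat_lit 196864) (Net.cons (nat_lit 8) (nat_lit 48) (Net.cons (nat_lit 16) (nat_lit 240) (Net.cons (nat_lit 8) (nat_lit 96) (Net.cons (nat_lit 4) (nat_lit 394240) (Net.cons (nat_lit 2) (nat_lit 2228752) (Net.cons (nat_lit 1) (nat_lit 282880) Net.nil)))))))))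
noncomputable def NM22x2_3 : Net := (Net.cons (nat_lit 1) (nat_lit 329024) (Net.cons (nat_lit 2) (nat_lit 3145728) (Net.cons (nat_lit 4) (nat_lit 593152) (Net.cons (nat_lit 8) (nat_lit 9) (Net.cons (nat_lit 16) (nat_lit 9) (Net.cons (nat_lit 8) (nat_lit 217) (Net.cons (nat_lit 4) (nat_lit 855808) (Net.cons (nat_lit 2) (nat_lit 3277072) (Net.cons (nat_lit 1) (nat_lit 329024) Net.nil)))))))))
noncomputable def NM22x2_4 : Net := (Net.cons (nat_lit 1) (nat_lit 1327360) (Net.cons (nat_lit 2) (nat_lit 1253424) (Net.cons (nat_lit 4) (nat_lit 196608) (Net.cons (nat_lit 8) (nat_lit 1) (Net.cons (nat_lit 16) (nat_lit 33) (Net.cons (nat_lit 8) (nat_lit 139) (Net.cons (nat_lit 4) (nat_lit 460812) (Net.cons (nat_lit 2) (nat_lit 1257520) (Net.cons (nat_lit 1) (nat_lit 1327360) Net.nil)))))))))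
noncomputable def NM22x2_5 : Net := (Net.cons (nat_lit 1) (nat_lit 70656) (Net.cons (nat_lit 2) (nat_lit 2097664) (Net.cons (nat_lit 4) (nat_lit 657408) (Net.cons (nat_lit 8) (nat_lit 40) (Net.cons (nat_lit 16) (nat_lit 40) (Net.cons (nat_lit 8) (nat_lit 184) (Net.cons (nat_lit 4) (nat_lit 919554) (Net.cons (nat_lit 2) (nat_lit 2097920) (Net.cons (nat_lit 1) (nat_lit 70660) Net.nil)))))))))
noncomputable def NM22x2_6 : Net := (Net.cons (nat_lit 1) (nat_lit 266256) (Net.cons (nat_lit 2) (nat_lit 3277328) (Net.cons (nat_lit 4) (nat_lit 524800) (Net.cons (nat_lit 8) (nat_lit 10) (Net.cons (nat_lit 16) (nat_lit 10) (Net.cons (nat_lit 8) (nat_lit 170) (Net.cons (nat_lit 4) (nat_lit 590596) (Net.cons (nat_lit 2) (nat_lit 3277330) (Net.cons (nat_lit 1) (nat_lit 266256) Net.nil)))))))))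
noncomputable def NM22x2_7 : Net := (Net.cons (nat_lit 1) (nat_lit 17408) (Net.cons (nat_lit 2) (nat_lit 1048832) (Net.cons (nat_lit 4) (nat_lit 65536) (Net.cons (nat_lit 8) (nat_lit 56) (Net.cons (nat_lit 16) (nat_lit 56) (Net.cons (nat_lit 8) (nat_lit 82) (Net.cons (nat_lit 4) (nat_lit 1036) (Net.cons (nat_lit 2) (nat_lit 1049104) (Net.cons (nat_lit 1) (nat_lit 16708) Net.nil)))))))))
noncomputable def NM22x2_8 : Net := (Net.cons (nat_lit 1) (nat_lit 1048912) (Net.cons (nat_lit 2) (nat_lit 12320) (Net.cons (nat_lit 4) (nat_lit 1536) (Net.cons (nat_lit 8) (nat_lit 67) (Net.cons (nat_lit 16) (nat_lit 99) (Net.cons (nat_lit 8) (nat_lit 161) (Net.cons (nat_lit 4) (nat_lit 197898) (Net.cons (nat_lit 2) (nat_lit 1192736) (Net.cons (nat_lit 1) (nat_lit 16720) Net.nil)))))))))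
noncomputable def NM22x2_9 : Net := (Net.cons (nat_lit 1) (nat_lit 4264964) (Net.cons (nat_lit 2) (nat_lit 2105888) (Net.cons (nat_lit 4) (nat_lit 512) (Net.cons (nat_lit 8) (nat_lit 138) (Net.cons (nat_lit 16) (nat_lit 170) (Net.cons (nat_lit 8) (nat_lit 138) (Net.cons (nat_lit 4) (nat_lit 264) (Net.cons (nat_lit 2) (nat_lit 2106146) (Net.cons (nat_lit 1) (nat_lit 5575748) Net.nil)))))))))
noncomputable def NM22x2 : List Net := [NM22x2_0, NM22x2_1, NM22x2_2, NM22x2_3, NM22x2_4, NM22x2_5, NM22x2_6, NM22x2_7, NM22x2_8, NM22x2_9]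

noncomputable def PM22x2 : Dat := ⟨(nat_lit 2), (nat_lit 7), (nat_lit 12), (nat_lit 14), (nat_lit 42),
  (BT.node (nat_lit 14) (BT.node (nat_lit 7) (BT.node (nat_lit 3) (BT.node (nat_lit 1) (BT.leaf []) (BT.node (nat_lit 2) (BT.leaf [(nat_lit 1), (nat_lit 4)]) (BT.leaf []))) (BT.node (nat_lit 5) (BT.node (nat_lit 4) (BT.leaf [(nat_lit 2), (nat_lit 5), (nat_lit 6)]) (BT.leaf [(nat_lit 2), (nat_lit 3)])) (BT.node (nat_lit 6) (BT.leaf []) (BT.leaf [(nat_lit 3), (nat_lit 5)])))) (BT.node (nat_lit 10) (BT.node (nat_lit 8) (BT.leaf [(nat_lit 3)]) (BT.node (nat_lit 9) (BT.leaf [(nat_lit 3)]) (BT.leaf []))) (BT.node (nat_lit 12) (BT.node (nat_lit 11) (BT.leaf [(nat_lit 4)]) (BT.leaf [(nat_lit 4)])) (BT.node (nat_lit 13) (BT.leaf [(nat_lit 4), (nat_lit 5)]) (BT.leaf [(nat_lit 4), (nat_lit 6)]))))) (BT.node (nat_lit 21) (BT.node (nat_lit 17) (BT.node (nat_lit 15) (BT.leaf []) (BT.node (nat_lit 16) (BT.leaf [(nat_lit 5)]) (BT.leaf [(nat_lit 5), (nat_lit 6)])))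 (BT.node (nat_lit 19) (BT.node (nat_lit 18) (BT.leaf [(nat_lit 5)]) (BT.leaf [(nat_lit 5)])) (BT.node (nat_lit 20) (BT.leaf [(nat_lit 5)]) (BT.leaf [])))) (BT.node (nat_lit 24) (BT.node (nat_lit 22) (BT.leaf [(nat_lit 6)]) (BT.node (nat_lit 23) (BT.leaf [(nat_lit 6)]) (BT.leaf [(nat_lit 6)]))) (BT.node (nat_lit 26) (BT.node (nat_lit 25) (BT.leaf [(nat_lit 6)]) (BT.leaf [(nat_lit 6)])) (BT.node (nat_lit 27) (BT.leaf [(nat_lit 6)]) (BT.leaf [])))))),
  [⟨(nat_lit 0), [(nat_lit 5)], [(nat_lit 6)]⟩,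
  ⟨(nat_lit 1), [(nat_lit 4)], [(nat_lit 5)]⟩,
  ⟨(nat_lit 2), [(nat_lit 3)], [(nat_lit 2)]⟩,
  ⟨(nat_lit 0), [(nat_lit 6)], [(nat_lit 5), (nat_lit 6)]⟩,
  ⟨(nat_lit 1), [(nat_lit 0)], [(nat_lit 0), (nat_lit 5)]⟩,
  ⟨(nat_lit 1), [(nat_lit 1)], [(nat_lit 3), (nat_lit 6)]⟩,
  ⟨(nat_lit 1), [(nat_lit 5)], [(nat_lit 4), (nat_lit 5)]⟩,
  ⟨(nat_lit 2), [(nat_lit 2)], [(nat_lit 2), (nat_lit 3)]⟩,
  ⟨(nat_lit 2), [(nat_lit 5)], [(nat_lit 2), (nat_lit 6)]⟩,
  ⟨(nat_lit 0), [(nat_lit 0)], [(nat_lit 0), (nat_lit 4), (nat_lit 6)]⟩,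
  ⟨(nat_lit 0), [(nat_lit 2)], [(nat_lit 2), (nat_lit 3), (nat_lit 6)]⟩,
  ⟨(nat_lit 0), [(nat_lit 4)], [(nat_lit 0), (nat_lit 5), (nat_lit 6)]⟩,
  ⟨(nat_lit 1), [(nat_lit 3)], [(nat_lit 1), (nat_lit 3), (nat_lit 6)]⟩,
  ⟨(nat_lit 2), [(nat_lit 6)], [(nat_lit 3), (nat_lit 5), (nat_lit 6)]⟩]⟩

noncomputable def XM22x2_0 : List Test := [⟨(nat_lit 1), [(nat_lit 0), (nat_lit 0)], [], (nat_lit 0x7001000000000000000000007000000000000000000000000000000000000000000000000000000000000000000000000000000000000000000000000000002)⟩,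
  ⟨(nat_lit 2), [(nat_lit 1), (nat_lit 1)], [], (nat_lit 0x7000000000000000000000001000000000000000007000000000000000000000000000000000000000000000000000000000000000000000000000000002000)⟩,
  ⟨(nat_lit 3), [(nat_lit 2), (nat_lit 2)], [], (nat_lit 0x7000000000000000000000000000000000000000000000000000000007000000000001000000000000000000000000000000000000000000000000002000000)⟩,
  ⟨(nat_lit 1), [(nat_lit 3), (nat_lit 3)], [], (nat_lit 0x2000001000000000000000001000000000000000000000000000000000000000000000000000000000000000000000000000000000000000000002000000000)⟩,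
  ⟨(nat_lit 2), [(nat_lit 4), (nat_lit 4)], [], (nat_lit 0x2000000000000000000000001000000000000001000000000000000000000000000000000000000000000000000000000000000000000000002000000000000)⟩,
  ⟨(nat_lit 2), [(nat_lit 5), (nat_lit 5)], [], (nat_lit 0x7001000000001000000000000000000000000000000000000000000001000000000000000000007000000000000000000000000000000002000000000000000)⟩,
  ⟨(nat_lit 2), [(nat_lit 6), (nat_lit 6)], [], (nat_lit 0x2000000000000000000000000001000000000000001000000000000000000000000000000000000000000000000000000000000000002000000000000000000)⟩,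
  ⟨(nat_lit 3), [(nat_lit 7), (nat_lit 7)], [], (nat_lit 0x2000000000000000000000000000000000000000000000000000000001001000000000000000000000000000000000000000000002000000000000000000000)⟩,
  ⟨(nat_lit 3), [(nat_lit 8), (nat_lit 8)], [], (nat_lit 0x7001000000000001000000007000000000000000000000000000000000000000000001000000000000000000000000000000002000000000000000000000000)⟩,
  ⟨(nat_lit 0), [(nat_lit 4)], [(nat_lit 0), (nat_lit 0)], (nat_lit 0x2000000000000000000000000000000000000000000000000000002000000000000000000000000000000000000000000000000000000000000000000000000)⟩,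
  ⟨(nat_lit 0), [(nat_lit 1)], [(nat_lit 0), (nat_lit 0)], (nat_lit 0x2000000000000000000000000000000000000000001000000000001000000000000000000000000002000000000000000000000000000000000000000000000)⟩,
  ⟨(nat_lit 0), [(nat_lit 2)], [(nat_lit 1), (nat_lit 1)], (nat_lit 0x2000000000000000000000000000000000000000000000000000000001000001000000002000000000000000000000000000000000000000000000000000000)⟩,
  ⟨(nat_lit 0), [(nat_lit 3)], [(nat_lit 0), (nat_lit 0)], (nat_lit 0x2000000000000000000000001000000000000001000000000000000000000000002000000000000000000000000000000000000000000000000000000000000)⟩,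
  ⟨(nat_lit 0), [(nat_lit 4)], [(nat_lit 2), (nat_lit 2)], (nat_lit 0x2000000000000000000000001000000001000000000000002000000000000000000000000000000000000000000000000000000000000000000000000000000)⟩,
  ⟨(nat_lit 0), [(nat_lit 4)], [(nat_lit 3), (nat_lit 3)], (nat_lit 0x2001000000001000000000000000000000000000000002000000000000000000000000000000000000000000000000000000000000000000000000000000000)⟩,
  ⟨(nat_lit 0), [(nat_lit 5)], [(nat_lit 1), (nat_lit 1)], (nat_lit 0x2001000000000000001000000000000000002000000000000000000000000000000000000000000000000000000000000000000000000000000000000000000)⟩,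
  ⟨(nat_lit 1), [(nat_lit 9), (nat_lit 9)], [], (nat_lit 0x2001000001000000000001000000000000000000001000000000001000000000000000000000000000000000000000000002000000000000000000000000000)⟩,
  ⟨(nat_lit 1), [(nat_lit 10), (nat_lit 10)], [], (nat_lit 0x2001000000001001000000000000000000000000000000000000000001001000000000000000000000000000000000002000000000000000000000000000000)⟩,
  ⟨(nat_lit 1), [(nat_lit 11), (nat_lit 11)], [], (nat_lit 0x7001001000000000000001001000000000000001007000000000000000000000000000000000000000001000000002000000000000000000000000000000000)⟩,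
  ⟨(nat_lit 2), [(nat_lit 1), (nat_lit 4)], [(nat_lit 4), (nat_lit 1)], (nat_lit 0x7000000000000000000000000000000000000001000000000000007000000000000000000000000000000000000000000000000000000000000000000000000)⟩,
  ⟨(nat_lit 2), [(nat_lit 12), (nat_lit 12)], [], (nat_lit 0x2001000000001000001000000000000000000000000000000000000000000001000000000000001000000000002000000000000000000000000000000000000)⟩,
  ⟨(nat_lit 3), [(nat_lit 13), (nat_lit 13)], [], (nat_lit 0x2000001000001000000000001000001000000000000000000000000001000000000000000000000000000002000000000000000000000000000000000000000)⟩,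
  ⟨(nat_lit 0), [(nat_lit 1)], [(nat_lit 1), (nat_lit 0)], (nat_lit 0x7000000000000000000000000000000000000000007000000007000000000000000000000000000006000000000000000000000000000000000000000000000)⟩,
  ⟨(nat_lit 0), [(nat_lit 3)], [(nat_lit 3), (nat_lit 0)], (nat_lit 0x7000000000000000000000007000007000000000000000000000000000000000006000000000000000000000000000000000000000000000000000000000000)⟩,
  ⟨(nat_lit 0), [(nat_lit 4)], [(nat_lit 4), (nat_lit 3)], (nat_lit 0x7007000007000000000000000000000000000000000006000000000000000000000000000000000000000000000000000000000000000000000000000000000)⟩,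
  ⟨(nat_lit 0), [(nat_lit 5)], [(nat_lit 5), (nat_lit 1)], (nat_lit 0x7007007000000000000000000000000000006000000000000000000000000000000000000000000000000000000000000000000000000000000000000000000)⟩,
  ⟨(nat_lit 0), [(nat_lit 4)], [(nat_lit 3), (nat_lit 1)], (nat_lit 0x1000000000000000001000000000000000000000000000000000000000000000000000000000000000000000000000000000000000000000000000000000000)⟩,
  ⟨(nat_lit 0), [(nat_lit 5)], [(nat_lit 3), (nat_lit 1)], (nat_lit 0x7000000000007000000000000000000000000000000000000000000000000000000000000000000000000000000000000000000000000000000000000000000)⟩,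
  ⟨(nat_lit 0), [(nat_lit 2)], [(nat_lit 2), (nat_lit 0)], (nat_lit 0x7007007000000007000000007000000007000000000000000000000000000000000000000006000000000000000000000000000000000000000000000000000)⟩,
  ⟨(nat_lit 0), [(nat_lit 4)], [(nat_lit 3), (nat_lit 2)], (nat_lit 0x7000007000000001000000000000007000000000000000000000000000000000000000000000000000000000000000000000000000000000000000000000000)⟩,
  ⟨(nat_lit 0), [(nat_lit 4)], [(nat_lit 2), (nat_lit 1)], (nat_lit 0x7000007000000000000000000000007000001000000007000000000000000000000000000000000000000000000000000000000000000000000000000000000)⟩,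
  ⟨(nat_lit 0), [(nat_lit 3)], [(nat_lit 2), (nat_lit 0)], (nat_lit 0x7000001000001000000000000000001007000000000000000000000000000000000000000000000000000000000000000000000000000000000000000000000)⟩,
  ⟨(nat_lit 0), [(nat_lit 2)], [(nat_lit 1), (nat_lit 0)], (nat_lit 0x7000000000001000007000001007000000007000000001001000000000000000001000000000000000000000000000000000000000000000000000000000000)⟩]

noncomputable def cM22x2 : Cert := ⟨PM22x2, (nat_lit 2), XM22x2_0,
  [⟨(nat_lit 0x7000000000000000000000000000000000000000000007000000000000000000007000000001000000000000000000000000000000000000000000000000000), (nat_lit 4), (nat_lit 0xd36d30800400826028000000)⟩],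
  [(nat_lit 0),
  (nat_lit 0),
  (nat_lit 0),
  (nat_lit 0x1000000000000000000000000000000000000000000000000000000000000000000000001000000000000000000000000000000000000000000000000000000),
  (nat_lit 0x1000000000000000000000000000000000000000000000000000000000000000000000000000000001000000000000000000000000000000000000000000000),
  (nat_lit 0x1000000000000000000000000000000000000000000000000000000000000000001000000000000000000000000000000000000000000000000000000000000),
  (nat_lit 0x1000000000000000000000000000000000000000000000000000000000000000001000000001000000000000000000000000000000000000000000000000000)],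
  (BT.node (nat_lit 14) (BT.node (nat_lit 7) (BT.node (nat_lit 3) (BT.node (nat_lit 1) (BT.leaf (nat_lit 36378740)) (BT.node (nat_lit 2) (BT.leaf (nat_lit 0)) (BT.leaf (nat_lit 262986)))) (BT.node (nat_lit 5) (BT.node (nat_lit 4) (BT.leaf (nat_lit 0)) (BT.leaf (nat_lit 0))) (BT.node (nat_lit 6) (BT.leaf (nat_lit 295682)) (BT.leaf (nat_lit 0))))) (BT.node (nat_lit 10) (BT.node (nat_lit 8) (BT.leaf (nat_lit 299786)) (BT.node (nat_lit 9) (BT.leaf (nat_lit 295434)) (BT.leaf (nat_lit 295690)))) (BT.node (nat_lit 12) (BT.node (nat_lit 11) (BT.leaf (nat_lit 2168902)) (BT.leaf (nat_lit 10555462))) (BT.node (nat_lit 13) (BT.leaf (nat_lit 0x28045838c)) (BT.leaf (nat_lit 1)))))) (BT.node (nat_lit 21) (BT.node (nat_lit 17) (BT.node (nat_lit 15) (BT.leaf (nat_lit 2166854)) (BT.node (nat_lit 16) (BT.leaf (nat_lit 2166882)) (BT.leaf (nat_lit 2151940873)))) (BT.node (nat_lit 19) (BT.node (nat_lit 18) (BT.leaf (nat_lit 2183234)) (BT.leaf (nat_lit 6624090))) (BT.node (nat_lit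 20) (BT.leaf (nat_lit 2166982)) (BT.leaf (nat_lit 2166850))))) (BT.node (nat_lit 24) (BT.node (nat_lit 22) (BT.leaf (nat_lit 33687552)) (BT.node (nat_lit 23) (BT.leaf (nat_lit 2101312)) (BT.leaf (nat_lit 295168)))) (BT.node (nat_lit 26) (BT.node (nat_lit 25) (BT.leaf (nat_lit 2199616)) (BT.leaf (nat_lit 35721280))) (BT.node (nat_lit 27) (BT.leaf (nat_lit 2166866)) (BT.leaf (nat_lit 2166848)))))))⟩

theorem okM22x2 : cM22x2.OK := Cert.ok_of_check (by decide) (by decide +kernel)

noncomputable def LM22x2 : List Lvl := [⟨(nat_lit 1), [[(nat_lit 1)],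
  [(nat_lit 9)],
  [(nat_lit 11)],
  [(nat_lit 13)]], (nat_lit 1)⟩,
  ⟨(nat_lit 2), [[(nat_lit 3)]], (nat_lit 1)⟩,
  ⟨(nat_lit 4), [[(nat_lit 5)],
  [(nat_lit 7)]], (nat_lit 1)⟩]

noncomputable def gM22x2 : List (List Nat) := [[(nat_lit 15)],
  [(nat_lit 17)],
  [(nat_lit 19)]]

theorem pbdM22x2 : PBd M22 2 4 := by
  have h : Reps D0 NM22x2 (el NM22x2) := reps_el (by decide +kernel)
  have hm : ∀ i, el NM22x2 i ∈ M22 := el_mem (m := 10) rfl (mem_M22_of h (by decide +kernel) (by decide +kernel) (by decide +kernel))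
  exact okM22x2.pbd (holds_sub (same_el h) (o := 0) (gs := gM22x2) (allFrom_zero.1 (by decide +kernel))
    (by decide +kernel) hm) (low_sub h (by decide) (c := LM22x2) (by decide +kernel) hm) card_M22 (by decide) rfl rfl

noncomputable def NM22x3_0 : Net := (Net.cons (nat_lit 1) (nat_lit 266564) (Net.cons (nat_lit 2) (nat_lit 2109952) (Net.cons (nat_lit 4) (nat_lit 262656) (Net.cons (nat_lit 8) (nat_lit 80) (Net.cons (nat_lit 16) (nat_lit 210) (Net.cons (nat_lit 8) (nat_lit 206) (Net.cons (nat_lit 4) (nat_lit 264708) (Net.cons (nat_lit 2) (nat_lit 2109440) (Net.cons (nat_lit 1) (nat_lit 5376) Net.nil)))))))))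
noncomputable def NM22x3_1 : Net := (Net.cons (nat_lit 1) (nat_lit 4456708) (Net.cons (nat_lit 2) (nat_lit 1056768) (Net.cons (nat_lit 4) (nat_lit 131328) (Net.cons (nat_lit 8) (nat_lit 136) (Net.cons (nat_lit 16) (nat_lit 234) (Net.cons (nat_lit 8) (nat_lit 184) (Net.cons (nat_lit 4) (nat_lit 527622) (Net.cons (nat_lit 2) (nat_lit 3154688) (Net.cons (nat_lit 1) (nat_lit 4195348) Net.nil)))))))))
noncomputable def NM22x3_2 : Net := (Net.cons (nat_lit 1) (nat_lit 348224) (Net.cons (nat_lit 2) (nat_lit 3350800) (Net.cons (nat_lit 4) (nat_lit 656128) (Net.cons (nat_lit 8) (nat_lit 32) (Net.cons (nat_lit 16) (nat_lit 44) (Net.cons (nat_lit 8) (nat_lit 212) (Net.cons (nat_lit 4) (nat_lit 723976) (Net.cons (nat_lit 2) (nat_lit 3346946) (Net.cons (nat_lit 1) (nat_lit 345412) Net.nil)))))))))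
noncomputable def NM22x3 : List Net := [NM22x3_0, NM22x3_1, NM22x3_2]

noncomputable def PM22x3 : Dat := ⟨(nat_lit 3), (nat_lit 2), (nat_lit 9), (nat_lit 2), (nat_lit 5),
  (BT.node (nat_lit 1) (BT.leaf []) (BT.node (nat_lit 2) (BT.leaf [(nat_lit 1)]) (BT.leaf []))),
  [⟨(nat_lit 0), [(nat_lit 1)], [(nat_lit 0), (nat_lit 0), (nat_lit 1)]⟩,
  ⟨(nat_lit 0), [(nat_lit 0)], [(nat_lit 0), (nat_lit 0), (nat_lit 1), (nat_lit 1)]⟩]⟩

noncomputable def XM22x3_0 : List Test := [⟨(nat_lit 0), [(nat_lit 1)], [(nat_lit 0), (nat_lit 0), (nat_lit 0)], (nat_lit 0x600018000000)⟩,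
  ⟨(nat_lit 1), [(nat_lit 0), (nat_lit 0), (nat_lit 0)], [], (nat_lit 0xc00030080003)⟩,
  ⟨(nat_lit 1), [(nat_lit 1), (nat_lit 1), (nat_lit 1)], [], (nat_lit 0xc02030040600)⟩]

noncomputable def cM22x3 : Cert := ⟨PM22x3, (nat_lit 1), XM22x3_0,
  [⟨(nat_lit 0x200008000000), (nat_lit 3), (nat_lit 8)⟩],
  [(nat_lit 0),
  (nat_lit 0)],
  (BT.node (nat_lit 1) (BT.leaf (nat_lit 9)) (BT.node (nat_lit 2) (BT.leaf (nat_lit 2)) (BT.leaf (nat_lit 36))))⟩

theorem okM22x3 : cM22x3.OK := Cert.ok_of_check (by decide) (by decide +kernel)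

noncomputable def LM22x3 : List Lvl := [⟨(nat_lit 1), [[(nat_lit 3)],
  [(nat_lit 3)]], (nat_lit 1)⟩,
  ⟨(nat_lit 2), [[(nat_lit 1), (nat_lit 3), (nat_lit 3)],
  [(nat_lit 1), (nat_lit 3), (nat_lit 3)]], (nat_lit 1)⟩]

noncomputable def gM22x3 : List (List Nat) := [[(nat_lit 5)]]

theorem pbdM22x3 : PBd M22 3 3 := by
  have h : Reps D0 NM22x3 (el NM22x3) := reps_el (by decide +kernel)
  have hm : ∀ i, el NM22x3 i ∈ M22 := el_mem (m := 3) rfl (mem_M22_of h (by decide +kernel) (by decide +kernel) (by decide +kernel))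
  exact okM22x3.pbd (holds_sub (same_el h) (o := 0) (gs := gM22x3) (allFrom_zero.1 (by decide +kernel))
    (by decide +kernel) hm) (low_sub h (by decide) (c := LM22x3) (by decide +kernel) hm) card_M22 (by decide) rfl rfl

theorem multM22 : Nat.card (Mult M22) ≤ 12 :=
  card_mult_le (b := 23) (k := 10) card_M22 [(2, 4), (3, 3)] (by decide +kernel) (by
    simp only [List.mem_cons, List.not_mem_nil, or_false, forall_eq_or_imp, forall_eq]
    exact ⟨⟨Nat.prime_two, pbdM22x2⟩, Nat.prime_three, pbdM22x3⟩)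

instance finiteM23 : Finite M23 := Nat.finite_of_card_ne_zero (by rw [card_M23]; decide)

noncomputable def NM23x2_0 : Net := (Net.cons (nat_lit 1) (nat_lit 1114176) (Net.cons (nat_lit 2) (nat_lit 200992) (Net.cons (nat_lit 4) (nat_lit 263168) (Net.cons (nat_lit 8) (nat_lit 99) (Net.cons (nat_lit 16) (nat_lit 119) (Net.cons (nat_lit 8) (nat_lit 39) (Net.cons (nat_lit 4) (nat_lit 12) (Net.cons (nat_lit 2) (nat_lit 200992) (Net.cons (nat_lit 1) (nat_lit 1114176) Net.nil)))))))))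
noncomputable def NM23x2_1 : Net := (Net.cons (nat_lit 1) (nat_lit 1328128) (Net.cons (nat_lit 2) (nat_lit 3154176) (Net.cons (nat_lit 4) (nat_lit 393728) (Net.cons (nat_lit 8) (nat_lit 52) (Net.cons (nat_lit 16) (nat_lit 52) (Net.cons (nat_lit 8) (nat_lit 55) (Net.cons (nat_lit 4) (nat_lit 918024) (Net.cons (nat_lit 2) (nat_lit 3154176) (Net.cons (nat_lit 1) (nat_lit 1328144) Net.nil)))))))))
noncomputable def NM23x2_2 : Net := (Net.cons (nat_lit 1) (nat_lit 5248016) (Net.cons (nat_lit 2) (nat_lit 69648) (Net.cons (nat_lit 4) (nat_lit 461824) (Net.cons (nat_lit 8) (nat_lit 65) (Net.cons (nat_lit 16) (nat_lit 105) (Net.cons (nat_lit 8) (nat_lit 197) (Net.cons (nat_lit 4) (nat_lit 461825) (Net.cons (nat_lit 2) (nat_lit 2166800) (Net.cons (nat_lit 1) (nat_lit 5248016) Net.nil)))))))))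
noncomputable def NM23x2_3 : Net := (Net.cons (nat_lit 1) (nat_lit 1296) (Net.cons (nat_lit 2) (nat_lit 4368) (Net.cons (nat_lit 4) (nat_lit 197632) (Net.cons (nat_lit 8) (nat_lit 12) (Net.cons (nat_lit 16) (nat_lit 60) (Net.cons (nat_lit 8) (nat_lit 77) (Net.cons (nat_lit 4) (nat_lit 197640) (Net.cons (nat_lit 2) (nat_lit 1052944) (Net.cons (nat_lit 1) (nat_lit 1296) Net.nil)))))))))
noncomputable def NM23x2_4 : Net := (Net.cons (nat_lit 1) (nat_lit 5571904) (Net.cons (nat_lit 2) (nat_lit 3146240) (Net.cons (nat_lit 8) (nat_lit 1) (Net.cons (nat_lit 16) (nat_lit 101) (Net.cons (nat_lit 8) (nat_lit 25) (Net.cons (nat_lit 4) (nat_lit 524800) (Net.cons (nat_lit 2) (nat_lit 3146240) (Net.cons (nat_lit 1) (nat_lit 5571904) Net.nil))))))))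
noncomputable def NM23x2_5 : Net := (Net.cons (nat_lit 1) (nat_lit 5571648) (Net.cons (nat_lit 2) (nat_lit 1179648) (Net.cons (nat_lit 4) (nat_lit 196608) (Net.cons (nat_lit 16) (nat_lit 116) (Net.cons (nat_lit 8) (nat_lit 8) (Net.cons (nat_lit 4) (nat_lit 459524) (Net.cons (nat_lit 2) (nat_lit 3276800) (Net.cons (nat_lit 1) (nat_lit 5576000) Net.nil))))))))
noncomputable def NM23x2_6 : Net := (Net.cons (nat_lit 1) (nat_lit 1314816) (Net.cons (nat_lit 2) (nat_lit 3346688) (Net.cons (nat_lit 4) (nat_lit 1024) (Net.cons (nat_lit 8) (nat_lit 67) (Net.cons (nat_lit 16) (nat_lit 83) (Net.cons (nat_lit 8) (nat_lit 103) (Net.cons (nat_lit 4) (nat_lit 525320) (Net.cons (nat_lit 2) (nat_lit 3346688) (Net.cons (nat_lit 1) (nat_lit 1314816) Net.nil)))))))))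
noncomputable def NM23x2_7 : Net := (Net.cons (nat_lit 1) (nat_lit 82192) (Net.cons (nat_lit 2) (nat_lit 1061408) (Net.cons (nat_lit 4) (nat_lit 328960) (Net.cons (nat_lit 8) (nat_lit 28) (Net.cons (nat_lit 16) (nat_lit 62) (Net.cons (nat_lit 8) (nat_lit 100) (Net.cons (nat_lit 4) (nat_lit 67328) (Net.cons (nat_lit 2) (nat_lit 1061408) (Net.cons (nat_lit 1) (nat_lit 83281) Net.nil)))))))))
noncomputable def NM23x2_8 : Net := (Net.cons (nat_lit 1) (nat_lit 1049860) (Net.cons (nat_lit 2) (nat_lit 1057072) (Net.cons (nat_lit 4) (nat_lit 786432) (Net.cons (nat_lit 8) (nat_lit 128) (Net.cons (nat_lit 16) (nat_lit 132) (Net.cons (nat_lit 8) (nat_lit 171) (Net.cons (nat_lit 4) (nat_lit 524811) (Net.cons (nat_lit 2) (nat_lit 1057072) (Net.cons (nat_lit 1) (nat_lit 1070084) Net.nil)))))))))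
noncomputable def NM23x2_9 : Net := (Net.cons (nat_lit 1) (nat_lit 4260880) (Net.cons (nat_lit 2) (nat_lit 73984) (Net.cons (nat_lit 4) (nat_lit 528128) (Net.cons (nat_lit 16) (nat_lit 164) (Net.cons (nat_lit 8) (nat_lit 120) (Net.cons (nat_lit 4) (nat_lit 1548) (Net.cons (nat_lit 2) (nat_lit 2302481) (Net.cons (nat_lit 1) (nat_lit 4194628) Net.nil))))))))
noncomputable def NM23x2 : List Net := [NM23x2_0, NM23x2_1, NM23x2_2, NM23x2_3, NM23x2_4, NM23x2_5, NM23x2_6, NM23x2_7, NM23x2_8, NM23x2_9]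

noncomputable def PM23x2 : Dat := ⟨(nat_lit 2), (nat_lit 7), (nat_lit 7), (nat_lit 8), (nat_lit 36),
  (BT.node (nat_lit 14) (BT.node (nat_lit 7) (BT.node (nat_lit 3) (BT.node (nat_lit 1) (BT.leaf []) (BT.node (nat_lit 2) (BT.leaf [(nat_lit 1), (nat_lit 4)]) (BT.leaf []))) (BT.node (nat_lit 5) (BT.node (nat_lit 4) (BT.leaf [(nat_lit 2), (nat_lit 5), (nat_lit 6)]) (BT.leaf [(nat_lit 2), (nat_lit 3)])) (BT.node (nat_lit 6) (BT.leaf []) (BT.leaf [(nat_lit 3), (nat_lit 5)])))) (BT.node (nat_lit 10) (BT.node (nat_lit 8) (BT.leaf [(nat_lit 3)]) (BT.node (nat_lit 9) (BT.leaf [(nat_lit 3)]) (BT.leaf []))) (BT.node (nat_lit 12) (BT.node (nat_lit 11) (BT.leaf [(nat_lit 4)]) (BT.leaf [(nat_lit 4)])) (BT.node (nat_lit 13) (BT.leaf [(nat_lit 4), (nat_lit 5)]) (BT.leaf [(nat_lit 4), (nat_lit 6)]))))) (BT.node (nat_lit 21) (BT.node (nat_lit 17) (BT.node (nat_lit 15) (BT.leaf []) (BT.node (nat_lit 16) (BT.leaf [(nat_lit 5)]) (BT.leaf [(nat_lit 5), (nat_lit 6)]))) (BT.node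 (nat_lit 19) (BT.node (nat_lit 18) (BT.leaf [(nat_lit 5)]) (BT.leaf [(nat_lit 5)])) (BT.node (nat_lit 20) (BT.leaf [(nat_lit 5)]) (BT.leaf [])))) (BT.node (nat_lit 24) (BT.node (nat_lit 22) (BT.leaf [(nat_lit 6)]) (BT.node (nat_lit 23) (BT.leaf [(nat_lit 6)]) (BT.leaf [(nat_lit 6)]))) (BT.node (nat_lit 26) (BT.node (nat_lit 25) (BT.leaf [(nat_lit 6)]) (BT.leaf [(nat_lit 6)])) (BT.node (nat_lit 27) (BT.leaf [(nat_lit 6)]) (BT.leaf [])))))),
  [⟨(nat_lit 0), [(nat_lit 1)], [(nat_lit 3)]⟩,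
  ⟨(nat_lit 1), [(nat_lit 3)], [(nat_lit 2)]⟩,
  ⟨(nat_lit 2), [(nat_lit 6)], [(nat_lit 3)]⟩,
  ⟨(nat_lit 0), [(nat_lit 4)], [(nat_lit 5), (nat_lit 6)]⟩,
  ⟨(nat_lit 1), [(nat_lit 0)], [(nat_lit 4), (nat_lit 5), (nat_lit 6)]⟩,
  ⟨(nat_lit 1), [(nat_lit 5)], [(nat_lit 5)]⟩,
  ⟨(nat_lit 1), [(nat_lit 4)], [(nat_lit 0), (nat_lit 4), (nat_lit 5)]⟩,
  ⟨(nat_lit 1), [(nat_lit 2)], [(nat_lit 2), (nat_lit 3), (nat_lit 5)]⟩]⟩

noncomputable def XM23x2_0 : List Test := [⟨(nat_lit 1), [(nat_lit 0), (nat_lit 0)], [], (nat_lit 0x1000000000000000000000000000000000800000000000400000000000000000)⟩,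
  ⟨(nat_lit 2), [(nat_lit 1), (nat_lit 1)], [], (nat_lit 0x1000000000000000000000000000000000800000080000000000000000000000)⟩,
  ⟨(nat_lit 3), [(nat_lit 2), (nat_lit 2)], [], (nat_lit 0x1020000000000000000000000000000000800000000000000000000000000000)⟩,
  ⟨(nat_lit 1), [(nat_lit 3), (nat_lit 3)], [], (nat_lit 0x1020400000000010000000000400000000000000000000000000000000000000)⟩,
  ⟨(nat_lit 0), [(nat_lit 1)], [(nat_lit 0), (nat_lit 0)], (nat_lit 0x1000000000000000000000000400000040000000000000000000000000000000)⟩,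
  ⟨(nat_lit 0), [(nat_lit 2)], [(nat_lit 1), (nat_lit 1)], (nat_lit 0x1000000000000000000000000000000000800200000000000000000000000000)⟩,
  ⟨(nat_lit 0), [(nat_lit 3)], [(nat_lit 0), (nat_lit 0)], (nat_lit 0x1000000000000010000000020000000000000000000000000000000000000000)⟩,
  ⟨(nat_lit 0), [(nat_lit 4)], [(nat_lit 2), (nat_lit 2)], (nat_lit 0x1000000000000010000080000000000000000000000000000000000000000000)⟩,
  ⟨(nat_lit 0), [(nat_lit 4)], [(nat_lit 3), (nat_lit 3)], (nat_lit 0x1020000100000000000000000000000000000000000000000000000000000000)⟩,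
  ⟨(nat_lit 0), [(nat_lit 5)], [(nat_lit 1), (nat_lit 1)], (nat_lit 0x1020000000040000000000000000000000000000000000000000000000000000)⟩,
  ⟨(nat_lit 2), [(nat_lit 4), (nat_lit 4)], [], (nat_lit 0x1020408000000010200000000400000000000000000000000100000000000000)⟩,
  ⟨(nat_lit 0), [(nat_lit 1)], [(nat_lit 1), (nat_lit 0)], (nat_lit 0x1000000000000000000000000400002000000000000000000000000000000000)⟩,
  ⟨(nat_lit 0), [(nat_lit 2)], [(nat_lit 2), (nat_lit 1)], (nat_lit 0x1000000000000000000000000000000000810000000000000000000000000000)⟩,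
  ⟨(nat_lit 0), [(nat_lit 3)], [(nat_lit 3), (nat_lit 0)], (nat_lit 0x1000000000000010004000000000000000000000000000000000000000000000)⟩,
  ⟨(nat_lit 0), [(nat_lit 4)], [(nat_lit 4), (nat_lit 2)], (nat_lit 0x1000000000000010200000000000000000000000000000000000000000000000)⟩,
  ⟨(nat_lit 0), [(nat_lit 4)], [(nat_lit 4), (nat_lit 3)], (nat_lit 0x1020008000000000000000000000000000000000000000000000000000000000)⟩,
  ⟨(nat_lit 0), [(nat_lit 5)], [(nat_lit 5), (nat_lit 1)], (nat_lit 0x1020400000000000000000000000000000000000000000000000000000000000)⟩,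
  ⟨(nat_lit 0), [(nat_lit 2)], [(nat_lit 0), (nat_lit 0)], (nat_lit 0x1020400000000810000000020000000000000000000000000000000000000000)⟩,
  ⟨(nat_lit 0), [(nat_lit 4)], [(nat_lit 3), (nat_lit 1)], (nat_lit 0x1000000000040000000000000000000000000000000000000000000000000000)⟩,
  ⟨(nat_lit 0), [(nat_lit 2)], [(nat_lit 2), (nat_lit 0)], (nat_lit 0x1020400002000010000080000000000000000000000000000000000000000000)⟩,
  ⟨(nat_lit 2), [(nat_lit 1), (nat_lit 4)], [(nat_lit 4), (nat_lit 1), (nat_lit 5)], (nat_lit 0x1000400002000010000080000000100000000004000000000000000800000000)⟩,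
  ⟨(nat_lit 0), [(nat_lit 4)], [(nat_lit 3), (nat_lit 2)], (nat_lit 0x1000400002000000004000000000000000000000000000000000000000000000)⟩,
  ⟨(nat_lit 0), [(nat_lit 4)], [(nat_lit 2), (nat_lit 1)], (nat_lit 0x1000400000000000004001000008000000000000000000000000000000000000)⟩,
  ⟨(nat_lit 0), [(nat_lit 2)], [(nat_lit 1), (nat_lit 0)], (nat_lit 0x1000000100040010200001000008100000000004000000000000000000000000)⟩,
  ⟨(nat_lit 2), [(nat_lit 6), (nat_lit 7)], [(nat_lit 7), (nat_lit 6), (nat_lit 5)], (nat_lit 0x1000408100000010204080020008000000000004000020000000000800000000)⟩]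

noncomputable def cM23x2 : Cert := ⟨PM23x2, (nat_lit 0), XM23x2_0,
  [],
  [(nat_lit 0),
  (nat_lit 0),
  (nat_lit 0),
  (nat_lit 0x1000000000000000000000000000000000000000001000000000000000000000),
  (nat_lit 0x1000000000000000000000000000000000000000000000008000000000000000),
  (nat_lit 0x1000000000000000000000000000000000000004000000000000000000000000),
  (nat_lit 0x1000000000000000000000000000000000000004000020000000000000000000)],
  (BT.node (nat_lit 14) (BT.node (nat_lit 7) (BT.node (nat_lit 3) (BT.node (nat_lit 1) (BT.leaf (nat_lit 2679944)) (BT.node (nat_lit 2) (BT.leaf (nat_lit 0)) (BT.leaf (nat_lit 262661)))) (BT.node (nat_lit 5) (BT.node (nat_lit 4) (BT.leaf (nat_lit 0)) (BT.leaf (nat_lit 0))) (BT.node (nat_lit 6) (BT.leaf (nat_lit 262662)) (BT.leaf (nat_lit 0))))) (BT.node (nat_lit 10) (BT.node (nat_lit 8) (BT.leaf (nat_lit 262692)) (BT.node (nat_lit 9) (BT.leaf (nat_lit 266756)) (BT.leaf (nat_lit 262660)))) (BT.node (nat_lit 12) (BT.node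 (nat_lit 11) (BT.leaf (nat_lit 2957976)) (BT.leaf (nat_lit 2960008))) (BT.node (nat_lit 13) (BT.leaf (nat_lit 15287168)) (BT.leaf (nat_lit 31228096)))))) (BT.node (nat_lit 21) (BT.node (nat_lit 17) (BT.node (nat_lit 15) (BT.leaf (nat_lit 2957960)) (BT.node (nat_lit 16) (BT.leaf (nat_lit 2892480)) (BT.leaf (nat_lit 28672064)))) (BT.node (nat_lit 19) (BT.node (nat_lit 18) (BT.leaf (nat_lit 2892288)) (BT.leaf (nat_lit 2884224))) (BT.node (nat_lit 20) (BT.leaf (nat_lit 2908800)) (BT.leaf (nat_lit 2892416))))) (BT.node (nat_lit 24) (BT.node (nat_lit 22) (BT.leaf (nat_lit 196672)) (BT.node (nat_lit 23) (BT.leaf (nat_lit 262144)) (BT.leaf (nat_lit 589952)))) (BT.node (nat_lit 26) (BT.node (nat_lit 25) (BT.leaf (nat_lit 262912)) (BT.leaf (nat_lit 295424))) (BT.node (nat_lit 27) (BT.leaf (nat_lit 328192)) (BT.leaf (nat_lit 262656)))))))⟩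

theorem okM23x2 : cM23x2.OK := Cert.ok_of_check (by decide) (by decide +kernel)

noncomputable def LM23x2 : List Lvl := [⟨(nat_lit 2), [[(nat_lit 1)],
  [(nat_lit 9)],
  [(nat_lit 11)],
  [(nat_lit 13)]], (nat_lit 1)⟩,
  ⟨(nat_lit 0), [[(nat_lit 5), (nat_lit 13)],
  [(nat_lit 7)]], (nat_lit 1)⟩,
  ⟨(nat_lit 1), [[(nat_lit 3), (nat_lit 7)]], (nat_lit 1)⟩]

noncomputable def gM23x2 : List (List Nat) := [[(nat_lit 15)],
  [(nat_lit 17)],
  [(nat_lit 19)]]

theorem pbdM23x2 : PBd M23 2 1 := by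
  have h : Reps D0 NM23x2 (el NM23x2) := reps_el (by decide +kernel)
  have hm : ∀ i, el NM23x2 i ∈ M23 := el_mem (m := 10) rfl (mem_M23_of h (by decide +kernel) (by decide +kernel))
  exact okM23x2.pbd (holds_sub (same_el h) (o := 0) (gs := gM23x2) (allFrom_zero.1 (by decide +kernel))
    (by decide +kernel) hm) (low_sub h (by decide) (c := LM23x2) (by decide +kernel) hm) card_M23 (by decide) rfl rfl

noncomputable def NM23x3_0 : Net := (Net.cons (nat_lit 1) (nat_lit 1053716) (Net.cons (nat_lit 2) (nat_lit 4640) (Net.cons (nat_lit 4) (nat_lit 66048) (Net.cons (nat_lit 8) (nat_lit 9) (Net.cons (nat_lit 16) (nat_lit 13) (Net.cons (nat_lit 8) (nat_lit 52) (Net.cons (nat_lit 4) (nat_lit 331264) (Net.cons (nat_lit 2) (nat_lit 8704) (Net.cons (nat_lit 1) (nat_lit 1328144) Net.nil)))))))))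
noncomputable def NM23x3_1 : Net := (Net.cons (nat_lit 1) (nat_lit 4276288) (Net.cons (nat_lit 2) (nat_lit 4128) (Net.cons (nat_lit 4) (nat_lit 655360) (Net.cons (nat_lit 8) (nat_lit 2) (Net.cons (nat_lit 16) (nat_lit 46) (Net.cons (nat_lit 8) (nat_lit 130) (Net.cons (nat_lit 4) (nat_lit 131330) (Net.cons (nat_lit 2) (nat_lit 8737) (Net.cons (nat_lit 1) (nat_lit 4264000) Net.nil)))))))))
noncomputable def NM23x3_2 : Net := (Net.cons (nat_lit 1) (nat_lit 4211776) (Net.cons (nat_lit 2) (nat_lit 1253408) (Net.cons (nat_lit 4) (nat_lit 256) (Net.cons (nat_lit 8) (nat_lit 39) (Net.cons (nat_lit 16) (nat_lit 39) (Net.cons (nat_lit 8) (nat_lit 96) (Net.cons (nat_lit 4) (nat_lit 788748) (Net.cons (nat_lit 2) (nat_lit 3346944) (Net.cons (nat_lit 1) (nat_lit 5588048) Net.nil)))))))))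
noncomputable def NM23x3_3 : Net := (Net.cons (nat_lit 1) (nat_lit 262468) (Net.cons (nat_lit 2) (nat_lit 1253664) (Net.cons (nat_lit 4) (nat_lit 262144) (Net.cons (nat_lit 8) (nat_lit 67) (Net.cons (nat_lit 16) (nat_lit 83) (Net.cons (nat_lit 8) (nat_lit 114) (Net.cons (nat_lit 4) (nat_lit 393479) (Net.cons (nat_lit 2) (nat_lit 1245442) (Net.cons (nat_lit 1) (nat_lit 266309) Net.nil)))))))))
noncomputable def NM23x3 : List Net := [NM23x3_0, NM23x3_1, NM23x3_2, NM23x3_3]

noncomputable def PM23x3 : Dat := ⟨(nat_lit 3), (nat_lit 2), (nat_lit 6), (nat_lit 4), (nat_lit 7),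
  (BT.node (nat_lit 1) (BT.leaf []) (BT.node (nat_lit 2) (BT.leaf [(nat_lit 1)]) (BT.leaf []))),
  [⟨(nat_lit 0), [(nat_lit 1)], [(nat_lit 0)]⟩,
  ⟨(nat_lit 0), [(nat_lit 0)], [(nat_lit 0), (nat_lit 1)]⟩,
  ⟨(nat_lit 1), [(nat_lit 1)], [(nat_lit 0), (nat_lit 1)]⟩,
  ⟨(nat_lit 1), [(nat_lit 0)], [(nat_lit 0), (nat_lit 0), (nat_lit 1)]⟩]⟩

noncomputable def XM23x3_0 : List Test := [⟨(nat_lit 1), [(nat_lit 0), (nat_lit 1)], [(nat_lit 1), (nat_lit 0)], (nat_lit 0x40040000000)⟩,
  ⟨(nat_lit 2), [(nat_lit 2), (nat_lit 2), (nat_lit 2)], [], (nat_lit 0x40001000000)⟩,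
  ⟨(nat_lit 2), [(nat_lit 3), (nat_lit 3), (nat_lit 3)], [], (nat_lit 0x41001000000)⟩]

noncomputable def cM23x3 : Cert := ⟨PM23x3, (nat_lit 0), XM23x3_0,
  [],
  [(nat_lit 0),
  (nat_lit 0)],
  (BT.node (nat_lit 1) (BT.leaf (nat_lit 6)) (BT.node (nat_lit 2) (BT.leaf (nat_lit 2)) (BT.leaf (nat_lit 21))))⟩

theorem okM23x3 : cM23x3.OK := Cert.ok_of_check (by decide) (by decide +kernel)

noncomputable def LM23x3 : List Lvl := [⟨(nat_lit 0), [[(nat_lit 1), (nat_lit 3)],
  [(nat_lit 1), (nat_lit 3)],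
  [(nat_lit 3)],
  [(nat_lit 3)]], (nat_lit 1)⟩]

noncomputable def gM23x3 : List (List Nat) := [[(nat_lit 5)],
  [(nat_lit 7)]]

theorem pbdM23x3 : PBd M23 3 1 := by
  have h : Reps D0 NM23x3 (el NM23x3) := reps_el (by decide +kernel)
  have hm : ∀ i, el NM23x3 i ∈ M23 := el_mem (m := 4) rfl (mem_M23_of h (by decide +kernel) (by decide +kernel))
  exact okM23x3.pbd (holds_sub (same_el h) (o := 0) (gs := gM23x3) (allFrom_zero.1 (by decide +kernel))
    (by decide +kernel) hm) (low_sub h (by decide) (c := LM23x3) (by decide +kernel) hm) card_M23 (by decide) rfl rfl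

theorem multM23 : Nat.card (Mult M23) ≤ 1 :=
  card_mult_le (b := 23) (k := 10) card_M23 [(2, 1), (3, 1)] (by decide +kernel) (by
    simp only [List.mem_cons, List.not_mem_nil, or_false, forall_eq_or_imp, forall_eq]
    exact ⟨⟨Nat.prime_two, pbdM23x2⟩, Nat.prime_three, pbdM23x3⟩)

instance finiteM24 : Finite M24 := Nat.finite_of_card_ne_zero (by rw [card_M24]; decide)

noncomputable def NM24x2_0 : Net := (Net.cons (nat_lit 1) (nat_lit 1048592) (Net.cons (nat_lit 2) (nat_lit 3277584) (Net.cons (nat_lit 4) (nat_lit 397056) (Net.cons (nat_lit 8) (nat_lit 225) (Net.cons (nat_lit 16) (nat_lit 255) (Net.cons (nat_lit 8) (nat_lit 45) (Net.cons (nat_lit 4) (nat_lit 786447) (Net.cons (nat_lit 2) (nat_lit 1245729) (Net.cons (nat_lit 1) (nat_lit 4543813) Net.nil)))))))))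
noncomputable def NM24x2_1 : Net := (Net.cons (nat_lit 1) (nat_lit 1118272) (Net.cons (nat_lit 2) (nat_lit 2171648) (Net.cons (nat_lit 4) (nat_lit 655360) (Net.cons (nat_lit 8) (nat_lit 208) (Net.cons (nat_lit 16) (nat_lit 249) (Net.cons (nat_lit 8) (nat_lit 77) (Net.cons (nat_lit 4) (nat_lit 264974) (Net.cons (nat_lit 2) (nat_lit 12833) (Net.cons (nat_lit 1) (nat_lit 4194577) Net.nil)))))))))
noncomputable def NM24x2_2 : Net := (Net.cons (nat_lit 1) (nat_lit 1310976) (Net.cons (nat_lit 2) (nat_lit 8960) (Net.cons (nat_lit 4) (nat_lit 788992) (Net.cons (nat_lit 8) (nat_lit 21) (Net.cons (nat_lit 16) (nat_lit 125) (Net.cons (nat_lit 8) (nat_lit 211) (Net.cons (nat_lit 4) (nat_lit 591113) (Net.cons (nat_lit 2) (nat_lit 131330) (Net.cons (nat_lit 1) (nat_lit 5521732) Net.nil)))))))))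
noncomputable def NM24x2_3 : Net := (Net.cons (nat_lit 1) (nat_lit 5570816) (Net.cons (nat_lit 2) (nat_lit 1188128) (Net.cons (nat_lit 4) (nat_lit 524288) (Net.cons (nat_lit 8) (nat_lit 20) (Net.cons (nat_lit 16) (nat_lit 255) (Net.cons (nat_lit 8) (nat_lit 160) (Net.cons (nat_lit 4) (nat_lit 853510) (Net.cons (nat_lit 2) (nat_lit 3154226) (Net.cons (nat_lit 1) (nat_lit 21589) Net.nil)))))))))
noncomputable def NM24x2_4 : Net := (Net.cons (nat_lit 1) (nat_lit 5309440) (Net.cons (nat_lit 2) (nat_lit 1114624) (Net.cons (nat_lit 4) (nat_lit 65536) (Net.cons (nat_lit 8) (nat_lit 194) (Net.cons (nat_lit 16) (nat_lit 210) (Net.cons (nat_lit 8) (nat_lit 191) (Net.cons (nat_lit 4) (nat_lit 921099) (Net.cons (nat_lit 2) (nat_lit 2240819) (Net.cons (nat_lit 1) (nat_lit 5309440) Net.nil)))))))))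
noncomputable def NM24x2_5 : Net := (Net.cons (nat_lit 1) (nat_lit 1376256) (Net.cons (nat_lit 2) (nat_lit 1254144) (Net.cons (nat_lit 4) (nat_lit 263680) (Net.cons (nat_lit 8) (nat_lit 96) (Net.cons (nat_lit 16) (nat_lit 246) (Net.cons (nat_lit 8) (nat_lit 6) (Net.cons (nat_lit 4) (nat_lit 264454) (Net.cons (nat_lit 2) (nat_lit 1056771) (Net.cons (nat_lit 1) (nat_lit 5381) Net.nil)))))))))
noncomputable def NM24x2_6 : Net := (Net.cons (nat_lit 1) (nat_lit 5243904) (Net.cons (nat_lit 2) (nat_lit 3285504) (Net.cons (nat_lit 4) (nat_lit 657408) (Net.cons (nat_lit 8) (nat_lit 68) (Net.cons (nat_lit 16) (nat_lit 214) (Net.cons (nat_lit 8) (nat_lit 15) (Net.cons (nat_lit 4) (nat_lit 920577) (Net.cons (nat_lit 2) (nat_lit 2237200) (Net.cons (nat_lit 1) (nat_lit 1048577) Net.nil)))))))))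
noncomputable def NM24x2_7 : Net := (Net.cons (nat_lit 1) (nat_lit 16) (Net.cons (nat_lit 2) (nat_lit 3219488) (Net.cons (nat_lit 4) (nat_lit 65792) (Net.cons (nat_lit 8) (nat_lit 144) (Net.cons (nat_lit 16) (nat_lit 179) (Net.cons (nat_lit 8) (nat_lit 208) (Net.cons (nat_lit 4) (nat_lit 65800) (Net.cons (nat_lit 2) (nat_lit 3219488) (Net.cons (nat_lit 1) (nat_lit 1040) Net.nil)))))))))
noncomputable def NM24x2_8 : Net := (Net.cons (nat_lit 1) (nat_lit 5259264) (Net.cons (nat_lit 2) (nat_lit 205056) (Net.cons (nat_lit 4) (nat_lit 2560) (Net.cons (nat_lit 8) (nat_lit 128) (Net.cons (nat_lit 16) (nat_lit 148) (Net.cons (nat_lit 8) (nat_lit 169) (Net.cons (nat_lit 4) (nat_lit 133632) (Net.cons (nat_lit 2) (nat_lit 209152) (Net.cons (nat_lit 1) (nat_lit 5259264) Net.nil)))))))))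
noncomputable def NM24x2_9 : Net := (Net.cons (nat_lit 1) (nat_lit 16400) (Net.cons (nat_lit 2) (nat_lit 1179696) (Net.cons (nat_lit 4) (nat_lit 66560) (Net.cons (nat_lit 8) (nat_lit 50) (Net.cons (nat_lit 16) (nat_lit 115) (Net.cons (nat_lit 8) (nat_lit 54) (Net.cons (nat_lit 4) (nat_lit 66568) (Net.cons (nat_lit 2) (nat_lit 1179696) (Net.cons (nat_lit 1) (nat_lit 17424) Net.nil)))))))))
noncomputable def NM24x2_10 : Net := (Net.cons (nat_lit 1) (nat_lit 262160) (Net.cons (nat_lit 2) (nat_lit 1179904) (Net.cons (nat_lit 4) (nat_lit 197120) (Net.cons (nat_lit 8) (nat_lit 22) (Net.cons (nat_lit 16) (nat_lit 182) (Net.cons (nat_lit 8) (nat_lit 33) (Net.cons (nat_lit 4) (nat_lit 133127) (Net.cons (nat_lit 2) (nat_lit 3211314) (Net.cons (nat_lit 1) (nat_lit 1069056) Net.nil)))))))))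
noncomputable def NM24x2_11 : Net := (Net.cons (nat_lit 1) (nat_lit 4264192) (Net.cons (nat_lit 2) (nat_lit 3150096) (Net.cons (nat_lit 4) (nat_lit 787200) (Net.cons (nat_lit 8) (nat_lit 16) (Net.cons (nat_lit 16) (nat_lit 180) (Net.cons (nat_lit 8) (nat_lit 160) (Net.cons (nat_lit 4) (nat_lit 854016) (Net.cons (nat_lit 2) (nat_lit 3289137) (Net.cons (nat_lit 1) (nat_lit 4199488) Net.nil)))))))))
noncomputable def NM24x2_12 : Net := (Net.cons (nat_lit 1) (nat_lit 5571648) (Net.cons (nat_lit 2) (nat_lit 3219968) (Net.cons (nat_lit 4) (nat_lit 199424) (Net.cons (nat_lit 8) (nat_lit 5) (Net.cons (nat_lit 16) (nat_lit 229) (Net.cons (nat_lit 8) (nat_lit 228) (Net.cons (nat_lit 4) (nat_lit 395010) (Net.cons (nat_lit 2) (nat_lit 73760) (Net.cons (nat_lit 1) (nat_lit 332865) Net.nil)))))))))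
noncomputable def NM24x2_13 : Net := (Net.cons (nat_lit 1) (nat_lit 1053700) (Net.cons (nat_lit 2) (nat_lit 3224352) (Net.cons (nat_lit 4) (nat_lit 67584) (Net.cons (nat_lit 8) (nat_lit 208) (Net.cons (nat_lit 16) (nat_lit 211) (Net.cons (nat_lit 8) (nat_lit 137) (Net.cons (nat_lit 4) (nat_lit 591874) (Net.cons (nat_lit 2) (nat_lit 3212080) (Net.cons (nat_lit 1) (nat_lit 1053700) Net.nil)))))))))
noncomputable def NM24x2 : List Net := [NM24x2_0, NM24x2_1, NM24x2_2, NM24x2_3, NM24x2_4, NM24x2_5, NM24x2_6, NM24x2_7, NM24x2_8, NM24x2_9, NM24x2_10, NM24x2_11, NM24x2_12, NM24x2_13]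

noncomputable def PM24x2 : Dat := ⟨(nat_lit 2), (nat_lit 10), (nat_lit 8), (nat_lit 12), (nat_lit 67),
  (BT.node (nat_lit 27) (BT.node (nat_lit 13) (BT.node (nat_lit 6) (BT.node (nat_lit 3) (BT.node (nat_lit 1) (BT.leaf []) (BT.node (nat_lit 2) (BT.leaf [(nat_lit 1)]) (BT.leaf []))) (BT.node (nat_lit 4) (BT.leaf [(nat_lit 2)]) (BT.node (nat_lit 5) (BT.leaf [(nat_lit 2), (nat_lit 5)]) (BT.leaf [])))) (BT.node (nat_lit 9) (BT.node (nat_lit 7) (BT.leaf [(nat_lit 3), (nat_lit 4)]) (BT.node (nat_lit 8) (BT.leaf [(nat_lit 3)]) (BT.leaf [(nat_lit 3), (nat_lit 6)]))) (BT.node (nat_lit 11) (BT.node (nat_lit 10) (BT.leaf []) (BT.leaf [(nat_lit 4)])) (BT.node (nat_lit 12) (BT.leaf [(nat_lit 4)]) (BT.leaf [(nat_lit 4), (nat_lit 7)]))))) (BT.node (nat_lit 20) (BT.node (nat_lit 16) (BT.node (nat_lit 14) (BT.leaf [(nat_lit 4)]) (BT.node (nat_lit 15) (BT.leaf []) (BT.leaf [(nat_lit 5)]))) (BT.node (nat_lit 18) (BT.node (nat_lit 17) (BT.leaf [(nat_lit 5)]) (BT.leaf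 [(nat_lit 5)])) (BT.node (nat_lit 19) (BT.leaf [(nat_lit 5), (nat_lit 8)]) (BT.leaf [(nat_lit 5), (nat_lit 9)])))) (BT.node (nat_lit 23) (BT.node (nat_lit 21) (BT.leaf []) (BT.node (nat_lit 22) (BT.leaf [(nat_lit 6), (nat_lit 7)]) (BT.leaf [(nat_lit 6), (nat_lit 8)]))) (BT.node (nat_lit 25) (BT.node (nat_lit 24) (BT.leaf [(nat_lit 6)]) (BT.leaf [(nat_lit 6)])) (BT.node (nat_lit 26) (BT.leaf [(nat_lit 6)]) (BT.leaf [(nat_lit 6)])))))) (BT.node (nat_lit 41) (BT.node (nat_lit 34) (BT.node (nat_lit 30) (BT.node (nat_lit 28) (BT.leaf []) (BT.node (nat_lit 29) (BT.leaf [(nat_lit 7)]) (BT.leaf [(nat_lit 7), (nat_lit 9)]))) (BT.node (nat_lit 32) (BT.node (nat_lit 31) (BT.leaf [(nat_lit 7)]) (BT.leaf [(nat_lit 7)])) (BT.node (nat_lit 33) (BT.leaf [(nat_lit 7)]) (BT.leaf [(nat_lit 7)])))) (BT.node (nat_lit 37) (BT.node (nat_lit 35) (BT.leaf [(nat_lit 7)]) (BT.node (nat_lit 36) (BT.leaf []) (BT.leaf [(nat_lit 8), (nat_lit 9)]))) (BT.node (nat_lit 39) (BT.node (nat_lit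 38) (BT.leaf [(nat_lit 8)]) (BT.leaf [(nat_lit 8)])) (BT.node (nat_lit 40) (BT.leaf [(nat_lit 8)]) (BT.leaf [(nat_lit 8)]))))) (BT.node (nat_lit 48) (BT.node (nat_lit 44) (BT.node (nat_lit 42) (BT.leaf [(nat_lit 8)]) (BT.node (nat_lit 43) (BT.leaf [(nat_lit 8)]) (BT.leaf [(nat_lit 8)]))) (BT.node (nat_lit 46) (BT.node (nat_lit 45) (BT.leaf []) (BT.leaf [(nat_lit 9)])) (BT.node (nat_lit 47) (BT.leaf [(nat_lit 9)]) (BT.leaf [(nat_lit 9)])))) (BT.node (nat_lit 51) (BT.node (nat_lit 49) (BT.leaf [(nat_lit 9)]) (BT.node (nat_lit 50) (BT.leaf [(nat_lit 9)]) (BT.leaf [(nat_lit 9)]))) (BT.node (nat_lit 53) (BT.node (nat_lit 52) (BT.leaf [(nat_lit 9)]) (BT.leaf [(nat_lit 9)])) (BT.node (nat_lit 54) (BT.leaf [(nat_lit 9)]) (BT.leaf []))))))),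
  [⟨(nat_lit 0), [(nat_lit 2)], [(nat_lit 5)]⟩,
  ⟨(nat_lit 0), [(nat_lit 6)], [(nat_lit 8)]⟩,
  ⟨(nat_lit 1), [(nat_lit 5)], [(nat_lit 1), (nat_lit 8)]⟩,
  ⟨(nat_lit 1), [(nat_lit 6)], [(nat_lit 3), (nat_lit 9)]⟩,
  ⟨(nat_lit 2), [(nat_lit 4)], [(nat_lit 0), (nat_lit 7)]⟩,
  ⟨(nat_lit 2), [(nat_lit 6)], [(nat_lit 2), (nat_lit 9)]⟩,
  ⟨(nat_lit 1), [(nat_lit 7)], [(nat_lit 4), (nat_lit 8), (nat_lit 9)]⟩,
  ⟨(nat_lit 3), [(nat_lit 1)], [(nat_lit 1), (nat_lit 3), (nat_lit 8)]⟩,
  ⟨(nat_lit 0), [(nat_lit 7)], [(nat_lit 9)]⟩,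
  ⟨(nat_lit 0), [(nat_lit 3)], [(nat_lit 3), (nat_lit 6)]⟩,
  ⟨(nat_lit 0), [(nat_lit 0)], [(nat_lit 0), (nat_lit 7), (nat_lit 9)]⟩,
  ⟨(nat_lit 1), [(nat_lit 0)], [(nat_lit 0), (nat_lit 1), (nat_lit 4), (nat_lit 5), (nat_lit 7), (nat_lit 9)]⟩]⟩

noncomputable def XM24x2_0 : List Test := [⟨(nat_lit 1), [(nat_lit 0), (nat_lit 0)], [], (nat_lit 0x100000000000000000000000000000000000000000000000000000000000000000000010000000000000000000000000000010000000000000000000000000000000000)⟩,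
  ⟨(nat_lit 1), [(nat_lit 1), (nat_lit 1)], [], (nat_lit 0x100000000000000000000010000000000000000000000000000000001000000000000000000000000000000000000000000000000000000000000000000000000000000)⟩,
  ⟨(nat_lit 2), [(nat_lit 2), (nat_lit 2)], [], (nat_lit 0x100000000000000000000010000000000000100000000000000000000000000000000010000000000000000000000000000000000010000000000000000000000000000)⟩,
  ⟨(nat_lit 2), [(nat_lit 3), (nat_lit 3)], [], (nat_lit 0x101000000000001000000000000000000000000000000000000000001000000000000000000000000000000000001000000000000000000000000000000000000000000)⟩,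
  ⟨(nat_lit 3), [(nat_lit 4), (nat_lit 4)], [], (nat_lit 0x100000000000000000000000000000000000000010000000000000100000000000000000000000000010000000000000000000000000001000000000000000000000000)⟩,
  ⟨(nat_lit 3), [(nat_lit 5), (nat_lit 5)], [], (nat_lit 0x101000000000000010000000000000000000000000000000000000001000000000000000000000000000000000000000000010000000000000000000000000000000000)⟩,
  ⟨(nat_lit 0), [(nat_lit 2)], [(nat_lit 1), (nat_lit 1)], (nat_lit 0x100000000000000000000000000000000000000000000000000000000000000000000010000000100000000000000000000000000000000000000000000000000000000)⟩,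
  ⟨(nat_lit 0), [(nat_lit 3)], [(nat_lit 0), (nat_lit 0)], (nat_lit 0x100000000000000000000000000000000000000000000000000000000000000000000000000000000010000000100000000000000000000000000000000000000000000)⟩,
  ⟨(nat_lit 0), [(nat_lit 3)], [(nat_lit 2), (nat_lit 2)], (nat_lit 0x100000000000000000000000000000000000000000000000000000001000000010000000000000000000000000000000000000000000000000000000000000000000000)⟩,
  ⟨(nat_lit 0), [(nat_lit 4)], [(nat_lit 2), (nat_lit 2)], (nat_lit 0x100000000000000000000000000000000000000010000000001000000000000000000000000000000000000000000000000000000000000000000000000000000000000)⟩,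
  ⟨(nat_lit 0), [(nat_lit 5)], [(nat_lit 3), (nat_lit 3)], (nat_lit 0x100000000000000000000010000000001000000000000000000000000000000000000000000000000000000000000000000000000000000000000000000000000000000)⟩,
  ⟨(nat_lit 0), [(nat_lit 5)], [(nat_lit 4), (nat_lit 4)], (nat_lit 0x101000000000100000000000000000000000000000000000000000000000000000000000000000000000000000000000000000000000000000000000000000000000000)⟩,
  ⟨(nat_lit 0), [(nat_lit 6)], [(nat_lit 0), (nat_lit 0)], (nat_lit 0x100000000000000000000000000000000000000010000000000000100000000000000000000000000000000000000000000000000000000000000000000000000000000)⟩,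
  ⟨(nat_lit 0), [(nat_lit 6)], [(nat_lit 1), (nat_lit 1)], (nat_lit 0x100000000000000000000010000000000000100000000000000000000000000000000000000000000000000000000000000000000000000000000000000000000000000)⟩,
  ⟨(nat_lit 0), [(nat_lit 7)], [(nat_lit 1), (nat_lit 1)], (nat_lit 0x101000000000000000100000000000000000000000000000000000000000000000000000000000000000000000000000000000000000000000000000000000000000000)⟩,
  ⟨(nat_lit 0), [(nat_lit 8)], [(nat_lit 0), (nat_lit 0)], (nat_lit 0x101000000000000000001000000000000000000000000000000000000000000000000000000000000000000000000000000000000000000000000000000000000000000)⟩,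
  ⟨(nat_lit 2), [(nat_lit 6), (nat_lit 6)], [], (nat_lit 0x101010000000100000000010000000100000000010000000000000000000000000000000000000000010000000000000000000000000000000000000000000000000000)⟩,
  ⟨(nat_lit 4), [(nat_lit 7), (nat_lit 7)], [], (nat_lit 0x100000000000000000000010000000001000100000000000000000000000000000000000000000000000000000001000100000000000000000000000000000000000000)⟩,
  ⟨(nat_lit 1), [(nat_lit 8), (nat_lit 9)], [(nat_lit 9), (nat_lit 8)], (nat_lit 0x100000001000001000000000000000000000000000000000100000000000000000000000000000000000000000000000000000000000000000000000000000000000000)⟩,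
  ⟨(nat_lit 0), [(nat_lit 2)], [(nat_lit 2), (nat_lit 1)], (nat_lit 0x100000000000000000000000000000000000000000000000000000000000000000000010000010000000000000000000000000000000000000000000000000000000000)⟩,
  ⟨(nat_lit 0), [(nat_lit 3)], [(nat_lit 3), (nat_lit 0)], (nat_lit 0x100000000000000000000000000000000000000000000000000000000000000000000000000000000010100000000000000000000000000000000000000000000000000)⟩,
  ⟨(nat_lit 0), [(nat_lit 3)], [(nat_lit 3), (nat_lit 2)], (nat_lit 0x100000000000000000000000000000000000000000000000000000001000001000000000000000000000000000000000000000000000000000000000000000000000000)⟩,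
  ⟨(nat_lit 0), [(nat_lit 4)], [(nat_lit 4), (nat_lit 2)], (nat_lit 0x100000000000000000000000000000000000000010000010000000000000000000000000000000000000000000000000000000000000000000000000000000000000000)⟩,
  ⟨(nat_lit 0), [(nat_lit 5)], [(nat_lit 5), (nat_lit 3)], (nat_lit 0x100000000000000000000010000010000000000000000000000000000000000000000000000000000000000000000000000000000000000000000000000000000000000)⟩,
  ⟨(nat_lit 0), [(nat_lit 5)], [(nat_lit 5), (nat_lit 4)], (nat_lit 0x101000000010000000000000000000000000000000000000000000000000000000000000000000000000000000000000000000000000000000000000000000000000000)⟩,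
  ⟨(nat_lit 0), [(nat_lit 6)], [(nat_lit 6), (nat_lit 0)], (nat_lit 0x100000000000000000000000000000000000000010100000000000000000000000000000000000000000000000000000000000000000000000000000000000000000000)⟩,
  ⟨(nat_lit 0), [(nat_lit 6)], [(nat_lit 6), (nat_lit 1)], (nat_lit 0x100000000000000000000010001000000000000000000000000000000000000000000000000000000000000000000000000000000000000000000000000000000000000)⟩,
  ⟨(nat_lit 0), [(nat_lit 7)], [(nat_lit 7), (nat_lit 1)], (nat_lit 0x101000100000000000000000000000000000000000000000000000000000000000000000000000000000000000000000000000000000000000000000000000000000000)⟩,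
  ⟨(nat_lit 0), [(nat_lit 8)], [(nat_lit 8), (nat_lit 0)], (nat_lit 0x101010000000000000000000000000000000000000000000000000000000000000000000000000000000000000000000000000000000000000000000000000000000000)⟩,
  ⟨(nat_lit 1), [(nat_lit 0), (nat_lit 10)], [(nat_lit 10), (nat_lit 0)], (nat_lit 0x100000000010000000000000000000000000000000001000000000000000000000000000000000001000000000000000000000001000000000000000000000000000000)⟩,
  ⟨(nat_lit 2), [(nat_lit 3), (nat_lit 2)], [(nat_lit 2), (nat_lit 3)], (nat_lit 0x100010000000000000100000000000001000000000000000000000000010000000000000000000000000000000000000100000000000000000000000000000000000000)⟩,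
  ⟨(nat_lit 0), [(nat_lit 2)], [(nat_lit 1), (nat_lit 0)], (nat_lit 0x100000000000000000000000000000000000000000000000000000000000000000000000000000001000000000000000000000000000000000000000000000000000000)⟩,
  ⟨(nat_lit 0), [(nat_lit 3)], [(nat_lit 1), (nat_lit 0)], (nat_lit 0x100000000000000000000000000000000000000000000000000000000000000000000000000000000000000010000000000000000000000000000000000000000000000)⟩,
  ⟨(nat_lit 0), [(nat_lit 4)], [(nat_lit 2), (nat_lit 0)], (nat_lit 0x100000000000000000000000000000000000000000000000000000100000000000000000000000000000000000000000000000000000000000000000000000000000000)⟩,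
  ⟨(nat_lit 0), [(nat_lit 5)], [(nat_lit 3), (nat_lit 1)], (nat_lit 0x100000000000000000000000000000000000100000000000000000000000000000000000000000000000000000000000000000000000000000000000000000000000000)⟩,
  ⟨(nat_lit 0), [(nat_lit 5)], [(nat_lit 4), (nat_lit 0)], (nat_lit 0x100000000000000000001000000000000000000000000000000000000000000000000000000000000000000000000000000000000000000000000000000000000000000)⟩,
  ⟨(nat_lit 0), [(nat_lit 6)], [(nat_lit 4), (nat_lit 1)], (nat_lit 0x100000000000000000000000000000100000000000000000000000000000000000000000000000000000000000000000000000000000000000000000000000000000000)⟩,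
  ⟨(nat_lit 0), [(nat_lit 6)], [(nat_lit 5), (nat_lit 0)], (nat_lit 0x100000000000000000000000000000000000000000001000000000000000000000000000000000000000000000000000000000000000000000000000000000000000000)⟩,
  ⟨(nat_lit 0), [(nat_lit 7)], [(nat_lit 3), (nat_lit 1)], (nat_lit 0x100000000000001000000000000000000000000000000000000000000000000000000000000000000000000000000000000000000000000000000000000000000000000)⟩,
  ⟨(nat_lit 0), [(nat_lit 8)], [(nat_lit 2), (nat_lit 0)], (nat_lit 0x100000000000000010000000000000000000000000000000000000000000000000000000000000000000000000000000000000000000000000000000000000000000000)⟩,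
  ⟨(nat_lit 0), [(nat_lit 6)], [(nat_lit 5), (nat_lit 4)], (nat_lit 0x100000001000000000000000000000000000000000000000000000000000000000000000000000000000000000000000000000000000000000000000000000000000000)⟩,
  ⟨(nat_lit 0), [(nat_lit 7)], [(nat_lit 5), (nat_lit 3)], (nat_lit 0x100000000000000000000000100000000000000000000000000000000000000000000000000000000000000000000000000000000000000000000000000000000000000)⟩,
  ⟨(nat_lit 0), [(nat_lit 4)], [(nat_lit 3), (nat_lit 2)], (nat_lit 0x100000000000000000000000000000000000000000100000100000000000100000000000000000000000000000000000000000000000000000000000000000000000000)⟩,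
  ⟨(nat_lit 0), [(nat_lit 5)], [(nat_lit 3), (nat_lit 2)], (nat_lit 0x100000000000000000000000001000000010000000000000000000000010000000000000000000000000000000000000000000000000000000000000000000000000000)⟩,
  ⟨(nat_lit 0), [(nat_lit 3)], [(nat_lit 2), (nat_lit 0)], (nat_lit 0x100000000000000000000000000000000000000000000000000000000000100000001000000000000000001000000000000000000000000000000000000000000000000)⟩,
  ⟨(nat_lit 0), [(nat_lit 6)], [(nat_lit 1), (nat_lit 0)], (nat_lit 0x100000000000000000000000100000000000001000000000000010000000000000000000000000000000000000000000000000000000000000000000000000000000000)⟩,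
  ⟨(nat_lit 0), [(nat_lit 3)], [(nat_lit 2), (nat_lit 1)], (nat_lit 0x100000000000000000000010001000000000000000000000000000000010000000100000001000000000000000000000000000000000000000000000000000000000000)⟩,
  ⟨(nat_lit 0), [(nat_lit 4)], [(nat_lit 2), (nat_lit 1)], (nat_lit 0x101000100000000000000000000000000000000000001000000010000000000000000000100000000000000000000000000000000000000000000000000000000000000)⟩,
  ⟨(nat_lit 2), [(nat_lit 11), (nat_lit 11)], [], (nat_lit 0x100000000010000000101000000000000000000010001010000010100000000000000010100000101010000010100000000000000010100000000000000000000000000)⟩]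

noncomputable def cM24x2 : Cert := ⟨PM24x2, (nat_lit 0), XM24x2_0,
  [],
  [(nat_lit 0),
  (nat_lit 0),
  (nat_lit 0),
  (nat_lit 0),
  (nat_lit 0x100000000000000000000000000000000000000000000000000000000000000000000000000000000000000000000000001000000000000000000000000000000000000),
  (nat_lit 0x100000000000000000000000000000000000000000000000000000000000000000000000000000000000000000000000000000100000000000000000000000000000000),
  (nat_lit 0x100000000000000000000000000000000000000000000000000000000000000000000000000000000000000000000010000000000000000000000000000000000000000),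
  (nat_lit 0x100000000000000000000000000000000000000000000000000000000000000000000000000000000000001000000000000000000000000000000000000000000000000),
  (nat_lit 0x100000000000000000000000000000000000000000000000000000000000000000000000001000000000000000000000000000000000000000000000000000000000000),
  (nat_lit 0x100000000000000000000000000000000000000000000000000000000000000000000000100000000000000000000000000000000000000000000000000000000000000)],
  (BT.node (nat_lit 27) (BT.node (nat_lit 13) (BT.node (nat_lit 6) (BT.node (nat_lit 3) (BT.node (nat_lit 1) (BT.leaf (nat_lit 0x1e1001a810)) (BT.node (nat_lit 2) (BT.leaf (nat_lit 0x180878940c0e7)) (BT.leaf (nat_lit 0x8c00008027)))) (BT.node (nat_lit 4) (BT.leaf (nat_lit 0x28a1008000)) (BT.node (nat_lit 5) (BT.leaf (nat_lit 0)) (BT.leaf (nat_lit 0x8c0000a022))))) (BT.node (nat_lit 9) (BT.node (nat_lit 7) (BT.leaf (nat_lit 0)) (BT.node (nat_lit 8) (BT.leaf (nat_lit 0x480002a40a)) (BT.leaf (nat_lit 0)))) (BT.node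 (nat_lit 11) (BT.node (nat_lit 10) (BT.leaf (nat_lit 0x4c0000a00a)) (BT.leaf (nat_lit 0x1e1001b880))) (BT.node (nat_lit 12) (BT.leaf (nat_lit 0x100000000)) (BT.leaf (nat_lit 0)))))) (BT.node (nat_lit 20) (BT.node (nat_lit 16) (BT.node (nat_lit 14) (BT.leaf (nat_lit 0x1e1011b800)) (BT.node (nat_lit 15) (BT.leaf (nat_lit 0x1e1001b800)) (BT.leaf (nat_lit 2147483648)))) (BT.node (nat_lit 18) (BT.node (nat_lit 17) (BT.leaf (nat_lit 0x8c0000a063)) (BT.leaf (nat_lit 0x8c0008a023))) (BT.node (nat_lit 19) (BT.leaf (nat_lit 0)) (BT.leaf (nat_lit 0))))) (BT.node (nat_lit 23) (BT.node (nat_lit 21) (BT.leaf (nat_lit 0x8c0000a023)) (BT.node (nat_lit 22) (BT.leaf (nat_lit 0x154202041000)) (BT.leaf (nat_lit 0x404c5402c00a)))) (BT.node (nat_lit 25) (BT.node (nat_lit 24) (BT.leaf (nat_lit 0x400002102)) (BT.leaf (nat_lit 0x400202002))) (BT.node (nat_lit 26) (BT.leaf (nat_lit 0x54202041000)) (BT.leaf (nat_lit 0x4c5002c00a))))))) (BT.node (nat_lit 41) (BT.node (nat_lit 34)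 (BT.node (nat_lit 30) (BT.node (nat_lit 28) (BT.leaf (nat_lit 0x400002002)) (BT.node (nat_lit 29) (BT.leaf (nat_lit 0x200000000)) (BT.leaf (nat_lit 0x802008000000)))) (BT.node (nat_lit 32) (BT.node (nat_lit 31) (BT.leaf (nat_lit 0x200001200)) (BT.leaf (nat_lit 0x14000040000))) (BT.node (nat_lit 33) (BT.leaf (nat_lit 0x200401000)) (BT.leaf (nat_lit 0x2000000000))))) (BT.node (nat_lit 37) (BT.node (nat_lit 35) (BT.leaf (nat_lit 0x202001000)) (BT.node (nat_lit 36) (BT.leaf (nat_lit 0x200001000)) (BT.leaf (nat_lit 0xa22008000000)))) (BT.node (nat_lit 39) (BT.node (nat_lit 38) (BT.leaf (nat_lit 0x400000000)) (BT.leaf (nat_lit 0x8485402e00a))) (BT.node (nat_lit 40) (BT.leaf (nat_lit 0x400002400)) (BT.leaf (nat_lit 0x1000000000)))))) (BT.node (nat_lit 48) (BT.node (nat_lit 44) (BT.node (nat_lit 42) (BT.leaf (nat_lit 0x400802000)) (BT.node (nat_lit 43) (BT.leaf (nat_lit 0x404002000)) (BT.leaf (nat_lit 0x20000000000)))) (BT.node (nat_lit 46) (BT.node (nat_lit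 45) (BT.leaf (nat_lit 0x400002000)) (BT.leaf (nat_lit 0x800000000))) (BT.node (nat_lit 47) (BT.leaf (nat_lit 0x80000c000)) (BT.leaf (nat_lit 0x8000000000))))) (BT.node (nat_lit 51) (BT.node (nat_lit 49) (BT.leaf (nat_lit 0x4000000000)) (BT.node (nat_lit 50) (BT.leaf (nat_lit 0x800008800)) (BT.leaf (nat_lit 0x801008000)))) (BT.node (nat_lit 53) (BT.node (nat_lit 52) (BT.leaf (nat_lit 0x10000000000)) (BT.leaf (nat_lit 0x808008000))) (BT.node (nat_lit 54) (BT.leaf (nat_lit 0x810008000)) (BT.leaf (nat_lit 0x800008000))))))))⟩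

theorem okM24x2 : cM24x2.OK := Cert.ok_of_check (by decide) (by decide +kernel)

noncomputable def LM24x2 : List Lvl := [⟨(nat_lit 1), [[(nat_lit 5), (nat_lit 17), (nat_lit 19)],
  [(nat_lit 13)],
  [(nat_lit 15)]], (nat_lit 1)⟩,
  ⟨(nat_lit 0), [[(nat_lit 3), (nat_lit 13), (nat_lit 15), (nat_lit 19)],
  [(nat_lit 11), (nat_lit 15)],
  [(nat_lit 17)],
  [(nat_lit 19)]], (nat_lit 1)⟩,
  ⟨(nat_lit 2), [[(nat_lit 1), (nat_lit 5), (nat_lit 15), (nat_lit 19)],
  [(nat_lit 7), (nat_lit 15)],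
  [(nat_lit 9), (nat_lit 13), (nat_lit 15)]], (nat_lit 1)⟩]

noncomputable def gM24x2 : List (List Nat) := [[(nat_lit 21)],
  [(nat_lit 23)],
  [(nat_lit 25)],
  [(nat_lit 27)]]

theorem pbdM24x2 : PBd M24 2 1 := by
  have h : Reps D0 NM24x2 (el NM24x2) := reps_el (by decide +kernel)
  have hm : ∀ i, el NM24x2 i ∈ M24 := el_mem (m := 14) rfl (fun _ hi => mem_M24_of_OK h (by decide +kernel) hi)
  exact okM24x2.pbd (holds_sub (same_el h) (o := 0) (gs := gM24x2) (allFrom_zero.1 (by decide +kernel))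
    (by decide +kernel) hm) (low_sub h (by decide) (c := LM24x2) (by decide +kernel) hm) card_M24 (by decide) rfl rfl

noncomputable def NM24x3_0 : Net := (Net.cons (nat_lit 1) (nat_lit 1393988) (Net.cons (nat_lit 2) (nat_lit 3281152) (Net.cons (nat_lit 4) (nat_lit 786944) (Net.cons (nat_lit 8) (nat_lit 26) (Net.cons (nat_lit 16) (nat_lit 251) (Net.cons (nat_lit 8) (nat_lit 180) (Net.cons (nat_lit 4) (nat_lit 460808) (Net.cons (nat_lit 2) (nat_lit 3150355) (Net.cons (nat_lit 1) (nat_lit 332097) Net.nil)))))))))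
noncomputable def NM24x3_1 : Net := (Net.cons (nat_lit 1) (nat_lit 1118464) (Net.cons (nat_lit 2) (nat_lit 1049344) (Net.cons (nat_lit 8) (nat_lit 122) (Net.cons (nat_lit 16) (nat_lit 122) (Net.cons (nat_lit 8) (nat_lit 3) (Net.cons (nat_lit 4) (nat_lit 525057) (Net.cons (nat_lit 2) (nat_lit 2232320) (Net.cons (nat_lit 1) (nat_lit 1118464) Net.nil))))))))
noncomputable def NM24x3_2 : Net := (Net.cons (nat_lit 1) (nat_lit 5571604) (Net.cons (nat_lit 2) (nat_lit 2241072) (Net.cons (nat_lit 4) (nat_lit 133376) (Net.cons (nat_lit 8) (nat_lit 92) (Net.cons (nat_lit 16) (nat_lit 124) (Net.cons (nat_lit 8) (nat_lit 136) (Net.cons (nat_lit 4) (nat_lit 657666) (Net.cons (nat_lit 2) (nat_lit 3289120) (Net.cons (nat_lit 1) (nat_lit 5571604) Net.nil)))))))))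
noncomputable def NM24x3_3 : Net := (Net.cons (nat_lit 1) (nat_lit 4198720) (Net.cons (nat_lit 2) (nat_lit 2228992) (Net.cons (nat_lit 4) (nat_lit 196608) (Net.cons (nat_lit 8) (nat_lit 65) (Net.cons (nat_lit 16) (nat_lit 207) (Net.cons (nat_lit 8) (nat_lit 136) (Net.cons (nat_lit 4) (nat_lit 986892) (Net.cons (nat_lit 2) (nat_lit 2167043) (Net.cons (nat_lit 1) (nat_lit 1393685) Net.nil)))))))))
noncomputable def NM24x3_4 : Net := (Net.cons (nat_lit 1) (nat_lit 4264192) (Net.cons (nat_lit 2) (nat_lit 66048) (Net.cons (nat_lit 8) (nat_lit 16) (Net.cons (nat_lit 16) (nat_lit 84) (Net.cons (nat_lit 8) (nat_lit 50) (Net.cons (nat_lit 4) (nat_lit 8) (Net.cons (nat_lit 2) (nat_lit 66304) (Net.cons (nat_lit 1) (nat_lit 4526336) Net.nil))))))))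
noncomputable def NM24x3 : List Net := [NM24x3_0, NM24x3_1, NM24x3_2, NM24x3_3, NM24x3_4]

noncomputable def PM24x3 : Dat := ⟨(nat_lit 3), (nat_lit 3), (nat_lit 6), (nat_lit 6), (nat_lit 12),
  (BT.node (nat_lit 3) (BT.node (nat_lit 1) (BT.leaf []) (BT.node (nat_lit 2) (BT.leaf [(nat_lit 1), (nat_lit 2)]) (BT.leaf []))) (BT.node (nat_lit 4) (BT.leaf [(nat_lit 2)]) (BT.node (nat_lit 5) (BT.leaf [(nat_lit 2)]) (BT.leaf [])))),
  [⟨(nat_lit 0), [(nat_lit 0)], [(nat_lit 0), (nat_lit 0)]⟩,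
  ⟨(nat_lit 1), [(nat_lit 2)], [(nat_lit 2), (nat_lit 2)]⟩,
  ⟨(nat_lit 1), [(nat_lit 1)], [(nat_lit 1), (nat_lit 2), (nat_lit 2)]⟩,
  ⟨(nat_lit 0), [(nat_lit 2)], [(nat_lit 2), (nat_lit 2)]⟩,
  ⟨(nat_lit 0), [(nat_lit 1)], [(nat_lit 0), (nat_lit 1), (nat_lit 2)]⟩,
  ⟨(nat_lit 1), [(nat_lit 0)], [(nat_lit 0), (nat_lit 0), (nat_lit 1), (nat_lit 2), (nat_lit 2)]⟩]⟩

noncomputable def XM24x3_0 : List Test := [⟨(nat_lit 1), [(nat_lit 0), (nat_lit 0), (nat_lit 0)], [], (nat_lit 0x1000000001000000000)⟩,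
  ⟨(nat_lit 2), [(nat_lit 1), (nat_lit 2)], [(nat_lit 2), (nat_lit 1)], (nat_lit 0x1001000000000000000)⟩,
  ⟨(nat_lit 0), [(nat_lit 1)], [(nat_lit 0), (nat_lit 0), (nat_lit 0)], (nat_lit 0x1040000000000000000)⟩,
  ⟨(nat_lit 1), [(nat_lit 3), (nat_lit 4)], [(nat_lit 4), (nat_lit 3)], (nat_lit 0x2001080000000000000)⟩,
  ⟨(nat_lit 2), [(nat_lit 5), (nat_lit 5), (nat_lit 5)], [], (nat_lit 0x1041041001000000000)⟩]

noncomputable def cM24x3 : Cert := ⟨PM24x3, (nat_lit 0), XM24x3_0,
  [],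
  [(nat_lit 0),
  (nat_lit 0),
  (nat_lit 0x1000000040000000000)],
  (BT.node (nat_lit 3) (BT.node (nat_lit 1) (BT.leaf (nat_lit 2)) (BT.node (nat_lit 2) (BT.leaf (nat_lit 0)) (BT.leaf (nat_lit 232)))) (BT.node (nat_lit 4) (BT.leaf (nat_lit 33)) (BT.node (nat_lit 5) (BT.leaf (nat_lit 6)) (BT.leaf (nat_lit 18)))))⟩

theorem okM24x3 : cM24x3.OK := Cert.ok_of_check (by decide) (by decide +kernel)

noncomputable def LM24x3 : List Lvl := [⟨(nat_lit 1), [[(nat_lit 1), (nat_lit 5), (nat_lit 5)],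
  [(nat_lit 1), (nat_lit 5), (nat_lit 5)],
  [(nat_lit 5)],
  [(nat_lit 5)]], (nat_lit 1)⟩,
  ⟨(nat_lit 0), [[(nat_lit 3)],
  [(nat_lit 3)]], (nat_lit 1)⟩]

noncomputable def gM24x3 : List (List Nat) := [[(nat_lit 7)],
  [(nat_lit 9)]]

theorem pbdM24x3 : PBd M24 3 1 := by
  have h : Reps D0 NM24x3 (el NM24x3) := reps_el (by decide +kernel)
  have hm : ∀ i, el NM24x3 i ∈ M24 := el_mem (m := 5) rfl (fun _ hi => mem_M24_of_OK h (by decide +kernel) hi)
  exact okM24x3.pbd (holds_sub (same_el h) (o := 0) (gs := gM24x3) (allFrom_zero.1 (by decide +kernel))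
    (by decide +kernel) hm) (low_sub h (by decide) (c := LM24x3) (by decide +kernel) hm) card_M24 (by decide) rfl rfl

theorem multM24 : Nat.card (Mult M24) ≤ 1 :=
  card_mult_le (b := 23) (k := 10) card_M24 [(2, 1), (3, 1)] (by decide +kernel) (by
    simp only [List.mem_cons, List.not_mem_nil, or_false, forall_eq_or_imp, forall_eq]
    exact ⟨⟨Nat.prime_two, pbdM24x2⟩, Nat.prime_three, pbdM24x3⟩)

end CF.Schur.Mat
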