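import Cfsg.Agent.Comp.TCDefs

set_option autoImplicit false
set_option maxRecDepth 1000000
set_option maxHeartbeats 0
set_option Elab.async false

namespace CF.Schur.S62

open CF.Comp

noncomputable def U0_0 : Net := (Net.cons (nat_lit 1) (nat_lit 0x1154501001010414) (Net.cons (nat_lit 2) (nat_lit 0x202200201121200) (Net.cons (nat_lit 4) (nat_lit 0x1000600010d0800) (Net.cons (nat_lit 8) (nat_lit 0x530000000e0000) (Net.cons (nat_lit 32) (nat_lit 335675392) (Net.cons (nat_lit 16) (nat_lit 0x17d600003e00) (Net.cons (nat_lit 8) (nat_lit 0x2900fd00e700f0) (Net.cons (nat_lit 4) (nat_lit 0x1010b0a0301070c) (Net.cons (nat_lit 2) (nat_lit 0x11123320300122) (Net.cons (nat_lit 1) (nat_lit 0x1454104554445441) Net.nil))))))))))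
noncomputable def U0_1 : Net := (Net.cons (nat_lit 1) (nat_lit 0x11514100004101) (Net.cons (nat_lit 2) (nat_lit 0x312110200000102) (Net.cons (nat_lit 4) (nat_lit 0x5010f0403010000) (Net.cons (nat_lit 8) (nat_lit 0x900eb00200080) (Net.cons (nat_lit 16) (nat_lit 0x4d4400008000) (Net.cons (nat_lit 32) (nat_lit 1875214336) (Net.cons (nat_lit 16) (nat_lit 0x6fdd0000fb80) (Net.cons (nat_lit 8) (nat_lit 0x2e003000bb0072) (Net.cons (nat_lit 4) (nat_lit 0x10100020e080107) (Net.cons (nat_lit 2) (nat_lit 0x1333322211121) (Net.cons (nat_lit 1) (nat_lit 0x550400054111105) Net.nil)))))))))))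
noncomputable def U0 : List Net := [U0_0, U0_1]
noncomputable def U1_0 : Net := (Net.cons (nat_lit 1) (nat_lit 0x1455051414450550) (Net.cons (nat_lit 2) (nat_lit 0x1112210020220020) (Net.cons (nat_lit 4) (nat_lit 0xa08010c010100) (Net.cons (nat_lit 8) (nat_lit 0x550010009c0000) (Net.cons (nat_lit 16) (nat_lit 0x471c00000000) (Net.cons (nat_lit 32) (nat_lit 159733306) (Net.cons (nat_lit 16) (nat_lit 0x51a0000776e) (Net.cons (nat_lit 8) (nat_lit 0x59001800f00026) (Net.cons (nat_lit 4) (nat_lit 0x20d050a010c070a) (Net.cons (nat_lit 2) (nat_lit 0x1211303301220000) (Net.cons (nat_lit 1) (nat_lit 0x55554000010440) Net.nil)))))))))))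
noncomputable def U1_1 : Net := (Net.cons (nat_lit 1) (nat_lit 0x1151555440415040) (Net.cons (nat_lit 2) (nat_lit 0x130130321132012) (Net.cons (nat_lit 4) (nat_lit 0xe0b0c0a090800) (Net.cons (nat_lit 8) (nat_lit 0x1b001800820000) (Net.cons (nat_lit 16) (nat_lit 0x50e000000000) (Net.cons (nat_lit 32) (nat_lit 19594948) (Net.cons (nat_lit 16) (nat_lit 0x636a000043d0) (Net.cons (nat_lit 8) (nat_lit 0x18002b00dd0098) (Net.cons (nat_lit 4) (nat_lit 0x70a0d060a0c0c0a) (Net.cons (nat_lit 2) (nat_lit 0x1002020101231002) (Net.cons (nat_lit 1) (nat_lit 0x540154401051540) Net.nil)))))))))))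
noncomputable def U1_2 : Net := (Net.cons (nat_lit 1) (nat_lit 0x1410145050450014) (Net.cons (nat_lit 2) (nat_lit 0x1210122320223320) (Net.cons (nat_lit 4) (nat_lit 0x6040f0509020000) (Net.cons (nat_lit 8) (nat_lit 0x4003100550080) (Net.cons (nat_lit 16) (nat_lit 0x73800000000) (Net.cons (nat_lit 32) (nat_lit 1153053504) (Net.cons (nat_lit 16) (nat_lit 0x4bb900004384) (Net.cons (nat_lit 8) (nat_lit 0x4400c3004b0004) (Net.cons (nat_lit 4) (nat_lit 0x504050f0c0b0c08) (Net.cons (nat_lit 2) (nat_lit 0x322330201321220) (Net.cons (nat_lit 1) (nat_lit 0x40055100550510) Net.nil)))))))))))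
noncomputable def U1_3 : Net := (Net.cons (nat_lit 1) (nat_lit 0x155501104545440) (Net.cons (nat_lit 2) (nat_lit 0x131303100032010) (Net.cons (nat_lit 4) (nat_lit 0x50c06040e08) (Net.cons (nat_lit 8) (nat_lit 0x5c001400010080) (Net.cons (nat_lit 16) (nat_lit 0x134000000000) (Net.cons (nat_lit 32) (nat_lit 406842356) (Net.cons (nat_lit 16) (nat_lit 0x76e600008a84) (Net.cons (nat_lit 8) (nat_lit 0xe001b00870038) (Net.cons (nat_lit 4) (nat_lit 0x40c070a0e020b08) (Net.cons (nat_lit 2) (nat_lit 0x1033010020101010) (Net.cons (nat_lit 1) (nat_lit 0x115014115115554) Net.nil)))))))))))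
noncomputable def U1_4 : Net := (Net.cons (nat_lit 1) (nat_lit 0x454040000101000) (Net.cons (nat_lit 2) (nat_lit 0x330113031002000) (Net.cons (nat_lit 4) (nat_lit 0x70a010301030200) (Net.cons (nat_lit 8) (nat_lit 0x48000200000000) (Net.cons (nat_lit 16) (nat_lit 0x4100000000) (Net.cons (nat_lit 32) (nat_lit 1646330688) (Net.cons (nat_lit 16) (nat_lit 0xac100000600) (Net.cons (nat_lit 8) (nat_lit 0x780012003000a0) (Net.cons (nat_lit 4) (nat_lit 0x70a010301030200) (Net.cons (nat_lit 2) (nat_lit 0x330113031002000) (Net.cons (nat_lit 1) (nat_lit 0x454040000101000) Net.nil)))))))))))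
noncomputable def U1_5 : Net := (Net.cons (nat_lit 1) (nat_lit 0x404504150541440) (Net.cons (nat_lit 2) (nat_lit 0x130200013001100) (Net.cons (nat_lit 4) (nat_lit 0x50b07090f0500) (Net.cons (nat_lit 8) (nat_lit 0x59006b00020000) (Net.cons (nat_lit 16) (nat_lit 0x58100000000) (Net.cons (nat_lit 32) (nat_lit 1107632096) (Net.cons (nat_lit 16) (nat_lit 0x5e8600007e60) (Net.cons (nat_lit 8) (nat_lit 0x6c00fd003f0050) (Net.cons (nat_lit 4) (nat_lit 0x4050807040f0900) (Net.cons (nat_lit 2) (nat_lit 0x1232302213312110) (Net.cons (nat_lit 1) (nat_lit 0x401140510055040) Net.nil)))))))))))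
noncomputable def U1_6 : Net := (Net.cons (nat_lit 1) (nat_lit 0x414115140000000) (Net.cons (nat_lit 2) (nat_lit 0x1000002301000000) (Net.cons (nat_lit 4) (nat_lit 0x2080d0800000000) (Net.cons (nat_lit 8) (nat_lit 0x6d00e900800000) (Net.cons (nat_lit 16) (nat_lit 0x692100008000) (Net.cons (nat_lit 32) (nat_lit 1683065120) (Net.cons (nat_lit 16) (nat_lit 0x2b6900008080) (Net.cons (nat_lit 8) (nat_lit 0x2d00a900c00040) (Net.cons (nat_lit 4) (nat_lit 0x2080d0900000000) (Net.cons (nat_lit 2) (nat_lit 0x1000002301000000) (Net.cons (nat_lit 1) (nat_lit 0x414115140000000) Net.nil)))))))))))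
noncomputable def U1_7 : Net := (Net.cons (nat_lit 1) (nat_lit 0x414115140000000) (Net.cons (nat_lit 2) (nat_lit 0x1000002301000000) (Net.cons (nat_lit 4) (nat_lit 0x2080d0800000000) (Net.cons (nat_lit 8) (nat_lit 0x6d00e900800000) (Net.cons (nat_lit 16) (nat_lit 0x692100008000) (Net.cons (nat_lit 32) (nat_lit 1683065120) (Net.cons (nat_lit 16) (nat_lit 0x2b6900008080) (Net.cons (nat_lit 8) (nat_lit 0x2d00a900c00040) (Net.cons (nat_lit 4) (nat_lit 0x2080d0900000000) (Net.cons (nat_lit 2) (nat_lit 0x1000002301000000) (Net.cons (nat_lit 1) (nat_lit 0x414115140000000) Net.nil)))))))))))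
noncomputable def U1 : List Net := [U1_0, U1_1, U1_2, U1_3, U1_4, U1_5, U1_6, U1_7]
noncomputable def UW : List (List Nat) := [[(nat_lit 3), (nat_lit 3), (nat_lit 2), (nat_lit 4), (nat_lit 4), (nat_lit 1), (nat_lit 1)],
  [(nat_lit 2), (nat_lit 2), (nat_lit 4), (nat_lit 1), (nat_lit 3), (nat_lit 3)],
  [(nat_lit 6), (nat_lit 6), (nat_lit 7), (nat_lit 7), (nat_lit 6), (nat_lit 7)],
  [(nat_lit 7), (nat_lit 7), (nat_lit 7), (nat_lit 5), (nat_lit 5)],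
  [(nat_lit 9), (nat_lit 12), (nat_lit 9), (nat_lit 12), (nat_lit 9), (nat_lit 11), (nat_lit 11)],
  [(nat_lit 9), (nat_lit 11), (nat_lit 9), (nat_lit 12), (nat_lit 10)],
  [(nat_lit 16), (nat_lit 16), (nat_lit 13), (nat_lit 15), (nat_lit 15)],
  [(nat_lit 14), (nat_lit 18), (nat_lit 13), (nat_lit 17), (nat_lit 13)]]
noncomputable def UC : List Lvl := [⟨(nat_lit 0), [[(nat_lit 1)],
  [(nat_lit 3)]], (nat_lit 7)⟩,
  ⟨(nat_lit 1), [[(nat_lit 5)],
  [(nat_lit 7)]], (nat_lit 5)⟩,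
  ⟨(nat_lit 2), [[(nat_lit 9)],
  [(nat_lit 11)]], (nat_lit 4)⟩,
  ⟨(nat_lit 4), [[(nat_lit 13)],
  [(nat_lit 15)]], (nat_lit 3)⟩,
  ⟨(nat_lit 9), [[(nat_lit 13)],
  [(nat_lit 17)]], (nat_lit 2)⟩,
  ⟨(nat_lit 5), [[(nat_lit 19)]], (nat_lit 1)⟩]
noncomputable def UV : List (List Nat) := [[(nat_lit 0x6fa49b35189aca68), (nat_lit 0x105b64cae7653597)],
  [(nat_lit 0xd5951a1b835ccaf), (nat_lit 0x72a6ae5e47ca3350)],
  [(nat_lit 0x15e5a4198ab99f13), (nat_lit 0x6a1a5be6754660ec)],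
  [(nat_lit 0x1743e7d74b570c1), (nat_lit 0x7e8bc1828b4a8f3e)],
  [(nat_lit 0x49165a1a1e2eb61f), (nat_lit 0x36e9a5e5e1d149e0)],
  [(nat_lit 0x7c1ce343bb817243), (nat_lit 0x3e31cbc447e8dbc)]]
noncomputable def Uσ : Net := (Net.cons (nat_lit 1) (nat_lit 0x1040145100444044) (Net.cons (nat_lit 2) (nat_lit 0x323120112210120) (Net.cons (nat_lit 4) (nat_lit 0x5080608000308) (Net.cons (nat_lit 8) (nat_lit 0x4b001200450080) (Net.cons (nat_lit 16) (nat_lit 0x287200000000) (Net.cons (nat_lit 32) (nat_lit 1129474220) (Net.cons (nat_lit 16) (nat_lit 0x598e00009067) (Net.cons (nat_lit 8) (nat_lit 0x31009400a3001a) (Net.cons (nat_lit 4) (nat_lit 0x400020505090b06) (Net.cons (nat_lit 2) (nat_lit 0x222330213111120) (Net.cons (nat_lit 1) (nat_lit 0x141500550445005) Net.nil)))))))))))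
noncomputable def UCs : List (List Nat) := [[(nat_lit 0), (nat_lit 0x7fffffffffffffff)],
  [(nat_lit 0), (nat_lit 0x7fffffffffffffff)]]
noncomputable def UA : List (List (List Nat)) := [[[1, 0, 0, 1, 1, 0], [0, 0, 1, 0, 0, 1], [0, 1, 0, 1, 1, 0], [1, 0, 0, 0, 1, 0], [0, 0, 1, 0, 0, 0], [0, 1, 0, 1, 0, 0]],
  [[1, 0, 1, 0, 0, 0], [0, 0, 1, 1, 0, 1], [1, 1, 0, 1, 0, 1], [1, 1, 0, 0, 1, 1], [0, 0, 1, 0, 1, 0], [1, 0, 1, 0, 1, 0]]]
noncomputable def Nx2_0 : Net := (Net.cons (nat_lit 1) (nat_lit 0x1145451101014040) (Net.cons (nat_lit 2) (nat_lit 0x10222000112210) (Net.cons (nat_lit 4) (nat_lit 0x500080402040408) (Net.cons (nat_lit 8) (nat_lit 0x14004200110080) (Net.cons (nat_lit 16) (nat_lit 0x42aa00000000) (Net.cons (nat_lit 32) (nat_lit 1526991018) (Net.cons (nat_lit 16) (nat_lit 0xea200000051) (Net.cons (nat_lit 8) (nat_lit 0x1c00ca0031008c) (Net.cons (nat_lit 4) (nat_lit 0x70a0a050f040c0b)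 (Net.cons (nat_lit 2) (nat_lit 0x10322000112210) (Net.cons (nat_lit 1) (nat_lit 0x1545451545014040) Net.nil)))))))))))
noncomputable def Nx2_1 : Net := (Net.cons (nat_lit 1) (nat_lit 0x1545501111441000) (Net.cons (nat_lit 2) (nat_lit 0x100303100120100) (Net.cons (nat_lit 4) (nat_lit 0x508050100000100) (Net.cons (nat_lit 8) (nat_lit 0x5a009000850000) (Net.cons (nat_lit 16) (nat_lit 0x501000008000) (Net.cons (nat_lit 32) (nat_lit 1375764752) (Net.cons (nat_lit 16) (nat_lit 0x148800009075) (Net.cons (nat_lit 8) (nat_lit 0xa00a2009d0090) (Net.cons (nat_lit 4) (nat_lit 0x708070700000100) (Net.cons (nat_lit 2) (nat_lit 0x10313131130101) (Net.cons (nat_lit 1) (nat_lit 0x1545501111441000) Net.nil)))))))))))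
noncomputable def Nx2_2 : Net := (Net.cons (nat_lit 1) (nat_lit 0x445451451001050) (Net.cons (nat_lit 2) (nat_lit 0x311000130010000) (Net.cons (nat_lit 4) (nat_lit 0x401010e01040000) (Net.cons (nat_lit 8) (nat_lit 0x40006400c00000) (Net.cons (nat_lit 16) (nat_lit 0x4b2600000000) (Net.cons (nat_lit 32) (nat_lit 1327694917) (Net.cons (nat_lit 16) (nat_lit 0x4f630000c449) (Net.cons (nat_lit 8) (nat_lit 0x5400e200560054) (Net.cons (nat_lit 4) (nat_lit 0x201070a05020004) (Net.cons (nat_lit 2) (nat_lit 0x313000130010020) (Net.cons (nat_lit 1) (nat_lit 0x445451441405050) Net.nil)))))))))))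
noncomputable def Nx2_3 : Net := (Net.cons (nat_lit 1) (nat_lit 0x41040105100400) (Net.cons (nat_lit 2) (nat_lit 0x311000001210010) (Net.cons (nat_lit 4) (nat_lit 0x6050303050200) (Net.cons (nat_lit 8) (nat_lit 0x40000000320080) (Net.cons (nat_lit 16) (nat_lit 0x10e000000000) (Net.cons (nat_lit 32) (nat_lit 304310483) (Net.cons (nat_lit 16) (nat_lit 0x52e500004027) (Net.cons (nat_lit 8) (nat_lit 0x20066004400e0) (Net.cons (nat_lit 4) (nat_lit 0x1020307070d020e) (Net.cons (nat_lit 2) (nat_lit 0x311010000200110) (Net.cons (nat_lit 1) (nat_lit 0x51050104500410) Net.nil)))))))))))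
noncomputable def Nx2_4 : Net := (Net.cons (nat_lit 1) (nat_lit 0x40540451014050) (Net.cons (nat_lit 2) (nat_lit 0x1003000130022010) (Net.cons (nat_lit 4) (nat_lit 0x2080102070a0400) (Net.cons (nat_lit 8) (nat_lit 0x4d00340000) (Net.cons (nat_lit 16) (nat_lit 0xc0000000000) (Net.cons (nat_lit 32) (nat_lit 478232583) (Net.cons (nat_lit 16) (nat_lit 0xd210000a65d) (Net.cons (nat_lit 8) (nat_lit 0xa004900300004) (Net.cons (nat_lit 4) (nat_lit 0x60c0902070a0400) (Net.cons (nat_lit 2) (nat_lit 0x1003000130022030) (Net.cons (nat_lit 1) (nat_lit 0x40540451014050) Net.nil)))))))))))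
noncomputable def Nx2_5 : Net := (Net.cons (nat_lit 1) (nat_lit 0x1501450140414) (Net.cons (nat_lit 2) (nat_lit 0x1120212103021020) (Net.cons (nat_lit 4) (nat_lit 0x205010003000000) (Net.cons (nat_lit 8) (nat_lit 0x39001000a80000) (Net.cons (nat_lit 16) (nat_lit 0x110800000000) (Net.cons (nat_lit 32) (nat_lit 592064580) (Net.cons (nat_lit 16) (nat_lit 0x39190000a820) (Net.cons (nat_lit 8) (nat_lit 0x3b009000ba0000) (Net.cons (nat_lit 4) (nat_lit 0x60505040708080d) (Net.cons (nat_lit 2) (nat_lit 0x1120212103031020) (Net.cons (nat_lit 1) (nat_lit 0x1501450140414) Net.nil)))))))))))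
noncomputable def Nx2_6 : Net := (Net.cons (nat_lit 1) (nat_lit 0x144514115100001) (Net.cons (nat_lit 2) (nat_lit 0x121122302011000) (Net.cons (nat_lit 4) (nat_lit 0x2030a070c0c0100) (Net.cons (nat_lit 8) (nat_lit 0x610046004a0000) (Net.cons (nat_lit 16) (nat_lit 0x408800008000) (Net.cons (nat_lit 32) (nat_lit 1216512542) (Net.cons (nat_lit 16) (nat_lit 0x45ea00008442) (Net.cons (nat_lit 8) (nat_lit 0x61004e004a0081) (Net.cons (nat_lit 4) (nat_lit 0x30d0a070d0e0100) (Net.cons (nat_lit 2) (nat_lit 0x103122302011002) (Net.cons (nat_lit 1) (nat_lit 0x144514115100001) Net.nil)))))))))))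
noncomputable def Nx2_7 : Net := (Net.cons (nat_lit 1) (nat_lit 0x41450441500000) (Net.cons (nat_lit 2) (nat_lit 0x323010001212010) (Net.cons (nat_lit 4) (nat_lit 0x402090f00010200) (Net.cons (nat_lit 8) (nat_lit 0x4006600f40080) (Net.cons (nat_lit 16) (nat_lit 0x196100000000) (Net.cons (nat_lit 32) (nat_lit 535110674) (Net.cons (nat_lit 16) (nat_lit 0x5f630000c60a) (Net.cons (nat_lit 8) (nat_lit 0x2600e400f60082) (Net.cons (nat_lit 4) (nat_lit 0x502090f00010204) (Net.cons (nat_lit 2) (nat_lit 0x323010001212010) (Net.cons (nat_lit 1) (nat_lit 0x41450441500000) Net.nil)))))))))))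
noncomputable def Nx2_8 : Net := (Net.cons (nat_lit 1) (nat_lit 0x1545154410100) (Net.cons (nat_lit 2) (nat_lit 0x13330211000030) (Net.cons (nat_lit 4) (nat_lit 0x406040808050100) (Net.cons (nat_lit 8) (nat_lit 0x54004000e00000) (Net.cons (nat_lit 16) (nat_lit 0x668300000000) (Net.cons (nat_lit 32) (nat_lit 1048629355) (Net.cons (nat_lit 16) (nat_lit 0x76870000b4f4) (Net.cons (nat_lit 8) (nat_lit 0x5400e0004500a4) (Net.cons (nat_lit 4) (nat_lit 0x40e00090c050104) (Net.cons (nat_lit 2) (nat_lit 0x13330211020030) (Net.cons (nat_lit 1) (nat_lit 0x1545154410100) Net.nil)))))))))))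
noncomputable def Nx2_9 : Net := (Net.cons (nat_lit 1) (nat_lit 0x1500544050114001) (Net.cons (nat_lit 2) (nat_lit 0x1000330023331000) (Net.cons (nat_lit 4) (nat_lit 0xb030808090900) (Net.cons (nat_lit 8) (nat_lit 0x29007500480000) (Net.cons (nat_lit 16) (nat_lit 0x284000000000) (Net.cons (nat_lit 32) (nat_lit 1075195236) (Net.cons (nat_lit 16) (nat_lit 0x1160000204f) (Net.cons (nat_lit 8) (nat_lit 0x3d003b00ee0028) (Net.cons (nat_lit 4) (nat_lit 0x20b0d0f0a050e0b) (Net.cons (nat_lit 2) (nat_lit 0x230113112120200) (Net.cons (nat_lit 1) (nat_lit 0x1511055105010541) Net.nil)))))))))))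
noncomputable def Nx2_10 : Net := (Net.cons (nat_lit 1) (nat_lit 0x414454044054404) (Net.cons (nat_lit 2) (nat_lit 0x1020012123001210) (Net.cons (nat_lit 4) (nat_lit 0x10c010101000100) (Net.cons (nat_lit 8) (nat_lit 0x6004200010000) (Net.cons (nat_lit 16) (nat_lit 0x238100008000) (Net.cons (nat_lit 32) (nat_lit 546145136) (Net.cons (nat_lit 16) (nat_lit 0x7189000021a4) (Net.cons (nat_lit 8) (nat_lit 0x46006300c300a0) (Net.cons (nat_lit 4) (nat_lit 0x30c030107020108) (Net.cons (nat_lit 2) (nat_lit 0x1220202023001230) (Net.cons (nat_lit 1) (nat_lit 0x414054044054414) Net.nil)))))))))))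
noncomputable def Nx2_11 : Net := (Net.cons (nat_lit 1) (nat_lit 0x155540550554010) (Net.cons (nat_lit 2) (nat_lit 0x201111020231220) (Net.cons (nat_lit 4) (nat_lit 0x307000e0e050008) (Net.cons (nat_lit 8) (nat_lit 0x69005300d10000) (Net.cons (nat_lit 16) (nat_lit 0x7400008000) (Net.cons (nat_lit 32) (nat_lit 1547797309) (Net.cons (nat_lit 16) (nat_lit 0x6da40000b0c7) (Net.cons (nat_lit 8) (nat_lit 0x57009d0077000e) (Net.cons (nat_lit 4) (nat_lit 0x501000a07040309) (Net.cons (nat_lit 2) (nat_lit 0x22203203011002) (Net.cons (nat_lit 1) (nat_lit 0x1045041445004054) Net.nil)))))))))))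
noncomputable def Nx2 : List Net := [Nx2_0, Nx2_1, Nx2_2, Nx2_3, Nx2_4, Nx2_5, Nx2_6, Nx2_7, Nx2_8, Nx2_9, Nx2_10, Nx2_11]

noncomputable def Nx3_0 : Net := (Net.cons (nat_lit 1) (nat_lit 0x101401114451500) (Net.cons (nat_lit 2) (nat_lit 0x30103300201010) (Net.cons (nat_lit 4) (nat_lit 0x2000b0400000600) (Net.cons (nat_lit 8) (nat_lit 0x5004000a10000) (Net.cons (nat_lit 16) (nat_lit 0x3c3100000000) (Net.cons (nat_lit 32) (nat_lit 618290153) (Net.cons (nat_lit 16) (nat_lit 0x3c9d0000c29f) (Net.cons (nat_lit 8) (nat_lit 0x6500d200b00094) (Net.cons (nat_lit 4) (nat_lit 0x10d08060a0e0f05) (Net.cons (nat_lit 2) (nat_lit 0x1201010100232030) (Net.cons (nat_lit 1) (nat_lit 0x544544101041501) Net.nil)))))))))))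
noncomputable def Nx3_1 : Net := (Net.cons (nat_lit 1) (nat_lit 0x405105144410005) (Net.cons (nat_lit 2) (nat_lit 0x1213132003002130) (Net.cons (nat_lit 4) (nat_lit 0x10209040b000008) (Net.cons (nat_lit 8) (nat_lit 0x2b00fa00b90000) (Net.cons (nat_lit 16) (nat_lit 0xc4a00000000) (Net.cons (nat_lit 32) (nat_lit 1306923177) (Net.cons (nat_lit 16) (nat_lit 0x562a0000c714) (Net.cons (nat_lit 8) (nat_lit 0x4a00c200930036) (Net.cons (nat_lit 4) (nat_lit 0x7020d0f0a050b05) (Net.cons (nat_lit 2) (nat_lit 0x313321333023130) (Net.cons (nat_lit 1) (nat_lit 0x1141405150554111) Net.nil)))))))))))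
noncomputable def Nx3_2 : Net := (Net.cons (nat_lit 1) (nat_lit 0x445011055004054) (Net.cons (nat_lit 2) (nat_lit 0x1331321203200002) (Net.cons (nat_lit 4) (nat_lit 0x707050105010400) (Net.cons (nat_lit 8) (nat_lit 0x15002100420000) (Net.cons (nat_lit 16) (nat_lit 0x442000008000) (Net.cons (nat_lit 32) (nat_lit 1199346118) (Net.cons (nat_lit 16) (nat_lit 0x54940000f264) (Net.cons (nat_lit 8) (nat_lit 0x5003300c00087) (Net.cons (nat_lit 4) (nat_lit 0x50200020a0b0500) (Net.cons (nat_lit 2) (nat_lit 0x123122130301303) (Net.cons (nat_lit 1) (nat_lit 0x1015415511514111) Net.nil)))))))))))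
noncomputable def Nx3_3 : Net := (Net.cons (nat_lit 1) (nat_lit 0x510141154504400) (Net.cons (nat_lit 2) (nat_lit 0x101212130002020) (Net.cons (nat_lit 4) (nat_lit 0x100050600060208) (Net.cons (nat_lit 8) (nat_lit 0x3f004000bb0000) (Net.cons (nat_lit 16) (nat_lit 0x227200000000) (Net.cons (nat_lit 32) (nat_lit 685201192) (Net.cons (nat_lit 16) (nat_lit 0x1258000059fc) (Net.cons (nat_lit 8) (nat_lit 0x5e005f001600aa) (Net.cons (nat_lit 4) (nat_lit 0xd0d0802040303) (Net.cons (nat_lit 2) (nat_lit 0x1302310300112312) (Net.cons (nat_lit 1) (nat_lit 0x540054101145054) Net.nil)))))))))))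
noncomputable def Nx3_4 : Net := (Net.cons (nat_lit 1) (nat_lit 0x1511510454100100) (Net.cons (nat_lit 2) (nat_lit 0x223320210100000) (Net.cons (nat_lit 4) (nat_lit 0x1010008000300) (Net.cons (nat_lit 8) (nat_lit 0x41000f000a0080) (Net.cons (nat_lit 16) (nat_lit 0x100900000000) (Net.cons (nat_lit 32) (nat_lit 269320804) (Net.cons (nat_lit 16) (nat_lit 0x518f0000460c) (Net.cons (nat_lit 8) (nat_lit 0x4100a500110012) (Net.cons (nat_lit 4) (nat_lit 0x70b0a0203010308) (Net.cons (nat_lit 2) (nat_lit 0x201112032332222) (Net.cons (nat_lit 1) (nat_lit 0x1511510454100100) Net.nil)))))))))))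
noncomputable def Nx3_5 : Net := (Net.cons (nat_lit 1) (nat_lit 0x411444114154140) (Net.cons (nat_lit 2) (nat_lit 0x21122232000110) (Net.cons (nat_lit 4) (nat_lit 0x5010e000f020200) (Net.cons (nat_lit 8) (nat_lit 0x7005600230080) (Net.cons (nat_lit 16) (nat_lit 0xd900000000) (Net.cons (nat_lit 32) (nat_lit 441813896) (Net.cons (nat_lit 16) (nat_lit 0x1ddb00005d20) (Net.cons (nat_lit 8) (nat_lit 0x7e007700b300e8) (Net.cons (nat_lit 4) (nat_lit 0x4080f010a030f01) (Net.cons (nat_lit 2) (nat_lit 0x21122232020110) (Net.cons (nat_lit 1) (nat_lit 0x411444110154050) Net.nil)))))))))))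
noncomputable def Nx3 : List Net := [Nx3_0, Nx3_1, Nx3_2, Nx3_3, Nx3_4, Nx3_5]

noncomputable def Np_0 : Net := (Net.cons (nat_lit 1) (nat_lit 0x54110504001000) (Net.cons (nat_lit 2) (nat_lit 0x1230011130022300) (Net.cons (nat_lit 4) (nat_lit 0x2080b0809010000) (Net.cons (nat_lit 8) (nat_lit 0x41008400980080) (Net.cons (nat_lit 16) (nat_lit 32768) (Net.cons (nat_lit 32) (nat_lit 57382208) (Net.cons (nat_lit 16) (nat_lit 0x69840000c990) (Net.cons (nat_lit 8) (nat_lit 0x530084009a0080) (Net.cons (nat_lit 4) (nat_lit 0x20c0f0909010200) (Net.cons (nat_lit 2) (nat_lit 0x1230011130022300) (Net.cons (nat_lit 1) (nat_lit 0x54110504001000) Net.nil)))))))))))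
noncomputable def Np_1 : Net := (Net.cons (nat_lit 1) (nat_lit 0x1440011510545000) (Net.cons (nat_lit 2) (nat_lit 0x220133131212100) (Net.cons (nat_lit 4) (nat_lit 0x103050001030600) (Net.cons (nat_lit 8) (nat_lit 0x64000400d10000) (Net.cons (nat_lit 16) (nat_lit 0x1e000000000) (Net.cons (nat_lit 32) (nat_lit 2007016528) (Net.cons (nat_lit 16) (nat_lit 0x450100001100) (Net.cons (nat_lit 8) (nat_lit 0x20005700f600f0) (Net.cons (nat_lit 4) (nat_lit 0x707040102040200) (Net.cons (nat_lit 2) (nat_lit 0x1120333330202030) (Net.cons (nat_lit 1) (nat_lit 0x1440011510545000) Net.nil)))))))))))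
noncomputable def Np_2 : Net := (Net.cons (nat_lit 1) (nat_lit 0x1050154100040000) (Net.cons (nat_lit 2) (nat_lit 0x3221020110000) (Net.cons (nat_lit 4) (nat_lit 0x809010b050d00) (Net.cons (nat_lit 8) (nat_lit 0x20000000c0000) (Net.cons (nat_lit 16) (nat_lit 0x181000000000) (Net.cons (nat_lit 32) (nat_lit 565967680) (Net.cons (nat_lit 16) (nat_lit 0x80000001410) (Net.cons (nat_lit 8) (nat_lit 0x520014001c0010) (Net.cons (nat_lit 4) (nat_lit 0x80b090f050f00) (Net.cons (nat_lit 2) (nat_lit 0x221020110000) (Net.cons (nat_lit 1) (nat_lit 0x1055154100440000) Net.nil)))))))))))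
noncomputable def Np_3 : Net := (Net.cons (nat_lit 1) (nat_lit 0x1014115401444100) (Net.cons (nat_lit 2) (nat_lit 0x230232302230000) (Net.cons (nat_lit 4) (nat_lit 0x200040d09020000) (Net.cons (nat_lit 8) (nat_lit 0x8005800910000) (Net.cons (nat_lit 16) (nat_lit 0x220500000000) (Net.cons (nat_lit 32) (nat_lit 13349612) (Net.cons (nat_lit 16) (nat_lit 0xaa500000190) (Net.cons (nat_lit 8) (nat_lit 0x28007e00b10020) (Net.cons (nat_lit 4) (nat_lit 0x200050d0d020000) (Net.cons (nat_lit 2) (nat_lit 0x1230232302230000) (Net.cons (nat_lit 1) (nat_lit 0x1014115401444100) Net.nil)))))))))))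
noncomputable def Np_4 : Net := (Net.cons (nat_lit 1) (nat_lit 0x1405451100001110) (Net.cons (nat_lit 2) (nat_lit 0x321301200020010) (Net.cons (nat_lit 4) (nat_lit 0xc000c02020200) (Net.cons (nat_lit 8) (nat_lit 0x800c000010080) (Net.cons (nat_lit 16) (nat_lit 0x460300000000) (Net.cons (nat_lit 32) (nat_lit 1692996506) (Net.cons (nat_lit 16) (nat_lit 0x4e8300000080) (Net.cons (nat_lit 8) (nat_lit 0xb00c0000100a2) (Net.cons (nat_lit 4) (nat_lit 0xc030e0a020304) (Net.cons (nat_lit 2) (nat_lit 0x1323301200022010) (Net.cons (nat_lit 1) (nat_lit 0x1405451100001510) Net.nil)))))))))))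
noncomputable def Np_5 : Net := (Net.cons (nat_lit 1) (nat_lit 0x554400440440000) (Net.cons (nat_lit 2) (nat_lit 0x1300121202220030) (Net.cons (nat_lit 4) (nat_lit 0x20f000001020000) (Net.cons (nat_lit 8) (nat_lit 0x5d002300300000) (Net.cons (nat_lit 16) (nat_lit 0x252000000000) (Net.cons (nat_lit 32) (nat_lit 249967424) (Net.cons (nat_lit 16) (nat_lit 0x211700002231) (Net.cons (nat_lit 8) (nat_lit 0x59002d009e0020) (Net.cons (nat_lit 4) (nat_lit 0x502000b0a0a08) (Net.cons (nat_lit 2) (nat_lit 0x1300121202220030) (Net.cons (nat_lit 1) (nat_lit 0x554400440440000) Net.nil)))))))))))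
noncomputable def Np : List Net := [Np_0, Np_1, Np_2, Np_3, Np_4, Np_5]

noncomputable def Rp_0 : List (List Nat) := [[(nat_lit 1), (nat_lit 1)],
  [(nat_lit 3), (nat_lit 3), (nat_lit 3)],
  [(nat_lit 5), (nat_lit 5)],
  [(nat_lit 5), (nat_lit 1), (nat_lit 5), (nat_lit 1)],
  [(nat_lit 5), (nat_lit 3), (nat_lit 5), (nat_lit 3)],
  [(nat_lit 4), (nat_lit 1), (nat_lit 3), (nat_lit 1), (nat_lit 4), (nat_lit 1), (nat_lit 3), (nat_lit 1)]]

noncomputable def Rp_1 : List (List Nat) := [[(nat_lit 1), (nat_lit 1)],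
  [(nat_lit 3), (nat_lit 3), (nat_lit 3)],
  [(nat_lit 5), (nat_lit 5)],
  [(nat_lit 5), (nat_lit 1), (nat_lit 5), (nat_lit 1)],
  [(nat_lit 5), (nat_lit 3), (nat_lit 5), (nat_lit 3)],
  [(nat_lit 4), (nat_lit 1), (nat_lit 3), (nat_lit 1), (nat_lit 4), (nat_lit 1), (nat_lit 3), (nat_lit 1)],
  [(nat_lit 7), (nat_lit 7)],
  [(nat_lit 7), (nat_lit 3), (nat_lit 7), (nat_lit 3)],
  [(nat_lit 7), (nat_lit 5), (nat_lit 7), (nat_lit 5), (nat_lit 7), (nat_lit 5)],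
  [(nat_lit 7), (nat_lit 5), (nat_lit 3), (nat_lit 1), (nat_lit 7), (nat_lit 5), (nat_lit 1), (nat_lit 7), (nat_lit 3), (nat_lit 1), (nat_lit 3), (nat_lit 1)]]

noncomputable def Rp_2 : List (List Nat) := [[(nat_lit 1), (nat_lit 1)],
  [(nat_lit 3), (nat_lit 3), (nat_lit 3)],
  [(nat_lit 5), (nat_lit 5)],
  [(nat_lit 5), (nat_lit 1), (nat_lit 5), (nat_lit 1)],
  [(nat_lit 5), (nat_lit 3), (nat_lit 5), (nat_lit 3)],
  [(nat_lit 4), (nat_lit 1), (nat_lit 3), (nat_lit 1), (nat_lit 4), (nat_lit 1), (nat_lit 3), (nat_lit 1)],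
  [(nat_lit 7), (nat_lit 7)],
  [(nat_lit 7), (nat_lit 3), (nat_lit 7), (nat_lit 3)],
  [(nat_lit 7), (nat_lit 5), (nat_lit 7), (nat_lit 5), (nat_lit 7), (nat_lit 5)],
  [(nat_lit 7), (nat_lit 5), (nat_lit 3), (nat_lit 1), (nat_lit 7), (nat_lit 5), (nat_lit 1), (nat_lit 7), (nat_lit 3), (nat_lit 1), (nat_lit 3), (nat_lit 1)],
  [(nat_lit 9), (nat_lit 9)],
  [(nat_lit 9), (nat_lit 1), (nat_lit 9), (nat_lit 1)],
  [(nat_lit 9), (nat_lit 5), (nat_lit 9), (nat_lit 5)],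
  [(nat_lit 9), (nat_lit 7), (nat_lit 9), (nat_lit 7)],
  [(nat_lit 9), (nat_lit 3), (nat_lit 9), (nat_lit 3), (nat_lit 9), (nat_lit 3)]]

noncomputable def relsp : List (List Nat) := [[(nat_lit 1), (nat_lit 1)],
  [(nat_lit 3), (nat_lit 3), (nat_lit 3)],
  [(nat_lit 5), (nat_lit 5)],
  [(nat_lit 5), (nat_lit 1), (nat_lit 5), (nat_lit 1)],
  [(nat_lit 5), (nat_lit 3), (nat_lit 5), (nat_lit 3)],
  [(nat_lit 4), (nat_lit 1), (nat_lit 3), (nat_lit 1), (nat_lit 4), (nat_lit 1), (nat_lit 3), (nat_lit 1)],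
  [(nat_lit 7), (nat_lit 7)],
  [(nat_lit 7), (nat_lit 3), (nat_lit 7), (nat_lit 3)],
  [(nat_lit 7), (nat_lit 5), (nat_lit 7), (nat_lit 5), (nat_lit 7), (nat_lit 5)],
  [(nat_lit 7), (nat_lit 5), (nat_lit 3), (nat_lit 1), (nat_lit 7), (nat_lit 5), (nat_lit 1), (nat_lit 7), (nat_lit 3), (nat_lit 1), (nat_lit 3), (nat_lit 1)],
  [(nat_lit 9), (nat_lit 9)],
  [(nat_lit 9), (nat_lit 1), (nat_lit 9), (nat_lit 1)],
  [(nat_lit 9), (nat_lit 5), (nat_lit 9), (nat_lit 5)],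
  [(nat_lit 9), (nat_lit 7), (nat_lit 9), (nat_lit 7)],
  [(nat_lit 9), (nat_lit 3), (nat_lit 9), (nat_lit 3), (nat_lit 9), (nat_lit 3)],
  [(nat_lit 11), (nat_lit 11)],
  [(nat_lit 11), (nat_lit 1), (nat_lit 11), (nat_lit 1)],
  [(nat_lit 11), (nat_lit 5), (nat_lit 11), (nat_lit 5)],
  [(nat_lit 11), (nat_lit 7), (nat_lit 11), (nat_lit 7)],
  [(nat_lit 11), (nat_lit 4), (nat_lit 11), (nat_lit 3), (nat_lit 11), (nat_lit 4), (nat_lit 11), (nat_lit 3)],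
  [(nat_lit 11), (nat_lit 9), (nat_lit 11), (nat_lit 3), (nat_lit 11), (nat_lit 9), (nat_lit 11), (nat_lit 3)],
  [(nat_lit 11), (nat_lit 7), (nat_lit 3), (nat_lit 1), (nat_lit 7), (nat_lit 3), (nat_lit 1), (nat_lit 11), (nat_lit 7), (nat_lit 3), (nat_lit 1), (nat_lit 7), (nat_lit 3), (nat_lit 1), (nat_lit 11), (nat_lit 7), (nat_lit 3), (nat_lit 1), (nat_lit 7), (nat_lit 3), (nat_lit 1)],
  [(nat_lit 9), (nat_lit 4), (nat_lit 11), (nat_lit 4), (nat_lit 1), (nat_lit 9), (nat_lit 3), (nat_lit 11), (nat_lit 3), (nat_lit 9), (nat_lit 1), (nat_lit 4), (nat_lit 11), (nat_lit 5), (nat_lit 3), (nat_lit 1)]]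

noncomputable def ep_0_c0 : BT (Bx Nat) := (BT.leaf (Bx.mk (nat_lit 0x0)))
noncomputable def ep_0_c1 : BT (Bx Nat) := (BT.leaf (Bx.mk (nat_lit 0xe6f24c1a686990d296989a5e4eb152e746d120447d52d745d52b7455666599552a7445a50819db946939b52818da4c818551a6929518817551c741d51974195167411513740da45813e04d542204b8125d018108000)))
noncomputable def ep_0_c2 : BT (Bx Nat) := (BT.leaf (Bx.mk (nat_lit 0x1aad6aa85b026b89a716bc9ab2684da6368da9c3691a9981b0da03675a963679a9381a55a8763da1b5695d8d68615a2762da15567dd896848d8e8169a88815cd8a8151a8581455907609a075631d816812046810c000)))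
noncomputable def ep_0_c3 : BT (Bx Nat) := (BT.leaf (Bx.mk (nat_lit 0xb2e2caceed55c1d633ba956f7575adc3cb13286b653254f9dad63ca53226b4d31f4f855665569d4f559155775355605551d4b55795517525ac8816d3108161ac5815530c814954e5519d42552954375060478110000)))
noncomputable def ep_0_c4 : BT (Bx Nat) := (BT.leaf (Bx.mk (nat_lit 0x1dec77a5de7778e0707785ddd81bdddb81b9dda7761dd781b5dd581addd47749dd181a9dcf81a206677360658191dcb818a060772605f8179dc78171dc68165dc48159dc3814ddc2814204e770604c812a0488114000)))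
noncomputable def ep_0_p : BT (Bx Nat) := (BT.leaf (Bx.mk (nat_lit 0x7b04d489a71346268c2b0895d12ba156c4ad835a12b0255c4ab8315122a0c50489091112220c3c487870f0a1a243438684cb11961b2c26488c90d92131c46382c6118c0a10442028311060a084410682088221043208441040000000)))
noncomputable def ep_0_e : BT Nat := BT.leaf (nat_lit 0)
noncomputable def ep_0_cols : List (BT (Bx Nat)) := [ep_0_c0, ep_0_c1, ep_0_c2, ep_0_c3, ep_0_c4]
noncomputable def ep_0_ch (x j : Nat) : Bx Nat := chunkG ep_0_cols (nat_lit 1) x j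
noncomputable def ep_0_L (x : Nat) : Bx (Nat → Nat) := lookG ep_0_ch (nat_lit 8) (nat_lit 255) (nat_lit 14) (nat_lit 16383) x
noncomputable def ep_0_pc (_ j : Nat) : Bx Nat := ep_0_p.get j
noncomputable def ep_0_pb : Bx (Nat → Nat) := lookG ep_0_pc (nat_lit 8) (nat_lit 255) (nat_lit 15) (nat_lit 32767) (nat_lit 0)
noncomputable def ep_0_rots : BT CW := (BT.node (nat_lit 7) (BT.node (nat_lit 3) (BT.node (nat_lit 1) (BT.leaf ⟨[], (nat_lit 1000000), (nat_lit 0), (nat_lit 0), (nat_lit 0)⟩) (BT.node (nat_lit 2) (BT.leaf ⟨[], (nat_lit 1000000), (nat_lit 0), (nat_lit 0), (nat_lit 1)⟩) (BT.leaf ⟨[], (nat_lit 1000000), (nat_lit 0), (nat_lit 0), (nat_lit 2)⟩))) (BT.node (nat_lit 5) (BT.node (nat_lit 4) (BT.leaf ⟨[(nat_lit 1), (nat_lit 1)], (nat_lit 0), (nat_lit 0), (nat_lit 0), (nat_lit 3)⟩) (BT.leaf ⟨[(nat_lit 3), (nat_lit 2)], (nat_lit 10), (nat_lit 1), (nat_lit 0), (nat_lit 3)⟩)) (BT.node (nat_lit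 6) (BT.leaf ⟨[(nat_lit 2), (nat_lit 3)], (nat_lit 10), (nat_lit 0), (nat_lit 0), (nat_lit 3)⟩) (BT.leaf ⟨[(nat_lit 4), (nat_lit 4)], (nat_lit 2), (nat_lit 0), (nat_lit 0), (nat_lit 3)⟩)))) (BT.node (nat_lit 11) (BT.node (nat_lit 9) (BT.node (nat_lit 8) (BT.leaf ⟨[(nat_lit 2), (nat_lit 2), (nat_lit 2)], (nat_lit 1), (nat_lit 0), (nat_lit 0), (nat_lit 3)⟩) (BT.leaf ⟨[(nat_lit 1), (nat_lit 4), (nat_lit 1), (nat_lit 4)], (nat_lit 3), (nat_lit 1), (nat_lit 0), (nat_lit 3)⟩)) (BT.node (nat_lit 10) (BT.leaf ⟨[(nat_lit 2), (nat_lit 4), (nat_lit 2), (nat_lit 4)], (nat_lit 4), (nat_lit 1), (nat_lit 0), (nat_lit 3)⟩) (BT.leaf ⟨[(nat_lit 3), (nat_lit 4), (nat_lit 3), (nat_lit 4)], (nat_lit 16), (nat_lit 0), (nat_lit 0), (nat_lit 3)⟩))) (BT.node (nat_lit 13) (BT.node (nat_lit 12) (BT.leaf ⟨[(nat_lit 3), (nat_lit 3), (nat_lit 3)], (nat_lit 13), (nat_lit 0), (nat_lit 0), (nat_lit 3)⟩) (BT.leaf ⟨[(nat_lit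 1), (nat_lit 2), (nat_lit 1), (nat_lit 3), (nat_lit 1), (nat_lit 2), (nat_lit 1), (nat_lit 3)], (nat_lit 5), (nat_lit 1), (nat_lit 0), (nat_lit 3)⟩)) (BT.node (nat_lit 14) (BT.leaf ⟨[(nat_lit 1), (nat_lit 3), (nat_lit 1), (nat_lit 2), (nat_lit 1), (nat_lit 3), (nat_lit 1), (nat_lit 2)], (nat_lit 5), (nat_lit 3), (nat_lit 0), (nat_lit 3)⟩) (BT.leaf ⟨[(nat_lit 3), (nat_lit 1), (nat_lit 2), (nat_lit 1), (nat_lit 3), (nat_lit 1), (nat_lit 2), (nat_lit 1)], (nat_lit 5), (nat_lit 0), (nat_lit 0), (nat_lit 3)⟩)))))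
noncomputable def ep_0_hcs : List CW := []
noncomputable def ep_0_H (x j : Nat) : Bx (Nat → Nat → Nat) := mkH ep_0_L ep_0_pb.1 ep_0_e.get (lmap CW.w ep_0_hcs) (nat_lit 48) (nat_lit 49) (nat_lit 5) (nat_lit 64) (nat_lit 1024) (nat_lit 4095) x (ep_0_rots.get j)
noncomputable def ep_0_F (x b : Nat) : Bool := blkOK ep_0_H ep_0_ch (nat_lit 49) (nat_lit 64) (nat_lit 16) (nat_lit 8) (nat_lit 255) (nat_lit 14) (nat_lit 16383) x b

theorem ep_0_k0_0 : allFrom (ep_0_F (nat_lit 0)) (nat_lit 0) (nat_lit 4) = true := by decide +kernel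
theorem ep_0_k1_0 : allFrom (ep_0_F (nat_lit 1)) (nat_lit 0) (nat_lit 4) = true := by decide +kernel
theorem ep_0_k2_0 : allFrom (ep_0_F (nat_lit 2)) (nat_lit 0) (nat_lit 4) = true := by decide +kernel
theorem ep_0_k3_0 : allFrom (ep_0_F (nat_lit 3)) (nat_lit 0) (nat_lit 4) = true := by decide +kernel
theorem ep_0_k4_0 : allFrom (ep_0_F (nat_lit 4)) (nat_lit 0) (nat_lit 4) = true := by decide +kernel

noncomputable def ep_1_c0 : BT (Bx Nat) := (BT.leaf (Bx.mk (nat_lit 0x0)))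
noncomputable def ep_1_c1 : BT (Bx Nat) := (BT.leaf (Bx.mk (nat_lit 0x3c7d1728b561ea2b58768aa978952586ec33057a29584ec62000)))
noncomputable def ep_1_c2 : BT (Bx Nat) := (BT.leaf (Bx.mk (nat_lit 0x24f1e76c3ec8a884cae152f08c6add20e52d0e4b0acacac62000)))
noncomputable def ep_1_c3 : BT (Bx Nat) := (BT.leaf (Bx.mk (nat_lit 0xa3e89fc8fd2c853bbb71cf707a43cc1d68e6e74b0b41ca8e2000)))
noncomputable def ep_1_c4 : BT (Bx Nat) := (BT.leaf (Bx.mk (nat_lit 0x19f99b529cb3a59b21b0ccad28a31a1ad273462b0bd852c62000)))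
noncomputable def ep_1_c5 : BT (Bx Nat) := (BT.leaf (Bx.mk (nat_lit 0x1b79c7489d4464b4d114c9744378bd872c352f4b0c5106c24000)))
noncomputable def ep_1_p : BT (Bx Nat) := (BT.leaf (Bx.mk (nat_lit 0xda15c06d031858c0c516282cc5662330d9848844409114000000)))
noncomputable def ep_1_e0 : BT Nat := (BT.node (nat_lit 66) (BT.leaf (nat_lit 524290)) (BT.node (nat_lit 68) (BT.leaf (nat_lit 262146)) (BT.leaf (nat_lit 2))))
noncomputable def ep_1_e : BT Nat := ep_1_e0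
noncomputable def ep_1_cols : List (BT (Bx Nat)) := [ep_1_c0, ep_1_c1, ep_1_c2, ep_1_c3, ep_1_c4, ep_1_c5]
noncomputable def ep_1_ch (x j : Nat) : Bx Nat := chunkG ep_1_cols (nat_lit 1) x j
noncomputable def ep_1_L (x : Nat) : Bx (Nat → Nat) := lookG ep_1_ch (nat_lit 8) (nat_lit 255) (nat_lit 13) (nat_lit 8191) x
noncomputable def ep_1_pc (_ j : Nat) : Bx Nat := ep_1_p.get j
noncomputable def ep_1_pb : Bx (Nat → Nat) := lookG ep_1_pc (nat_lit 8) (nat_lit 255) (nat_lit 13) (nat_lit 8191) (nat_lit 0)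
noncomputable def ep_1_rots : BT CW := (BT.node (nat_lit 12) (BT.node (nat_lit 6) (BT.node (nat_lit 3) (BT.node (nat_lit 1) (BT.leaf ⟨[], (nat_lit 1000000), (nat_lit 0), (nat_lit 0), (nat_lit 0)⟩) (BT.node (nat_lit 2) (BT.leaf ⟨[], (nat_lit 1000000), (nat_lit 0), (nat_lit 0), (nat_lit 1)⟩) (BT.leaf ⟨[], (nat_lit 1000000), (nat_lit 0), (nat_lit 0), (nat_lit 2)⟩))) (BT.node (nat_lit 4) (BT.leaf ⟨[(nat_lit 5), (nat_lit 5)], (nat_lit 6), (nat_lit 0), (nat_lit 0), (nat_lit 3)⟩) (BT.node (nat_lit 5) (BT.leaf ⟨[(nat_lit 1), (nat_lit 1)], (nat_lit 0), (nat_lit 0), (nat_lit 0), (nat_lit 3)⟩) (BT.leaf ⟨[(nat_lit 4), (nat_lit 4)], (nat_lit 2), (nat_lit 0), (nat_lit 0), (nat_lit 3)⟩)))) (BT.node (nat_lit 9) (BT.node (nat_lit 7) (BT.leaf ⟨[(nat_lit 3), (nat_lit 2)], (nat_lit 14), (nat_lit 1), (nat_lit 0), (nat_lit 3)⟩) (BT.node (nat_lit 8) (BT.leaf ⟨[(nat_lit 2), (nat_lit 3)], (nat_lit 14), (nat_lit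 0), (nat_lit 0), (nat_lit 3)⟩) (BT.leaf ⟨[(nat_lit 2), (nat_lit 2), (nat_lit 2)], (nat_lit 1), (nat_lit 0), (nat_lit 0), (nat_lit 3)⟩))) (BT.node (nat_lit 10) (BT.leaf ⟨[(nat_lit 1), (nat_lit 4), (nat_lit 1), (nat_lit 4)], (nat_lit 3), (nat_lit 1), (nat_lit 0), (nat_lit 3)⟩) (BT.node (nat_lit 11) (BT.leaf ⟨[(nat_lit 2), (nat_lit 5), (nat_lit 2), (nat_lit 5)], (nat_lit 7), (nat_lit 1), (nat_lit 0), (nat_lit 3)⟩) (BT.leaf ⟨[(nat_lit 3), (nat_lit 5), (nat_lit 3), (nat_lit 5)], (nat_lit 23), (nat_lit 0), (nat_lit 0), (nat_lit 3)⟩))))) (BT.node (nat_lit 18) (BT.node (nat_lit 15) (BT.node (nat_lit 13) (BT.leaf ⟨[(nat_lit 3), (nat_lit 3), (nat_lit 3)], (nat_lit 17), (nat_lit 0), (nat_lit 0), (nat_lit 3)⟩) (BT.node (nat_lit 14) (BT.leaf ⟨[(nat_lit 2), (nat_lit 4), (nat_lit 2), (nat_lit 4)], (nat_lit 4), (nat_lit 1), (nat_lit 0), (nat_lit 3)⟩) (BT.leaf ⟨[(nat_lit 5), (nat_lit 4), (nat_lit 5), (nat_lit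 4), (nat_lit 5), (nat_lit 4)], (nat_lit 8), (nat_lit 0), (nat_lit 0), (nat_lit 3)⟩))) (BT.node (nat_lit 16) (BT.leaf ⟨[(nat_lit 2), (nat_lit 1), (nat_lit 3), (nat_lit 1), (nat_lit 2), (nat_lit 1), (nat_lit 3), (nat_lit 1)], (nat_lit 5), (nat_lit 2), (nat_lit 0), (nat_lit 3)⟩) (BT.node (nat_lit 17) (BT.leaf ⟨[(nat_lit 5), (nat_lit 4), (nat_lit 1), (nat_lit 5), (nat_lit 2), (nat_lit 1), (nat_lit 2), (nat_lit 1), (nat_lit 5), (nat_lit 4), (nat_lit 2), (nat_lit 1)], (nat_lit 9), (nat_lit 4), (nat_lit 0), (nat_lit 3)⟩) (BT.leaf ⟨[(nat_lit 4), (nat_lit 5), (nat_lit 4), (nat_lit 5), (nat_lit 4), (nat_lit 5)], (nat_lit 8), (nat_lit 1), (nat_lit 0), (nat_lit 3)⟩)))) (BT.node (nat_lit 21) (BT.node (nat_lit 19) (BT.leaf ⟨[(nat_lit 4), (nat_lit 2), (nat_lit 4), (nat_lit 2)], (nat_lit 4), (nat_lit 0), (nat_lit 0), (nat_lit 3)⟩) (BT.node (nat_lit 20) (BT.leaf ⟨[(nat_lit 4), (nat_lit 1), (nat_lit 4), (nat_lit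 1)], (nat_lit 3), (nat_lit 0), (nat_lit 0), (nat_lit 3)⟩) (BT.leaf ⟨[(nat_lit 2), (nat_lit 1), (nat_lit 2), (nat_lit 1), (nat_lit 5), (nat_lit 4), (nat_lit 2), (nat_lit 1), (nat_lit 5), (nat_lit 4), (nat_lit 1), (nat_lit 5)], (nat_lit 9), (nat_lit 8), (nat_lit 0), (nat_lit 3)⟩))) (BT.node (nat_lit 23) (BT.node (nat_lit 22) (BT.leaf ⟨[(nat_lit 5), (nat_lit 2), (nat_lit 5), (nat_lit 2)], (nat_lit 7), (nat_lit 0), (nat_lit 0), (nat_lit 3)⟩) (BT.leaf ⟨[(nat_lit 1), (nat_lit 5), (nat_lit 2), (nat_lit 1), (nat_lit 2), (nat_lit 1), (nat_lit 5), (nat_lit 4), (nat_lit 2), (nat_lit 1), (nat_lit 5), (nat_lit 4)], (nat_lit 9), (nat_lit 6), (nat_lit 0), (nat_lit 3)⟩)) (BT.node (nat_lit 24) (BT.leaf ⟨[(nat_lit 1), (nat_lit 3), (nat_lit 1), (nat_lit 2), (nat_lit 1), (nat_lit 3), (nat_lit 1), (nat_lit 2)], (nat_lit 5), (nat_lit 3), (nat_lit 0), (nat_lit 3)⟩) (BT.leaf ⟨[(nat_lit 2), (nat_lit 1), (nat_lit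 5), (nat_lit 4), (nat_lit 2), (nat_lit 1), (nat_lit 5), (nat_lit 4), (nat_lit 1), (nat_lit 5), (nat_lit 2), (nat_lit 1)], (nat_lit 9), (nat_lit 10), (nat_lit 0), (nat_lit 3)⟩))))))
noncomputable def ep_1_hcs : List CW := [⟨[(nat_lit 4)], (nat_lit 0), (nat_lit 0), (nat_lit 0), (nat_lit 0)⟩, ⟨[(nat_lit 2)], (nat_lit 1), (nat_lit 0), (nat_lit 0), (nat_lit 0)⟩, ⟨[(nat_lit 1)], (nat_lit 2), (nat_lit 0), (nat_lit 0), (nat_lit 0)⟩, ⟨[(nat_lit 4)], (nat_lit 3), (nat_lit 0), (nat_lit 0), (nat_lit 0)⟩, ⟨[(nat_lit 3)], (nat_lit 4), (nat_lit 0), (nat_lit 0), (nat_lit 0)⟩, ⟨[(nat_lit 1)], (nat_lit 5), (nat_lit 0), (nat_lit 0), (nat_lit 0)⟩]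
noncomputable def ep_1_H (x j : Nat) : Bx (Nat → Nat → Nat) := mkH ep_1_L ep_1_pb.1 ep_1_e.get (lmap CW.w ep_1_hcs) (nat_lit 15) (nat_lit 16) (nat_lit 6) (nat_lit 16) (nat_lit 512) (nat_lit 1023) x (ep_1_rots.get j)
noncomputable def ep_1_F (x b : Nat) : Bool := blkOK ep_1_H ep_1_ch (nat_lit 16) (nat_lit 16) (nat_lit 32) (nat_lit 8) (nat_lit 255) (nat_lit 13) (nat_lit 8191) x b

theorem ep_1_k0_0 : allFrom (ep_1_F (nat_lit 0)) (nat_lit 0) (nat_lit 4) = true := by decide +kernel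
theorem ep_1_k1_0 : allFrom (ep_1_F (nat_lit 1)) (nat_lit 0) (nat_lit 4) = true := by decide +kernel
theorem ep_1_k2_0 : allFrom (ep_1_F (nat_lit 2)) (nat_lit 0) (nat_lit 4) = true := by decide +kernel
theorem ep_1_k3_0 : allFrom (ep_1_F (nat_lit 3)) (nat_lit 0) (nat_lit 4) = true := by decide +kernel
theorem ep_1_k4_0 : allFrom (ep_1_F (nat_lit 4)) (nat_lit 0) (nat_lit 4) = true := by decide +kernel
theorem ep_1_k5_0 : allFrom (ep_1_F (nat_lit 5)) (nat_lit 0) (nat_lit 4) = true := by decide +kernel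

noncomputable def ep_2_c0 : BT (Bx Nat) := (BT.leaf (Bx.mk (nat_lit 0x0)))
noncomputable def ep_2_c1 : BT (Bx Nat) := (BT.leaf (Bx.mk (nat_lit 0x33a0230fd8772c3b7705eb82e8c75cd1b051d9248d14e5a63a94395a9c81a54aa69f41d3a0e8d872ac39361c899c5dc13ae09b704ca303d8712c3877046b822d4e0ae1820000)))
noncomputable def ep_2_c2 : BT (Bx Nat) := (BT.leaf (Bx.mk (nat_lit 0x47a0b0ce9ca7d0cbd6196a94e58656a5356193a94c5c16ee0b2e714b82ba1b494fa2f6d07b8625c39851ed70d83c5c0a262d91418ab0c2c4a1e4c8d6182a9425c10ee1820000)))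
noncomputable def ep_2_c3 : BT (Bx Nat) := (BT.leaf (Bx.mk (nat_lit 0x316030af1c576e0bf415bb0ab50566c2ab4157b0a9dc172e0b4d154b82c1c54922a2e15058a6a05398298e14f78a5d4b21e295014980a344516e08f4143b0a15c112c2820000)))
noncomputable def ep_2_c4 : BT (Bx Nat) := (BT.leaf (Bx.mk (nat_lit 0x13e0120f9147464bc425b2a0e4c95e64b14499a20d18f5aa7a753d0a12a9e24ac49d4254b1255c145c493068879e5dc13de79af24c8203cd416448d3243a20254f0ae1820000)))
noncomputable def ep_2_c5 : BT (Bx Nat) := (BT.leaf (Bx.mk (nat_lit 0x1320122f88874733d3217990c14864c8b544dba22e54c4ce62a9314a10b5883910a3530b5267dc149ce98d20da1085881ec40d6205b8255c126e0913203a22254c0ae1820000)))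
noncomputable def ep_2_c6 : BT (Bx Nat) := (BT.leaf (Bx.mk (nat_lit 0x1611fb83019674a23c611b3aee204652ab47117440c5844ac223610fb0875c15ae0ab610ab82a5c14e4b19110db083dc142421135c9b825d1616620d4103aaa258406e0840000)))
noncomputable def ep_2_p : BT (Bx Nat) := (BT.leaf (Bx.mk (nat_lit 0xc7c6b743a701a6c1958395829543954284c384c28486844673c67386738573846286628462815241520151c651c5418541454143310130c120832082104600000000)))
noncomputable def ep_2_e0 : BT Nat := (BT.node (nat_lit 68) (BT.node (nat_lit 66) (BT.leaf (nat_lit 786434)) (BT.leaf (nat_lit 524290))) (BT.node (nat_lit 69) (BT.leaf (nat_lit 262146)) (BT.leaf (nat_lit 2))))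
noncomputable def ep_2_e : BT Nat := ep_2_e0
noncomputable def ep_2_cols : List (BT (Bx Nat)) := [ep_2_c0, ep_2_c1, ep_2_c2, ep_2_c3, ep_2_c4, ep_2_c5, ep_2_c6]
noncomputable def ep_2_ch (x j : Nat) : Bx Nat := chunkG ep_2_cols (nat_lit 1) x j
noncomputable def ep_2_L (x : Nat) : Bx (Nat → Nat) := lookG ep_2_ch (nat_lit 8) (nat_lit 255) (nat_lit 17) (nat_lit 131071) x
noncomputable def ep_2_pc (_ j : Nat) : Bx Nat := ep_2_p.get j
noncomputable def ep_2_pb : Bx (Nat → Nat) := lookG ep_2_pc (nat_lit 8) (nat_lit 255) (nat_lit 16) (nat_lit 65535) (nat_lit 0)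
noncomputable def ep_2_rots : BT CW := (BT.node (nat_lit 19) (BT.node (nat_lit 9) (BT.node (nat_lit 4) (BT.node (nat_lit 2) (BT.node (nat_lit 1) (BT.leaf ⟨[], (nat_lit 1000000), (nat_lit 0), (nat_lit 0), (nat_lit 0)⟩) (BT.leaf ⟨[], (nat_lit 1000000), (nat_lit 0), (nat_lit 0), (nat_lit 1)⟩)) (BT.node (nat_lit 3) (BT.leaf ⟨[], (nat_lit 1000000), (nat_lit 0), (nat_lit 0), (nat_lit 2)⟩) (BT.leaf ⟨[(nat_lit 6), (nat_lit 6)], (nat_lit 10), (nat_lit 0), (nat_lit 0), (nat_lit 3)⟩))) (BT.node (nat_lit 6) (BT.node (nat_lit 5) (BT.leaf ⟨[(nat_lit 3), (nat_lit 2)], (nat_lit 19), (nat_lit 1), (nat_lit 0), (nat_lit 3)⟩) (BT.leaf ⟨[(nat_lit 2), (nat_lit 3)], (nat_lit 19), (nat_lit 0), (nat_lit 0), (nat_lit 3)⟩)) (BT.node (nat_lit 7) (BT.leaf ⟨[(nat_lit 1), (nat_lit 1)], (nat_lit 0), (nat_lit 0), (nat_lit 0), (nat_lit 3)⟩) (BT.node (nat_lit 8) (BT.leaf ⟨[(nat_lit 5), (nat_lit 5)], (nat_lit 6), (nat_lit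 0), (nat_lit 0), (nat_lit 3)⟩) (BT.leaf ⟨[(nat_lit 4), (nat_lit 4)], (nat_lit 2), (nat_lit 0), (nat_lit 0), (nat_lit 3)⟩))))) (BT.node (nat_lit 14) (BT.node (nat_lit 11) (BT.node (nat_lit 10) (BT.leaf ⟨[(nat_lit 2), (nat_lit 2), (nat_lit 2)], (nat_lit 1), (nat_lit 0), (nat_lit 0), (nat_lit 3)⟩) (BT.leaf ⟨[(nat_lit 3), (nat_lit 5), (nat_lit 3), (nat_lit 5)], (nat_lit 28), (nat_lit 0), (nat_lit 0), (nat_lit 3)⟩)) (BT.node (nat_lit 12) (BT.leaf ⟨[(nat_lit 5), (nat_lit 6), (nat_lit 5), (nat_lit 6)], (nat_lit 13), (nat_lit 1), (nat_lit 0), (nat_lit 3)⟩) (BT.node (nat_lit 13) (BT.leaf ⟨[(nat_lit 1), (nat_lit 4), (nat_lit 1), (nat_lit 4)], (nat_lit 3), (nat_lit 1), (nat_lit 0), (nat_lit 3)⟩) (BT.leaf ⟨[(nat_lit 1), (nat_lit 6), (nat_lit 1), (nat_lit 6)], (nat_lit 11), (nat_lit 1), (nat_lit 0), (nat_lit 3)⟩)))) (BT.node (nat_lit 16) (BT.node (nat_lit 15) (BT.leaf ⟨[(nat_lit 4), (nat_lit 6), (nat_lit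 4), (nat_lit 6)], (nat_lit 12), (nat_lit 1), (nat_lit 0), (nat_lit 3)⟩) (BT.leaf ⟨[(nat_lit 4), (nat_lit 2), (nat_lit 4), (nat_lit 2)], (nat_lit 4), (nat_lit 0), (nat_lit 0), (nat_lit 3)⟩)) (BT.node (nat_lit 17) (BT.leaf ⟨[(nat_lit 5), (nat_lit 2), (nat_lit 5), (nat_lit 2)], (nat_lit 7), (nat_lit 0), (nat_lit 0), (nat_lit 3)⟩) (BT.node (nat_lit 18) (BT.leaf ⟨[(nat_lit 4), (nat_lit 3), (nat_lit 4), (nat_lit 3)], (nat_lit 25), (nat_lit 1), (nat_lit 0), (nat_lit 3)⟩) (BT.leaf ⟨[(nat_lit 5), (nat_lit 3), (nat_lit 5), (nat_lit 3)], (nat_lit 28), (nat_lit 1), (nat_lit 0), (nat_lit 3)⟩)))))) (BT.node (nat_lit 28) (BT.node (nat_lit 23) (BT.node (nat_lit 21) (BT.node (nat_lit 20) (BT.leaf ⟨[(nat_lit 4), (nat_lit 1), (nat_lit 4), (nat_lit 1)], (nat_lit 3), (nat_lit 0), (nat_lit 0), (nat_lit 3)⟩) (BT.leaf ⟨[(nat_lit 6), (nat_lit 2), (nat_lit 6), (nat_lit 2), (nat_lit 6), (nat_lit 2)], (nat_lit 14),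 (nat_lit 0), (nat_lit 0), (nat_lit 3)⟩)) (BT.node (nat_lit 22) (BT.leaf ⟨[(nat_lit 6), (nat_lit 1), (nat_lit 6), (nat_lit 1)], (nat_lit 11), (nat_lit 0), (nat_lit 0), (nat_lit 3)⟩) (BT.leaf ⟨[(nat_lit 6), (nat_lit 5), (nat_lit 6), (nat_lit 5)], (nat_lit 13), (nat_lit 0), (nat_lit 0), (nat_lit 3)⟩))) (BT.node (nat_lit 25) (BT.node (nat_lit 24) (BT.leaf ⟨[(nat_lit 1), (nat_lit 2), (nat_lit 1), (nat_lit 3), (nat_lit 1), (nat_lit 2), (nat_lit 1), (nat_lit 3)], (nat_lit 5), (nat_lit 1), (nat_lit 0), (nat_lit 3)⟩) (BT.leaf ⟨[(nat_lit 2), (nat_lit 1), (nat_lit 5), (nat_lit 4), (nat_lit 2), (nat_lit 1), (nat_lit 5), (nat_lit 4), (nat_lit 1), (nat_lit 5), (nat_lit 2), (nat_lit 1)], (nat_lit 9), (nat_lit 10), (nat_lit 0), (nat_lit 3)⟩)) (BT.node (nat_lit 26) (BT.leaf ⟨[(nat_lit 4), (nat_lit 5), (nat_lit 1), (nat_lit 3), (nat_lit 4), (nat_lit 5), (nat_lit 1), (nat_lit 3), (nat_lit 1), (nat_lit 3),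 (nat_lit 5), (nat_lit 1)], (nat_lit 30), (nat_lit 6), (nat_lit 0), (nat_lit 3)⟩) (BT.node (nat_lit 27) (BT.leaf ⟨[(nat_lit 2), (nat_lit 5), (nat_lit 2), (nat_lit 5)], (nat_lit 7), (nat_lit 1), (nat_lit 0), (nat_lit 3)⟩) (BT.leaf ⟨[(nat_lit 2), (nat_lit 4), (nat_lit 2), (nat_lit 4)], (nat_lit 4), (nat_lit 1), (nat_lit 0), (nat_lit 3)⟩))))) (BT.node (nat_lit 33) (BT.node (nat_lit 30) (BT.node (nat_lit 29) (BT.leaf ⟨[(nat_lit 5), (nat_lit 4), (nat_lit 5), (nat_lit 4), (nat_lit 5), (nat_lit 4)], (nat_lit 8), (nat_lit 0), (nat_lit 0), (nat_lit 3)⟩) (BT.leaf ⟨[(nat_lit 2), (nat_lit 6), (nat_lit 2), (nat_lit 6), (nat_lit 2), (nat_lit 6)], (nat_lit 14), (nat_lit 1), (nat_lit 0), (nat_lit 3)⟩)) (BT.node (nat_lit 31) (BT.leaf ⟨[(nat_lit 2), (nat_lit 1), (nat_lit 3), (nat_lit 1), (nat_lit 2), (nat_lit 1), (nat_lit 3), (nat_lit 1)], (nat_lit 5), (nat_lit 2), (nat_lit 0), (nat_lit 3)⟩) (BT.node (nat_lit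 32) (BT.leaf ⟨[(nat_lit 6), (nat_lit 4), (nat_lit 6), (nat_lit 4)], (nat_lit 12), (nat_lit 0), (nat_lit 0), (nat_lit 3)⟩) (BT.leaf ⟨[(nat_lit 5), (nat_lit 1), (nat_lit 4), (nat_lit 5), (nat_lit 1), (nat_lit 3), (nat_lit 4), (nat_lit 5), (nat_lit 1), (nat_lit 3), (nat_lit 1), (nat_lit 3)], (nat_lit 30), (nat_lit 4), (nat_lit 0), (nat_lit 3)⟩)))) (BT.node (nat_lit 35) (BT.node (nat_lit 34) (BT.leaf ⟨[(nat_lit 4), (nat_lit 5), (nat_lit 4), (nat_lit 5), (nat_lit 4), (nat_lit 5)], (nat_lit 8), (nat_lit 1), (nat_lit 0), (nat_lit 3)⟩) (BT.leaf ⟨[(nat_lit 1), (nat_lit 2), (nat_lit 1), (nat_lit 5), (nat_lit 4), (nat_lit 2), (nat_lit 1), (nat_lit 5), (nat_lit 4), (nat_lit 1), (nat_lit 5), (nat_lit 2)], (nat_lit 9), (nat_lit 9), (nat_lit 0), (nat_lit 3)⟩)) (BT.node (nat_lit 36) (BT.leaf ⟨[(nat_lit 1), (nat_lit 5), (nat_lit 4), (nat_lit 2), (nat_lit 1), (nat_lit 5), (nat_lit 4), (nat_lit 1), (nat_lit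 5), (nat_lit 2), (nat_lit 1), (nat_lit 2)], (nat_lit 9), (nat_lit 11), (nat_lit 0), (nat_lit 3)⟩) (BT.node (nat_lit 37) (BT.leaf ⟨[(nat_lit 1), (nat_lit 5), (nat_lit 2), (nat_lit 1), (nat_lit 2), (nat_lit 1), (nat_lit 5), (nat_lit 4), (nat_lit 2), (nat_lit 1), (nat_lit 5), (nat_lit 4)], (nat_lit 9), (nat_lit 6), (nat_lit 0), (nat_lit 3)⟩) (BT.leaf ⟨[(nat_lit 5), (nat_lit 4), (nat_lit 1), (nat_lit 5), (nat_lit 2), (nat_lit 1), (nat_lit 2), (nat_lit 1), (nat_lit 5), (nat_lit 4), (nat_lit 2), (nat_lit 1)], (nat_lit 9), (nat_lit 4), (nat_lit 0), (nat_lit 3)⟩)))))))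
noncomputable def ep_2_hcs : List CW := [⟨[(nat_lit 5)], (nat_lit 0), (nat_lit 0), (nat_lit 0), (nat_lit 0)⟩, ⟨[(nat_lit 4)], (nat_lit 1), (nat_lit 0), (nat_lit 0), (nat_lit 0)⟩, ⟨[(nat_lit 2)], (nat_lit 2), (nat_lit 0), (nat_lit 0), (nat_lit 0)⟩, ⟨[(nat_lit 1)], (nat_lit 3), (nat_lit 0), (nat_lit 0), (nat_lit 0)⟩, ⟨[(nat_lit 5)], (nat_lit 4), (nat_lit 0), (nat_lit 0), (nat_lit 0)⟩, ⟨[(nat_lit 4)], (nat_lit 5), (nat_lit 0), (nat_lit 0), (nat_lit 0)⟩, ⟨[(nat_lit 3)], (nat_lit 6), (nat_lit 0), (nat_lit 0), (nat_lit 0)⟩, ⟨[(nat_lit 1)], (nat_lit 7), (nat_lit 0), (nat_lit 0), (nat_lit 0)⟩]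
noncomputable def ep_2_H (x j : Nat) : Bx (Nat → Nat → Nat) := mkH ep_2_L ep_2_pb.1 ep_2_e.get (lmap CW.w ep_2_hcs) (nat_lit 32) (nat_lit 33) (nat_lit 7) (nat_lit 64) (nat_lit 4096) (nat_lit 4095) x (ep_2_rots.get j)
noncomputable def ep_2_F (x b : Nat) : Bool := blkOK ep_2_H ep_2_ch (nat_lit 33) (nat_lit 64) (nat_lit 64) (nat_lit 8) (nat_lit 255) (nat_lit 17) (nat_lit 131071) x b

theorem ep_2_k0_0 : allFrom (ep_2_F (nat_lit 0)) (nat_lit 0) (nat_lit 4) = true := by decide +kernel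
theorem ep_2_k1_0 : allFrom (ep_2_F (nat_lit 1)) (nat_lit 0) (nat_lit 4) = true := by decide +kernel
theorem ep_2_k2_0 : allFrom (ep_2_F (nat_lit 2)) (nat_lit 0) (nat_lit 4) = true := by decide +kernel
theorem ep_2_k3_0 : allFrom (ep_2_F (nat_lit 3)) (nat_lit 0) (nat_lit 4) = true := by decide +kernel
theorem ep_2_k4_0 : allFrom (ep_2_F (nat_lit 4)) (nat_lit 0) (nat_lit 4) = true := by decide +kernel
theorem ep_2_k5_0 : allFrom (ep_2_F (nat_lit 5)) (nat_lit 0) (nat_lit 4) = true := by decide +kernel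
theorem ep_2_k6_0 : allFrom (ep_2_F (nat_lit 6)) (nat_lit 0) (nat_lit 4) = true := by decide +kernel

noncomputable def ep_3_c0 : BT (Bx Nat) := (BT.leaf (Bx.mk (nat_lit 0x0)))
noncomputable def ep_3_c1 : BT (Bx Nat) := (BT.leaf (Bx.mk (nat_lit 0xf3fa0cf363ea71fed8f9e07c523efb1eb561cec7a780fb81eae03de939b26f5a363d19120db9065a976ce03c64dd380eda35ad18ce47cb63ad81d5c8f8647bf63a4a360518faad792ebb81d01dade47a323cfb1ccc1abf019726c9a34ad184f018576a3935c13a7e8d1f460dc058cba5e475323a7b1c4c8e7647376387c048e022e8d0b81820000)))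
noncomputable def ep_3_c2 : BT (Bx Nat) := (BT.leaf (Bx.mk (nat_lit 0x5c5faa3f933fbb1b46cfda8bf16e7288f85978b23d965e0b8fad8d3be7c98f54c8e87979a46b9515bb19cd8cd701de25c5c0758477d2361d1caa2ec6175c9c6631cd71a0c38fec64165a8b8a4d8c6b5b8f80d301a16c4bd4b4b05bcc88e816dda23325959795d8c37017631279196d8c2e9b1c659f62cbe02893626f011b182d1627010f81820000)))
noncomputable def ep_3_c3 : BT (Bx Nat) := (BT.leaf (Bx.mk (nat_lit 0x50bfa45f902fa917a60bda85d142f27178d8b52c5db62d1c07c70b7b85c942eea17578b3a9fb922da916458b1ac5c762b2b170e039c0585a2caa15c60ad405a632b187e0b8afdc557629dc06c78a9f01ae22c5316660abe8e3302a0a15d80a6d055b628fc05e10a4ac55380b75152a8a460544628d6145c8a57013f80979143d8a17011362820000)))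
noncomputable def ep_3_c4 : BT (Bx Nat) := (BT.leaf (Bx.mk (nat_lit 0x171fc4ae6257112b7895b3cac64bfd25bd92be496ee6ad7352a9c94eca960a7535e38af1254b92bda956c915ac8ad24567329a994ceca5b80e5651c915840abe25256520b2efd95794abb52a47aadd14a28bcf584ca28bf019ac521628eb146c9486eaa3751512a7dd452eba74298aaa5e141f0b8d8585b9455ca26e5118283caa26940b81820000)))
noncomputable def ep_3_c5 : BT (Bx Nat) := (BT.leaf (Bx.mk (nat_lit 0xd93b24ff9177a94bc1efdbd0d2c4da326eb136701fd496ae27a7259b68cb04c8f2687933910e2e7f37477c12ee097304b7043081f7bd19ac4af9431d20a68f4e33316420b1efd927b2957942aca34e903b479b0261ba12ec92ec4a19263c9316c922e92374151247e496b24b3b245e02b6101f078dc052b9255c92780998243ca426900b81820000)))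
noncomputable def ep_3_c6 : BT (Bx Nat) := (BT.leaf (Bx.mk (nat_lit 0x735fec8d504789bfd757d988d364568af7391c3d9db80fc7b3a7d79cebc8ccd56668d910888b3643a36aee03c948c616535230d90c4ab9a8d4a421cb10d6c84b80de221ed9088ef8380da56a47b4ddda8f6419c067ab0bcd9588ca1864ed9047018b80be32151587dc853640bc0599345e481f6409c053d3056c80f809bc049e0230ec0b81820000)))
noncomputable def ep_3_c7 : BT (Bx Nat) := (BT.leaf (Bx.mk (nat_lit 0x1e5f9aaf8626a5abc1d5dec4bcf9725d6b367b933d8957bb1272559d849b6245b121e03d6c47518da5cac209c6c464ba53b118e03a5eacb14adb113d889701c780e1b111162f8ba7b80ddb10d264dec43380d5c068d885dc4976213b108e0327018f80c1b1060e87ec41780b9c05ae02bec41380abc054d881f0143809dc04ae023ec40780840000)))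
noncomputable def ep_3_p : BT (Bx Nat) := (BT.leaf (Bx.mk (nat_lit 0x8d858d468d418d038cc17bc77ac67ac17a827a417a0279c779c37944688768476846674767466703668366476642660766066584658154c754875486548154475446540353825347534353075306530152c752c5424742074206420541c241874183414741464145414331073106310130c730c630c120832082104700000000)))
noncomputable def ep_3_e0 : BT Nat := (BT.node (nat_lit 68) (BT.node (nat_lit 66) (BT.leaf (nat_lit 1048578)) (BT.leaf (nat_lit 786434))) (BT.node (nat_lit 69) (BT.leaf (nat_lit 524290)) (BT.node (nat_lit 70) (BT.leaf (nat_lit 262146)) (BT.leaf (nat_lit 2)))))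
noncomputable def ep_3_e : BT Nat := ep_3_e0
noncomputable def ep_3_cols : List (BT (Bx Nat)) := [ep_3_c0, ep_3_c1, ep_3_c2, ep_3_c3, ep_3_c4, ep_3_c5, ep_3_c6, ep_3_c7]
noncomputable def ep_3_ch (x j : Nat) : Bx Nat := chunkG ep_3_cols (nat_lit 1) x j
noncomputable def ep_3_L (x : Nat) : Bx (Nat → Nat) := lookG ep_3_ch (nat_lit 8) (nat_lit 255) (nat_lit 17) (nat_lit 131071) x
noncomputable def ep_3_pc (_ j : Nat) : Bx Nat := ep_3_p.get j
noncomputable def ep_3_pb : Bx (Nat → Nat) := lookG ep_3_pc (nat_lit 8) (nat_lit 255) (nat_lit 16) (nat_lit 65535) (nat_lit 0)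
noncomputable def ep_3_rots : BT CW := (BT.node (nat_lit 29) (BT.node (nat_lit 14) (BT.node (nat_lit 7) (BT.node (nat_lit 3) (BT.node (nat_lit 1) (BT.leaf ⟨[], (nat_lit 1000000), (nat_lit 0), (nat_lit 0), (nat_lit 0)⟩) (BT.node (nat_lit 2) (BT.leaf ⟨[], (nat_lit 1000000), (nat_lit 0), (nat_lit 0), (nat_lit 1)⟩) (BT.leaf ⟨[], (nat_lit 1000000), (nat_lit 0), (nat_lit 0), (nat_lit 2)⟩))) (BT.node (nat_lit 5) (BT.node (nat_lit 4) (BT.leaf ⟨[(nat_lit 7), (nat_lit 7)], (nat_lit 15), (nat_lit 0), (nat_lit 0), (nat_lit 3)⟩) (BT.leaf ⟨[(nat_lit 3), (nat_lit 2)], (nat_lit 27), (nat_lit 1), (nat_lit 0), (nat_lit 3)⟩)) (BT.node (nat_lit 6) (BT.leaf ⟨[(nat_lit 2), (nat_lit 3)], (nat_lit 27), (nat_lit 0), (nat_lit 0), (nat_lit 3)⟩) (BT.leaf ⟨[(nat_lit 1), (nat_lit 1)], (nat_lit 0), (nat_lit 0), (nat_lit 0), (nat_lit 3)⟩)))) (BT.node (nat_lit 10) (BT.node (nat_lit 8) (BT.leaf ⟨[(nat_lit 6), (nat_lit 6)],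 (nat_lit 10), (nat_lit 0), (nat_lit 0), (nat_lit 3)⟩) (BT.node (nat_lit 9) (BT.leaf ⟨[(nat_lit 5), (nat_lit 5)], (nat_lit 6), (nat_lit 0), (nat_lit 0), (nat_lit 3)⟩) (BT.leaf ⟨[(nat_lit 4), (nat_lit 4)], (nat_lit 2), (nat_lit 0), (nat_lit 0), (nat_lit 3)⟩))) (BT.node (nat_lit 12) (BT.node (nat_lit 11) (BT.leaf ⟨[(nat_lit 2), (nat_lit 2), (nat_lit 2)], (nat_lit 1), (nat_lit 0), (nat_lit 0), (nat_lit 3)⟩) (BT.leaf ⟨[(nat_lit 1), (nat_lit 6), (nat_lit 1), (nat_lit 6)], (nat_lit 11), (nat_lit 1), (nat_lit 0), (nat_lit 3)⟩)) (BT.node (nat_lit 13) (BT.leaf ⟨[(nat_lit 1), (nat_lit 7), (nat_lit 1), (nat_lit 7)], (nat_lit 16), (nat_lit 1), (nat_lit 0), (nat_lit 3)⟩) (BT.leaf ⟨[(nat_lit 3), (nat_lit 5), (nat_lit 3), (nat_lit 5)], (nat_lit 36), (nat_lit 0), (nat_lit 0), (nat_lit 3)⟩))))) (BT.node (nat_lit 21) (BT.node (nat_lit 17) (BT.node (nat_lit 15) (BT.leaf ⟨[(nat_lit 5), (nat_lit 6), (nat_lit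 5), (nat_lit 6)], (nat_lit 13), (nat_lit 1), (nat_lit 0), (nat_lit 3)⟩) (BT.node (nat_lit 16) (BT.leaf ⟨[(nat_lit 5), (nat_lit 7), (nat_lit 5), (nat_lit 7)], (nat_lit 18), (nat_lit 1), (nat_lit 0), (nat_lit 3)⟩) (BT.leaf ⟨[(nat_lit 5), (nat_lit 3), (nat_lit 5), (nat_lit 3)], (nat_lit 36), (nat_lit 1), (nat_lit 0), (nat_lit 3)⟩))) (BT.node (nat_lit 19) (BT.node (nat_lit 18) (BT.leaf ⟨[(nat_lit 5), (nat_lit 2), (nat_lit 5), (nat_lit 2)], (nat_lit 7), (nat_lit 0), (nat_lit 0), (nat_lit 3)⟩) (BT.leaf ⟨[(nat_lit 1), (nat_lit 4), (nat_lit 1), (nat_lit 4)], (nat_lit 3), (nat_lit 1), (nat_lit 0), (nat_lit 3)⟩)) (BT.node (nat_lit 20) (BT.leaf ⟨[(nat_lit 4), (nat_lit 7), (nat_lit 4), (nat_lit 7)], (nat_lit 17), (nat_lit 1), (nat_lit 0), (nat_lit 3)⟩) (BT.leaf ⟨[(nat_lit 4), (nat_lit 2), (nat_lit 4), (nat_lit 2)], (nat_lit 4), (nat_lit 0), (nat_lit 0), (nat_lit 3)⟩)))) (BT.node (nat_lit 25) (BT.node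 (nat_lit 23) (BT.node (nat_lit 22) (BT.leaf ⟨[(nat_lit 4), (nat_lit 1), (nat_lit 4), (nat_lit 1)], (nat_lit 3), (nat_lit 0), (nat_lit 0), (nat_lit 3)⟩) (BT.leaf ⟨[(nat_lit 4), (nat_lit 6), (nat_lit 4), (nat_lit 6)], (nat_lit 12), (nat_lit 1), (nat_lit 0), (nat_lit 3)⟩)) (BT.node (nat_lit 24) (BT.leaf ⟨[(nat_lit 6), (nat_lit 7), (nat_lit 2), (nat_lit 7), (nat_lit 6), (nat_lit 7), (nat_lit 2), (nat_lit 7)], (nat_lit 20), (nat_lit 1), (nat_lit 0), (nat_lit 3)⟩) (BT.leaf ⟨[(nat_lit 6), (nat_lit 1), (nat_lit 6), (nat_lit 1)], (nat_lit 11), (nat_lit 0), (nat_lit 0), (nat_lit 3)⟩))) (BT.node (nat_lit 27) (BT.node (nat_lit 26) (BT.leaf ⟨[(nat_lit 6), (nat_lit 5), (nat_lit 6), (nat_lit 5)], (nat_lit 13), (nat_lit 0), (nat_lit 0), (nat_lit 3)⟩) (BT.leaf ⟨[(nat_lit 2), (nat_lit 7), (nat_lit 3), (nat_lit 7), (nat_lit 2), (nat_lit 7), (nat_lit 3), (nat_lit 7)], (nat_lit 19), (nat_lit 3), (nat_lit 0),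 (nat_lit 3)⟩)) (BT.node (nat_lit 28) (BT.leaf ⟨[(nat_lit 2), (nat_lit 6), (nat_lit 2), (nat_lit 6), (nat_lit 2), (nat_lit 6)], (nat_lit 14), (nat_lit 1), (nat_lit 0), (nat_lit 3)⟩) (BT.leaf ⟨[(nat_lit 1), (nat_lit 2), (nat_lit 1), (nat_lit 3), (nat_lit 1), (nat_lit 2), (nat_lit 1), (nat_lit 3)], (nat_lit 5), (nat_lit 1), (nat_lit 0), (nat_lit 3)⟩)))))) (BT.node (nat_lit 43) (BT.node (nat_lit 36) (BT.node (nat_lit 32) (BT.node (nat_lit 30) (BT.leaf ⟨[(nat_lit 2), (nat_lit 7), (nat_lit 6), (nat_lit 7), (nat_lit 2), (nat_lit 7), (nat_lit 6), (nat_lit 7)], (nat_lit 20), (nat_lit 3), (nat_lit 0), (nat_lit 3)⟩) (BT.node (nat_lit 31) (BT.leaf ⟨[(nat_lit 3), (nat_lit 7), (nat_lit 2), (nat_lit 7), (nat_lit 3), (nat_lit 7), (nat_lit 2), (nat_lit 7)], (nat_lit 19), (nat_lit 1), (nat_lit 0), (nat_lit 3)⟩) (BT.leaf ⟨[(nat_lit 2), (nat_lit 1), (nat_lit 5), (nat_lit 4), (nat_lit 2), (nat_lit 1), (nat_lit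 5), (nat_lit 4), (nat_lit 1), (nat_lit 5), (nat_lit 2), (nat_lit 1)], (nat_lit 9), (nat_lit 10), (nat_lit 0), (nat_lit 3)⟩))) (BT.node (nat_lit 34) (BT.node (nat_lit 33) (BT.leaf ⟨[(nat_lit 4), (nat_lit 5), (nat_lit 1), (nat_lit 3), (nat_lit 4), (nat_lit 5), (nat_lit 1), (nat_lit 3), (nat_lit 1), (nat_lit 3), (nat_lit 5), (nat_lit 1)], (nat_lit 38), (nat_lit 6), (nat_lit 0), (nat_lit 3)⟩) (BT.leaf ⟨[(nat_lit 2), (nat_lit 5), (nat_lit 2), (nat_lit 5)], (nat_lit 7), (nat_lit 1), (nat_lit 0), (nat_lit 3)⟩)) (BT.node (nat_lit 35) (BT.leaf ⟨[(nat_lit 2), (nat_lit 4), (nat_lit 2), (nat_lit 4)], (nat_lit 4), (nat_lit 1), (nat_lit 0), (nat_lit 3)⟩) (BT.leaf ⟨[(nat_lit 4), (nat_lit 3), (nat_lit 4), (nat_lit 3)], (nat_lit 33), (nat_lit 1), (nat_lit 0), (nat_lit 3)⟩)))) (BT.node (nat_lit 39) (BT.node (nat_lit 37) (BT.leaf ⟨[(nat_lit 3), (nat_lit 4), (nat_lit 3), (nat_lit 4)], (nat_lit 33), (nat_lit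 0), (nat_lit 0), (nat_lit 3)⟩) (BT.node (nat_lit 38) (BT.leaf ⟨[(nat_lit 5), (nat_lit 4), (nat_lit 5), (nat_lit 4), (nat_lit 5), (nat_lit 4)], (nat_lit 8), (nat_lit 0), (nat_lit 0), (nat_lit 3)⟩) (BT.leaf ⟨[(nat_lit 2), (nat_lit 1), (nat_lit 3), (nat_lit 1), (nat_lit 2), (nat_lit 1), (nat_lit 3), (nat_lit 1)], (nat_lit 5), (nat_lit 2), (nat_lit 0), (nat_lit 3)⟩))) (BT.node (nat_lit 41) (BT.node (nat_lit 40) (BT.leaf ⟨[(nat_lit 5), (nat_lit 1), (nat_lit 4), (nat_lit 5), (nat_lit 1), (nat_lit 3), (nat_lit 4), (nat_lit 5), (nat_lit 1), (nat_lit 3), (nat_lit 1), (nat_lit 3)], (nat_lit 38), (nat_lit 4), (nat_lit 0), (nat_lit 3)⟩) (BT.leaf ⟨[(nat_lit 7), (nat_lit 5), (nat_lit 2), (nat_lit 1), (nat_lit 5), (nat_lit 2), (nat_lit 1), (nat_lit 7), (nat_lit 5), (nat_lit 2), (nat_lit 1), (nat_lit 5), (nat_lit 2), (nat_lit 1), (nat_lit 7), (nat_lit 5), (nat_lit 2), (nat_lit 1), (nat_lit 5), (nat_lit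 2), (nat_lit 1)], (nat_lit 21), (nat_lit 0), (nat_lit 0), (nat_lit 3)⟩)) (BT.node (nat_lit 42) (BT.leaf ⟨[(nat_lit 7), (nat_lit 4), (nat_lit 7), (nat_lit 4)], (nat_lit 17), (nat_lit 0), (nat_lit 0), (nat_lit 3)⟩) (BT.leaf ⟨[(nat_lit 6), (nat_lit 4), (nat_lit 6), (nat_lit 4)], (nat_lit 12), (nat_lit 0), (nat_lit 0), (nat_lit 3)⟩))))) (BT.node (nat_lit 50) (BT.node (nat_lit 46) (BT.node (nat_lit 44) (BT.leaf ⟨[(nat_lit 6), (nat_lit 2), (nat_lit 6), (nat_lit 2), (nat_lit 6), (nat_lit 2)], (nat_lit 14), (nat_lit 0), (nat_lit 0), (nat_lit 3)⟩) (BT.node (nat_lit 45) (BT.leaf ⟨[(nat_lit 1), (nat_lit 2), (nat_lit 1), (nat_lit 5), (nat_lit 4), (nat_lit 2), (nat_lit 1), (nat_lit 5), (nat_lit 4), (nat_lit 1), (nat_lit 5), (nat_lit 2)], (nat_lit 9), (nat_lit 9), (nat_lit 0), (nat_lit 3)⟩) (BT.leaf ⟨[(nat_lit 5), (nat_lit 2), (nat_lit 1), (nat_lit 2), (nat_lit 1), (nat_lit 5), (nat_lit 4), (nat_lit 2),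 (nat_lit 1), (nat_lit 5), (nat_lit 4), (nat_lit 1)], (nat_lit 9), (nat_lit 7), (nat_lit 0), (nat_lit 3)⟩))) (BT.node (nat_lit 48) (BT.node (nat_lit 47) (BT.leaf ⟨[(nat_lit 6), (nat_lit 1), (nat_lit 3), (nat_lit 7), (nat_lit 4), (nat_lit 2), (nat_lit 1), (nat_lit 6), (nat_lit 3), (nat_lit 7), (nat_lit 3), (nat_lit 1), (nat_lit 6), (nat_lit 2), (nat_lit 7), (nat_lit 2)], (nat_lit 22), (nat_lit 9), (nat_lit 0), (nat_lit 3)⟩) (BT.leaf ⟨[(nat_lit 1), (nat_lit 6), (nat_lit 3), (nat_lit 7), (nat_lit 3), (nat_lit 1), (nat_lit 6), (nat_lit 2), (nat_lit 7), (nat_lit 2), (nat_lit 6), (nat_lit 1), (nat_lit 3), (nat_lit 7), (nat_lit 4), (nat_lit 2)], (nat_lit 22), (nat_lit 15), (nat_lit 0), (nat_lit 3)⟩)) (BT.node (nat_lit 49) (BT.leaf ⟨[(nat_lit 7), (nat_lit 2), (nat_lit 6), (nat_lit 1), (nat_lit 3), (nat_lit 7), (nat_lit 4), (nat_lit 2), (nat_lit 1), (nat_lit 6), (nat_lit 3), (nat_lit 7), (nat_lit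 3), (nat_lit 1), (nat_lit 6), (nat_lit 2)], (nat_lit 22), (nat_lit 7), (nat_lit 0), (nat_lit 3)⟩) (BT.leaf ⟨[(nat_lit 7), (nat_lit 5), (nat_lit 7), (nat_lit 5)], (nat_lit 18), (nat_lit 0), (nat_lit 0), (nat_lit 3)⟩)))) (BT.node (nat_lit 54) (BT.node (nat_lit 52) (BT.node (nat_lit 51) (BT.leaf ⟨[(nat_lit 7), (nat_lit 1), (nat_lit 7), (nat_lit 1)], (nat_lit 16), (nat_lit 0), (nat_lit 0), (nat_lit 3)⟩) (BT.leaf ⟨[(nat_lit 7), (nat_lit 3), (nat_lit 7), (nat_lit 2), (nat_lit 7), (nat_lit 3), (nat_lit 7), (nat_lit 2)], (nat_lit 19), (nat_lit 0), (nat_lit 0), (nat_lit 3)⟩)) (BT.node (nat_lit 53) (BT.leaf ⟨[(nat_lit 7), (nat_lit 2), (nat_lit 7), (nat_lit 6), (nat_lit 7), (nat_lit 2), (nat_lit 7), (nat_lit 6)], (nat_lit 20), (nat_lit 2), (nat_lit 0), (nat_lit 3)⟩) (BT.leaf ⟨[(nat_lit 2), (nat_lit 1), (nat_lit 5), (nat_lit 2), (nat_lit 1), (nat_lit 7), (nat_lit 5), (nat_lit 2), (nat_lit 1), (nat_lit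 5), (nat_lit 2), (nat_lit 1), (nat_lit 7), (nat_lit 5), (nat_lit 2), (nat_lit 1), (nat_lit 5), (nat_lit 2), (nat_lit 1), (nat_lit 7), (nat_lit 5)], (nat_lit 21), (nat_lit 2), (nat_lit 0), (nat_lit 3)⟩))) (BT.node (nat_lit 56) (BT.node (nat_lit 55) (BT.leaf ⟨[(nat_lit 5), (nat_lit 4), (nat_lit 1), (nat_lit 5), (nat_lit 2), (nat_lit 1), (nat_lit 2), (nat_lit 1), (nat_lit 5), (nat_lit 4), (nat_lit 2), (nat_lit 1)], (nat_lit 9), (nat_lit 4), (nat_lit 0), (nat_lit 3)⟩) (BT.leaf ⟨[(nat_lit 4), (nat_lit 5), (nat_lit 4), (nat_lit 5), (nat_lit 4), (nat_lit 5)], (nat_lit 8), (nat_lit 1), (nat_lit 0), (nat_lit 3)⟩)) (BT.node (nat_lit 57) (BT.leaf ⟨[(nat_lit 1), (nat_lit 5), (nat_lit 4), (nat_lit 1), (nat_lit 5), (nat_lit 2), (nat_lit 1), (nat_lit 2), (nat_lit 1), (nat_lit 5), (nat_lit 4), (nat_lit 2)], (nat_lit 9), (nat_lit 3), (nat_lit 0), (nat_lit 3)⟩) (BT.leaf ⟨[(nat_lit 7), (nat_lit 6), (nat_lit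 7), (nat_lit 2), (nat_lit 7), (nat_lit 6), (nat_lit 7), (nat_lit 2)], (nat_lit 20), (nat_lit 0), (nat_lit 0), (nat_lit 3)⟩)))))))
noncomputable def ep_3_hcs : List CW := [⟨[(nat_lit 6)], (nat_lit 0), (nat_lit 0), (nat_lit 0), (nat_lit 0)⟩, ⟨[(nat_lit 5)], (nat_lit 1), (nat_lit 0), (nat_lit 0), (nat_lit 0)⟩, ⟨[(nat_lit 4)], (nat_lit 2), (nat_lit 0), (nat_lit 0), (nat_lit 0)⟩, ⟨[(nat_lit 2)], (nat_lit 3), (nat_lit 0), (nat_lit 0), (nat_lit 0)⟩, ⟨[(nat_lit 1)], (nat_lit 4), (nat_lit 0), (nat_lit 0), (nat_lit 0)⟩, ⟨[(nat_lit 6)], (nat_lit 5), (nat_lit 0), (nat_lit 0), (nat_lit 0)⟩, ⟨[(nat_lit 5)], (nat_lit 6), (nat_lit 0), (nat_lit 0), (nat_lit 0)⟩, ⟨[(nat_lit 4)], (nat_lit 7), (nat_lit 0), (nat_lit 0), (nat_lit 0)⟩, ⟨[(nat_lit 3)], (nat_lit 8), (nat_lit 0), (nat_lit 0), (nat_lit 0)⟩, ⟨[(nat_lit 1)], (nat_lit 9), (nat_lit 0), (nat_lit 0), (nat_lit 0)⟩]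
noncomputable def ep_3_H (x j : Nat) : Bx (Nat → Nat → Nat) := mkH ep_3_L ep_3_pb.1 ep_3_e.get (lmap CW.w ep_3_hcs) (nat_lit 63) (nat_lit 64) (nat_lit 8) (nat_lit 64) (nat_lit 4096) (nat_lit 4095) x (ep_3_rots.get j)
noncomputable def ep_3_F (x b : Nat) : Bool := blkOK ep_3_H ep_3_ch (nat_lit 64) (nat_lit 64) (nat_lit 64) (nat_lit 8) (nat_lit 255) (nat_lit 17) (nat_lit 131071) x b

theorem ep_3_k0_0 : allFrom (ep_3_F (nat_lit 0)) (nat_lit 0) (nat_lit 4) = true := by decide +kernel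
theorem ep_3_k1_0 : allFrom (ep_3_F (nat_lit 1)) (nat_lit 0) (nat_lit 4) = true := by decide +kernel
theorem ep_3_k2_0 : allFrom (ep_3_F (nat_lit 2)) (nat_lit 0) (nat_lit 4) = true := by decide +kernel
theorem ep_3_k3_0 : allFrom (ep_3_F (nat_lit 3)) (nat_lit 0) (nat_lit 4) = true := by decide +kernel
theorem ep_3_k4_0 : allFrom (ep_3_F (nat_lit 4)) (nat_lit 0) (nat_lit 4) = true := by decide +kernel
theorem ep_3_k5_0 : allFrom (ep_3_F (nat_lit 5)) (nat_lit 0) (nat_lit 4) = true := by decide +kernel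
theorem ep_3_k6_0 : allFrom (ep_3_F (nat_lit 6)) (nat_lit 0) (nat_lit 4) = true := by decide +kernel
theorem ep_3_k7_0 : allFrom (ep_3_F (nat_lit 7)) (nat_lit 0) (nat_lit 4) = true := by decide +kernel

noncomputable def Kc2_0 : Net := (Net.cons (nat_lit 1) (nat_lit 0x400110054404454404501041510500) (Net.cons (nat_lit 2) (nat_lit 0x13220022000221310010000100210) (Net.cons (nat_lit 4) (nat_lit 0x50e000d0000030900080608020300) (Net.cons (nat_lit 8) (nat_lit 0x1002600480090008400200080) (Net.cons (nat_lit 16) (nat_lit 0x64000000300000f80a00000400) (Net.cons (nat_lit 32) (nat_lit 0x41190000000094000000) (Net.cons (nat_lit 64) (nat_lit 0x44e119d4200000) (Net.cons (nat_lit 32) (nat_lit 0x5d7900000000ff9a4680) (Net.cons (nat_lit 16) (nat_lit 0xe5000060320000b80a0000c440) (Net.cons (nat_lit 8) (nat_lit 0x10026004900900085002000bc) (Net.cons (nat_lit 4) (nat_lit 0x50e010d0800030900080608020300) (Net.cons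 (nat_lit 2) (nat_lit 0x33222022000231310010000100210) (Net.cons (nat_lit 1) (nat_lit 0x400110054404454405501041510501) Net.nil)))))))))))))
noncomputable def Kc2_1 : Net := (Net.cons (nat_lit 1) (nat_lit 0x51544404050140411550551140100) (Net.cons (nat_lit 2) (nat_lit 0x13121012300233313101031131010) (Net.cons (nat_lit 4) (nat_lit 0x603050e0a040e0e06000602020400) (Net.cons (nat_lit 8) (nat_lit 0xf00d200fd0031000f00480011) (Net.cons (nat_lit 16) (nat_lit 0x24000020530000f72100000600) (Net.cons (nat_lit 32) (nat_lit 0x90f7ff00000000a0000000) (Net.cons (nat_lit 64) (nat_lit 0x90fbffb0080400) (Net.cons (nat_lit 32) (nat_lit 0xb548ff0000000083becc01) (Net.cons (nat_lit 16) (nat_lit 0xf30000b3ff0000166c00009ce9) (Net.cons (nat_lit 8) (nat_lit 0x35002b006400c90072008000e5) (Net.cons (nat_lit 4) (nat_lit 0x90a050c040009000b010903040d0a) (Net.cons (nat_lit 2) (nat_lit 0x230223133020232330022020223123)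 (Net.cons (nat_lit 1) (nat_lit 0x11041115115004004055455540000) Net.nil)))))))))))))
noncomputable def Kc2_2 : Net := (Net.cons (nat_lit 1) (nat_lit 0x55501405144440011110115100000) (Net.cons (nat_lit 2) (nat_lit 0x130021212133110132312122010120) (Net.cons (nat_lit 4) (nat_lit 0x50b09050b0d04050d0f000c0e0500) (Net.cons (nat_lit 8) (nat_lit 0xc0008800ab000200ed008e0081) (Net.cons (nat_lit 16) (nat_lit 0xc9000026090000285100000200) (Net.cons (nat_lit 32) (nat_lit 0x2019490000000096000000) (Net.cons (nat_lit 64) (nat_lit 0x20d96bf7000000) (Net.cons (nat_lit 32) (nat_lit 0xaec73e00000000fddf1c80) (Net.cons (nat_lit 16) (nat_lit 0x280000e5290000c76c00009cf1) (Net.cons (nat_lit 8) (nat_lit 0x9800e900c7009e009600a000f7) (Net.cons (nat_lit 4) (nat_lit 0x3000d0104020e05090003040a0506) (Net.cons (nat_lit 2) (nat_lit 0x210032002303021120310101033) (Net.cons (nat_lit 1) (nat_lit 0x500054150411115554445440015545)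 Net.nil)))))))))))))
noncomputable def Kc2_3 : Net := (Net.cons (nat_lit 1) (nat_lit 0x141400515511544144550005004510) (Net.cons (nat_lit 2) (nat_lit 0x222211211131303213010103220000) (Net.cons (nat_lit 4) (nat_lit 0xa0801050b030308010800080a0d00) (Net.cons (nat_lit 8) (nat_lit 0xcc002900ce00a0009d00160060) (Net.cons (nat_lit 16) (nat_lit 0x6100001b0100005f9400008200) (Net.cons (nat_lit 32) (nat_lit 0x4091000000005a000000) (Net.cons (nat_lit 64) (nat_lit 0x20c3937b040000) (Net.cons (nat_lit 32) (nat_lit 0xf084aa00000000e1df0460) (Net.cons (nat_lit 16) (nat_lit 0x820000e1640000ef14000045b8) (Net.cons (nat_lit 8) (nat_lit 0x4000590003001c00e300a500fe) (Net.cons (nat_lit 4) (nat_lit 0x504020a0703030402040004040c03) (Net.cons (nat_lit 2) (nat_lit 0x111122122232303133020203310000) (Net.cons (nat_lit 1) (nat_lit 0x414155040044011411005550551045) Net.nil)))))))))))))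
noncomputable def Kc2_4 : Net := (Net.cons (nat_lit 1) (nat_lit 0x504445011011005550154454040000) (Net.cons (nat_lit 2) (nat_lit 0x210210210112030303111223131010) (Net.cons (nat_lit 4) (nat_lit 0x7050d0105000a0c000804050b0600) (Net.cons (nat_lit 8) (nat_lit 0xc300a600990028005000360056) (Net.cons (nat_lit 16) (nat_lit 0x180000ca2b00004a8200002500) (Net.cons (nat_lit 32) (nat_lit 0x33638c0000000016000000) (Net.cons (nat_lit 64) (nat_lit 0x2bf2ac9e100100) (Net.cons (nat_lit 32) (nat_lit 0xe21cbd00000000f5f10d12) (Net.cons (nat_lit 16) (nat_lit 0x1f0000bc74000035340000548e) (Net.cons (nat_lit 8) (nat_lit 0xf40049004c004c003700e10090) (Net.cons (nat_lit 4) (nat_lit 0x7090b070108020503070c07010c0f) (Net.cons (nat_lit 2) (nat_lit 0x222003233003311322213301200321) (Net.cons (nat_lit 1) (nat_lit 0x114504404410045505400515455) Net.nil)))))))))))))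
noncomputable def Kc2_5 : Net := (Net.cons (nat_lit 1) (nat_lit 0x444004504054144000010104100400) (Net.cons (nat_lit 2) (nat_lit 0x23221032002121110312311210010) (Net.cons (nat_lit 4) (nat_lit 0xc000807050f00000c0f0905090000) (Net.cons (nat_lit 8) (nat_lit 0xc001200180012000700a50020) (Net.cons (nat_lit 16) (nat_lit 0xa0000006b000006a1500000000) (Net.cons (nat_lit 32) (nat_lit 0x1220080000000068000000) (Net.cons (nat_lit 64) (nat_lit 0xb2220b7aa00000) (Net.cons (nat_lit 32) (nat_lit 0x534cae000000007955c5a0) (Net.cons (nat_lit 16) (nat_lit 0xb8000093a400005a070000444c) (Net.cons (nat_lit 8) (nat_lit 0xa0006002e0040001300f10066) (Net.cons (nat_lit 4) (nat_lit 0xc020805050d02020c0d0907090001) (Net.cons (nat_lit 2) (nat_lit 0x23221032002121110312311210010) (Net.cons (nat_lit 1) (nat_lit 0x444004504054144000010104100400) Net.nil)))))))))))))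
noncomputable def Kc2 : List Net := [Kc2_0, Kc2_1, Kc2_2, Kc2_3, Kc2_4, Kc2_5]
noncomputable def Ac2 : List Nat := [(nat_lit 0xd4c2fb126e308e09736942f4848420),
  (nat_lit 0x1959a6000909109361881108c00000),
  (nat_lit 0x18976e846f986d0fdf57c543118b7),
  (nat_lit 0x8d2b134ee320bef2eec142b9a2398f),
  (nat_lit 0x3cc4140d945535c68487373a7b7bd7),
  (nat_lit 0x862c25b320202b28082bca148aa000),
  full (nat_lit 120)]

noncomputable def Bc2 : List Nat := [(nat_lit 0),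
  (nat_lit 0),
  (nat_lit 0),
  (nat_lit 0),
  (nat_lit 0),
  (nat_lit 0),
  (nat_lit 0)]


end CF.Schur.S62
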