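import Cfsg.Agent.Comp.TCDefs

set_option autoImplicit false
set_option maxRecDepth 1000000
set_option maxHeartbeats 0
set_option Elab.async false

namespace CF.Schur.Alt

open CF.Comp

noncomputable def A6_0 : Net := (Net.cons (nat_lit 1) (nat_lit 4) (Net.cons (nat_lit 2) (nat_lit 2) (Net.cons (nat_lit 1) (nat_lit 5) Net.nil)))
noncomputable def A6_1 : Net := (Net.cons (nat_lit 2) (nat_lit 2) (Net.cons (nat_lit 1) (nat_lit 4) Net.nil))
noncomputable def A6_2 : Net := (Net.cons (nat_lit 1) (nat_lit 16) (Net.cons (nat_lit 2) (nat_lit 2) (Net.cons (nat_lit 4) (nat_lit 2) (Net.cons (nat_lit 2) (nat_lit 2) (Net.cons (nat_lit 1) (nat_lit 20) Net.nil)))))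
noncomputable def A6_3 : Net := (Net.cons (nat_lit 2) (nat_lit 2) (Net.cons (nat_lit 4) (nat_lit 2) (Net.cons (nat_lit 2) (nat_lit 2) (Net.cons (nat_lit 1) (nat_lit 16) Net.nil))))
noncomputable def A6 : List Net := [A6_0, A6_1, A6_2, A6_3]

noncomputable def Na6x2_0 : Net := (Net.cons (nat_lit 2) (nat_lit 1) (Net.cons (nat_lit 4) (nat_lit 3) (Net.cons (nat_lit 2) (nat_lit 1) Net.nil)))
noncomputable def Na6x2_1 : Net := (Net.cons (nat_lit 1) (nat_lit 4) (Net.cons (nat_lit 2) (nat_lit 2) (Net.cons (nat_lit 4) (nat_lit 2) (Net.cons (nat_lit 2) (nat_lit 3) (Net.cons (nat_lit 1) (nat_lit 4) Net.nil)))))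
noncomputable def Na6x2_2 : Net := (Net.cons (nat_lit 1) (nat_lit 16) (Net.cons (nat_lit 2) (nat_lit 1) (Net.cons (nat_lit 4) (nat_lit 3) (Net.cons (nat_lit 2) (nat_lit 1) (Net.cons (nat_lit 1) (nat_lit 16) Net.nil)))))
noncomputable def Na6x2_3 : Net := (Net.cons (nat_lit 1) (nat_lit 20) (Net.cons (nat_lit 2) (nat_lit 1) (Net.cons (nat_lit 4) (nat_lit 1) (Net.cons (nat_lit 2) (nat_lit 3) (Net.cons (nat_lit 1) (nat_lit 5) Net.nil)))))
noncomputable def Na6x2_4 : Net := (Net.cons (nat_lit 1) (nat_lit 16) (Net.cons (nat_lit 2) (nat_lit 1) (Net.cons (nat_lit 4) (nat_lit 3) (Net.cons (nat_lit 2) (nat_lit 2) (Net.cons (nat_lit 1) (nat_lit 21) Net.nil)))))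
noncomputable def Na6x2 : List Net := [Na6x2_0, Na6x2_1, Na6x2_2, Na6x2_3, Na6x2_4]

noncomputable def Na6x3_0 : Net := (Net.cons (nat_lit 2) (nat_lit 1) (Net.cons (nat_lit 4) (nat_lit 1) (Net.cons (nat_lit 2) (nat_lit 1) (Net.cons (nat_lit 1) (nat_lit 4) Net.nil))))
noncomputable def Na6x3_1 : Net := (Net.cons (nat_lit 1) (nat_lit 16) (Net.cons (nat_lit 2) (nat_lit 2) (Net.cons (nat_lit 4) (nat_lit 3) (Net.cons (nat_lit 2) (nat_lit 2) (Net.cons (nat_lit 1) (nat_lit 21) Net.nil)))))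
noncomputable def Na6x3_2 : Net := (Net.cons (nat_lit 1) (nat_lit 16) (Net.cons (nat_lit 2) (nat_lit 2) (Net.cons (nat_lit 4) (nat_lit 2) (Net.cons (nat_lit 2) (nat_lit 2) (Net.cons (nat_lit 1) (nat_lit 17) Net.nil)))))
noncomputable def Na6x3 : List Net := [Na6x3_0, Na6x3_1, Na6x3_2]

noncomputable def Np6_0 : Net := (Net.cons (nat_lit 1) (nat_lit 20) Net.nil)
noncomputable def Np6_1 : Net := (Net.cons (nat_lit 2) (nat_lit 2) (Net.cons (nat_lit 4) (nat_lit 2) (Net.cons (nat_lit 2) (nat_lit 2) (Net.cons (nat_lit 1) (nat_lit 16) Net.nil))))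
noncomputable def Np6_2 : Net := (Net.cons (nat_lit 1) (nat_lit 4) (Net.cons (nat_lit 2) (nat_lit 2) (Net.cons (nat_lit 1) (nat_lit 20) Net.nil)))
noncomputable def Np6_3 : Net := (Net.cons (nat_lit 1) (nat_lit 17) Net.nil)
noncomputable def Np6 : List Net := [Np6_0, Np6_1, Np6_2, Np6_3]

noncomputable def Rp6_0 : List (List Nat) := [[(nat_lit 1), (nat_lit 1)],
  [(nat_lit 3), (nat_lit 3), (nat_lit 3)],
  [(nat_lit 3), (nat_lit 1), (nat_lit 3), (nat_lit 1), (nat_lit 3), (nat_lit 1)]]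

noncomputable def Rp6_1 : List (List Nat) := [[(nat_lit 1), (nat_lit 1)],
  [(nat_lit 3), (nat_lit 3), (nat_lit 3)],
  [(nat_lit 3), (nat_lit 1), (nat_lit 3), (nat_lit 1), (nat_lit 3), (nat_lit 1)],
  [(nat_lit 5), (nat_lit 5)],
  [(nat_lit 5), (nat_lit 3), (nat_lit 5), (nat_lit 3)],
  [(nat_lit 5), (nat_lit 1), (nat_lit 5), (nat_lit 1), (nat_lit 5), (nat_lit 1)]]

noncomputable def relsp6 : List (List Nat) := [[(nat_lit 1), (nat_lit 1)],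
  [(nat_lit 3), (nat_lit 3), (nat_lit 3)],
  [(nat_lit 3), (nat_lit 1), (nat_lit 3), (nat_lit 1), (nat_lit 3), (nat_lit 1)],
  [(nat_lit 5), (nat_lit 5)],
  [(nat_lit 5), (nat_lit 3), (nat_lit 5), (nat_lit 3)],
  [(nat_lit 5), (nat_lit 1), (nat_lit 5), (nat_lit 1), (nat_lit 5), (nat_lit 1)],
  [(nat_lit 7), (nat_lit 7)],
  [(nat_lit 7), (nat_lit 1), (nat_lit 7), (nat_lit 1)],
  [(nat_lit 7), (nat_lit 3), (nat_lit 7), (nat_lit 3)],
  [(nat_lit 7), (nat_lit 5), (nat_lit 7), (nat_lit 5), (nat_lit 7), (nat_lit 5)]]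

noncomputable def ep6_0_c0 : BT (Bx Nat) := (BT.leaf (Bx.mk (nat_lit 0x0)))
noncomputable def ep6_0_c1 : BT (Bx Nat) := (BT.leaf (Bx.mk (nat_lit 0x14b57951aa2d44a8786b0ce18c2f50709000)))
noncomputable def ep6_0_c2 : BT (Bx Nat) := (BT.leaf (Bx.mk (nat_lit 0x379ace9ae4461c6d558a3b5618e985709800)))
noncomputable def ep6_0_c3 : BT (Bx Nat) := (BT.leaf (Bx.mk (nat_lit 0x55875525d2e359c36d56a9353aa385b0a000)))
noncomputable def ep6_0_p : BT (Bx Nat) := (BT.leaf (Bx.mk (nat_lit 0xe02dc3d81d419018c1883882443442441000000)))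
noncomputable def ep6_0_e : BT Nat := BT.leaf (nat_lit 0)
noncomputable def ep6_0_cols : List (BT (Bx Nat)) := [ep6_0_c0, ep6_0_c1, ep6_0_c2, ep6_0_c3]
noncomputable def ep6_0_ch (x j : Nat) : Bx Nat := chunkG ep6_0_cols (nat_lit 1) x j
noncomputable def ep6_0_L (x : Nat) : Bx (Nat → Nat) := lookG ep6_0_ch (nat_lit 8) (nat_lit 255) (nat_lit 11) (nat_lit 2047) x
noncomputable def ep6_0_pc (_ j : Nat) : Bx Nat := ep6_0_p.get j
noncomputable def ep6_0_pb : Bx (Nat → Nat) := lookG ep6_0_pc (nat_lit 8) (nat_lit 255) (nat_lit 12) (nat_lit 4095) (nat_lit 0)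
noncomputable def ep6_0_rots : BT CW := (BT.node (nat_lit 5) (BT.node (nat_lit 2) (BT.node (nat_lit 1) (BT.leaf ⟨[], (nat_lit 1000000), (nat_lit 0), (nat_lit 0), (nat_lit 0)⟩) (BT.leaf ⟨[], (nat_lit 1000000), (nat_lit 0), (nat_lit 0), (nat_lit 1)⟩)) (BT.node (nat_lit 3) (BT.leaf ⟨[], (nat_lit 1000000), (nat_lit 0), (nat_lit 0), (nat_lit 2)⟩) (BT.node (nat_lit 4) (BT.leaf ⟨[(nat_lit 1), (nat_lit 1)], (nat_lit 0), (nat_lit 0), (nat_lit 0), (nat_lit 3)⟩) (BT.leaf ⟨[(nat_lit 3), (nat_lit 2)], (nat_lit 5), (nat_lit 1), (nat_lit 0), (nat_lit 3)⟩)))) (BT.node (nat_lit 8) (BT.node (nat_lit 6) (BT.leaf ⟨[(nat_lit 2), (nat_lit 3)], (nat_lit 5), (nat_lit 0), (nat_lit 0), (nat_lit 3)⟩) (BT.node (nat_lit 7) (BT.leaf ⟨[(nat_lit 2), (nat_lit 2), (nat_lit 2)], (nat_lit 1), (nat_lit 0), (nat_lit 0), (nat_lit 3)⟩) (BT.leaf ⟨[(nat_lit 2), (nat_lit 1), (nat_lit 2), (nat_lit 1), (nat_lit 2),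 (nat_lit 1)], (nat_lit 2), (nat_lit 0), (nat_lit 0), (nat_lit 3)⟩))) (BT.node (nat_lit 9) (BT.leaf ⟨[(nat_lit 3), (nat_lit 1), (nat_lit 3), (nat_lit 1), (nat_lit 3), (nat_lit 1)], (nat_lit 9), (nat_lit 1), (nat_lit 0), (nat_lit 3)⟩) (BT.node (nat_lit 10) (BT.leaf ⟨[(nat_lit 3), (nat_lit 3), (nat_lit 3)], (nat_lit 8), (nat_lit 0), (nat_lit 0), (nat_lit 3)⟩) (BT.leaf ⟨[(nat_lit 1), (nat_lit 3), (nat_lit 1), (nat_lit 3), (nat_lit 1), (nat_lit 3)], (nat_lit 9), (nat_lit 0), (nat_lit 0), (nat_lit 3)⟩)))))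
noncomputable def ep6_0_hcs : List CW := []
noncomputable def ep6_0_H (x j : Nat) : Bx (Nat → Nat → Nat) := mkH ep6_0_L ep6_0_pb.1 ep6_0_e.get (lmap CW.w ep6_0_hcs) (nat_lit 12) (nat_lit 13) (nat_lit 4) (nat_lit 16) (nat_lit 256) (nat_lit 1023) x (ep6_0_rots.get j)
noncomputable def ep6_0_F (x b : Nat) : Bool := blkOK ep6_0_H ep6_0_ch (nat_lit 13) (nat_lit 16) (nat_lit 16) (nat_lit 8) (nat_lit 255) (nat_lit 11) (nat_lit 2047) x b

theorem ep6_0_k0_0 : allFrom (ep6_0_F (nat_lit 0)) (nat_lit 0) (nat_lit 4) = true := by decide +kernel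
theorem ep6_0_k1_0 : allFrom (ep6_0_F (nat_lit 1)) (nat_lit 0) (nat_lit 4) = true := by decide +kernel
theorem ep6_0_k2_0 : allFrom (ep6_0_F (nat_lit 2)) (nat_lit 0) (nat_lit 4) = true := by decide +kernel
theorem ep6_0_k3_0 : allFrom (ep6_0_F (nat_lit 3)) (nat_lit 0) (nat_lit 4) = true := by decide +kernel

noncomputable def ep6_1_c0 : BT (Bx Nat) := (BT.leaf (Bx.mk (nat_lit 0x0)))
noncomputable def ep6_1_c1 : BT (Bx Nat) := (BT.leaf (Bx.mk (nat_lit 0x2b1658aa8ba6400)))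
noncomputable def ep6_1_c2 : BT (Bx Nat) := (BT.leaf (Bx.mk (nat_lit 0x8edc5a31caa6400)))
noncomputable def ep6_1_c3 : BT (Bx Nat) := (BT.leaf (Bx.mk (nat_lit 0x4d233a35328c400)))
noncomputable def ep6_1_c4 : BT (Bx Nat) := (BT.leaf (Bx.mk (nat_lit 0x2915d74e21a2800)))
noncomputable def ep6_1_p : BT (Bx Nat) := (BT.leaf (Bx.mk (nat_lit 0x361ec290291000000)))
noncomputable def ep6_1_e0 : BT Nat := (BT.node (nat_lit 66) (BT.leaf (nat_lit 262146)) (BT.leaf (nat_lit 2)))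
noncomputable def ep6_1_e : BT Nat := ep6_1_e0
noncomputable def ep6_1_cols : List (BT (Bx Nat)) := [ep6_1_c0, ep6_1_c1, ep6_1_c2, ep6_1_c3, ep6_1_c4]
noncomputable def ep6_1_ch (x j : Nat) : Bx Nat := chunkG ep6_1_cols (nat_lit 1) x j
noncomputable def ep6_1_L (x : Nat) : Bx (Nat → Nat) := lookG ep6_1_ch (nat_lit 8) (nat_lit 255) (nat_lit 10) (nat_lit 1023) x
noncomputable def ep6_1_pc (_ j : Nat) : Bx Nat := ep6_1_p.get j
noncomputable def ep6_1_pb : Bx (Nat → Nat) := lookG ep6_1_pc (nat_lit 8) (nat_lit 255) (nat_lit 11) (nat_lit 2047) (nat_lit 0)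
noncomputable def ep6_1_rots : BT CW := (BT.node (nat_lit 6) (BT.node (nat_lit 3) (BT.node (nat_lit 1) (BT.leaf ⟨[], (nat_lit 1000000), (nat_lit 0), (nat_lit 0), (nat_lit 0)⟩) (BT.node (nat_lit 2) (BT.leaf ⟨[], (nat_lit 1000000), (nat_lit 0), (nat_lit 0), (nat_lit 1)⟩) (BT.leaf ⟨[], (nat_lit 1000000), (nat_lit 0), (nat_lit 0), (nat_lit 2)⟩))) (BT.node (nat_lit 4) (BT.leaf ⟨[(nat_lit 4), (nat_lit 4)], (nat_lit 3), (nat_lit 0), (nat_lit 0), (nat_lit 3)⟩) (BT.node (nat_lit 5) (BT.leaf ⟨[(nat_lit 1), (nat_lit 1)], (nat_lit 0), (nat_lit 0), (nat_lit 0), (nat_lit 3)⟩) (BT.leaf ⟨[(nat_lit 3), (nat_lit 2)], (nat_lit 8), (nat_lit 1), (nat_lit 0), (nat_lit 3)⟩)))) (BT.node (nat_lit 9) (BT.node (nat_lit 7) (BT.leaf ⟨[(nat_lit 2), (nat_lit 3)], (nat_lit 8), (nat_lit 0), (nat_lit 0), (nat_lit 3)⟩) (BT.node (nat_lit 8) (BT.leaf ⟨[(nat_lit 2), (nat_lit 2), (nat_lit 2)], (nat_lit 1), (nat_lit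 0), (nat_lit 0), (nat_lit 3)⟩) (BT.leaf ⟨[(nat_lit 2), (nat_lit 4), (nat_lit 2), (nat_lit 4)], (nat_lit 4), (nat_lit 1), (nat_lit 0), (nat_lit 3)⟩))) (BT.node (nat_lit 10) (BT.leaf ⟨[(nat_lit 4), (nat_lit 1), (nat_lit 4), (nat_lit 1), (nat_lit 4), (nat_lit 1)], (nat_lit 5), (nat_lit 0), (nat_lit 0), (nat_lit 3)⟩) (BT.node (nat_lit 11) (BT.leaf ⟨[(nat_lit 4), (nat_lit 2), (nat_lit 4), (nat_lit 2)], (nat_lit 4), (nat_lit 0), (nat_lit 0), (nat_lit 3)⟩) (BT.leaf ⟨[(nat_lit 1), (nat_lit 2), (nat_lit 1), (nat_lit 2), (nat_lit 1), (nat_lit 2)], (nat_lit 2), (nat_lit 1), (nat_lit 0), (nat_lit 3)⟩)))))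
noncomputable def ep6_1_hcs : List CW := [⟨[(nat_lit 2)], (nat_lit 0), (nat_lit 0), (nat_lit 0), (nat_lit 0)⟩, ⟨[(nat_lit 1)], (nat_lit 1), (nat_lit 0), (nat_lit 0), (nat_lit 0)⟩, ⟨[(nat_lit 3)], (nat_lit 2), (nat_lit 0), (nat_lit 0), (nat_lit 0)⟩, ⟨[(nat_lit 1)], (nat_lit 3), (nat_lit 0), (nat_lit 0), (nat_lit 0)⟩]
noncomputable def ep6_1_H (x j : Nat) : Bx (Nat → Nat → Nat) := mkH ep6_1_L ep6_1_pb.1 ep6_1_e.get (lmap CW.w ep6_1_hcs) (nat_lit 5) (nat_lit 6) (nat_lit 5) (nat_lit 8) (nat_lit 128) (nat_lit 511) x (ep6_1_rots.get j)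
noncomputable def ep6_1_F (x b : Nat) : Bool := blkOK ep6_1_H ep6_1_ch (nat_lit 6) (nat_lit 8) (nat_lit 16) (nat_lit 8) (nat_lit 255) (nat_lit 10) (nat_lit 1023) x b

theorem ep6_1_k0_0 : allFrom (ep6_1_F (nat_lit 0)) (nat_lit 0) (nat_lit 4) = true := by decide +kernel
theorem ep6_1_k1_0 : allFrom (ep6_1_F (nat_lit 1)) (nat_lit 0) (nat_lit 4) = true := by decide +kernel
theorem ep6_1_k2_0 : allFrom (ep6_1_F (nat_lit 2)) (nat_lit 0) (nat_lit 4) = true := by decide +kernel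
theorem ep6_1_k3_0 : allFrom (ep6_1_F (nat_lit 3)) (nat_lit 0) (nat_lit 4) = true := by decide +kernel
theorem ep6_1_k4_0 : allFrom (ep6_1_F (nat_lit 4)) (nat_lit 0) (nat_lit 4) = true := by decide +kernel

noncomputable def ep6_2_c0 : BT (Bx Nat) := (BT.leaf (Bx.mk (nat_lit 0x0)))
noncomputable def ep6_2_c1 : BT (Bx Nat) := (BT.leaf (Bx.mk (nat_lit 0x4d54b533c1916b0c800)))
noncomputable def ep6_2_c2 : BT (Bx Nat) := (BT.leaf (Bx.mk (nat_lit 0x15122760d6c714b0c800)))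
noncomputable def ep6_2_c3 : BT (Bx Nat) := (BT.leaf (Bx.mk (nat_lit 0xcf69e60e476cea9c800)))
noncomputable def ep6_2_c4 : BT (Bx Nat) := (BT.leaf (Bx.mk (nat_lit 0x4b547384a5582f0c800)))
noncomputable def ep6_2_c5 : BT (Bx Nat) := (BT.leaf (Bx.mk (nat_lit 0x4953f3748d748705000)))
noncomputable def ep6_2_p : BT (Bx Nat) := (BT.leaf (Bx.mk (nat_lit 0x9039026c1484245000000)))
noncomputable def ep6_2_e0 : BT Nat := (BT.node (nat_lit 66) (BT.leaf (nat_lit 524290)) (BT.node (nat_lit 68) (BT.leaf (nat_lit 262146)) (BT.leaf (nat_lit 2))))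
noncomputable def ep6_2_e : BT Nat := ep6_2_e0
noncomputable def ep6_2_cols : List (BT (Bx Nat)) := [ep6_2_c0, ep6_2_c1, ep6_2_c2, ep6_2_c3, ep6_2_c4, ep6_2_c5]
noncomputable def ep6_2_ch (x j : Nat) : Bx Nat := chunkG ep6_2_cols (nat_lit 1) x j
noncomputable def ep6_2_L (x : Nat) : Bx (Nat → Nat) := lookG ep6_2_ch (nat_lit 8) (nat_lit 255) (nat_lit 11) (nat_lit 2047) x
noncomputable def ep6_2_pc (_ j : Nat) : Bx Nat := ep6_2_p.get j
noncomputable def ep6_2_pb : Bx (Nat → Nat) := lookG ep6_2_pc (nat_lit 8) (nat_lit 255) (nat_lit 12) (nat_lit 4095) (nat_lit 0)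
noncomputable def ep6_2_rots : BT CW := (BT.node (nat_lit 9) (BT.node (nat_lit 4) (BT.node (nat_lit 2) (BT.node (nat_lit 1) (BT.leaf ⟨[], (nat_lit 1000000), (nat_lit 0), (nat_lit 0), (nat_lit 0)⟩) (BT.leaf ⟨[], (nat_lit 1000000), (nat_lit 0), (nat_lit 0), (nat_lit 1)⟩)) (BT.node (nat_lit 3) (BT.leaf ⟨[], (nat_lit 1000000), (nat_lit 0), (nat_lit 0), (nat_lit 2)⟩) (BT.leaf ⟨[(nat_lit 5), (nat_lit 5)], (nat_lit 6), (nat_lit 0), (nat_lit 0), (nat_lit 3)⟩))) (BT.node (nat_lit 6) (BT.node (nat_lit 5) (BT.leaf ⟨[(nat_lit 4), (nat_lit 4)], (nat_lit 3), (nat_lit 0), (nat_lit 0), (nat_lit 3)⟩) (BT.leaf ⟨[(nat_lit 1), (nat_lit 1)], (nat_lit 0), (nat_lit 0), (nat_lit 0), (nat_lit 3)⟩)) (BT.node (nat_lit 7) (BT.leaf ⟨[(nat_lit 3), (nat_lit 2)], (nat_lit 12), (nat_lit 1), (nat_lit 0), (nat_lit 3)⟩) (BT.node (nat_lit 8) (BT.leaf ⟨[(nat_lit 2), (nat_lit 3)], (nat_lit 12), (nat_lit 0), (nat_lit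 0), (nat_lit 3)⟩) (BT.leaf ⟨[(nat_lit 2), (nat_lit 2), (nat_lit 2)], (nat_lit 1), (nat_lit 0), (nat_lit 0), (nat_lit 3)⟩))))) (BT.node (nat_lit 13) (BT.node (nat_lit 11) (BT.node (nat_lit 10) (BT.leaf ⟨[(nat_lit 2), (nat_lit 5), (nat_lit 2), (nat_lit 5)], (nat_lit 8), (nat_lit 1), (nat_lit 0), (nat_lit 3)⟩) (BT.leaf ⟨[(nat_lit 1), (nat_lit 5), (nat_lit 1), (nat_lit 5)], (nat_lit 7), (nat_lit 1), (nat_lit 0), (nat_lit 3)⟩)) (BT.node (nat_lit 12) (BT.leaf ⟨[(nat_lit 2), (nat_lit 4), (nat_lit 2), (nat_lit 4)], (nat_lit 4), (nat_lit 1), (nat_lit 0), (nat_lit 3)⟩) (BT.leaf ⟨[(nat_lit 5), (nat_lit 4), (nat_lit 5), (nat_lit 4), (nat_lit 5), (nat_lit 4)], (nat_lit 9), (nat_lit 0), (nat_lit 0), (nat_lit 3)⟩))) (BT.node (nat_lit 15) (BT.node (nat_lit 14) (BT.leaf ⟨[(nat_lit 5), (nat_lit 1), (nat_lit 5), (nat_lit 1)], (nat_lit 7), (nat_lit 0), (nat_lit 0), (nat_lit 3)⟩) (BT.leaf ⟨[(nat_lit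 5), (nat_lit 2), (nat_lit 5), (nat_lit 2)], (nat_lit 8), (nat_lit 0), (nat_lit 0), (nat_lit 3)⟩)) (BT.node (nat_lit 16) (BT.leaf ⟨[(nat_lit 4), (nat_lit 1), (nat_lit 4), (nat_lit 1), (nat_lit 4), (nat_lit 1)], (nat_lit 5), (nat_lit 0), (nat_lit 0), (nat_lit 3)⟩) (BT.node (nat_lit 17) (BT.leaf ⟨[(nat_lit 4), (nat_lit 2), (nat_lit 4), (nat_lit 2)], (nat_lit 4), (nat_lit 0), (nat_lit 0), (nat_lit 3)⟩) (BT.leaf ⟨[(nat_lit 1), (nat_lit 2), (nat_lit 1), (nat_lit 2), (nat_lit 1), (nat_lit 2)], (nat_lit 2), (nat_lit 1), (nat_lit 0), (nat_lit 3)⟩))))))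
noncomputable def ep6_2_hcs : List CW := [⟨[(nat_lit 4)], (nat_lit 0), (nat_lit 0), (nat_lit 0), (nat_lit 0)⟩, ⟨[(nat_lit 2)], (nat_lit 1), (nat_lit 0), (nat_lit 0), (nat_lit 0)⟩, ⟨[(nat_lit 1)], (nat_lit 2), (nat_lit 0), (nat_lit 0), (nat_lit 0)⟩, ⟨[(nat_lit 4)], (nat_lit 3), (nat_lit 0), (nat_lit 0), (nat_lit 0)⟩, ⟨[(nat_lit 3)], (nat_lit 4), (nat_lit 0), (nat_lit 0), (nat_lit 0)⟩, ⟨[(nat_lit 1)], (nat_lit 5), (nat_lit 0), (nat_lit 0), (nat_lit 0)⟩]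
noncomputable def ep6_2_H (x j : Nat) : Bx (Nat → Nat → Nat) := mkH ep6_2_L ep6_2_pb.1 ep6_2_e.get (lmap CW.w ep6_2_hcs) (nat_lit 6) (nat_lit 7) (nat_lit 6) (nat_lit 8) (nat_lit 256) (nat_lit 511) x (ep6_2_rots.get j)
noncomputable def ep6_2_F (x b : Nat) : Bool := blkOK ep6_2_H ep6_2_ch (nat_lit 7) (nat_lit 8) (nat_lit 32) (nat_lit 8) (nat_lit 255) (nat_lit 11) (nat_lit 2047) x b

theorem ep6_2_k0_0 : allFrom (ep6_2_F (nat_lit 0)) (nat_lit 0) (nat_lit 4) = true := by decide +kernel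
theorem ep6_2_k1_0 : allFrom (ep6_2_F (nat_lit 1)) (nat_lit 0) (nat_lit 4) = true := by decide +kernel
theorem ep6_2_k2_0 : allFrom (ep6_2_F (nat_lit 2)) (nat_lit 0) (nat_lit 4) = true := by decide +kernel
theorem ep6_2_k3_0 : allFrom (ep6_2_F (nat_lit 3)) (nat_lit 0) (nat_lit 4) = true := by decide +kernel
theorem ep6_2_k4_0 : allFrom (ep6_2_F (nat_lit 4)) (nat_lit 0) (nat_lit 4) = true := by decide +kernel
theorem ep6_2_k5_0 : allFrom (ep6_2_F (nat_lit 5)) (nat_lit 0) (nat_lit 4) = true := by decide +kernel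

noncomputable def Kc62_0 : Net := (Net.cons (nat_lit 1) (nat_lit 0x150101000) (Net.cons (nat_lit 2) (nat_lit 17899552) (Net.cons (nat_lit 4) (nat_lit 168296960) (Net.cons (nat_lit 8) (nat_lit 5111808) (Net.cons (nat_lit 16) (nat_lit 10) (Net.cons (nat_lit 32) (nat_lit 10) (Net.cons (nat_lit 16) (nat_lit 19978) (Net.cons (nat_lit 8) (nat_lit 16711728) (Net.cons (nat_lit 4) (nat_lit 0x50e02090c) (Net.cons (nat_lit 2) (nat_lit 0x2003330210) (Net.cons (nat_lit 1) (nat_lit 0x150110555) Net.nil)))))))))))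
noncomputable def Kc62_1 : Net := (Net.cons (nat_lit 1) (nat_lit 0x1515441140) (Net.cons (nat_lit 2) (nat_lit 53477632) (Net.cons (nat_lit 4) (nat_lit 0x6030d0300) (Net.cons (nat_lit 8) (nat_lit 14745600) (Net.cons (nat_lit 16) (nat_lit 96) (Net.cons (nat_lit 32) (nat_lit 96) (Net.cons (nat_lit 16) (nat_lit 49504) (Net.cons (nat_lit 8) (nat_lit 16449584) (Net.cons (nat_lit 4) (nat_lit 0x7090f0d08) (Net.cons (nat_lit 2) (nat_lit 536871186) (Net.cons (nat_lit 1) (nat_lit 0x104415140) Net.nil)))))))))))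
noncomputable def Kc62_2 : Net := (Net.cons (nat_lit 1) (nat_lit 69904) (Net.cons (nat_lit 2) (nat_lit 0x2011000000) (Net.cons (nat_lit 4) (nat_lit 0x30c060500) (Net.cons (nat_lit 8) (nat_lit 2949120) (Net.cons (nat_lit 16) (nat_lit 45) (Net.cons (nat_lit 32) (nat_lit 45) (Net.cons (nat_lit 16) (nat_lit 11565) (Net.cons (nat_lit 8) (nat_lit 16711760) (Net.cons (nat_lit 4) (nat_lit 0xa0f060f0a) (Net.cons (nat_lit 2) (nat_lit 0x2233222201) (Net.cons (nat_lit 1) (nat_lit 0x5144111110) Net.nil)))))))))))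
noncomputable def Kc62_3 : Net := (Net.cons (nat_lit 1) (nat_lit 0x144014514) (Net.cons (nat_lit 2) (nat_lit 0x2132211130) (Net.cons (nat_lit 4) (nat_lit 0x407080700) (Net.cons (nat_lit 8) (nat_lit 4915200) (Net.cons (nat_lit 16) (nat_lit 66) (Net.cons (nat_lit 32) (nat_lit 66) (Net.cons (nat_lit 16) (nat_lit 19266) (Net.cons (nat_lit 8) (nat_lit 16711860) (Net.cons (nat_lit 4) (nat_lit 0xd08070806) (Net.cons (nat_lit 2) (nat_lit 0x2102112103) (Net.cons (nat_lit 1) (nat_lit 0x5401044001) Net.nil)))))))))))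
noncomputable def Kc62 : List Net := [Kc62_0, Kc62_1, Kc62_2, Kc62_3]
noncomputable def Ac62 : List Nat := [(nat_lit 0x34de6185d5),
  (nat_lit 33280),
  (nat_lit 0x81b4b47b4b),
  (nat_lit 0x720bd226de),
  full (nat_lit 40)]

noncomputable def Bc62 : List Nat := [(nat_lit 0),
  (nat_lit 0),
  (nat_lit 0),
  (nat_lit 0),
  (nat_lit 0)]

noncomputable def Kc63_0 : Net := (Net.cons (nat_lit 1) (nat_lit 5) Net.nil)
noncomputable def Kc63_1 : Net := (Net.cons (nat_lit 2) (nat_lit 1) (Net.cons (nat_lit 1) (nat_lit 1) Net.nil))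
noncomputable def Kc63_2 : Net := (Net.cons (nat_lit 1) (nat_lit 16) (Net.cons (nat_lit 2) (nat_lit 2) (Net.cons (nat_lit 4) (nat_lit 2) (Net.cons (nat_lit 2) (nat_lit 2) (Net.cons (nat_lit 1) (nat_lit 17) Net.nil)))))
noncomputable def Kc63_3 : Net := (Net.cons (nat_lit 1) (nat_lit 17) Net.nil)
noncomputable def Kc63 : List Net := [Kc63_0, Kc63_1, Kc63_2, Kc63_3]
noncomputable def Ac63 : List Nat := [(nat_lit 0),
  (nat_lit 32),
  (nat_lit 9),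
  (nat_lit 0),
  full (nat_lit 6)]

noncomputable def Bc63 : List Nat := [(nat_lit 0),
  (nat_lit 16),
  (nat_lit 36),
  (nat_lit 0),
  (nat_lit 0)]

noncomputable def A7_0 : Net := (Net.cons (nat_lit 1) (nat_lit 4) (Net.cons (nat_lit 2) (nat_lit 2) (Net.cons (nat_lit 1) (nat_lit 5) Net.nil)))
noncomputable def A7_1 : Net := (Net.cons (nat_lit 2) (nat_lit 2) (Net.cons (nat_lit 1) (nat_lit 4) Net.nil))
noncomputable def A7_2 : Net := (Net.cons (nat_lit 1) (nat_lit 16) (Net.cons (nat_lit 2) (nat_lit 2) (Net.cons (nat_lit 4) (nat_lit 2) (Net.cons (nat_lit 2) (nat_lit 2) (Net.cons (nat_lit 1) (nat_lit 20) Net.nil)))))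
noncomputable def A7_3 : Net := (Net.cons (nat_lit 2) (nat_lit 2) (Net.cons (nat_lit 4) (nat_lit 2) (Net.cons (nat_lit 2) (nat_lit 2) (Net.cons (nat_lit 1) (nat_lit 16) Net.nil))))
noncomputable def A7_4 : Net := (Net.cons (nat_lit 1) (nat_lit 16) (Net.cons (nat_lit 2) (nat_lit 16) Net.nil))
noncomputable def A7 : List Net := [A7_0, A7_1, A7_2, A7_3, A7_4]

noncomputable def Na7x2_0 : Net := (Net.cons (nat_lit 1) (nat_lit 20) (Net.cons (nat_lit 2) (nat_lit 16) (Net.cons (nat_lit 4) (nat_lit 6) (Net.cons (nat_lit 2) (nat_lit 16) (Net.cons (nat_lit 1) (nat_lit 20) Net.nil)))))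
noncomputable def Na7x2_1 : Net := (Net.cons (nat_lit 1) (nat_lit 16) (Net.cons (nat_lit 2) (nat_lit 2) (Net.cons (nat_lit 4) (nat_lit 6) (Net.cons (nat_lit 2) (nat_lit 2) (Net.cons (nat_lit 1) (nat_lit 16) Net.nil)))))
noncomputable def Na7x2_2 : Net := (Net.cons (nat_lit 1) (nat_lit 4) (Net.cons (nat_lit 2) (nat_lit 16) (Net.cons (nat_lit 4) (nat_lit 6) (Net.cons (nat_lit 2) (nat_lit 16) (Net.cons (nat_lit 1) (nat_lit 4) Net.nil)))))
noncomputable def Na7x2_3 : Net := (Net.cons (nat_lit 1) (nat_lit 21) (Net.cons (nat_lit 2) (nat_lit 2) (Net.cons (nat_lit 4) (nat_lit 6) (Net.cons (nat_lit 2) (nat_lit 3) (Net.cons (nat_lit 1) (nat_lit 5) Net.nil)))))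
noncomputable def Na7x2_4 : Net := (Net.cons (nat_lit 2) (nat_lit 2) (Net.cons (nat_lit 4) (nat_lit 6) (Net.cons (nat_lit 2) (nat_lit 2) Net.nil)))
noncomputable def Na7x2 : List Net := [Na7x2_0, Na7x2_1, Na7x2_2, Na7x2_3, Na7x2_4]

noncomputable def Na7x3_0 : Net := (Net.cons (nat_lit 2) (nat_lit 2) (Net.cons (nat_lit 4) (nat_lit 6) (Net.cons (nat_lit 2) (nat_lit 1) (Net.cons (nat_lit 1) (nat_lit 5) Net.nil))))
noncomputable def Na7x3_1 : Net := (Net.cons (nat_lit 1) (nat_lit 1) (Net.cons (nat_lit 4) (nat_lit 4) (Net.cons (nat_lit 2) (nat_lit 1) (Net.cons (nat_lit 1) (nat_lit 1) Net.nil))))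
noncomputable def Na7x3_2 : Net := (Net.cons (nat_lit 2) (nat_lit 3) (Net.cons (nat_lit 1) (nat_lit 5) Net.nil))
noncomputable def Na7x3 : List Net := [Na7x3_0, Na7x3_1, Na7x3_2]

noncomputable def Np7_0 : Net := (Net.cons (nat_lit 1) (nat_lit 16) (Net.cons (nat_lit 2) (nat_lit 2) (Net.cons (nat_lit 4) (nat_lit 2) (Net.cons (nat_lit 2) (nat_lit 18) (Net.cons (nat_lit 1) (nat_lit 16) Net.nil)))))
noncomputable def Np7_1 : Net := (Net.cons (nat_lit 1) (nat_lit 16) (Net.cons (nat_lit 2) (nat_lit 16) Net.nil))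
noncomputable def Np7_2 : Net := (Net.cons (nat_lit 1) (nat_lit 16) (Net.cons (nat_lit 2) (nat_lit 16) (Net.cons (nat_lit 1) (nat_lit 20) Net.nil)))
noncomputable def Np7_3 : Net := (Net.cons (nat_lit 1) (nat_lit 20) (Net.cons (nat_lit 2) (nat_lit 18) (Net.cons (nat_lit 1) (nat_lit 20) Net.nil)))
noncomputable def Np7_4 : Net := (Net.cons (nat_lit 1) (nat_lit 16) (Net.cons (nat_lit 2) (nat_lit 16) (Net.cons (nat_lit 1) (nat_lit 17) Net.nil)))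
noncomputable def Np7 : List Net := [Np7_0, Np7_1, Np7_2, Np7_3, Np7_4]

noncomputable def Rp7_0 : List (List Nat) := [[(nat_lit 1), (nat_lit 1)],
  [(nat_lit 3), (nat_lit 3), (nat_lit 3)],
  [(nat_lit 3), (nat_lit 1), (nat_lit 3), (nat_lit 1), (nat_lit 3), (nat_lit 1)]]

noncomputable def Rp7_1 : List (List Nat) := [[(nat_lit 1), (nat_lit 1)],
  [(nat_lit 3), (nat_lit 3), (nat_lit 3)],
  [(nat_lit 3), (nat_lit 1), (nat_lit 3), (nat_lit 1), (nat_lit 3), (nat_lit 1)],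
  [(nat_lit 5), (nat_lit 5)],
  [(nat_lit 5), (nat_lit 3), (nat_lit 5), (nat_lit 3)],
  [(nat_lit 5), (nat_lit 1), (nat_lit 5), (nat_lit 1), (nat_lit 5), (nat_lit 1)]]

noncomputable def Rp7_2 : List (List Nat) := [[(nat_lit 1), (nat_lit 1)],
  [(nat_lit 3), (nat_lit 3), (nat_lit 3)],
  [(nat_lit 3), (nat_lit 1), (nat_lit 3), (nat_lit 1), (nat_lit 3), (nat_lit 1)],
  [(nat_lit 5), (nat_lit 5)],
  [(nat_lit 5), (nat_lit 3), (nat_lit 5), (nat_lit 3)],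
  [(nat_lit 5), (nat_lit 1), (nat_lit 5), (nat_lit 1), (nat_lit 5), (nat_lit 1)],
  [(nat_lit 7), (nat_lit 7)],
  [(nat_lit 7), (nat_lit 1), (nat_lit 7), (nat_lit 1)],
  [(nat_lit 7), (nat_lit 3), (nat_lit 7), (nat_lit 3)],
  [(nat_lit 7), (nat_lit 5), (nat_lit 7), (nat_lit 5), (nat_lit 7), (nat_lit 5)]]

noncomputable def relsp7 : List (List Nat) := [[(nat_lit 1), (nat_lit 1)],
  [(nat_lit 3), (nat_lit 3), (nat_lit 3)],
  [(nat_lit 3), (nat_lit 1), (nat_lit 3), (nat_lit 1), (nat_lit 3), (nat_lit 1)],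
  [(nat_lit 5), (nat_lit 5)],
  [(nat_lit 5), (nat_lit 3), (nat_lit 5), (nat_lit 3)],
  [(nat_lit 5), (nat_lit 1), (nat_lit 5), (nat_lit 1), (nat_lit 5), (nat_lit 1)],
  [(nat_lit 7), (nat_lit 7)],
  [(nat_lit 7), (nat_lit 1), (nat_lit 7), (nat_lit 1)],
  [(nat_lit 7), (nat_lit 3), (nat_lit 7), (nat_lit 3)],
  [(nat_lit 7), (nat_lit 5), (nat_lit 7), (nat_lit 5), (nat_lit 7), (nat_lit 5)],
  [(nat_lit 9), (nat_lit 9)],
  [(nat_lit 9), (nat_lit 1), (nat_lit 9), (nat_lit 1)],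
  [(nat_lit 9), (nat_lit 3), (nat_lit 9), (nat_lit 3)],
  [(nat_lit 9), (nat_lit 5), (nat_lit 9), (nat_lit 5)],
  [(nat_lit 9), (nat_lit 7), (nat_lit 9), (nat_lit 7), (nat_lit 9), (nat_lit 7)]]

noncomputable def ep7_0_c0 : BT (Bx Nat) := (BT.leaf (Bx.mk (nat_lit 0x0)))
noncomputable def ep7_0_c1 : BT (Bx Nat) := (BT.leaf (Bx.mk (nat_lit 0x14b57951aa2d44a8786b0ce18c2f50709000)))
noncomputable def ep7_0_c2 : BT (Bx Nat) := (BT.leaf (Bx.mk (nat_lit 0x379ace9ae4461c6d558a3b5618e985709800)))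
noncomputable def ep7_0_c3 : BT (Bx Nat) := (BT.leaf (Bx.mk (nat_lit 0x55875525d2e359c36d56a9353aa385b0a000)))
noncomputable def ep7_0_p : BT (Bx Nat) := (BT.leaf (Bx.mk (nat_lit 0xe02dc3d81d419018c1883882443442441000000)))
noncomputable def ep7_0_e : BT Nat := BT.leaf (nat_lit 0)
noncomputable def ep7_0_cols : List (BT (Bx Nat)) := [ep7_0_c0, ep7_0_c1, ep7_0_c2, ep7_0_c3]
noncomputable def ep7_0_ch (x j : Nat) : Bx Nat := chunkG ep7_0_cols (nat_lit 1) x j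
noncomputable def ep7_0_L (x : Nat) : Bx (Nat → Nat) := lookG ep7_0_ch (nat_lit 8) (nat_lit 255) (nat_lit 11) (nat_lit 2047) x
noncomputable def ep7_0_pc (_ j : Nat) : Bx Nat := ep7_0_p.get j
noncomputable def ep7_0_pb : Bx (Nat → Nat) := lookG ep7_0_pc (nat_lit 8) (nat_lit 255) (nat_lit 12) (nat_lit 4095) (nat_lit 0)
noncomputable def ep7_0_rots : BT CW := (BT.node (nat_lit 5) (BT.node (nat_lit 2) (BT.node (nat_lit 1) (BT.leaf ⟨[], (nat_lit 1000000), (nat_lit 0), (nat_lit 0), (nat_lit 0)⟩) (BT.leaf ⟨[], (nat_lit 1000000), (nat_lit 0), (nat_lit 0), (nat_lit 1)⟩)) (BT.node (nat_lit 3) (BT.leaf ⟨[], (nat_lit 1000000), (nat_lit 0), (nat_lit 0), (nat_lit 2)⟩) (BT.node (nat_lit 4) (BT.leaf ⟨[(nat_lit 1), (nat_lit 1)], (nat_lit 0), (nat_lit 0), (nat_lit 0), (nat_lit 3)⟩) (BT.leaf ⟨[(nat_lit 3), (nat_lit 2)], (nat_lit 6), (nat_lit 1), (nat_lit 0), (nat_lit 3)⟩)))) (BT.node (nat_lit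 8) (BT.node (nat_lit 6) (BT.leaf ⟨[(nat_lit 2), (nat_lit 3)], (nat_lit 6), (nat_lit 0), (nat_lit 0), (nat_lit 3)⟩) (BT.node (nat_lit 7) (BT.leaf ⟨[(nat_lit 2), (nat_lit 2), (nat_lit 2)], (nat_lit 1), (nat_lit 0), (nat_lit 0), (nat_lit 3)⟩) (BT.leaf ⟨[(nat_lit 2), (nat_lit 1), (nat_lit 2), (nat_lit 1), (nat_lit 2), (nat_lit 1)], (nat_lit 2), (nat_lit 0), (nat_lit 0), (nat_lit 3)⟩))) (BT.node (nat_lit 9) (BT.leaf ⟨[(nat_lit 3), (nat_lit 1), (nat_lit 3), (nat_lit 1), (nat_lit 3), (nat_lit 1)], (nat_lit 10), (nat_lit 1), (nat_lit 0), (nat_lit 3)⟩) (BT.node (nat_lit 10) (BT.leaf ⟨[(nat_lit 3), (nat_lit 3), (nat_lit 3)], (nat_lit 9), (nat_lit 0), (nat_lit 0), (nat_lit 3)⟩) (BT.leaf ⟨[(nat_lit 1), (nat_lit 3), (nat_lit 1), (nat_lit 3), (nat_lit 1), (nat_lit 3)], (nat_lit 10), (nat_lit 0), (nat_lit 0), (nat_lit 3)⟩)))))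
noncomputable def ep7_0_hcs : List CW := []
noncomputable def ep7_0_H (x j : Nat) : Bx (Nat → Nat → Nat) := mkH ep7_0_L ep7_0_pb.1 ep7_0_e.get (lmap CW.w ep7_0_hcs) (nat_lit 12) (nat_lit 13) (nat_lit 4) (nat_lit 16) (nat_lit 256) (nat_lit 1023) x (ep7_0_rots.get j)
noncomputable def ep7_0_F (x b : Nat) : Bool := blkOK ep7_0_H ep7_0_ch (nat_lit 13) (nat_lit 16) (nat_lit 16) (nat_lit 8) (nat_lit 255) (nat_lit 11) (nat_lit 2047) x b

theorem ep7_0_k0_0 : allFrom (ep7_0_F (nat_lit 0)) (nat_lit 0) (nat_lit 4) = true := by decide +kernel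
theorem ep7_0_k1_0 : allFrom (ep7_0_F (nat_lit 1)) (nat_lit 0) (nat_lit 4) = true := by decide +kernel
theorem ep7_0_k2_0 : allFrom (ep7_0_F (nat_lit 2)) (nat_lit 0) (nat_lit 4) = true := by decide +kernel
theorem ep7_0_k3_0 : allFrom (ep7_0_F (nat_lit 3)) (nat_lit 0) (nat_lit 4) = true := by decide +kernel

noncomputable def ep7_1_c0 : BT (Bx Nat) := (BT.leaf (Bx.mk (nat_lit 0x0)))
noncomputable def ep7_1_c1 : BT (Bx Nat) := (BT.leaf (Bx.mk (nat_lit 0x2b1658aa8ba6400)))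
noncomputable def ep7_1_c2 : BT (Bx Nat) := (BT.leaf (Bx.mk (nat_lit 0x8edc5a31caa6400)))
noncomputable def ep7_1_c3 : BT (Bx Nat) := (BT.leaf (Bx.mk (nat_lit 0x4d233a35328c400)))
noncomputable def ep7_1_c4 : BT (Bx Nat) := (BT.leaf (Bx.mk (nat_lit 0x2915d74e21a2800)))
noncomputable def ep7_1_p : BT (Bx Nat) := (BT.leaf (Bx.mk (nat_lit 0x361ec290291000000)))
noncomputable def ep7_1_e0 : BT Nat := (BT.node (nat_lit 66) (BT.leaf (nat_lit 262146)) (BT.leaf (nat_lit 2)))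
noncomputable def ep7_1_e : BT Nat := ep7_1_e0
noncomputable def ep7_1_cols : List (BT (Bx Nat)) := [ep7_1_c0, ep7_1_c1, ep7_1_c2, ep7_1_c3, ep7_1_c4]
noncomputable def ep7_1_ch (x j : Nat) : Bx Nat := chunkG ep7_1_cols (nat_lit 1) x j
noncomputable def ep7_1_L (x : Nat) : Bx (Nat → Nat) := lookG ep7_1_ch (nat_lit 8) (nat_lit 255) (nat_lit 10) (nat_lit 1023) x
noncomputable def ep7_1_pc (_ j : Nat) : Bx Nat := ep7_1_p.get j
noncomputable def ep7_1_pb : Bx (Nat → Nat) := lookG ep7_1_pc (nat_lit 8) (nat_lit 255) (nat_lit 11) (nat_lit 2047) (nat_lit 0)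
noncomputable def ep7_1_rots : BT CW := (BT.node (nat_lit 6) (BT.node (nat_lit 3) (BT.node (nat_lit 1) (BT.leaf ⟨[], (nat_lit 1000000), (nat_lit 0), (nat_lit 0), (nat_lit 0)⟩) (BT.node (nat_lit 2) (BT.leaf ⟨[], (nat_lit 1000000), (nat_lit 0), (nat_lit 0), (nat_lit 1)⟩) (BT.leaf ⟨[], (nat_lit 1000000), (nat_lit 0), (nat_lit 0), (nat_lit 2)⟩))) (BT.node (nat_lit 4) (BT.leaf ⟨[(nat_lit 4), (nat_lit 4)], (nat_lit 3), (nat_lit 0), (nat_lit 0), (nat_lit 3)⟩) (BT.node (nat_lit 5) (BT.leaf ⟨[(nat_lit 1), (nat_lit 1)], (nat_lit 0), (nat_lit 0), (nat_lit 0), (nat_lit 3)⟩) (BT.leaf ⟨[(nat_lit 3), (nat_lit 2)], (nat_lit 9), (nat_lit 1), (nat_lit 0), (nat_lit 3)⟩)))) (BT.node (nat_lit 9) (BT.node (nat_lit 7) (BT.leaf ⟨[(nat_lit 2), (nat_lit 3)], (nat_lit 9), (nat_lit 0), (nat_lit 0), (nat_lit 3)⟩) (BT.node (nat_lit 8) (BT.leaf ⟨[(nat_lit 2), (nat_lit 2), (nat_lit 2)], (nat_lit 1), (nat_lit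 0), (nat_lit 0), (nat_lit 3)⟩) (BT.leaf ⟨[(nat_lit 2), (nat_lit 4), (nat_lit 2), (nat_lit 4)], (nat_lit 4), (nat_lit 1), (nat_lit 0), (nat_lit 3)⟩))) (BT.node (nat_lit 10) (BT.leaf ⟨[(nat_lit 4), (nat_lit 1), (nat_lit 4), (nat_lit 1), (nat_lit 4), (nat_lit 1)], (nat_lit 5), (nat_lit 0), (nat_lit 0), (nat_lit 3)⟩) (BT.node (nat_lit 11) (BT.leaf ⟨[(nat_lit 4), (nat_lit 2), (nat_lit 4), (nat_lit 2)], (nat_lit 4), (nat_lit 0), (nat_lit 0), (nat_lit 3)⟩) (BT.leaf ⟨[(nat_lit 1), (nat_lit 2), (nat_lit 1), (nat_lit 2), (nat_lit 1), (nat_lit 2)], (nat_lit 2), (nat_lit 1), (nat_lit 0), (nat_lit 3)⟩)))))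
noncomputable def ep7_1_hcs : List CW := [⟨[(nat_lit 2)], (nat_lit 0), (nat_lit 0), (nat_lit 0), (nat_lit 0)⟩, ⟨[(nat_lit 1)], (nat_lit 1), (nat_lit 0), (nat_lit 0), (nat_lit 0)⟩, ⟨[(nat_lit 3)], (nat_lit 2), (nat_lit 0), (nat_lit 0), (nat_lit 0)⟩, ⟨[(nat_lit 1)], (nat_lit 3), (nat_lit 0), (nat_lit 0), (nat_lit 0)⟩]
noncomputable def ep7_1_H (x j : Nat) : Bx (Nat → Nat → Nat) := mkH ep7_1_L ep7_1_pb.1 ep7_1_e.get (lmap CW.w ep7_1_hcs) (nat_lit 5) (nat_lit 6) (nat_lit 5) (nat_lit 8) (nat_lit 128) (nat_lit 511) x (ep7_1_rots.get j)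
noncomputable def ep7_1_F (x b : Nat) : Bool := blkOK ep7_1_H ep7_1_ch (nat_lit 6) (nat_lit 8) (nat_lit 16) (nat_lit 8) (nat_lit 255) (nat_lit 10) (nat_lit 1023) x b

theorem ep7_1_k0_0 : allFrom (ep7_1_F (nat_lit 0)) (nat_lit 0) (nat_lit 4) = true := by decide +kernel
theorem ep7_1_k1_0 : allFrom (ep7_1_F (nat_lit 1)) (nat_lit 0) (nat_lit 4) = true := by decide +kernel
theorem ep7_1_k2_0 : allFrom (ep7_1_F (nat_lit 2)) (nat_lit 0) (nat_lit 4) = true := by decide +kernel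
theorem ep7_1_k3_0 : allFrom (ep7_1_F (nat_lit 3)) (nat_lit 0) (nat_lit 4) = true := by decide +kernel
theorem ep7_1_k4_0 : allFrom (ep7_1_F (nat_lit 4)) (nat_lit 0) (nat_lit 4) = true := by decide +kernel

noncomputable def ep7_2_c0 : BT (Bx Nat) := (BT.leaf (Bx.mk (nat_lit 0x0)))
noncomputable def ep7_2_c1 : BT (Bx Nat) := (BT.leaf (Bx.mk (nat_lit 0x4d54b533c1916b0c800)))
noncomputable def ep7_2_c2 : BT (Bx Nat) := (BT.leaf (Bx.mk (nat_lit 0x15122760d6c714b0c800)))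
noncomputable def ep7_2_c3 : BT (Bx Nat) := (BT.leaf (Bx.mk (nat_lit 0xcf69e60e476cea9c800)))
noncomputable def ep7_2_c4 : BT (Bx Nat) := (BT.leaf (Bx.mk (nat_lit 0x4b547384a5582f0c800)))
noncomputable def ep7_2_c5 : BT (Bx Nat) := (BT.leaf (Bx.mk (nat_lit 0x4953f3748d748705000)))
noncomputable def ep7_2_p : BT (Bx Nat) := (BT.leaf (Bx.mk (nat_lit 0x9039026c1484245000000)))
noncomputable def ep7_2_e0 : BT Nat := (BT.node (nat_lit 66) (BT.leaf (nat_lit 524290)) (BT.node (nat_lit 68) (BT.leaf (nat_lit 262146)) (BT.leaf (nat_lit 2))))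
noncomputable def ep7_2_e : BT Nat := ep7_2_e0
noncomputable def ep7_2_cols : List (BT (Bx Nat)) := [ep7_2_c0, ep7_2_c1, ep7_2_c2, ep7_2_c3, ep7_2_c4, ep7_2_c5]
noncomputable def ep7_2_ch (x j : Nat) : Bx Nat := chunkG ep7_2_cols (nat_lit 1) x j
noncomputable def ep7_2_L (x : Nat) : Bx (Nat → Nat) := lookG ep7_2_ch (nat_lit 8) (nat_lit 255) (nat_lit 11) (nat_lit 2047) x
noncomputable def ep7_2_pc (_ j : Nat) : Bx Nat := ep7_2_p.get j
noncomputable def ep7_2_pb : Bx (Nat → Nat) := lookG ep7_2_pc (nat_lit 8) (nat_lit 255) (nat_lit 12) (nat_lit 4095) (nat_lit 0)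
noncomputable def ep7_2_rots : BT CW := (BT.node (nat_lit 9) (BT.node (nat_lit 4) (BT.node (nat_lit 2) (BT.node (nat_lit 1) (BT.leaf ⟨[], (nat_lit 1000000), (nat_lit 0), (nat_lit 0), (nat_lit 0)⟩) (BT.leaf ⟨[], (nat_lit 1000000), (nat_lit 0), (nat_lit 0), (nat_lit 1)⟩)) (BT.node (nat_lit 3) (BT.leaf ⟨[], (nat_lit 1000000), (nat_lit 0), (nat_lit 0), (nat_lit 2)⟩) (BT.leaf ⟨[(nat_lit 5), (nat_lit 5)], (nat_lit 6), (nat_lit 0), (nat_lit 0), (nat_lit 3)⟩))) (BT.node (nat_lit 6) (BT.node (nat_lit 5) (BT.leaf ⟨[(nat_lit 4), (nat_lit 4)], (nat_lit 3), (nat_lit 0), (nat_lit 0), (nat_lit 3)⟩) (BT.leaf ⟨[(nat_lit 1), (nat_lit 1)], (nat_lit 0), (nat_lit 0), (nat_lit 0), (nat_lit 3)⟩)) (BT.node (nat_lit 7) (BT.leaf ⟨[(nat_lit 3), (nat_lit 2)], (nat_lit 13), (nat_lit 1), (nat_lit 0), (nat_lit 3)⟩) (BT.node (nat_lit 8) (BT.leaf ⟨[(nat_lit 2), (nat_lit 3)], (nat_lit 13), (nat_lit 0), (nat_lit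 0), (nat_lit 3)⟩) (BT.leaf ⟨[(nat_lit 2), (nat_lit 2), (nat_lit 2)], (nat_lit 1), (nat_lit 0), (nat_lit 0), (nat_lit 3)⟩))))) (BT.node (nat_lit 13) (BT.node (nat_lit 11) (BT.node (nat_lit 10) (BT.leaf ⟨[(nat_lit 2), (nat_lit 5), (nat_lit 2), (nat_lit 5)], (nat_lit 8), (nat_lit 1), (nat_lit 0), (nat_lit 3)⟩) (BT.leaf ⟨[(nat_lit 1), (nat_lit 5), (nat_lit 1), (nat_lit 5)], (nat_lit 7), (nat_lit 1), (nat_lit 0), (nat_lit 3)⟩)) (BT.node (nat_lit 12) (BT.leaf ⟨[(nat_lit 2), (nat_lit 4), (nat_lit 2), (nat_lit 4)], (nat_lit 4), (nat_lit 1), (nat_lit 0), (nat_lit 3)⟩) (BT.leaf ⟨[(nat_lit 5), (nat_lit 4), (nat_lit 5), (nat_lit 4), (nat_lit 5), (nat_lit 4)], (nat_lit 9), (nat_lit 0), (nat_lit 0), (nat_lit 3)⟩))) (BT.node (nat_lit 15) (BT.node (nat_lit 14) (BT.leaf ⟨[(nat_lit 5), (nat_lit 1), (nat_lit 5), (nat_lit 1)], (nat_lit 7), (nat_lit 0), (nat_lit 0), (nat_lit 3)⟩) (BT.leaf ⟨[(nat_lit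 5), (nat_lit 2), (nat_lit 5), (nat_lit 2)], (nat_lit 8), (nat_lit 0), (nat_lit 0), (nat_lit 3)⟩)) (BT.node (nat_lit 16) (BT.leaf ⟨[(nat_lit 4), (nat_lit 1), (nat_lit 4), (nat_lit 1), (nat_lit 4), (nat_lit 1)], (nat_lit 5), (nat_lit 0), (nat_lit 0), (nat_lit 3)⟩) (BT.node (nat_lit 17) (BT.leaf ⟨[(nat_lit 4), (nat_lit 2), (nat_lit 4), (nat_lit 2)], (nat_lit 4), (nat_lit 0), (nat_lit 0), (nat_lit 3)⟩) (BT.leaf ⟨[(nat_lit 1), (nat_lit 2), (nat_lit 1), (nat_lit 2), (nat_lit 1), (nat_lit 2)], (nat_lit 2), (nat_lit 1), (nat_lit 0), (nat_lit 3)⟩))))))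
noncomputable def ep7_2_hcs : List CW := [⟨[(nat_lit 4)], (nat_lit 0), (nat_lit 0), (nat_lit 0), (nat_lit 0)⟩, ⟨[(nat_lit 2)], (nat_lit 1), (nat_lit 0), (nat_lit 0), (nat_lit 0)⟩, ⟨[(nat_lit 1)], (nat_lit 2), (nat_lit 0), (nat_lit 0), (nat_lit 0)⟩, ⟨[(nat_lit 4)], (nat_lit 3), (nat_lit 0), (nat_lit 0), (nat_lit 0)⟩, ⟨[(nat_lit 3)], (nat_lit 4), (nat_lit 0), (nat_lit 0), (nat_lit 0)⟩, ⟨[(nat_lit 1)], (nat_lit 5), (nat_lit 0), (nat_lit 0), (nat_lit 0)⟩]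
noncomputable def ep7_2_H (x j : Nat) : Bx (Nat → Nat → Nat) := mkH ep7_2_L ep7_2_pb.1 ep7_2_e.get (lmap CW.w ep7_2_hcs) (nat_lit 6) (nat_lit 7) (nat_lit 6) (nat_lit 8) (nat_lit 256) (nat_lit 511) x (ep7_2_rots.get j)
noncomputable def ep7_2_F (x b : Nat) : Bool := blkOK ep7_2_H ep7_2_ch (nat_lit 7) (nat_lit 8) (nat_lit 32) (nat_lit 8) (nat_lit 255) (nat_lit 11) (nat_lit 2047) x b

theorem ep7_2_k0_0 : allFrom (ep7_2_F (nat_lit 0)) (nat_lit 0) (nat_lit 4) = true := by decide +kernel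
theorem ep7_2_k1_0 : allFrom (ep7_2_F (nat_lit 1)) (nat_lit 0) (nat_lit 4) = true := by decide +kernel
theorem ep7_2_k2_0 : allFrom (ep7_2_F (nat_lit 2)) (nat_lit 0) (nat_lit 4) = true := by decide +kernel
theorem ep7_2_k3_0 : allFrom (ep7_2_F (nat_lit 3)) (nat_lit 0) (nat_lit 4) = true := by decide +kernel
theorem ep7_2_k4_0 : allFrom (ep7_2_F (nat_lit 4)) (nat_lit 0) (nat_lit 4) = true := by decide +kernel
theorem ep7_2_k5_0 : allFrom (ep7_2_F (nat_lit 5)) (nat_lit 0) (nat_lit 4) = true := by decide +kernel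

noncomputable def ep7_3_c0 : BT (Bx Nat) := (BT.leaf (Bx.mk (nat_lit 0x0)))
noncomputable def ep7_3_c1 : BT (Bx Nat) := (BT.leaf (Bx.mk (nat_lit 0x27cb5f1e70d8f75ab8c800)))
noncomputable def ep7_3_c2 : BT (Bx Nat) := (BT.leaf (Bx.mk (nat_lit 0xc9b55f873848e758b8c800)))
noncomputable def ep7_3_c3 : BT (Bx Nat) := (BT.leaf (Bx.mk (nat_lit 0x88d91787a4468710b20800)))
noncomputable def ep7_3_c4 : BT (Bx Nat) := (BT.leaf (Bx.mk (nat_lit 0x26cb3de2e33e1956b8c800)))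
noncomputable def ep7_3_c5 : BT (Bx Nat) := (BT.leaf (Bx.mk (nat_lit 0x25cafddacacc55c2f8c800)))
noncomputable def ep7_3_c6 : BT (Bx Nat) := (BT.leaf (Bx.mk (nat_lit 0x24ca9dcec94b1788785000)))
noncomputable def ep7_3_p : BT (Bx Nat) := (BT.leaf (Bx.mk (nat_lit 0xb43b429016c4485246000000)))
noncomputable def ep7_3_e0 : BT Nat := (BT.node (nat_lit 68) (BT.node (nat_lit 66) (BT.leaf (nat_lit 786434)) (BT.leaf (nat_lit 524290))) (BT.node (nat_lit 69) (BT.leaf (nat_lit 262146)) (BT.leaf (nat_lit 2))))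
noncomputable def ep7_3_e : BT Nat := ep7_3_e0
noncomputable def ep7_3_cols : List (BT (Bx Nat)) := [ep7_3_c0, ep7_3_c1, ep7_3_c2, ep7_3_c3, ep7_3_c4, ep7_3_c5, ep7_3_c6]
noncomputable def ep7_3_ch (x j : Nat) : Bx Nat := chunkG ep7_3_cols (nat_lit 1) x j
noncomputable def ep7_3_L (x : Nat) : Bx (Nat → Nat) := lookG ep7_3_ch (nat_lit 8) (nat_lit 255) (nat_lit 11) (nat_lit 2047) x
noncomputable def ep7_3_pc (_ j : Nat) : Bx Nat := ep7_3_p.get j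
noncomputable def ep7_3_pb : Bx (Nat → Nat) := lookG ep7_3_pc (nat_lit 8) (nat_lit 255) (nat_lit 12) (nat_lit 4095) (nat_lit 0)
noncomputable def ep7_3_rots : BT CW := (BT.node (nat_lit 13) (BT.node (nat_lit 6) (BT.node (nat_lit 3) (BT.node (nat_lit 1) (BT.leaf ⟨[], (nat_lit 1000000), (nat_lit 0), (nat_lit 0), (nat_lit 0)⟩) (BT.node (nat_lit 2) (BT.leaf ⟨[], (nat_lit 1000000), (nat_lit 0), (nat_lit 0), (nat_lit 1)⟩) (BT.leaf ⟨[], (nat_lit 1000000), (nat_lit 0), (nat_lit 0), (nat_lit 2)⟩))) (BT.node (nat_lit 4) (BT.leaf ⟨[(nat_lit 6), (nat_lit 6)], (nat_lit 10), (nat_lit 0), (nat_lit 0), (nat_lit 3)⟩) (BT.node (nat_lit 5) (BT.leaf ⟨[(nat_lit 5), (nat_lit 5)], (nat_lit 6), (nat_lit 0), (nat_lit 0), (nat_lit 3)⟩) (BT.leaf ⟨[(nat_lit 4), (nat_lit 4)], (nat_lit 3), (nat_lit 0), (nat_lit 0), (nat_lit 3)⟩)))) (BT.node (nat_lit 9) (BT.node (nat_lit 7) (BT.leaf ⟨[(nat_lit 1), (nat_lit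 1)], (nat_lit 0), (nat_lit 0), (nat_lit 0), (nat_lit 3)⟩) (BT.node (nat_lit 8) (BT.leaf ⟨[(nat_lit 3), (nat_lit 2)], (nat_lit 18), (nat_lit 1), (nat_lit 0), (nat_lit 3)⟩) (BT.leaf ⟨[(nat_lit 2), (nat_lit 3)], (nat_lit 18), (nat_lit 0), (nat_lit 0), (nat_lit 3)⟩))) (BT.node (nat_lit 11) (BT.node (nat_lit 10) (BT.leaf ⟨[(nat_lit 2), (nat_lit 2), (nat_lit 2)], (nat_lit 1), (nat_lit 0), (nat_lit 0), (nat_lit 3)⟩) (BT.leaf ⟨[(nat_lit 4), (nat_lit 6), (nat_lit 4), (nat_lit 6)], (nat_lit 13), (nat_lit 1), (nat_lit 0), (nat_lit 3)⟩)) (BT.node (nat_lit 12) (BT.leaf ⟨[(nat_lit 2), (nat_lit 6), (nat_lit 2), (nat_lit 6)], (nat_lit 12), (nat_lit 1), (nat_lit 0), (nat_lit 3)⟩) (BT.leaf ⟨[(nat_lit 1), (nat_lit 6), (nat_lit 1), (nat_lit 6)], (nat_lit 11), (nat_lit 1), (nat_lit 0), (nat_lit 3)⟩))))) (BT.node (nat_lit 19) (BT.node (nat_lit 16) (BT.node (nat_lit 14) (BT.leaf ⟨[(nat_lit 2),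 (nat_lit 5), (nat_lit 2), (nat_lit 5)], (nat_lit 8), (nat_lit 1), (nat_lit 0), (nat_lit 3)⟩) (BT.node (nat_lit 15) (BT.leaf ⟨[(nat_lit 1), (nat_lit 5), (nat_lit 1), (nat_lit 5)], (nat_lit 7), (nat_lit 1), (nat_lit 0), (nat_lit 3)⟩) (BT.leaf ⟨[(nat_lit 2), (nat_lit 4), (nat_lit 2), (nat_lit 4)], (nat_lit 4), (nat_lit 1), (nat_lit 0), (nat_lit 3)⟩))) (BT.node (nat_lit 17) (BT.leaf ⟨[(nat_lit 6), (nat_lit 5), (nat_lit 6), (nat_lit 5), (nat_lit 6), (nat_lit 5)], (nat_lit 14), (nat_lit 0), (nat_lit 0), (nat_lit 3)⟩) (BT.node (nat_lit 18) (BT.leaf ⟨[(nat_lit 6), (nat_lit 4), (nat_lit 6), (nat_lit 4)], (nat_lit 13), (nat_lit 0), (nat_lit 0), (nat_lit 3)⟩) (BT.leaf ⟨[(nat_lit 6), (nat_lit 1), (nat_lit 6), (nat_lit 1)], (nat_lit 11), (nat_lit 0), (nat_lit 0), (nat_lit 3)⟩)))) (BT.node (nat_lit 22) (BT.node (nat_lit 20) (BT.leaf ⟨[(nat_lit 6), (nat_lit 2), (nat_lit 6), (nat_lit 2)],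 (nat_lit 12), (nat_lit 0), (nat_lit 0), (nat_lit 3)⟩) (BT.node (nat_lit 21) (BT.leaf ⟨[(nat_lit 5), (nat_lit 4), (nat_lit 5), (nat_lit 4), (nat_lit 5), (nat_lit 4)], (nat_lit 9), (nat_lit 0), (nat_lit 0), (nat_lit 3)⟩) (BT.leaf ⟨[(nat_lit 5), (nat_lit 1), (nat_lit 5), (nat_lit 1)], (nat_lit 7), (nat_lit 0), (nat_lit 0), (nat_lit 3)⟩))) (BT.node (nat_lit 24) (BT.node (nat_lit 23) (BT.leaf ⟨[(nat_lit 5), (nat_lit 2), (nat_lit 5), (nat_lit 2)], (nat_lit 8), (nat_lit 0), (nat_lit 0), (nat_lit 3)⟩) (BT.leaf ⟨[(nat_lit 4), (nat_lit 1), (nat_lit 4), (nat_lit 1), (nat_lit 4), (nat_lit 1)], (nat_lit 5), (nat_lit 0), (nat_lit 0), (nat_lit 3)⟩)) (BT.node (nat_lit 25) (BT.leaf ⟨[(nat_lit 4), (nat_lit 2), (nat_lit 4), (nat_lit 2)], (nat_lit 4), (nat_lit 0), (nat_lit 0), (nat_lit 3)⟩) (BT.leaf ⟨[(nat_lit 1), (nat_lit 2), (nat_lit 1), (nat_lit 2), (nat_lit 1), (nat_lit 2)], (nat_lit 2),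 (nat_lit 1), (nat_lit 0), (nat_lit 3)⟩))))))
noncomputable def ep7_3_hcs : List CW := [⟨[(nat_lit 5)], (nat_lit 0), (nat_lit 0), (nat_lit 0), (nat_lit 0)⟩, ⟨[(nat_lit 4)], (nat_lit 1), (nat_lit 0), (nat_lit 0), (nat_lit 0)⟩, ⟨[(nat_lit 2)], (nat_lit 2), (nat_lit 0), (nat_lit 0), (nat_lit 0)⟩, ⟨[(nat_lit 1)], (nat_lit 3), (nat_lit 0), (nat_lit 0), (nat_lit 0)⟩, ⟨[(nat_lit 5)], (nat_lit 4), (nat_lit 0), (nat_lit 0), (nat_lit 0)⟩, ⟨[(nat_lit 4)], (nat_lit 5), (nat_lit 0), (nat_lit 0), (nat_lit 0)⟩, ⟨[(nat_lit 3)], (nat_lit 6), (nat_lit 0), (nat_lit 0), (nat_lit 0)⟩, ⟨[(nat_lit 1)], (nat_lit 7), (nat_lit 0), (nat_lit 0), (nat_lit 0)⟩]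
noncomputable def ep7_3_H (x j : Nat) : Bx (Nat → Nat → Nat) := mkH ep7_3_L ep7_3_pb.1 ep7_3_e.get (lmap CW.w ep7_3_hcs) (nat_lit 7) (nat_lit 8) (nat_lit 7) (nat_lit 8) (nat_lit 256) (nat_lit 511) x (ep7_3_rots.get j)
noncomputable def ep7_3_F (x b : Nat) : Bool := blkOK ep7_3_H ep7_3_ch (nat_lit 8) (nat_lit 8) (nat_lit 32) (nat_lit 8) (nat_lit 255) (nat_lit 11) (nat_lit 2047) x b

theorem ep7_3_k0_0 : allFrom (ep7_3_F (nat_lit 0)) (nat_lit 0) (nat_lit 4) = true := by decide +kernel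
theorem ep7_3_k1_0 : allFrom (ep7_3_F (nat_lit 1)) (nat_lit 0) (nat_lit 4) = true := by decide +kernel
theorem ep7_3_k2_0 : allFrom (ep7_3_F (nat_lit 2)) (nat_lit 0) (nat_lit 4) = true := by decide +kernel
theorem ep7_3_k3_0 : allFrom (ep7_3_F (nat_lit 3)) (nat_lit 0) (nat_lit 4) = true := by decide +kernel
theorem ep7_3_k4_0 : allFrom (ep7_3_F (nat_lit 4)) (nat_lit 0) (nat_lit 4) = true := by decide +kernel
theorem ep7_3_k5_0 : allFrom (ep7_3_F (nat_lit 5)) (nat_lit 0) (nat_lit 4) = true := by decide +kernel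
theorem ep7_3_k6_0 : allFrom (ep7_3_F (nat_lit 6)) (nat_lit 0) (nat_lit 4) = true := by decide +kernel

noncomputable def Kc72_0 : Net := (Net.cons (nat_lit 1) (nat_lit 0x511050451454411140401401000000) (Net.cons (nat_lit 2) (nat_lit 0x20031302330202303103310100200) (Net.cons (nat_lit 4) (nat_lit 0x2050e0f0a0f050c010a0007050500) (Net.cons (nat_lit 8) (nat_lit 0xa500ec008b0013000100220022) (Net.cons (nat_lit 16) (nat_lit 0x6d00009ad0000068ec00000600) (Net.cons (nat_lit 32) (nat_lit 0x3048dd0000000023000000) (Net.cons (nat_lit 64) (nat_lit 0x30fcdda3000000) (Net.cons (nat_lit 32) (nat_lit 0x6d97fd00000000ffdf0322) (Net.cons (nat_lit 16) (nat_lit 0xd30000f8ac0000b4d0000002e0) (Net.cons (nat_lit 8) (nat_lit 0x4b00f400b70003005500db00de) (Net.cons (nat_lit 4) (nat_lit 0x70f04000c050d06070a0b04050b0c) (Net.cons (nat_lit 2) (nat_lit 0x312101032113033030120233031020) (Net.cons (nat_lit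 1) (nat_lit 0x511551004555445015101550550041) Net.nil)))))))))))))
noncomputable def Kc72_1 : Net := (Net.cons (nat_lit 1) (nat_lit 0x41400415000550014054111005054) (Net.cons (nat_lit 2) (nat_lit 0x23030032210223020030123111000) (Net.cons (nat_lit 4) (nat_lit 0x803070906080d05070b05000a0100) (Net.cons (nat_lit 8) (nat_lit 0x29007a002b00d2000a00000000) (Net.cons (nat_lit 16) (nat_lit 0x160000bec500006d4800004100) (Net.cons (nat_lit 32) (nat_lit 0xc12933000000005a000000) (Net.cons (nat_lit 64) (nat_lit 0xc529735a000000) (Net.cons (nat_lit 32) (nat_lit 0xd7c63300000000d36b4400) (Net.cons (nat_lit 16) (nat_lit 0xd0000a8ca0000db6b000046f4) (Net.cons (nat_lit 8) (nat_lit 0x2d0055002d009c00ce00c100fc) (Net.cons (nat_lit 4) (nat_lit 0xf030d070a060e030f04090e020402) (Net.cons (nat_lit 2) (nat_lit 0x13332111032001110113132333033) (Net.cons (nat_lit 1) (nat_lit 0x111150045014440401045510000041)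 Net.nil)))))))))))))
noncomputable def Kc72_2 : Net := (Net.cons (nat_lit 1) (nat_lit 0x141541111111544444155110105040) (Net.cons (nat_lit 2) (nat_lit 0x20112010110333132313130301000) (Net.cons (nat_lit 4) (nat_lit 0x60601020204090b0a0a090a030d00) (Net.cons (nat_lit 8) (nat_lit 0xd80041002700d4002100870000) (Net.cons (nat_lit 16) (nat_lit 0x810000aa340000042000000100) (Net.cons (nat_lit 32) (nat_lit 0x94a229000000004d000000) (Net.cons (nat_lit 64) (nat_lit 0x94b2294d000000) (Net.cons (nat_lit 32) (nat_lit 0x1dbb29000000004d6b0d00) (Net.cons (nat_lit 16) (nat_lit 0xca000013e20000f2940000ce30) (Net.cons (nat_lit 8) (nat_lit 0x300be00d8000600b800cc00b4) (Net.cons (nat_lit 4) (nat_lit 0xe0202040f0b03030f030a0d06) (Net.cons (nat_lit 2) (nat_lit 0x323112313113000100010103021333) (Net.cons (nat_lit 1) (nat_lit 0x414014440444011111000445450515) Net.nil)))))))))))))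
noncomputable def Kc72_3 : Net := (Net.cons (nat_lit 1) (nat_lit 0x114104154415514104505450054500) (Net.cons (nat_lit 2) (nat_lit 0x320021220312123120233100032120) (Net.cons (nat_lit 4) (nat_lit 0x507040d070c0104090f0c06080000) (Net.cons (nat_lit 8) (nat_lit 0x44002b0044000a000400860029) (Net.cons (nat_lit 16) (nat_lit 0x80000014000000a7ce0000cf00) (Net.cons (nat_lit 32) (nat_lit 0x81004d000000008f000000) (Net.cons (nat_lit 64) (nat_lit 0x1644f8f840000) (Net.cons (nat_lit 32) (nat_lit 0xbdb9500000000dbf69b28) (Net.cons (nat_lit 16) (nat_lit 0x250000249400006f020000a3c9) (Net.cons (nat_lit 8) (nat_lit 0x9400f3001800c20034004a00e7) (Net.cons (nat_lit 4) (nat_lit 0xd0f0c050f000b0c0103000e000c09) (Net.cons (nat_lit 2) (nat_lit 0x330021220312123120133100031120) (Net.cons (nat_lit 1) (nat_lit 0x114104555415514104041450041504) Net.nil)))))))))))))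
noncomputable def Kc72_4 : Net := (Net.cons (nat_lit 1) (nat_lit 0x4405454101444540444005015140) (Net.cons (nat_lit 2) (nat_lit 0x300311221123121323301130020000) (Net.cons (nat_lit 4) (nat_lit 0x60f08040808060d0d020104030900) (Net.cons (nat_lit 8) (nat_lit 0x1800d900d600a1000300bf0000) (Net.cons (nat_lit 16) (nat_lit 0x10000a1c600008e0a00000800) (Net.cons (nat_lit 32) (nat_lit 0x7082bf000000004e000000) (Net.cons (nat_lit 64) (nat_lit 0x7192bf4e000000) (Net.cons (nat_lit 32) (nat_lit 0xd1bdff00000000ff0e6d00) (Net.cons (nat_lit 16) (nat_lit 0xfe0000930b000010e00000ced8) (Net.cons (nat_lit 8) (nat_lit 0x600be00ea00ef002600e1005e) (Net.cons (nat_lit 4) (nat_lit 0x80d040b0004080c0508000b040503) (Net.cons (nat_lit 2) (nat_lit 0x300322112213212313302230010000) (Net.cons (nat_lit 1) (nat_lit 0x551150101454101015111450540415) Net.nil)))))))))))))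
noncomputable def Kc72 : List Net := [Kc72_0, Kc72_1, Kc72_2, Kc72_3, Kc72_4]
noncomputable def Ac72 : List Nat := [(nat_lit 0x7f2400c3943f57ff1e370c02b11bcd),
  (nat_lit 0x6b6c420d4f600e4e3a90142e007800),
  (nat_lit 0x2eb706996901ffa046b0dbf50e2c57),
  (nat_lit 0x2200985deca76a595342b8fb61de6f),
  (nat_lit 0xc866456a02a71984af8976171bbddf),
  full (nat_lit 120)]

noncomputable def Bc72 : List Nat := [(nat_lit 0),
  (nat_lit 0),
  (nat_lit 0),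
  (nat_lit 0),
  (nat_lit 0),
  (nat_lit 0)]

noncomputable def Kc73_0 : Net := (Net.cons (nat_lit 1) (nat_lit 1360) (Net.cons (nat_lit 8) (nat_lit 16) (Net.cons (nat_lit 4) (nat_lit 1540) (Net.cons (nat_lit 2) (nat_lit 32) (Net.cons (nat_lit 1) (nat_lit 1361) Net.nil)))))
noncomputable def Kc73_1 : Net := (Net.cons (nat_lit 1) (nat_lit 5184) (Net.cons (nat_lit 2) (nat_lit 800) (Net.cons (nat_lit 4) (nat_lit 256) (Net.cons (nat_lit 8) (nat_lit 28) (Net.cons (nat_lit 4) (nat_lit 258) (Net.cons (nat_lit 2) (nat_lit 4369) (Net.cons (nat_lit 1) (nat_lit 1088) Net.nil)))))))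
noncomputable def Kc73_2 : Net := (Net.cons (nat_lit 1) (nat_lit 20) (Net.cons (nat_lit 2) (nat_lit 512) (Net.cons (nat_lit 4) (nat_lit 512) (Net.cons (nat_lit 8) (nat_lit 40) (Net.cons (nat_lit 4) (nat_lit 512) (Net.cons (nat_lit 2) (nat_lit 4881) (Net.cons (nat_lit 1) (nat_lit 20) Net.nil)))))))
noncomputable def Kc73_3 : Net := (Net.cons (nat_lit 1) (nat_lit 5184) (Net.cons (nat_lit 2) (nat_lit 32) (Net.cons (nat_lit 8) (nat_lit 8) (Net.cons (nat_lit 4) (nat_lit 7) (Net.cons (nat_lit 2) (nat_lit 4384) (Net.cons (nat_lit 1) (nat_lit 5184) Net.nil))))))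
noncomputable def Kc73_4 : Net := (Net.cons (nat_lit 4) (nat_lit 512) (Net.cons (nat_lit 8) (nat_lit 40) (Net.cons (nat_lit 4) (nat_lit 522) (Net.cons (nat_lit 2) (nat_lit 4659) Net.nil))))
noncomputable def Kc73 : List Net := [Kc73_0, Kc73_1, Kc73_2, Kc73_3, Kc73_4]
noncomputable def Ac73 : List Nat := [(nat_lit 16384),
  (nat_lit 128),
  (nat_lit 16),
  (nat_lit 17667),
  (nat_lit 32),
  full (nat_lit 15)]

noncomputable def Bc73 : List Nat := [(nat_lit 2048),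
  (nat_lit 2048),
  (nat_lit 2048),
  (nat_lit 4772),
  (nat_lit 2048),
  (nat_lit 0)]

noncomputable def A11_0 : Net := (Net.cons (nat_lit 1) (nat_lit 4) (Net.cons (nat_lit 2) (nat_lit 2) (Net.cons (nat_lit 1) (nat_lit 5) Net.nil)))
noncomputable def A11_1 : Net := (Net.cons (nat_lit 2) (nat_lit 2) (Net.cons (nat_lit 1) (nat_lit 4) Net.nil))
noncomputable def A11_2 : Net := (Net.cons (nat_lit 1) (nat_lit 16) (Net.cons (nat_lit 2) (nat_lit 32) (Net.cons (nat_lit 4) (nat_lit 8) (Net.cons (nat_lit 2) (nat_lit 32) (Net.cons (nat_lit 1) (nat_lit 20) Net.nil)))))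
noncomputable def A11_3 : Net := (Net.cons (nat_lit 2) (nat_lit 32) (Net.cons (nat_lit 4) (nat_lit 8) (Net.cons (nat_lit 2) (nat_lit 32) (Net.cons (nat_lit 1) (nat_lit 16) Net.nil))))
noncomputable def A11_4 : Net := (Net.cons (nat_lit 1) (nat_lit 64) (Net.cons (nat_lit 2) (nat_lit 32) (Net.cons (nat_lit 1) (nat_lit 80) Net.nil)))
noncomputable def A11_5 : Net := (Net.cons (nat_lit 2) (nat_lit 32) (Net.cons (nat_lit 1) (nat_lit 64) Net.nil))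
noncomputable def A11_6 : Net := (Net.cons (nat_lit 1) (nat_lit 256) (Net.cons (nat_lit 2) (nat_lit 32) (Net.cons (nat_lit 4) (nat_lit 2) (Net.cons (nat_lit 8) (nat_lit 2) (Net.cons (nat_lit 4) (nat_lit 2) (Net.cons (nat_lit 2) (nat_lit 32) (Net.cons (nat_lit 1) (nat_lit 320) Net.nil)))))))
noncomputable def A11_7 : Net := (Net.cons (nat_lit 2) (nat_lit 32) (Net.cons (nat_lit 4) (nat_lit 2) (Net.cons (nat_lit 8) (nat_lit 2) (Net.cons (nat_lit 4) (nat_lit 2) (Net.cons (nat_lit 2) (nat_lit 32) (Net.cons (nat_lit 1) (nat_lit 256) Net.nil))))))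
noncomputable def A11_8 : Net := (Net.cons (nat_lit 1) (nat_lit 256) (Net.cons (nat_lit 2) (nat_lit 256) Net.nil))
noncomputable def A11 : List Net := [A11_0, A11_1, A11_2, A11_3, A11_4, A11_5, A11_6, A11_7, A11_8]

noncomputable def Na11x2_0 : Net := (Net.cons (nat_lit 1) (nat_lit 64) (Net.cons (nat_lit 2) (nat_lit 32) (Net.cons (nat_lit 4) (nat_lit 6) (Net.cons (nat_lit 2) (nat_lit 32) (Net.cons (nat_lit 1) (nat_lit 64) Net.nil)))))
noncomputable def Na11x2_1 : Net := (Net.cons (nat_lit 1) (nat_lit 20) (Net.cons (nat_lit 8) (nat_lit 4) (Net.cons (nat_lit 4) (nat_lit 1) (Net.cons (nat_lit 1) (nat_lit 20) Net.nil))))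
noncomputable def Na11x2_2 : Net := (Net.cons (nat_lit 1) (nat_lit 272) (Net.cons (nat_lit 2) (nat_lit 16) (Net.cons (nat_lit 4) (nat_lit 1) (Net.cons (nat_lit 8) (nat_lit 1) (Net.cons (nat_lit 4) (nat_lit 5) (Net.cons (nat_lit 2) (nat_lit 48) (Net.cons (nat_lit 1) (nat_lit 273) Net.nil)))))))
noncomputable def Na11x2_3 : Net := (Net.cons (nat_lit 1) (nat_lit 20) (Net.cons (nat_lit 4) (nat_lit 1) (Net.cons (nat_lit 2) (nat_lit 2) (Net.cons (nat_lit 1) (nat_lit 20) Net.nil))))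
noncomputable def Na11x2_4 : Net := (Net.cons (nat_lit 1) (nat_lit 320) (Net.cons (nat_lit 2) (nat_lit 32) (Net.cons (nat_lit 8) (nat_lit 1) (Net.cons (nat_lit 4) (nat_lit 6) (Net.cons (nat_lit 2) (nat_lit 32) (Net.cons (nat_lit 1) (nat_lit 336) Net.nil))))))
noncomputable def Na11x2_5 : Net := (Net.cons (nat_lit 1) (nat_lit 16) (Net.cons (nat_lit 4) (nat_lit 2) (Net.cons (nat_lit 8) (nat_lit 2) (Net.cons (nat_lit 4) (nat_lit 3) (Net.cons (nat_lit 1) (nat_lit 16) Net.nil)))))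
noncomputable def Na11x2_6 : Net := (Net.cons (nat_lit 1) (nat_lit 20) (Net.cons (nat_lit 4) (nat_lit 2) (Net.cons (nat_lit 8) (nat_lit 2) (Net.cons (nat_lit 4) (nat_lit 3) (Net.cons (nat_lit 2) (nat_lit 2) (Net.cons (nat_lit 1) (nat_lit 84) Net.nil))))))
noncomputable def Na11x2_7 : Net := (Net.cons (nat_lit 1) (nat_lit 16) (Net.cons (nat_lit 2) (nat_lit 48) (Net.cons (nat_lit 4) (nat_lit 2) (Net.cons (nat_lit 8) (nat_lit 2) (Net.cons (nat_lit 4) (nat_lit 4) (Net.cons (nat_lit 2) (nat_lit 32) (Net.cons (nat_lit 1) (nat_lit 1) Net.nil)))))))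
noncomputable def Na11x2_8 : Net := (Net.cons (nat_lit 1) (nat_lit 256) (Net.cons (nat_lit 2) (nat_lit 32) (Net.cons (nat_lit 4) (nat_lit 5) (Net.cons (nat_lit 8) (nat_lit 5) (Net.cons (nat_lit 4) (nat_lit 3) (Net.cons (nat_lit 2) (nat_lit 34) (Net.cons (nat_lit 1) (nat_lit 320) Net.nil)))))))
noncomputable def Na11x2_9 : Net := (Net.cons (nat_lit 1) (nat_lit 80) (Net.cons (nat_lit 2) (nat_lit 2) (Net.cons (nat_lit 4) (nat_lit 2) (Net.cons (nat_lit 8) (nat_lit 2) (Net.cons (nat_lit 4) (nat_lit 10) (Net.cons (nat_lit 2) (nat_lit 258) (Net.cons (nat_lit 1) (nat_lit 64) Net.nil)))))))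
noncomputable def Na11x2 : List Net := [Na11x2_0, Na11x2_1, Na11x2_2, Na11x2_3, Na11x2_4, Na11x2_5, Na11x2_6, Na11x2_7, Na11x2_8, Na11x2_9]


end CF.Schur.Alt
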