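import Cfsg.Agent.Comp.TCDefs

set_option autoImplicit false
set_option maxRecDepth 1000000
set_option maxHeartbeats 0

namespace CF.Schur.HS

open CF.Comp

noncomputable def Np_0 : Net := (Net.cons (nat_lit 1) (nat_lit 0x15455454011405055151411155401400415554004000) (Net.cons (nat_lit 2) (nat_lit 0x23311000012102010213320333200130110103202000) (Net.cons (nat_lit 4) (nat_lit 0x1010b060d0800060805090c0e080009010608030900) (Net.cons (nat_lit 8) (nat_lit 0xd0016008d0064002e00c700f40023005300580000) (Net.cons (nat_lit 16) (nat_lit 0x82f10000196e0000e6c1000056490000406d) (Net.cons (nat_lit 32) (nat_lit 0x1b1300000000b28803d00000000035000000) (Net.cons (nat_lit 64) (nat_lit 0x42a159c9097e) (Net.cons (nat_lit 128) (nat_lit 0xcafd7fd9f9fe) (Net.cons (nat_lit 64) (nat_lit 0x71a6d9789b7fc5a3) (Net.cons (nat_lit 32) (nat_lit 0x564e00000000fce6d909000000007b265a4d) (Net.cons (nat_lit 16) (nat_lit 0xd1260000aa6e0000a5540000411c000056ed)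 (Net.cons (nat_lit 8) (nat_lit 0x9c008b00cc00e400b7001e00a50072008200890010) (Net.cons (nat_lit 4) (nat_lit 0x5090f030908010708050d080a08040d0f020d070900) (Net.cons (nat_lit 2) (nat_lit 0x23311100003102011212320333300130110303202000) (Net.cons (nat_lit 1) (nat_lit 0x15455414011405055151411054401404415554004400) Net.nil)))))))))))))))
noncomputable def Np_1 : Net := (Net.cons (nat_lit 1) (nat_lit 0x45050411055141441005441511144001455015141050) (Net.cons (nat_lit 2) (nat_lit 0x20323311221301333002203011220303110220301000) (Net.cons (nat_lit 4) (nat_lit 0x40d00010c070a0f0f08080d09020300000b04010000) (Net.cons (nat_lit 8) (nat_lit 0xf400c1008300b80041008e003a00b2007e008c0000) (Net.cons (nat_lit 16) (nat_lit 0xce460000a4830000d60b000004480000c34c) (Net.cons (nat_lit 32) (nat_lit 0x218f00000000589240e400000000380c0000) (Net.cons (nat_lit 64) (nat_lit 0x40434811bb04) (Net.cons (nat_lit 128) (nat_lit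 0x7ce7fcdffb1c) (Net.cons (nat_lit 64) (nat_lit 0xf31714c740d8b668) (Net.cons (nat_lit 32) (nat_lit 0xf7ca0000000017b4e0a500000000f8df2234) (Net.cons (nat_lit 16) (nat_lit 0xf80b00007342000014860000ca7100000f08) (Net.cons (nat_lit 8) (nat_lit 0xea00cb004300730085005f0007000800be007f0034) (Net.cons (nat_lit 4) (nat_lit 0x7010d0c070b080e0c0909020603000a000b050004) (Net.cons (nat_lit 2) (nat_lit 0x3011313320013111211101010100011013312010) (Net.cons (nat_lit 1) (nat_lit 0x4000510154114455405541015505510040011504040) Net.nil)))))))))))))))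
noncomputable def Np_2 : Net := (Net.cons (nat_lit 1) (nat_lit 0x4000415004514444501415544541001500050500100) (Net.cons (nat_lit 2) (nat_lit 0x12221301311133312232301331221312303200002000) (Net.cons (nat_lit 4) (nat_lit 0x40d0b060c0305010f0c0d0e060b0d050a08000400) (Net.cons (nat_lit 8) (nat_lit 0x40005006900280034006b00f80080003700050000) (Net.cons (nat_lit 16) (nat_lit 0xc00007b1a000077ad000030c900000288) (Net.cons (nat_lit 32) (nat_lit 0x8af000000000430a324e00000000c0800000) (Net.cons (nat_lit 64) (nat_lit 0x8e111f87712c) (Net.cons (nat_lit 128) (nat_lit 0xbe5fffd77fbc) (Net.cons (nat_lit 64) (nat_lit 0x543e8c3b396737c4) (Net.cons (nat_lit 32) (nat_lit 0x237100000000a82b99a5000000004aa9aba0) (Net.cons (nat_lit 16) (nat_lit 0x6ccc0000729300007b370000384300006ec4) (Net.cons (nat_lit 8) (nat_lit 0xed00ce009e0071007f0028001f0049003700c50048) (Net.cons (nat_lit 4) (nat_lit 0x20e0f0b040e030f09050e0f0c0c090f070e0a000600)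 (Net.cons (nat_lit 2) (nat_lit 0x12221301311133312232301331221312313200002000) (Net.cons (nat_lit 1) (nat_lit 0x4000415004514444501415544541001500050500100) Net.nil)))))))))))))))
noncomputable def Np_3 : Net := (Net.cons (nat_lit 1) (nat_lit 0x14441540010514041540445105111111015510405400) (Net.cons (nat_lit 2) (nat_lit 0x32121310213220000120100310121003102121000300) (Net.cons (nat_lit 4) (nat_lit 0x8090509050f08080602080b05000901010206080000) (Net.cons (nat_lit 8) (nat_lit 0x970043004e00a10090007a0079007100a100180000) (Net.cons (nat_lit 16) (nat_lit 0x1786000080ba000081a0000069000000cc68) (Net.cons (nat_lit 32) (nat_lit 0x4848000000000a2814d2000000007c680000) (Net.cons (nat_lit 64) (nat_lit 0x639fc60884) (Net.cons (nat_lit 128) (nat_lit 0x8c63fffecbdc) (Net.cons (nat_lit 64) (nat_lit 0x145e0cd9b7e210ac) (Net.cons (nat_lit 32) (nat_lit 0xb2ee0000000000aabe58000000000d6dc62c) (Net.cons (nat_lit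 16) (nat_lit 0x5dc10000db180000d2640000206700009e4c) (Net.cons (nat_lit 8) (nat_lit 0x3300e3002800fe0094004b00ff00d2008600350066) (Net.cons (nat_lit 4) (nat_lit 0x4030f0b0203070d0e000f0205090b070f000c080e06) (Net.cons (nat_lit 2) (nat_lit 0x30121110213230012020102310123002102121001300) (Net.cons (nat_lit 1) (nat_lit 0x14441540010514041540445105111111015510405400) Net.nil)))))))))))))))
noncomputable def Np_4 : Net := (Net.cons (nat_lit 1) (nat_lit 0x1401014014110441041050511441104150041154100) (Net.cons (nat_lit 2) (nat_lit 0x32222200200301230330002302120303021003122000) (Net.cons (nat_lit 4) (nat_lit 0x60e08050f0c0006090700040a060a0607060a000c00) (Net.cons (nat_lit 8) (nat_lit 0xee004e00cf0022000a003900020081000d001c0000) (Net.cons (nat_lit 16) (nat_lit 0x145c00000e1b00007d430000827600002400) (Net.cons (nat_lit 32) (nat_lit 0x630400000000ff20093c0000000007420000) (Net.cons (nat_lit 64) (nat_lit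 0x4c6043102300) (Net.cons (nat_lit 128) (nat_lit 0xce7557562fc8) (Net.cons (nat_lit 64) (nat_lit 0x1d3b7b28a11e2974) (Net.cons (nat_lit 32) (nat_lit 0x75440000000083069f7b000000006aa06f60) (Net.cons (nat_lit 16) (nat_lit 0xf8350000569b00000c230000bb1600000d21) (Net.cons (nat_lit 8) (nat_lit 0xce002000a70006006c00dd006600c500af005c002c) (Net.cons (nat_lit 4) (nat_lit 0xe0e08010b080406090700000e070a0207020e000c00) (Net.cons (nat_lit 2) (nat_lit 0x32222200200301230330002302120303021003122000) (Net.cons (nat_lit 1) (nat_lit 0x1401014010110451045050551441104150041154104) Net.nil)))))))))))))))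
noncomputable def Np : List Net := [Np_0, Np_1, Np_2, Np_3, Np_4]
noncomputable def Rp_0 : List (List Nat) := [[(nat_lit 1), (nat_lit 1)],
  [(nat_lit 3), (nat_lit 3), (nat_lit 3), (nat_lit 3)],
  [(nat_lit 3), (nat_lit 3), (nat_lit 1), (nat_lit 4), (nat_lit 1), (nat_lit 3), (nat_lit 1)]]

noncomputable def Rp_1 : List (List Nat) := [[(nat_lit 1), (nat_lit 1)],
  [(nat_lit 3), (nat_lit 3), (nat_lit 3), (nat_lit 3)],
  [(nat_lit 3), (nat_lit 3), (nat_lit 1), (nat_lit 4), (nat_lit 1), (nat_lit 3), (nat_lit 1)],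
  [(nat_lit 5), (nat_lit 5)],
  [(nat_lit 3), (nat_lit 5), (nat_lit 4), (nat_lit 1), (nat_lit 3), (nat_lit 3), (nat_lit 5), (nat_lit 3), (nat_lit 3), (nat_lit 1)],
  [(nat_lit 5), (nat_lit 3), (nat_lit 5), (nat_lit 3), (nat_lit 5), (nat_lit 3), (nat_lit 5), (nat_lit 4), (nat_lit 5), (nat_lit 4), (nat_lit 5), (nat_lit 4), (nat_lit 1)]]

noncomputable def Rp_2 : List (List Nat) := [[(nat_lit 1), (nat_lit 1)],
  [(nat_lit 3), (nat_lit 3), (nat_lit 3), (nat_lit 3)],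
  [(nat_lit 3), (nat_lit 3), (nat_lit 1), (nat_lit 4), (nat_lit 1), (nat_lit 3), (nat_lit 1)],
  [(nat_lit 5), (nat_lit 5)],
  [(nat_lit 3), (nat_lit 5), (nat_lit 4), (nat_lit 1), (nat_lit 3), (nat_lit 3), (nat_lit 5), (nat_lit 3), (nat_lit 3), (nat_lit 1)],
  [(nat_lit 5), (nat_lit 3), (nat_lit 5), (nat_lit 3), (nat_lit 5), (nat_lit 3), (nat_lit 5), (nat_lit 4), (nat_lit 5), (nat_lit 4), (nat_lit 5), (nat_lit 4), (nat_lit 1)],
  [(nat_lit 7), (nat_lit 7)],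
  [(nat_lit 7), (nat_lit 5), (nat_lit 7), (nat_lit 5)],
  [(nat_lit 3), (nat_lit 7), (nat_lit 3), (nat_lit 3), (nat_lit 1), (nat_lit 3), (nat_lit 7), (nat_lit 3), (nat_lit 3), (nat_lit 1)],
  [(nat_lit 7), (nat_lit 4), (nat_lit 7), (nat_lit 3), (nat_lit 7), (nat_lit 1), (nat_lit 4), (nat_lit 7), (nat_lit 3), (nat_lit 1)],
  [(nat_lit 5), (nat_lit 7), (nat_lit 3), (nat_lit 7), (nat_lit 5), (nat_lit 3), (nat_lit 7), (nat_lit 5), (nat_lit 4), (nat_lit 7), (nat_lit 5), (nat_lit 4), (nat_lit 1)],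
  [(nat_lit 3), (nat_lit 7), (nat_lit 4), (nat_lit 5), (nat_lit 3), (nat_lit 5), (nat_lit 3), (nat_lit 1), (nat_lit 3), (nat_lit 7), (nat_lit 4), (nat_lit 5), (nat_lit 3), (nat_lit 5), (nat_lit 3), (nat_lit 1), (nat_lit 3), (nat_lit 7), (nat_lit 4), (nat_lit 5), (nat_lit 3), (nat_lit 5), (nat_lit 3), (nat_lit 1)],
  [(nat_lit 7), (nat_lit 5), (nat_lit 3), (nat_lit 7), (nat_lit 3), (nat_lit 7), (nat_lit 3), (nat_lit 1), (nat_lit 7), (nat_lit 5), (nat_lit 3), (nat_lit 7), (nat_lit 3), (nat_lit 7), (nat_lit 3), (nat_lit 1), (nat_lit 7), (nat_lit 5), (nat_lit 3), (nat_lit 7), (nat_lit 3), (nat_lit 7), (nat_lit 3), (nat_lit 1)]]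

noncomputable def relsp : List (List Nat) := [[(nat_lit 1), (nat_lit 1)],
  [(nat_lit 3), (nat_lit 3), (nat_lit 3), (nat_lit 3)],
  [(nat_lit 3), (nat_lit 3), (nat_lit 1), (nat_lit 4), (nat_lit 1), (nat_lit 3), (nat_lit 1)],
  [(nat_lit 5), (nat_lit 5)],
  [(nat_lit 3), (nat_lit 5), (nat_lit 4), (nat_lit 1), (nat_lit 3), (nat_lit 3), (nat_lit 5), (nat_lit 3), (nat_lit 3), (nat_lit 1)],
  [(nat_lit 5), (nat_lit 3), (nat_lit 5), (nat_lit 3), (nat_lit 5), (nat_lit 3), (nat_lit 5), (nat_lit 4), (nat_lit 5), (nat_lit 4), (nat_lit 5), (nat_lit 4), (nat_lit 1)],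
  [(nat_lit 7), (nat_lit 7)],
  [(nat_lit 7), (nat_lit 5), (nat_lit 7), (nat_lit 5)],
  [(nat_lit 3), (nat_lit 7), (nat_lit 3), (nat_lit 3), (nat_lit 1), (nat_lit 3), (nat_lit 7), (nat_lit 3), (nat_lit 3), (nat_lit 1)],
  [(nat_lit 7), (nat_lit 4), (nat_lit 7), (nat_lit 3), (nat_lit 7), (nat_lit 1), (nat_lit 4), (nat_lit 7), (nat_lit 3), (nat_lit 1)],
  [(nat_lit 5), (nat_lit 7), (nat_lit 3), (nat_lit 7), (nat_lit 5), (nat_lit 3), (nat_lit 7), (nat_lit 5), (nat_lit 4), (nat_lit 7), (nat_lit 5), (nat_lit 4), (nat_lit 1)],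
  [(nat_lit 3), (nat_lit 7), (nat_lit 4), (nat_lit 5), (nat_lit 3), (nat_lit 5), (nat_lit 3), (nat_lit 1), (nat_lit 3), (nat_lit 7), (nat_lit 4), (nat_lit 5), (nat_lit 3), (nat_lit 5), (nat_lit 3), (nat_lit 1), (nat_lit 3), (nat_lit 7), (nat_lit 4), (nat_lit 5), (nat_lit 3), (nat_lit 5), (nat_lit 3), (nat_lit 1)],
  [(nat_lit 7), (nat_lit 5), (nat_lit 3), (nat_lit 7), (nat_lit 3), (nat_lit 7), (nat_lit 3), (nat_lit 1), (nat_lit 7), (nat_lit 5), (nat_lit 3), (nat_lit 7), (nat_lit 3), (nat_lit 7), (nat_lit 3), (nat_lit 1), (nat_lit 7), (nat_lit 5), (nat_lit 3), (nat_lit 7), (nat_lit 3), (nat_lit 7), (nat_lit 3), (nat_lit 1)],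
  [(nat_lit 9), (nat_lit 9)],
  [(nat_lit 9), (nat_lit 7), (nat_lit 9), (nat_lit 7)],
  [(nat_lit 9), (nat_lit 4), (nat_lit 9), (nat_lit 4), (nat_lit 9), (nat_lit 3), (nat_lit 9), (nat_lit 3), (nat_lit 1)],
  [(nat_lit 3), (nat_lit 9), (nat_lit 3), (nat_lit 3), (nat_lit 1), (nat_lit 3), (nat_lit 9), (nat_lit 3), (nat_lit 3), (nat_lit 1)],
  [(nat_lit 7), (nat_lit 3), (nat_lit 9), (nat_lit 7), (nat_lit 9), (nat_lit 4), (nat_lit 4), (nat_lit 7), (nat_lit 3), (nat_lit 7), (nat_lit 3), (nat_lit 3)],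
  [(nat_lit 9), (nat_lit 4), (nat_lit 7), (nat_lit 3), (nat_lit 9), (nat_lit 4), (nat_lit 7), (nat_lit 3), (nat_lit 9), (nat_lit 4), (nat_lit 7), (nat_lit 3)],
  [(nat_lit 9), (nat_lit 4), (nat_lit 7), (nat_lit 4), (nat_lit 9), (nat_lit 3), (nat_lit 9), (nat_lit 7), (nat_lit 4), (nat_lit 9), (nat_lit 3), (nat_lit 7), (nat_lit 3), (nat_lit 1)],
  [(nat_lit 3), (nat_lit 1), (nat_lit 3), (nat_lit 5), (nat_lit 3), (nat_lit 5), (nat_lit 3), (nat_lit 1), (nat_lit 5), (nat_lit 7), (nat_lit 3), (nat_lit 5), (nat_lit 4), (nat_lit 7), (nat_lit 9), (nat_lit 4), (nat_lit 7), (nat_lit 9), (nat_lit 4), (nat_lit 7), (nat_lit 9), (nat_lit 4), (nat_lit 5), (nat_lit 3), (nat_lit 9)]]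

noncomputable def ep_0_c0 : BT (Bx Nat) := (BT.leaf (Bx.mk (nat_lit 0x0)))
noncomputable def ep_0_c1 : BT (Bx Nat) := (BT.leaf (Bx.mk (nat_lit 0x75349448d68e68ba88991792a86950a85a84c2fa83c2cc2ac29c27a81c22000)))
noncomputable def ep_0_c2 : BT (Bx Nat) := (BT.leaf (Bx.mk (nat_lit 0x8f14f2accac9c34c33ac76ca70f8e692ec308e4c2dac2c2bac1c28c25c23000)))
noncomputable def ep_0_c3 : BT (Bx Nat) := (BT.leaf (Bx.mk (nat_lit 0xab0aaf2b36b4aa94ac6aaaa7c32aa596dc31aa3c2e6abaa26a8aa1c26c24000)))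
noncomputable def ep_0_p : BT (Bx Nat) := (BT.leaf (Bx.mk (nat_lit 0x24028f0a303690da4268059c36709981650994144050c24305083420884321088410000000)))
noncomputable def ep_0_e : BT Nat := BT.leaf (nat_lit 0)
noncomputable def ep_0_cols : List (BT (Bx Nat)) := [ep_0_c0, ep_0_c1, ep_0_c2, ep_0_c3]
noncomputable def ep_0_ch (x j : Nat) : Bx Nat := chunkG ep_0_cols (nat_lit 1) x j
noncomputable def ep_0_L (x : Nat) : Bx (Nat → Nat) := lookG ep_0_ch (nat_lit 8) (nat_lit 255) (nat_lit 12) (nat_lit 4095) x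
noncomputable def ep_0_pc (_ j : Nat) : Bx Nat := ep_0_p.get j
noncomputable def ep_0_pb : Bx (Nat → Nat) := lookG ep_0_pc (nat_lit 8) (nat_lit 255) (nat_lit 14) (nat_lit 16383) (nat_lit 0)
noncomputable def ep_0_rots : BT CW := (BT.node (nat_lit 6) (BT.node (nat_lit 3) (BT.node (nat_lit 1) (BT.leaf ⟨[], (nat_lit 1000000), (nat_lit 0), (nat_lit 0), (nat_lit 0)⟩) (BT.node (nat_lit 2) (BT.leaf ⟨[], (nat_lit 1000000), (nat_lit 0), (nat_lit 0), (nat_lit 1)⟩) (BT.leaf ⟨[], (nat_lit 1000000), (nat_lit 0), (nat_lit 0), (nat_lit 2)⟩))) (BT.node (nat_lit 4) (BT.leaf ⟨[(nat_lit 1), (nat_lit 1)], (nat_lit 0), (nat_lit 0), (nat_lit 0), (nat_lit 3)⟩) (BT.node (nat_lit 5) (BT.leaf ⟨[(nat_lit 3), (nat_lit 2)], (nat_lit 6), (nat_lit 1), (nat_lit 0), (nat_lit 3)⟩) (BT.leaf ⟨[(nat_lit 2), (nat_lit 3)], (nat_lit 6), (nat_lit 0), (nat_lit 0), (nat_lit 3)⟩)))) (BT.node (nat_lit 9) (BT.node (nat_lit 7) (BT.leaf ⟨[(nat_lit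 2), (nat_lit 2), (nat_lit 2), (nat_lit 2)], (nat_lit 1), (nat_lit 0), (nat_lit 0), (nat_lit 3)⟩) (BT.node (nat_lit 8) (BT.leaf ⟨[(nat_lit 2), (nat_lit 1), (nat_lit 2), (nat_lit 2), (nat_lit 1), (nat_lit 3), (nat_lit 1)], (nat_lit 2), (nat_lit 5), (nat_lit 0), (nat_lit 3)⟩) (BT.leaf ⟨[(nat_lit 2), (nat_lit 2), (nat_lit 1), (nat_lit 3), (nat_lit 1), (nat_lit 2), (nat_lit 1)], (nat_lit 2), (nat_lit 0), (nat_lit 0), (nat_lit 3)⟩))) (BT.node (nat_lit 10) (BT.leaf ⟨[(nat_lit 1), (nat_lit 3), (nat_lit 1), (nat_lit 2), (nat_lit 1), (nat_lit 2), (nat_lit 2)], (nat_lit 2), (nat_lit 2), (nat_lit 0), (nat_lit 3)⟩) (BT.node (nat_lit 11) (BT.leaf ⟨[(nat_lit 3), (nat_lit 3), (nat_lit 1), (nat_lit 3), (nat_lit 1), (nat_lit 2), (nat_lit 1)], (nat_lit 10), (nat_lit 5), (nat_lit 0), (nat_lit 3)⟩) (BT.leaf ⟨[(nat_lit 1), (nat_lit 2), (nat_lit 1), (nat_lit 2), (nat_lit 2), (nat_lit 1), (nat_lit 3)], (nat_lit 2),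 (nat_lit 4), (nat_lit 0), (nat_lit 3)⟩)))))
noncomputable def ep_0_hcs : List CW := []
noncomputable def ep_0_H (x j : Nat) : Bx (Nat → Nat → Nat) := mkH ep_0_L ep_0_pb.1 ep_0_e.get (lmap CW.w ep_0_hcs) (nat_lit 20) (nat_lit 21) (nat_lit 4) (nat_lit 32) (nat_lit 512) (nat_lit 2047) x (ep_0_rots.get j)
noncomputable def ep_0_F (x b : Nat) : Bool := blkOK ep_0_H ep_0_ch (nat_lit 21) (nat_lit 32) (nat_lit 16) (nat_lit 8) (nat_lit 255) (nat_lit 12) (nat_lit 4095) x b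

theorem ep_0_k0_0 : allFrom (ep_0_F (nat_lit 0)) (nat_lit 0) (nat_lit 4) = true := by decide +kernel
theorem ep_0_k1_0 : allFrom (ep_0_F (nat_lit 1)) (nat_lit 0) (nat_lit 4) = true := by decide +kernel
theorem ep_0_k2_0 : allFrom (ep_0_F (nat_lit 2)) (nat_lit 0) (nat_lit 4) = true := by decide +kernel
theorem ep_0_k3_0 : allFrom (ep_0_F (nat_lit 3)) (nat_lit 0) (nat_lit 4) = true := by decide +kernel

noncomputable def ep_1_c0 : BT (Bx Nat) := (BT.leaf (Bx.mk (nat_lit 0x0)))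
noncomputable def ep_1_c1 : BT (Bx Nat) := (BT.leaf (Bx.mk (nat_lit 0x27487af1c63bb41ce486c210efc63c43b0f50bc01c90cec3530f04cebc21d1b03aa38f1703a96bad1c3b130ef983b7732b96eb27aed946a17b099a3b349a89039e796af20bac82e1a69f58e69c3afa0e5e039b60e5503ad48ec3039160ea1272ca1c4b038f89c918ea798e43038da9497038c6c28e838ec0e2e639dc82828599c8272a594c82632096c824e238890e1e468a99a26a384c0e0ec586c8216a682c86040000)))
noncomputable def ep_1_c2 : BT (Bx Nat) := (BT.leaf (Bx.mk (nat_lit 0x71c8c0d04b1c630d0a11bc20d1ca344b0cfd433b18d0ce34038cf5234540cd60334a0ce5842f68cdb032760cfb03257a4eb0323c0c85642ac0c7dad3858cc951ac8907b031a63cc320b7736a1c331c82ce431b63c89442d78c5e0313c82ba5024b90424320c82af20a9b903a661cc829a231298c56e40ca1863030a80c5b0309c82770308c82670307c82532091c823f208dc822ee404a98170302c821b2083c86040000)))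
noncomputable def ep_1_c3 : BT (Bx Nat) := (BT.leaf (Bx.mk (nat_lit 0x42c82c50c82c6512f0d342222fcf2c5c831d08beb9305ab35412f5e2c459301c2b3abee582aec0aa1ce374a8ee29bac0a95912d7a29962a958ae3029f48a8922acc0a6d42b0c0a69a2a7c82db0297c82d2229ec82c962a3c82c6679cc82be02abc0a3e42989ac9320aac0a36629382a862811a2857028b8a2824796c0a2ac29dc0a26c299c0a22c294c0a1f2092c8243208ec82330283a0a16c286c0a0b2084c0a040000)))
noncomputable def ep_1_c4 : BT (Bx Nat) := (BT.leaf (Bx.mk (nat_lit 0x30247c8323023ac08e30237c08db0234c08cf0232c08c7022fc08bb022bc08ab20c6c08a720c5c831320c3c089b20c2c830720c0c82ff0220c82fb20bdc0877021cc82f320bbc82e70219c086320b5c085b0214c084f0212c084720b0c0843020fc82b720acc083b020dc82a320a7c083320a5c082f20a4c828f20a2c8287209fc827b209bc826b2097c82570206c08170204c080f208ac82272088c821f0201c82080000)))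
noncomputable def ep_1_p : BT (Bx Nat) := (BT.leaf (Bx.mk (nat_lit 0x151c49821c3a121c090dc486c24341219890c84862242f121708eac475423aa05d488ea4175013a70dd308e94374a13a30dd086e80473e1b9f09ce88e704636131a0d8d04c6446302317098b08c5046262312118888c441620230f118784c3c151c228d114684a341518228c054588a2c25160a8a0d4504a24351212080d040481c340e12061102886104306218308c182408320410811000000000)))
noncomputable def ep_1_e0 : BT Nat := (BT.node (nat_lit 66) (BT.leaf (nat_lit 262146)) (BT.leaf (nat_lit 2)))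
noncomputable def ep_1_e : BT Nat := ep_1_e0
noncomputable def ep_1_cols : List (BT (Bx Nat)) := [ep_1_c0, ep_1_c1, ep_1_c2, ep_1_c3, ep_1_c4]
noncomputable def ep_1_ch (x j : Nat) : Bx Nat := chunkG ep_1_cols (nat_lit 1) x j
noncomputable def ep_1_L (x : Nat) : Bx (Nat → Nat) := lookG ep_1_ch (nat_lit 8) (nat_lit 255) (nat_lit 18) (nat_lit 262143) x
noncomputable def ep_1_pc (_ j : Nat) : Bx Nat := ep_1_p.get j
noncomputable def ep_1_pb : Bx (Nat → Nat) := lookG ep_1_pc (nat_lit 8) (nat_lit 255) (nat_lit 17) (nat_lit 131071) (nat_lit 0)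
noncomputable def ep_1_rots : BT CW := (BT.node (nat_lit 19) (BT.node (nat_lit 9) (BT.node (nat_lit 4) (BT.node (nat_lit 2) (BT.node (nat_lit 1) (BT.leaf ⟨[], (nat_lit 1000000), (nat_lit 0), (nat_lit 0), (nat_lit 0)⟩) (BT.leaf ⟨[], (nat_lit 1000000), (nat_lit 0), (nat_lit 0), (nat_lit 1)⟩)) (BT.node (nat_lit 3) (BT.leaf ⟨[], (nat_lit 1000000), (nat_lit 0), (nat_lit 0), (nat_lit 2)⟩) (BT.leaf ⟨[(nat_lit 4), (nat_lit 4)], (nat_lit 3), (nat_lit 0), (nat_lit 0), (nat_lit 3)⟩))) (BT.node (nat_lit 6) (BT.node (nat_lit 5) (BT.leaf ⟨[(nat_lit 3), (nat_lit 2)], (nat_lit 9), (nat_lit 1), (nat_lit 0), (nat_lit 3)⟩) (BT.leaf ⟨[(nat_lit 2), (nat_lit 3)], (nat_lit 9), (nat_lit 0), (nat_lit 0), (nat_lit 3)⟩)) (BT.node (nat_lit 7) (BT.leaf ⟨[(nat_lit 1), (nat_lit 1)], (nat_lit 0), (nat_lit 0), (nat_lit 0), (nat_lit 3)⟩) (BT.node (nat_lit 8) (BT.leaf ⟨[(nat_lit 2), (nat_lit 2), (nat_lit 2), (nat_lit 2)], (nat_lit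 1), (nat_lit 0), (nat_lit 0), (nat_lit 3)⟩) (BT.leaf ⟨[(nat_lit 3), (nat_lit 4), (nat_lit 3), (nat_lit 4), (nat_lit 1), (nat_lit 2), (nat_lit 4), (nat_lit 2), (nat_lit 4), (nat_lit 2), (nat_lit 4), (nat_lit 3), (nat_lit 4)], (nat_lit 16), (nat_lit 9), (nat_lit 0), (nat_lit 3)⟩))))) (BT.node (nat_lit 14) (BT.node (nat_lit 11) (BT.node (nat_lit 10) (BT.leaf ⟨[(nat_lit 1), (nat_lit 2), (nat_lit 4), (nat_lit 2), (nat_lit 4), (nat_lit 2), (nat_lit 4), (nat_lit 3), (nat_lit 4), (nat_lit 3), (nat_lit 4), (nat_lit 3), (nat_lit 4)], (nat_lit 16), (nat_lit 0), (nat_lit 0), (nat_lit 3)⟩) (BT.leaf ⟨[(nat_lit 1), (nat_lit 2), (nat_lit 2), (nat_lit 4), (nat_lit 2), (nat_lit 2), (nat_lit 1), (nat_lit 2), (nat_lit 4), (nat_lit 3)], (nat_lit 4), (nat_lit 3), (nat_lit 0), (nat_lit 3)⟩)) (BT.node (nat_lit 12) (BT.leaf ⟨[(nat_lit 2), (nat_lit 1), (nat_lit 2), (nat_lit 2), (nat_lit 1), (nat_lit 3), (nat_lit 1)],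 (nat_lit 2), (nat_lit 5), (nat_lit 0), (nat_lit 3)⟩) (BT.node (nat_lit 13) (BT.leaf ⟨[(nat_lit 1), (nat_lit 3), (nat_lit 1), (nat_lit 2), (nat_lit 1), (nat_lit 2), (nat_lit 2)], (nat_lit 2), (nat_lit 2), (nat_lit 0), (nat_lit 3)⟩) (BT.leaf ⟨[(nat_lit 1), (nat_lit 2), (nat_lit 4), (nat_lit 3), (nat_lit 1), (nat_lit 2), (nat_lit 2), (nat_lit 4), (nat_lit 2), (nat_lit 2)], (nat_lit 4), (nat_lit 9), (nat_lit 0), (nat_lit 3)⟩)))) (BT.node (nat_lit 16) (BT.node (nat_lit 15) (BT.leaf ⟨[(nat_lit 3), (nat_lit 1), (nat_lit 2), (nat_lit 1), (nat_lit 2), (nat_lit 2), (nat_lit 1)], (nat_lit 2), (nat_lit 3), (nat_lit 0), (nat_lit 3)⟩) (BT.leaf ⟨[(nat_lit 3), (nat_lit 1), (nat_lit 3), (nat_lit 1), (nat_lit 2), (nat_lit 1), (nat_lit 3)], (nat_lit 13), (nat_lit 6), (nat_lit 0), (nat_lit 3)⟩)) (BT.node (nat_lit 17) (BT.leaf ⟨[(nat_lit 3), (nat_lit 3), (nat_lit 3), (nat_lit 3)], (nat_lit 12), (nat_lit 0), (nat_lit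 0), (nat_lit 3)⟩) (BT.node (nat_lit 18) (BT.leaf ⟨[(nat_lit 2), (nat_lit 1), (nat_lit 2), (nat_lit 4), (nat_lit 3), (nat_lit 1), (nat_lit 2), (nat_lit 2), (nat_lit 4), (nat_lit 2)], (nat_lit 4), (nat_lit 8), (nat_lit 0), (nat_lit 3)⟩) (BT.leaf ⟨[(nat_lit 3), (nat_lit 1), (nat_lit 2), (nat_lit 4), (nat_lit 3), (nat_lit 1), (nat_lit 3), (nat_lit 3), (nat_lit 4), (nat_lit 3)], (nat_lit 15), (nat_lit 5), (nat_lit 0), (nat_lit 3)⟩)))))) (BT.node (nat_lit 28) (BT.node (nat_lit 23) (BT.node (nat_lit 21) (BT.node (nat_lit 20) (BT.leaf ⟨[(nat_lit 3), (nat_lit 4), (nat_lit 3), (nat_lit 4), (nat_lit 3), (nat_lit 1), (nat_lit 4), (nat_lit 2), (nat_lit 4), (nat_lit 2), (nat_lit 4), (nat_lit 2), (nat_lit 4)], (nat_lit 5), (nat_lit 7), (nat_lit 0), (nat_lit 3)⟩) (BT.leaf ⟨[(nat_lit 3), (nat_lit 4), (nat_lit 3), (nat_lit 1), (nat_lit 4), (nat_lit 2), (nat_lit 4), (nat_lit 2), (nat_lit 4), (nat_lit 2), (nat_lit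 4), (nat_lit 3), (nat_lit 4)], (nat_lit 5), (nat_lit 9), (nat_lit 0), (nat_lit 3)⟩)) (BT.node (nat_lit 22) (BT.leaf ⟨[(nat_lit 3), (nat_lit 4), (nat_lit 1), (nat_lit 2), (nat_lit 4), (nat_lit 2), (nat_lit 4), (nat_lit 2), (nat_lit 4), (nat_lit 3), (nat_lit 4), (nat_lit 3), (nat_lit 4)], (nat_lit 16), (nat_lit 11), (nat_lit 0), (nat_lit 3)⟩) (BT.leaf ⟨[(nat_lit 1), (nat_lit 2), (nat_lit 4), (nat_lit 3), (nat_lit 1), (nat_lit 3), (nat_lit 3), (nat_lit 4), (nat_lit 3), (nat_lit 3)], (nat_lit 15), (nat_lit 6), (nat_lit 0), (nat_lit 3)⟩))) (BT.node (nat_lit 25) (BT.node (nat_lit 24) (BT.leaf ⟨[(nat_lit 1), (nat_lit 3), (nat_lit 3), (nat_lit 4), (nat_lit 3), (nat_lit 3), (nat_lit 1), (nat_lit 2), (nat_lit 4), (nat_lit 3)], (nat_lit 15), (nat_lit 0), (nat_lit 0), (nat_lit 3)⟩) (BT.leaf ⟨[(nat_lit 1), (nat_lit 3), (nat_lit 3), (nat_lit 1), (nat_lit 3), (nat_lit 1), (nat_lit 2)], (nat_lit 13), (nat_lit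 4), (nat_lit 0), (nat_lit 3)⟩)) (BT.node (nat_lit 26) (BT.leaf ⟨[(nat_lit 2), (nat_lit 1), (nat_lit 3), (nat_lit 3), (nat_lit 1), (nat_lit 3), (nat_lit 1)], (nat_lit 13), (nat_lit 3), (nat_lit 0), (nat_lit 3)⟩) (BT.node (nat_lit 27) (BT.leaf ⟨[(nat_lit 2), (nat_lit 4), (nat_lit 2), (nat_lit 2), (nat_lit 1), (nat_lit 2), (nat_lit 4), (nat_lit 3), (nat_lit 1), (nat_lit 2)], (nat_lit 4), (nat_lit 5), (nat_lit 0), (nat_lit 3)⟩) (BT.leaf ⟨[(nat_lit 3), (nat_lit 3), (nat_lit 4), (nat_lit 3), (nat_lit 3), (nat_lit 1), (nat_lit 2), (nat_lit 4), (nat_lit 3), (nat_lit 1)], (nat_lit 15), (nat_lit 1), (nat_lit 0), (nat_lit 3)⟩))))) (BT.node (nat_lit 33) (BT.node (nat_lit 30) (BT.node (nat_lit 29) (BT.leaf ⟨[(nat_lit 1), (nat_lit 2), (nat_lit 1), (nat_lit 2), (nat_lit 2), (nat_lit 1), (nat_lit 3)], (nat_lit 2), (nat_lit 4), (nat_lit 0), (nat_lit 3)⟩) (BT.leaf ⟨[(nat_lit 2), (nat_lit 4), (nat_lit 3), (nat_lit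 1), (nat_lit 2), (nat_lit 2), (nat_lit 4), (nat_lit 2), (nat_lit 2), (nat_lit 1)], (nat_lit 4), (nat_lit 0), (nat_lit 0), (nat_lit 3)⟩)) (BT.node (nat_lit 31) (BT.leaf ⟨[(nat_lit 3), (nat_lit 4), (nat_lit 3), (nat_lit 4), (nat_lit 3), (nat_lit 4), (nat_lit 1), (nat_lit 2), (nat_lit 4), (nat_lit 2), (nat_lit 4), (nat_lit 2), (nat_lit 4)], (nat_lit 16), (nat_lit 7), (nat_lit 0), (nat_lit 3)⟩) (BT.node (nat_lit 32) (BT.leaf ⟨[(nat_lit 2), (nat_lit 4), (nat_lit 3), (nat_lit 4), (nat_lit 3), (nat_lit 4), (nat_lit 3), (nat_lit 1), (nat_lit 4), (nat_lit 2), (nat_lit 4), (nat_lit 2), (nat_lit 4)], (nat_lit 5), (nat_lit 5), (nat_lit 0), (nat_lit 3)⟩) (BT.leaf ⟨[(nat_lit 1), (nat_lit 4), (nat_lit 2), (nat_lit 4), (nat_lit 2), (nat_lit 4), (nat_lit 2), (nat_lit 4), (nat_lit 3), (nat_lit 4), (nat_lit 3), (nat_lit 4), (nat_lit 3)], (nat_lit 5), (nat_lit 12), (nat_lit 0), (nat_lit 3)⟩)))) (BT.node (nat_lit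 35) (BT.node (nat_lit 34) (BT.leaf ⟨[(nat_lit 3), (nat_lit 4), (nat_lit 3), (nat_lit 3), (nat_lit 1), (nat_lit 2), (nat_lit 4), (nat_lit 3), (nat_lit 1), (nat_lit 3)], (nat_lit 15), (nat_lit 2), (nat_lit 0), (nat_lit 3)⟩) (BT.leaf ⟨[(nat_lit 2), (nat_lit 4), (nat_lit 2), (nat_lit 4), (nat_lit 3), (nat_lit 4), (nat_lit 3), (nat_lit 4), (nat_lit 3), (nat_lit 1), (nat_lit 4), (nat_lit 2), (nat_lit 4)], (nat_lit 5), (nat_lit 3), (nat_lit 0), (nat_lit 3)⟩)) (BT.node (nat_lit 36) (BT.leaf ⟨[(nat_lit 1), (nat_lit 2), (nat_lit 2), (nat_lit 1), (nat_lit 3), (nat_lit 1), (nat_lit 2)], (nat_lit 2), (nat_lit 6), (nat_lit 0), (nat_lit 3)⟩) (BT.node (nat_lit 37) (BT.leaf ⟨[(nat_lit 3), (nat_lit 1), (nat_lit 2), (nat_lit 2), (nat_lit 4), (nat_lit 2), (nat_lit 2), (nat_lit 1), (nat_lit 2), (nat_lit 4)], (nat_lit 4), (nat_lit 2), (nat_lit 0), (nat_lit 3)⟩) (BT.leaf ⟨[(nat_lit 3), (nat_lit 3), (nat_lit 1), (nat_lit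 2), (nat_lit 4), (nat_lit 3), (nat_lit 1), (nat_lit 3), (nat_lit 3), (nat_lit 4)], (nat_lit 15), (nat_lit 4), (nat_lit 0), (nat_lit 3)⟩)))))))
noncomputable def ep_1_hcs : List CW := [⟨[(nat_lit 2)], (nat_lit 0), (nat_lit 0), (nat_lit 0), (nat_lit 0)⟩, ⟨[(nat_lit 1)], (nat_lit 1), (nat_lit 0), (nat_lit 0), (nat_lit 0)⟩, ⟨[(nat_lit 3)], (nat_lit 2), (nat_lit 0), (nat_lit 0), (nat_lit 0)⟩, ⟨[(nat_lit 1)], (nat_lit 3), (nat_lit 0), (nat_lit 0), (nat_lit 0)⟩]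
noncomputable def ep_1_H (x j : Nat) : Bx (Nat → Nat → Nat) := mkH ep_1_L ep_1_pb.1 ep_1_e.get (lmap CW.w ep_1_hcs) (nat_lit 72) (nat_lit 73) (nat_lit 5) (nat_lit 128) (nat_lit 8192) (nat_lit 8191) x (ep_1_rots.get j)
noncomputable def ep_1_F (x b : Nat) : Bool := blkOK ep_1_H ep_1_ch (nat_lit 73) (nat_lit 128) (nat_lit 64) (nat_lit 8) (nat_lit 255) (nat_lit 18) (nat_lit 262143) x b

theorem ep_1_k0_0 : allFrom (ep_1_F (nat_lit 0)) (nat_lit 0) (nat_lit 4) = true := by decide +kernel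
theorem ep_1_k1_0 : allFrom (ep_1_F (nat_lit 1)) (nat_lit 0) (nat_lit 4) = true := by decide +kernel
theorem ep_1_k2_0 : allFrom (ep_1_F (nat_lit 2)) (nat_lit 0) (nat_lit 4) = true := by decide +kernel
theorem ep_1_k3_0 : allFrom (ep_1_F (nat_lit 3)) (nat_lit 0) (nat_lit 4) = true := by decide +kernel
theorem ep_1_k4_0 : allFrom (ep_1_F (nat_lit 4)) (nat_lit 0) (nat_lit 4) = true := by decide +kernel

noncomputable def ep_2_c0 : BT (Bx Nat) := (BT.leaf (Bx.mk (nat_lit 0x0)))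
noncomputable def ep_2_c1 : BT (Bx Nat) := (BT.leaf (Bx.mk (nat_lit 0x483d69c66b93695e299ac7994b1e669d70efb4077c383d5462e11a71122879510846d01daa80ed2431908c9c8d01d996633a2bc83887b3a6f1c0f2edef1d60518bf3a1eac6214940759a03ac2e359220f3e387a03083c90661c30f46eb28c38cc5b4356990f4ad877a1c3c7501d3e80e9d107a6103ce501d2971f00b078174ea6261e5d82f53481a86dcae38c620b0f1f40743403b1501d0980e88a075b203b912f1ce80e7e9079a383ccd01cf220ec74073b683a852068a90342cb23d843cdd2067920e9ab07928cbb6a265ddf0e7ce8798547a5c440d1d6866d077b54bba321e2a90329481936039b4234d600e5c9105478ba9b25d4a1205ed996ba40c3520615332cae077f503afd2060951e627073048394241c9d7328acb175a40bc5205d930e4498721a40b8c0658580ed14816ea40b6245caa10e530101f7c38f32f15e00ead0875e703aed01c6540e9279048803a8c2355652635407168cc95a21cea21a72999474c6a34a3c5e80e26c902468791a8650541a81407107c39c4064de51e294070f8c38ac81cb69026508711903935204b243a372071da4092b6c44a2163148120a408e3c1c2a20e132100890683beb03a31a1b1870c8c385ce2c1280e0730706a4082ca340a9060200000)))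
noncomputable def ep_2_c2 : BT (Bx Nat) := (BT.leaf (Bx.mk (nat_lit 0x520d79e26b510d4e1069ca0345230eba712fabb3a8403554e25edc0d5638c951c346c21a3e10d264066c9c4b38e1a81822d0186a49c4b18a19bd15716e0989a032eb419fe903591066a88342ae199280cacf866ea032ac41a8a80ca929b8c1834d3a19d680ca0ea3981c350c6196480d0f4064c955c1c419da80c93406476c335aa256e80c8b481a9a0322520698b669f1864b4034f241a5e9034b4064080339d2068e112ca98670495ccc0624671278886778c32e5018e632328f0692a031bd2067e80c6d4819da031ad2066d50d010065a544ba448dc530d0548196a03183c1a1280c5d2118660940d206429031c406727c329d018a95805f48188a03149419e530c62f8660a0313c845e170c82733435981a5205fa902f94817aa03109a192190caeb0c33a030faafc89b367b4061ea40b6a418ea902d2a3e28a40b346317a902c548161a40afc4187211870b0c46504a95205627122f0863288f8c5205469029d4814da40a54e245230c58d0c246d591a824fe902852121aa409f5204ee712211862594e0ad018364224119e1ba0305d204b69025740609a409338182a5362340607a408ec2ac3a90232eb008a408b4e30329022748112a4087ce241250c0b40602a408352040e9060200000)))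
noncomputable def ep_2_c3 : BT (Bx Nat) := (BT.leaf (Bx.mk (nat_lit 0x4c2d7a016a8e0b5d4059574a52a2d69e80af8b05a84a156d015ea80aea2379ca02b9465a388290e4149ea02b32269de80ac8194aca02b10e922d10adee05884ca3b50157060b491056988750beb9a1f0add4055688a51501554829472058c402ccd206adb0b314055025242c6156231d26f945a902c1a8397570aaeb1a616ca4b50151a60b5340545982d3501510b349d1854a4a136463a09e5d14a055f8523992915210abca247018a4d406a4280a764cea071bbfc6565280a72b859d982cfd014de00ae2c3592982cdd014d680a6902e4ca0299c414da9032f22f6b502bf42b98242b0d4052e69da0d206469031f4818d816a9a614be80a5548189282bcd014a680a514818490abc50149e9030270e42a40c02a14c2902fb4817b342a450148587a93481744c29150147da0a7b3056da028f2690ea902d500531a40b3d20596902c6a8547542a04450b142c9b4815b502a8d2056680a2d20e25a028ad2054a9029e98538a40a5d0144e41c38c852468291a814fa9028718519a409fd204f280a1f18e328828c46148280a1b0852b98296d0142e40a3730526a0284d0142240a233051da0283c0143a902353050aa408bba684a90228e050ca408850140e61c0b30506a028152041280a0200000)))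
noncomputable def ep_2_c4 : BT (Bx Nat) := (BT.leaf (Bx.mk (nat_lit 0xa0455d022768112c0ccaca40d7d022216534c9cc89a043d2a22a5894f9408744d2c0a13679c74f02caa0794cf9e228a9035c608821694d8c2996810c338a5e2c447d206b6810b61085970431ce295de552220a903154b86221c6110138a54a042950214521151481aa105474ca13c9969cb887da04251a2a71211463a98d9c5238a21e589708b88a568424d2069c614fcd88a1a042124218a71483481a424538d020fc810e62084da041f0a212e34ab03cd6c9c51d3ca999f108738a3810533ba21a85113538a3675549a735da9033338a348041e4c22628106538a31a40cace28bc3a3291086d984495020b6810593088ca0415d2062e9031538a2a94443102214514e138a281a7b752060db14f7408269843fd020967144938a22813b4d205de610eb40820a40b95205be7143f0a65f9129dcc21ae8103b30868a040e4c21928103530860a040cd20576610b9408179842d50205a902ad48155a40a9cc2142810293084ca0409d205229028d30845a04094c211281021481409841ed0203e90273481379c5075204d69026738a0ca40985204ba7141548129a4093d2048e7141148121a408f4c206e8100d30818a0402cc20568100930811a0401d204369021748109a4083ce280a9060200000)))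
noncomputable def ep_2_c5 : BT (Bx Nat) := (BT.leaf (Bx.mk (nat_lit 0x590d79a82b98435a246ac5e3d5b2869d50950b47a960255228625609085849e123409811d0a912f40467264c8988690c433b4046324248501184608cb4045d24250b32258f42cc4c9943a3c15011588093e5499b2023c0a8a1a1090140453228294085550094cc847aa02278812398089cba1a5342369a124c309471228da02230f1da5808f8cc57d71b24351a22808864c98f490b143110a808806c7a2a021f9211c4aa6e54043e191268d21b8e43063c86ca021ca0896c608fd40437a40d01c12547933340435a40ce2211de9033540433290afd010ca90331404303c2355010b9692b27044aa0216d20649f09154042ba40c60e122e0085940429a40c3b31a14508df40427611259f1d628084cd847ba0212d205fe8084740421a40bcc011da8084148175a40b9d205c28083c5c93c2231dd01076902d74041ca40b450106a902c940419a40b052057a8082f4815ca020b52056a902af0a051a40aa501052902a140413a40a65205269028f40412a40a2d010429028948141a0207d204f69027548138a0206d204da902694040ba4098d204be808134812aa40945204928080f48122a408fd0101a9023740405a408c5010129022b40403a4088d2043a902194810aa40845010069020400000)))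
noncomputable def ep_2_p : BT (Bx Nat) := (BT.leaf (Bx.mk (nat_lit 0x9ab12674499612654288a0e220487c0a1f0187a121e828750a1d048720a1a818690619c58660a19818640a18c58620a184586112174585d0e170285b1216418580615858560e15828550e15427540dd4c575211d4447500dd40274f15d3c174e05d30374a11d2817490dd1c374615d1827450dd1427440dd10274315d0c174211d08174015d00373f15cfc473f05cf8573e11cf0173b09cec173915ce4373909cdc57370dcdc27360dcd457350dcd4273409ccc573309cc8573211cc057300dcb8572e0dcb8272d15cb4472c118ac562b118a8362a098a456290d8a426280989c56270d89c26261589846251589446231588456210d884262015880461f0d87c261e15878361e09874561d11870561c11868561a1186456191186416171585c46161585846160985815150945055141144c55131144c251305448551211440551011440150f1543c450f0943c150d15434350d0942c550b0d42c24091502434090902024071501c340709018540611014540510c10530410c0c530310c0c2303048083202084045000000000)))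
noncomputable def ep_2_e0 : BT Nat := (BT.node (nat_lit 66) (BT.leaf (nat_lit 524290)) (BT.node (nat_lit 68) (BT.leaf (nat_lit 262146)) (BT.leaf (nat_lit 2))))
noncomputable def ep_2_e : BT Nat := ep_2_e0
noncomputable def ep_2_cols : List (BT (Bx Nat)) := [ep_2_c0, ep_2_c1, ep_2_c2, ep_2_c3, ep_2_c4, ep_2_c5]
noncomputable def ep_2_ch (x j : Nat) : Bx Nat := chunkG ep_2_cols (nat_lit 1) x j
noncomputable def ep_2_L (x : Nat) : Bx (Nat → Nat) := lookG ep_2_ch (nat_lit 8) (nat_lit 255) (nat_lit 21) (nat_lit 2097151) x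
noncomputable def ep_2_pc (_ j : Nat) : Bx Nat := ep_2_p.get j
noncomputable def ep_2_pb : Bx (Nat → Nat) := lookG ep_2_pc (nat_lit 8) (nat_lit 255) (nat_lit 18) (nat_lit 262143) (nat_lit 0)
noncomputable def ep_2_rots : BT CW := (BT.node (nat_lit 41) (BT.node (nat_lit 20) (BT.node (nat_lit 10) (BT.node (nat_lit 5) (BT.node (nat_lit 2) (BT.node (nat_lit 1) (BT.leaf ⟨[], (nat_lit 1000000), (nat_lit 0), (nat_lit 0), (nat_lit 0)⟩) (BT.leaf ⟨[], (nat_lit 1000000), (nat_lit 0), (nat_lit 0), (nat_lit 1)⟩)) (BT.node (nat_lit 3) (BT.leaf ⟨[], (nat_lit 1000000), (nat_lit 0), (nat_lit 0), (nat_lit 2)⟩) (BT.node (nat_lit 4) (BT.leaf ⟨[(nat_lit 5), (nat_lit 5)], (nat_lit 6), (nat_lit 0), (nat_lit 0), (nat_lit 3)⟩) (BT.leaf ⟨[(nat_lit 3), (nat_lit 2)], (nat_lit 16), (nat_lit 1), (nat_lit 0), (nat_lit 3)⟩)))) (BT.node (nat_lit 7) (BT.node (nat_lit 6) (BT.leaf ⟨[(nat_lit 2), (nat_lit 3)], (nat_lit 16), (nat_lit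 0), (nat_lit 0), (nat_lit 3)⟩) (BT.leaf ⟨[(nat_lit 1), (nat_lit 1)], (nat_lit 0), (nat_lit 0), (nat_lit 0), (nat_lit 3)⟩)) (BT.node (nat_lit 8) (BT.leaf ⟨[(nat_lit 4), (nat_lit 4)], (nat_lit 3), (nat_lit 0), (nat_lit 0), (nat_lit 3)⟩) (BT.node (nat_lit 9) (BT.leaf ⟨[(nat_lit 2), (nat_lit 2), (nat_lit 2), (nat_lit 2)], (nat_lit 1), (nat_lit 0), (nat_lit 0), (nat_lit 3)⟩) (BT.leaf ⟨[(nat_lit 4), (nat_lit 5), (nat_lit 4), (nat_lit 5)], (nat_lit 7), (nat_lit 1), (nat_lit 0), (nat_lit 3)⟩))))) (BT.node (nat_lit 15) (BT.node (nat_lit 12) (BT.node (nat_lit 11) (BT.leaf ⟨[(nat_lit 1), (nat_lit 2), (nat_lit 5), (nat_lit 2), (nat_lit 2), (nat_lit 1), (nat_lit 2), (nat_lit 5), (nat_lit 2), (nat_lit 2)], (nat_lit 8), (nat_lit 4), (nat_lit 0), (nat_lit 3)⟩) (BT.leaf ⟨[(nat_lit 2), (nat_lit 5), (nat_lit 1), (nat_lit 3), (nat_lit 5), (nat_lit 2), (nat_lit 1), (nat_lit 5), (nat_lit 3), (nat_lit 5)], (nat_lit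 9), (nat_lit 3), (nat_lit 0), (nat_lit 3)⟩)) (BT.node (nat_lit 13) (BT.leaf ⟨[(nat_lit 1), (nat_lit 2), (nat_lit 2), (nat_lit 1), (nat_lit 3), (nat_lit 1), (nat_lit 2)], (nat_lit 2), (nat_lit 6), (nat_lit 0), (nat_lit 3)⟩) (BT.node (nat_lit 14) (BT.leaf ⟨[(nat_lit 3), (nat_lit 1), (nat_lit 2), (nat_lit 1), (nat_lit 2), (nat_lit 2), (nat_lit 1)], (nat_lit 2), (nat_lit 3), (nat_lit 0), (nat_lit 3)⟩) (BT.leaf ⟨[(nat_lit 1), (nat_lit 2), (nat_lit 4), (nat_lit 3), (nat_lit 1), (nat_lit 2), (nat_lit 2), (nat_lit 4), (nat_lit 2), (nat_lit 2)], (nat_lit 4), (nat_lit 9), (nat_lit 0), (nat_lit 3)⟩)))) (BT.node (nat_lit 17) (BT.node (nat_lit 16) (BT.leaf ⟨[(nat_lit 1), (nat_lit 5), (nat_lit 3), (nat_lit 5), (nat_lit 2), (nat_lit 5), (nat_lit 1), (nat_lit 3), (nat_lit 5), (nat_lit 2)], (nat_lit 9), (nat_lit 9), (nat_lit 0), (nat_lit 3)⟩) (BT.leaf ⟨[(nat_lit 2), (nat_lit 1), (nat_lit 2), (nat_lit 4), (nat_lit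 3), (nat_lit 1), (nat_lit 2), (nat_lit 2), (nat_lit 4), (nat_lit 2)], (nat_lit 4), (nat_lit 8), (nat_lit 0), (nat_lit 3)⟩)) (BT.node (nat_lit 18) (BT.leaf ⟨[(nat_lit 2), (nat_lit 2), (nat_lit 4), (nat_lit 2), (nat_lit 2), (nat_lit 1), (nat_lit 2), (nat_lit 4), (nat_lit 3), (nat_lit 1)], (nat_lit 4), (nat_lit 4), (nat_lit 0), (nat_lit 3)⟩) (BT.node (nat_lit 19) (BT.leaf ⟨[(nat_lit 1), (nat_lit 2), (nat_lit 4), (nat_lit 3), (nat_lit 1), (nat_lit 3), (nat_lit 3), (nat_lit 4), (nat_lit 3), (nat_lit 3)], (nat_lit 22), (nat_lit 6), (nat_lit 0), (nat_lit 3)⟩) (BT.leaf ⟨[(nat_lit 3), (nat_lit 3), (nat_lit 3), (nat_lit 3)], (nat_lit 19), (nat_lit 0), (nat_lit 0), (nat_lit 3)⟩)))))) (BT.node (nat_lit 30) (BT.node (nat_lit 25) (BT.node (nat_lit 22) (BT.node (nat_lit 21) (BT.leaf ⟨[(nat_lit 3), (nat_lit 1), (nat_lit 2), (nat_lit 4), (nat_lit 3), (nat_lit 1), (nat_lit 3), (nat_lit 3), (nat_lit 4), (nat_lit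 3)], (nat_lit 22), (nat_lit 5), (nat_lit 0), (nat_lit 3)⟩) (BT.leaf ⟨[(nat_lit 3), (nat_lit 3), (nat_lit 4), (nat_lit 3), (nat_lit 3), (nat_lit 1), (nat_lit 2), (nat_lit 4), (nat_lit 3), (nat_lit 1)], (nat_lit 22), (nat_lit 1), (nat_lit 0), (nat_lit 3)⟩)) (BT.node (nat_lit 23) (BT.leaf ⟨[(nat_lit 1), (nat_lit 2), (nat_lit 2), (nat_lit 4), (nat_lit 2), (nat_lit 2), (nat_lit 1), (nat_lit 2), (nat_lit 4), (nat_lit 3)], (nat_lit 4), (nat_lit 3), (nat_lit 0), (nat_lit 3)⟩) (BT.node (nat_lit 24) (BT.leaf ⟨[(nat_lit 2), (nat_lit 2), (nat_lit 1), (nat_lit 3), (nat_lit 1), (nat_lit 2), (nat_lit 1)], (nat_lit 2), (nat_lit 0), (nat_lit 0), (nat_lit 3)⟩) (BT.leaf ⟨[(nat_lit 1), (nat_lit 3), (nat_lit 1), (nat_lit 2), (nat_lit 1), (nat_lit 2), (nat_lit 2)], (nat_lit 2), (nat_lit 2), (nat_lit 0), (nat_lit 3)⟩)))) (BT.node (nat_lit 27) (BT.node (nat_lit 26) (BT.leaf ⟨[(nat_lit 3), (nat_lit 3), (nat_lit 1),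 (nat_lit 3), (nat_lit 1), (nat_lit 2), (nat_lit 1)], (nat_lit 20), (nat_lit 5), (nat_lit 0), (nat_lit 3)⟩) (BT.leaf ⟨[(nat_lit 2), (nat_lit 5), (nat_lit 4), (nat_lit 3), (nat_lit 5), (nat_lit 4), (nat_lit 3), (nat_lit 1), (nat_lit 4), (nat_lit 5), (nat_lit 2), (nat_lit 5), (nat_lit 4)], (nat_lit 10), (nat_lit 5), (nat_lit 0), (nat_lit 3)⟩)) (BT.node (nat_lit 28) (BT.leaf ⟨[(nat_lit 2), (nat_lit 5), (nat_lit 4), (nat_lit 2), (nat_lit 5), (nat_lit 4), (nat_lit 3), (nat_lit 5), (nat_lit 4), (nat_lit 3), (nat_lit 1), (nat_lit 4), (nat_lit 5)], (nat_lit 10), (nat_lit 2), (nat_lit 0), (nat_lit 3)⟩) (BT.node (nat_lit 29) (BT.leaf ⟨[(nat_lit 1), (nat_lit 2), (nat_lit 4), (nat_lit 5), (nat_lit 2), (nat_lit 4), (nat_lit 5), (nat_lit 3), (nat_lit 4), (nat_lit 5), (nat_lit 3), (nat_lit 5), (nat_lit 4)], (nat_lit 28), (nat_lit 0), (nat_lit 0), (nat_lit 3)⟩) (BT.leaf ⟨[(nat_lit 2), (nat_lit 2), (nat_lit 1),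 (nat_lit 2), (nat_lit 5), (nat_lit 2), (nat_lit 2), (nat_lit 1), (nat_lit 2), (nat_lit 5)], (nat_lit 8), (nat_lit 2), (nat_lit 0), (nat_lit 3)⟩))))) (BT.node (nat_lit 35) (BT.node (nat_lit 32) (BT.node (nat_lit 31) (BT.leaf ⟨[(nat_lit 2), (nat_lit 5), (nat_lit 2), (nat_lit 2), (nat_lit 1), (nat_lit 2), (nat_lit 5), (nat_lit 2), (nat_lit 2), (nat_lit 1)], (nat_lit 8), (nat_lit 0), (nat_lit 0), (nat_lit 3)⟩) (BT.leaf ⟨[(nat_lit 5), (nat_lit 3), (nat_lit 5), (nat_lit 2), (nat_lit 5), (nat_lit 1), (nat_lit 3), (nat_lit 5), (nat_lit 2), (nat_lit 1)], (nat_lit 9), (nat_lit 0), (nat_lit 0), (nat_lit 3)⟩)) (BT.node (nat_lit 33) (BT.leaf ⟨[(nat_lit 5), (nat_lit 4), (nat_lit 5), (nat_lit 4)], (nat_lit 7), (nat_lit 0), (nat_lit 0), (nat_lit 3)⟩) (BT.node (nat_lit 34) (BT.leaf ⟨[(nat_lit 5), (nat_lit 2), (nat_lit 5), (nat_lit 1), (nat_lit 3), (nat_lit 5), (nat_lit 2), (nat_lit 1), (nat_lit 5), (nat_lit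 3)], (nat_lit 9), (nat_lit 2), (nat_lit 0), (nat_lit 3)⟩) (BT.leaf ⟨[(nat_lit 2), (nat_lit 1), (nat_lit 2), (nat_lit 5), (nat_lit 2), (nat_lit 2), (nat_lit 1), (nat_lit 2), (nat_lit 5), (nat_lit 2)], (nat_lit 8), (nat_lit 3), (nat_lit 0), (nat_lit 3)⟩)))) (BT.node (nat_lit 38) (BT.node (nat_lit 36) (BT.leaf ⟨[(nat_lit 3), (nat_lit 5), (nat_lit 2), (nat_lit 5), (nat_lit 1), (nat_lit 3), (nat_lit 5), (nat_lit 2), (nat_lit 1), (nat_lit 5)], (nat_lit 9), (nat_lit 1), (nat_lit 0), (nat_lit 3)⟩) (BT.node (nat_lit 37) (BT.leaf ⟨[(nat_lit 4), (nat_lit 3), (nat_lit 4), (nat_lit 3), (nat_lit 4), (nat_lit 3), (nat_lit 1), (nat_lit 4), (nat_lit 2), (nat_lit 4), (nat_lit 2), (nat_lit 4), (nat_lit 2)], (nat_lit 5), (nat_lit 6), (nat_lit 0), (nat_lit 3)⟩) (BT.leaf ⟨[(nat_lit 4), (nat_lit 3), (nat_lit 4), (nat_lit 3), (nat_lit 1), (nat_lit 4), (nat_lit 2), (nat_lit 4), (nat_lit 2), (nat_lit 4), (nat_lit 2),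 (nat_lit 4), (nat_lit 3)], (nat_lit 5), (nat_lit 8), (nat_lit 0), (nat_lit 3)⟩))) (BT.node (nat_lit 39) (BT.leaf ⟨[(nat_lit 4), (nat_lit 3), (nat_lit 1), (nat_lit 4), (nat_lit 2), (nat_lit 4), (nat_lit 2), (nat_lit 4), (nat_lit 2), (nat_lit 4), (nat_lit 3), (nat_lit 4), (nat_lit 3)], (nat_lit 5), (nat_lit 10), (nat_lit 0), (nat_lit 3)⟩) (BT.node (nat_lit 40) (BT.leaf ⟨[(nat_lit 4), (nat_lit 2), (nat_lit 4), (nat_lit 2), (nat_lit 4), (nat_lit 2), (nat_lit 4), (nat_lit 3), (nat_lit 4), (nat_lit 3), (nat_lit 4), (nat_lit 3), (nat_lit 1)], (nat_lit 5), (nat_lit 0), (nat_lit 0), (nat_lit 3)⟩) (BT.leaf ⟨[(nat_lit 4), (nat_lit 2), (nat_lit 2), (nat_lit 1), (nat_lit 2), (nat_lit 4), (nat_lit 3), (nat_lit 1), (nat_lit 2), (nat_lit 2)], (nat_lit 4), (nat_lit 6), (nat_lit 0), (nat_lit 3)⟩))))))) (BT.node (nat_lit 62) (BT.node (nat_lit 51) (BT.node (nat_lit 46) (BT.node (nat_lit 43) (BT.node (nat_lit 42)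 (BT.leaf ⟨[(nat_lit 4), (nat_lit 3), (nat_lit 1), (nat_lit 2), (nat_lit 2), (nat_lit 4), (nat_lit 2), (nat_lit 2), (nat_lit 1), (nat_lit 2)], (nat_lit 4), (nat_lit 1), (nat_lit 0), (nat_lit 3)⟩) (BT.leaf ⟨[(nat_lit 2), (nat_lit 4), (nat_lit 3), (nat_lit 4), (nat_lit 3), (nat_lit 4), (nat_lit 3), (nat_lit 1), (nat_lit 4), (nat_lit 2), (nat_lit 4), (nat_lit 2), (nat_lit 4)], (nat_lit 5), (nat_lit 5), (nat_lit 0), (nat_lit 3)⟩)) (BT.node (nat_lit 44) (BT.leaf ⟨[(nat_lit 1), (nat_lit 4), (nat_lit 2), (nat_lit 4), (nat_lit 2), (nat_lit 4), (nat_lit 2), (nat_lit 4), (nat_lit 3), (nat_lit 4), (nat_lit 3), (nat_lit 4), (nat_lit 3)], (nat_lit 5), (nat_lit 12), (nat_lit 0), (nat_lit 3)⟩) (BT.node (nat_lit 45) (BT.leaf ⟨[(nat_lit 3), (nat_lit 4), (nat_lit 3), (nat_lit 1), (nat_lit 4), (nat_lit 2), (nat_lit 4), (nat_lit 2), (nat_lit 4), (nat_lit 2), (nat_lit 4), (nat_lit 3), (nat_lit 4)], (nat_lit 5), (nat_lit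 9), (nat_lit 0), (nat_lit 3)⟩) (BT.leaf ⟨[(nat_lit 3), (nat_lit 5), (nat_lit 4), (nat_lit 3), (nat_lit 1), (nat_lit 4), (nat_lit 5), (nat_lit 2), (nat_lit 5), (nat_lit 4), (nat_lit 2), (nat_lit 5), (nat_lit 4)], (nat_lit 10), (nat_lit 8), (nat_lit 0), (nat_lit 3)⟩)))) (BT.node (nat_lit 48) (BT.node (nat_lit 47) (BT.leaf ⟨[(nat_lit 3), (nat_lit 5), (nat_lit 4), (nat_lit 1), (nat_lit 2), (nat_lit 4), (nat_lit 5), (nat_lit 2), (nat_lit 4), (nat_lit 5), (nat_lit 3), (nat_lit 4), (nat_lit 5)], (nat_lit 28), (nat_lit 10), (nat_lit 0), (nat_lit 3)⟩) (BT.leaf ⟨[(nat_lit 2), (nat_lit 1), (nat_lit 3), (nat_lit 1), (nat_lit 2), (nat_lit 1), (nat_lit 2)], (nat_lit 2), (nat_lit 1), (nat_lit 0), (nat_lit 3)⟩)) (BT.node (nat_lit 49) (BT.leaf ⟨[(nat_lit 1), (nat_lit 2), (nat_lit 1), (nat_lit 2), (nat_lit 2), (nat_lit 1), (nat_lit 3)], (nat_lit 2), (nat_lit 4), (nat_lit 0), (nat_lit 3)⟩) (BT.node (nat_lit 50)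 (BT.leaf ⟨[(nat_lit 1), (nat_lit 3), (nat_lit 3), (nat_lit 5), (nat_lit 3), (nat_lit 1), (nat_lit 3), (nat_lit 3), (nat_lit 5), (nat_lit 3)], (nat_lit 26), (nat_lit 0), (nat_lit 0), (nat_lit 3)⟩) (BT.leaf ⟨[(nat_lit 2), (nat_lit 1), (nat_lit 2), (nat_lit 2), (nat_lit 1), (nat_lit 3), (nat_lit 1)], (nat_lit 2), (nat_lit 5), (nat_lit 0), (nat_lit 3)⟩))))) (BT.node (nat_lit 56) (BT.node (nat_lit 53) (BT.node (nat_lit 52) (BT.leaf ⟨[(nat_lit 1), (nat_lit 2), (nat_lit 4), (nat_lit 2), (nat_lit 4), (nat_lit 2), (nat_lit 4), (nat_lit 3), (nat_lit 4), (nat_lit 3), (nat_lit 4), (nat_lit 3), (nat_lit 4)], (nat_lit 23), (nat_lit 0), (nat_lit 0), (nat_lit 3)⟩) (BT.leaf ⟨[(nat_lit 3), (nat_lit 3), (nat_lit 1), (nat_lit 2), (nat_lit 4), (nat_lit 3), (nat_lit 1), (nat_lit 3), (nat_lit 3), (nat_lit 4)], (nat_lit 22), (nat_lit 4), (nat_lit 0), (nat_lit 3)⟩)) (BT.node (nat_lit 54) (BT.leaf ⟨[(nat_lit 5), (nat_lit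 4), (nat_lit 1), (nat_lit 2), (nat_lit 4), (nat_lit 5), (nat_lit 2), (nat_lit 4), (nat_lit 5), (nat_lit 3), (nat_lit 4), (nat_lit 5), (nat_lit 3)], (nat_lit 28), (nat_lit 11), (nat_lit 0), (nat_lit 3)⟩) (BT.node (nat_lit 55) (BT.leaf ⟨[(nat_lit 3), (nat_lit 1), (nat_lit 3), (nat_lit 3), (nat_lit 5), (nat_lit 3), (nat_lit 1), (nat_lit 3), (nat_lit 3), (nat_lit 5)], (nat_lit 26), (nat_lit 4), (nat_lit 0), (nat_lit 3)⟩) (BT.leaf ⟨[(nat_lit 1), (nat_lit 2), (nat_lit 1), (nat_lit 3), (nat_lit 3), (nat_lit 1), (nat_lit 3)], (nat_lit 20), (nat_lit 2), (nat_lit 0), (nat_lit 3)⟩)))) (BT.node (nat_lit 59) (BT.node (nat_lit 57) (BT.leaf ⟨[(nat_lit 1), (nat_lit 3), (nat_lit 3), (nat_lit 1), (nat_lit 3), (nat_lit 1), (nat_lit 2)], (nat_lit 20), (nat_lit 4), (nat_lit 0), (nat_lit 3)⟩) (BT.node (nat_lit 58) (BT.leaf ⟨[(nat_lit 4), (nat_lit 1), (nat_lit 2), (nat_lit 4), (nat_lit 2), (nat_lit 4), (nat_lit 2),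 (nat_lit 4), (nat_lit 3), (nat_lit 4), (nat_lit 3), (nat_lit 4), (nat_lit 3)], (nat_lit 23), (nat_lit 12), (nat_lit 0), (nat_lit 3)⟩) (BT.leaf ⟨[(nat_lit 3), (nat_lit 4), (nat_lit 3), (nat_lit 4), (nat_lit 3), (nat_lit 4), (nat_lit 1), (nat_lit 2), (nat_lit 4), (nat_lit 2), (nat_lit 4), (nat_lit 2), (nat_lit 4)], (nat_lit 23), (nat_lit 7), (nat_lit 0), (nat_lit 3)⟩))) (BT.node (nat_lit 60) (BT.leaf ⟨[(nat_lit 1), (nat_lit 3), (nat_lit 5), (nat_lit 2), (nat_lit 1), (nat_lit 5), (nat_lit 3), (nat_lit 5), (nat_lit 2), (nat_lit 5)], (nat_lit 9), (nat_lit 5), (nat_lit 0), (nat_lit 3)⟩) (BT.node (nat_lit 61) (BT.leaf ⟨[(nat_lit 3), (nat_lit 4), (nat_lit 3), (nat_lit 3), (nat_lit 1), (nat_lit 2), (nat_lit 4), (nat_lit 3), (nat_lit 1), (nat_lit 3)], (nat_lit 22), (nat_lit 2), (nat_lit 0), (nat_lit 3)⟩) (BT.leaf ⟨[(nat_lit 2), (nat_lit 4), (nat_lit 2), (nat_lit 2), (nat_lit 1), (nat_lit 2), (nat_lit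 4), (nat_lit 3), (nat_lit 1), (nat_lit 2)], (nat_lit 4), (nat_lit 5), (nat_lit 0), (nat_lit 3)⟩)))))) (BT.node (nat_lit 72) (BT.node (nat_lit 67) (BT.node (nat_lit 64) (BT.node (nat_lit 63) (BT.leaf ⟨[(nat_lit 2), (nat_lit 4), (nat_lit 3), (nat_lit 1), (nat_lit 2), (nat_lit 2), (nat_lit 4), (nat_lit 2), (nat_lit 2), (nat_lit 1)], (nat_lit 4), (nat_lit 0), (nat_lit 0), (nat_lit 3)⟩) (BT.leaf ⟨[(nat_lit 2), (nat_lit 1), (nat_lit 5), (nat_lit 3), (nat_lit 5), (nat_lit 2), (nat_lit 5), (nat_lit 1), (nat_lit 3), (nat_lit 5)], (nat_lit 9), (nat_lit 8), (nat_lit 0), (nat_lit 3)⟩)) (BT.node (nat_lit 65) (BT.leaf ⟨[(nat_lit 2), (nat_lit 4), (nat_lit 2), (nat_lit 4), (nat_lit 2), (nat_lit 4), (nat_lit 3), (nat_lit 4), (nat_lit 3), (nat_lit 4), (nat_lit 3), (nat_lit 1), (nat_lit 4)], (nat_lit 5), (nat_lit 1), (nat_lit 0), (nat_lit 3)⟩) (BT.node (nat_lit 66) (BT.leaf ⟨[(nat_lit 3), (nat_lit 1), (nat_lit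 2), (nat_lit 2), (nat_lit 4), (nat_lit 2), (nat_lit 2), (nat_lit 1), (nat_lit 2), (nat_lit 4)], (nat_lit 4), (nat_lit 2), (nat_lit 0), (nat_lit 3)⟩) (BT.leaf ⟨[(nat_lit 2), (nat_lit 4), (nat_lit 2), (nat_lit 4), (nat_lit 3), (nat_lit 4), (nat_lit 3), (nat_lit 4), (nat_lit 3), (nat_lit 1), (nat_lit 4), (nat_lit 2), (nat_lit 4)], (nat_lit 5), (nat_lit 3), (nat_lit 0), (nat_lit 3)⟩)))) (BT.node (nat_lit 69) (BT.node (nat_lit 68) (BT.leaf ⟨[(nat_lit 5), (nat_lit 3), (nat_lit 4), (nat_lit 2), (nat_lit 4), (nat_lit 2), (nat_lit 1), (nat_lit 2), (nat_lit 5), (nat_lit 3), (nat_lit 4), (nat_lit 2), (nat_lit 4), (nat_lit 2), (nat_lit 1), (nat_lit 2), (nat_lit 5), (nat_lit 3), (nat_lit 4), (nat_lit 2), (nat_lit 4), (nat_lit 2), (nat_lit 1), (nat_lit 2)], (nat_lit 11), (nat_lit 1), (nat_lit 0), (nat_lit 3)⟩) (BT.leaf ⟨[(nat_lit 5), (nat_lit 2), (nat_lit 5), (nat_lit 2), (nat_lit 1), (nat_lit 5), (nat_lit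 4), (nat_lit 2), (nat_lit 5), (nat_lit 2), (nat_lit 5), (nat_lit 2), (nat_lit 1), (nat_lit 5), (nat_lit 4), (nat_lit 2), (nat_lit 5), (nat_lit 2), (nat_lit 5), (nat_lit 2), (nat_lit 1), (nat_lit 5), (nat_lit 4), (nat_lit 2)], (nat_lit 12), (nat_lit 3), (nat_lit 0), (nat_lit 3)⟩)) (BT.node (nat_lit 70) (BT.leaf ⟨[(nat_lit 5), (nat_lit 1), (nat_lit 3), (nat_lit 5), (nat_lit 2), (nat_lit 1), (nat_lit 5), (nat_lit 3), (nat_lit 5), (nat_lit 2)], (nat_lit 9), (nat_lit 4), (nat_lit 0), (nat_lit 3)⟩) (BT.node (nat_lit 71) (BT.leaf ⟨[(nat_lit 5), (nat_lit 2), (nat_lit 2), (nat_lit 1), (nat_lit 2), (nat_lit 5), (nat_lit 2), (nat_lit 2), (nat_lit 1), (nat_lit 2)], (nat_lit 8), (nat_lit 1), (nat_lit 0), (nat_lit 3)⟩) (BT.leaf ⟨[(nat_lit 5), (nat_lit 3), (nat_lit 1), (nat_lit 3), (nat_lit 3), (nat_lit 5), (nat_lit 3), (nat_lit 1), (nat_lit 3), (nat_lit 3)], (nat_lit 26), (nat_lit 3), (nat_lit 0), (nat_lit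 3)⟩))))) (BT.node (nat_lit 77) (BT.node (nat_lit 74) (BT.node (nat_lit 73) (BT.leaf ⟨[(nat_lit 5), (nat_lit 2), (nat_lit 1), (nat_lit 5), (nat_lit 3), (nat_lit 5), (nat_lit 2), (nat_lit 5), (nat_lit 1), (nat_lit 3)], (nat_lit 9), (nat_lit 7), (nat_lit 0), (nat_lit 3)⟩) (BT.leaf ⟨[(nat_lit 4), (nat_lit 5), (nat_lit 2), (nat_lit 5), (nat_lit 4), (nat_lit 2), (nat_lit 5), (nat_lit 4), (nat_lit 3), (nat_lit 5), (nat_lit 4), (nat_lit 3), (nat_lit 1)], (nat_lit 10), (nat_lit 0), (nat_lit 0), (nat_lit 3)⟩)) (BT.node (nat_lit 75) (BT.leaf ⟨[(nat_lit 4), (nat_lit 2), (nat_lit 5), (nat_lit 4), (nat_lit 3), (nat_lit 5), (nat_lit 4), (nat_lit 3), (nat_lit 1), (nat_lit 4), (nat_lit 5), (nat_lit 2), (nat_lit 5)], (nat_lit 10), (nat_lit 4), (nat_lit 0), (nat_lit 3)⟩) (BT.node (nat_lit 76) (BT.leaf ⟨[(nat_lit 4), (nat_lit 1), (nat_lit 2), (nat_lit 4), (nat_lit 5), (nat_lit 2), (nat_lit 4), (nat_lit 5), (nat_lit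 3), (nat_lit 4), (nat_lit 5), (nat_lit 3), (nat_lit 5)], (nat_lit 28), (nat_lit 12), (nat_lit 0), (nat_lit 3)⟩) (BT.leaf ⟨[(nat_lit 4), (nat_lit 3), (nat_lit 3), (nat_lit 1), (nat_lit 2), (nat_lit 4), (nat_lit 3), (nat_lit 1), (nat_lit 3), (nat_lit 3)], (nat_lit 22), (nat_lit 3), (nat_lit 0), (nat_lit 3)⟩)))) (BT.node (nat_lit 80) (BT.node (nat_lit 78) (BT.leaf ⟨[(nat_lit 3), (nat_lit 5), (nat_lit 3), (nat_lit 1), (nat_lit 3), (nat_lit 3), (nat_lit 5), (nat_lit 3), (nat_lit 1), (nat_lit 3)], (nat_lit 26), (nat_lit 2), (nat_lit 0), (nat_lit 3)⟩) (BT.node (nat_lit 79) (BT.leaf ⟨[(nat_lit 4), (nat_lit 3), (nat_lit 1), (nat_lit 3), (nat_lit 3), (nat_lit 4), (nat_lit 3), (nat_lit 3), (nat_lit 1), (nat_lit 2)], (nat_lit 22), (nat_lit 8), (nat_lit 0), (nat_lit 3)⟩) (BT.leaf ⟨[(nat_lit 5), (nat_lit 2), (nat_lit 5), (nat_lit 4), (nat_lit 2), (nat_lit 5), (nat_lit 4), (nat_lit 3), (nat_lit 5), (nat_lit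 4), (nat_lit 3), (nat_lit 1), (nat_lit 4)], (nat_lit 10), (nat_lit 1), (nat_lit 0), (nat_lit 3)⟩))) (BT.node (nat_lit 81) (BT.leaf ⟨[(nat_lit 4), (nat_lit 5), (nat_lit 3), (nat_lit 4), (nat_lit 5), (nat_lit 3), (nat_lit 5), (nat_lit 4), (nat_lit 1), (nat_lit 2), (nat_lit 4), (nat_lit 5), (nat_lit 2)], (nat_lit 28), (nat_lit 5), (nat_lit 0), (nat_lit 3)⟩) (BT.node (nat_lit 82) (BT.leaf ⟨[(nat_lit 4), (nat_lit 3), (nat_lit 1), (nat_lit 4), (nat_lit 5), (nat_lit 2), (nat_lit 5), (nat_lit 4), (nat_lit 2), (nat_lit 5), (nat_lit 4), (nat_lit 3), (nat_lit 5)], (nat_lit 10), (nat_lit 10), (nat_lit 0), (nat_lit 3)⟩) (BT.leaf ⟨[(nat_lit 5), (nat_lit 4), (nat_lit 2), (nat_lit 5), (nat_lit 4), (nat_lit 3), (nat_lit 5), (nat_lit 4), (nat_lit 3), (nat_lit 1), (nat_lit 4), (nat_lit 5), (nat_lit 2)], (nat_lit 10), (nat_lit 3), (nat_lit 0), (nat_lit 3)⟩))))))))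
noncomputable def ep_2_hcs : List CW := [⟨[(nat_lit 4)], (nat_lit 0), (nat_lit 0), (nat_lit 0), (nat_lit 0)⟩, ⟨[(nat_lit 2)], (nat_lit 1), (nat_lit 0), (nat_lit 0), (nat_lit 0)⟩, ⟨[(nat_lit 1)], (nat_lit 2), (nat_lit 0), (nat_lit 0), (nat_lit 0)⟩, ⟨[(nat_lit 4)], (nat_lit 3), (nat_lit 0), (nat_lit 0), (nat_lit 0)⟩, ⟨[(nat_lit 3)], (nat_lit 4), (nat_lit 0), (nat_lit 0), (nat_lit 0)⟩, ⟨[(nat_lit 1)], (nat_lit 5), (nat_lit 0), (nat_lit 0), (nat_lit 0)⟩]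
noncomputable def ep_2_H (x j : Nat) : Bx (Nat → Nat → Nat) := mkH ep_2_L ep_2_pb.1 ep_2_e.get (lmap CW.w ep_2_hcs) (nat_lit 175) (nat_lit 176) (nat_lit 6) (nat_lit 256) (nat_lit 32768) (nat_lit 16383) x (ep_2_rots.get j)
noncomputable def ep_2_F (x b : Nat) : Bool := blkOK ep_2_H ep_2_ch (nat_lit 176) (nat_lit 256) (nat_lit 128) (nat_lit 8) (nat_lit 255) (nat_lit 21) (nat_lit 2097151) x b

theorem ep_2_k0_0 : allFrom (ep_2_F (nat_lit 0)) (nat_lit 0) (nat_lit 4) = true := by decide +kernel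
theorem ep_2_k1_0 : allFrom (ep_2_F (nat_lit 1)) (nat_lit 0) (nat_lit 4) = true := by decide +kernel
theorem ep_2_k2_0 : allFrom (ep_2_F (nat_lit 2)) (nat_lit 0) (nat_lit 4) = true := by decide +kernel
theorem ep_2_k3_0 : allFrom (ep_2_F (nat_lit 3)) (nat_lit 0) (nat_lit 4) = true := by decide +kernel
theorem ep_2_k4_0 : allFrom (ep_2_F (nat_lit 4)) (nat_lit 0) (nat_lit 4) = true := by decide +kernel
theorem ep_2_k5_0 : allFrom (ep_2_F (nat_lit 5)) (nat_lit 0) (nat_lit 4) = true := by decide +kernel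

noncomputable def ep_3_c0 : BT (Bx Nat) := (BT.leaf (Bx.mk (nat_lit 0x0)))
noncomputable def ep_3_c1 : BT (Bx Nat) := (BT.leaf (Bx.mk (nat_lit 0x207acc8ccf065ab860f4c29db059c559a96ab2713a1079a483bf0e76b4b0f10087a12c3cb48968823348619876c3bc621ebf10f5219a9c44ecd86aaa0c8eec507972c8cc18428ce0f14b875b7082b565a0290ea091d90652c7ee1d2c40ec1b874a623bd9e425564ab4625a52c3d016957860ecc2c467988231a1d1460e8950792bcd3fa75e9f04c7a3873c5c3c5e665a770e70e1a9f312ab961e6484ab069659183b65058dd50e6d087682e235c4412652c663c473283b7b21d3320ef511070103c20e5a14a0ea5b8729c8b31e269890cac22a58ddc393141e1b70e4ae383a6224a2a1e24c0ee8387752c3bbb61e4cf0e8fa222adc3909641974687d52a91dc38fee1c79d4a9ad196ae00c770063210edc98739412aaca1e0ce4d0439181d0e916e1c68e0e6b7a52ddc38c661d46f0efa4167cdc38bb61d7143491c01799c3b92c41c4f7083b8714903b6a81cbb43a37b8713b43902b5ccae0e80e871d5438e661d53802c9a11283880cf0057f802bb290166038ae61d0f802a77162fe00a7f00539e4a58b1a2bcc398f00508d0e4fc013fe009dc81c9192c47c0134e0098664033146179070ad0384e28c233340f90712c0388e668435201f8070ec8386ec481370e07a8706e0082ea400b8060200000)))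
noncomputable def ep_3_c2 : BT (Bx Nat) := (BT.leaf (Bx.mk (nat_lit 0x361acd854f6e1a688c1603069c60fd59a1a2ef0d52606a82c34fab7e98b0d26206a1243414c29c32615db866bdc333ee198b8035e473ad4b04d861a9370cbc53e663c54b6e1960ea114d2869334bf5019baa0d229df90dc32664296cb0ca4886796c34af006a90151973992dc3229c55d490cde2868030353901a1460cc153b72cc3282c19d32147a6e2446a1bdec28e579e8fb8637303399b3280d150fc01a5dc31aba195903f2fb8633e00d1ce191b803445157c3031b3b01ab70c56f866874a41922a6560c7990630ccab1f006751c8c3b8627c83177006631489cd868fdc311e6a23a20c92b06711c340881a1380329b0a22c43326e1880c0d1ba9f7dc83136684ede1448e063adc30e28292210cf0ac54be00c4f006238030c48a2fd850de4194ce0ccb78a5dc830fc0f9df802fe78619c0fa034197370c2bc017a9caacf005d8d0c7da1c2a9ca36a890636142990642e00b66e184730cbef951d6452aee18434366998a123032bee183b30c9f1152ce00ad6e1837802a9c0151dc305e618ff8029bc014adc30570050f80283b86084c3194a185b80271b8607e0098e850278025bc0129e009470049780243a860ce008f70046b50c1fc0117e0089ec281340c0bb8602e008370040f8060200000)))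
noncomputable def ep_3_c3 : BT (Bx Nat) := (BT.leaf (Bx.mk (nat_lit 0x385addc2cee2168470b38285b05c2d5ee162b027526cda837441a8169b70ae82209adc2b7ee15b4553486057631053ea16bf70ac43d5ac442cdf006b880acdb855e3c2b89c165dc8d17b8555328d2da1622b532290590720ae641568dd4a2785893a8d51a165770a8fb8546302baee1514941042a056702b395468c8baae36f84dc29e96164f40aa04856c642bdee14e122719120497c29f6e14d8d0b0cbd57e3503bd21601752b1285a228742d2f24a60a67b852fe00d03815a990b2901368e00cf921660f408392053c82b1f0067900ac23a081d0f16f00666e0a80da03ac42c76e148e60a6fc019637513bc3dc980a57b8521cc9a118823770a41a0d7fd0f12e0157770a3bc018f502a46e147231cb29854a582bcd081bb8030e6057cdc28d664cc370a337853bd0f0f1db4d710afabd365c82a73aa53350af5b8515e00bc1b2daf802e798529e00b8284c5f70a2799364202a266817f70a2308524e00b4e614d370a21b850fe00b066813f70a1ce854de00adea155370a1bc0152cd01fee142de0a59c014bd42a1ee14290cc7898532dc2844cf05b80273a8531dc283e414a38025dc012ad8704f0049b80245b0f0ce008ff0046f30a25c0118e008a6e140f5260ba8506dc28170041370a0200000)))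
noncomputable def ep_3_c4 : BT (Bx Nat) := (BT.leaf (Bx.mk (nat_lit 0x1b88a30c44f875aab71133b8896405d58422b85a94bb8887d85beee21d84115248b98e00d80959fc3112e50b9a12d578621e04171040b63d85b11222838035a408a4105d0f006b0916dcb5673285c5922e4481125b884d473c792212f710945086024449942124ca8b41889de00d40821c06d68db0b45245b3082d9f71084508500c4516c2cf75114fb883b2ad2b1421a5410702529e32921f00698b166fb0b365444a0e2d60510b22d2861ad19902254510d62d25b1a936a220bcb16f43f15e0c44110220f71052108521c44e6a226f710505eb8c3692f8c21a1310a898b2710436162224616e230872dc4111221ed61062a5a5d48424062d909109e58b802b5a89d693b80320a88202ae47700634be1149d253dc40d8a221751109b881a2c43bf006046106888b404059f99b87f510fdb8817e00be262c6571042adb792843aea21d3710283eb4114437ee204d716aaa082e485b52b60c11a45a9d212d8588a94897802cbc01614842e1f6499310549880fd858770055d89c72b634c2c41f1d487951619b0b0be00a3f005112107495e18e009e26202761611c0135e00992420b351057b8806529126a208f7100aa081dd440e6e20114b42da8815dc401f004438021bc010ae0083af500b8060200000)))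
noncomputable def ep_3_c5 : BT (Bx Nat) := (BT.leaf (Bx.mk (nat_lit 0x389a6713cf905ea8a9558489addc4c78e26bb7131074a8ddc4be112ac0b133bb89732463b42328b712d870c8c6c4d7be25e0c934a40990dc4b0ee2580a132c52b94dc4ad965e67618ac48998404c56e25477129e48c9ce00d59e3238d1350689a0d8624a2324ce56f5c01a9384a55a3218312c9b8944244b2ee2508412cfb0c3ea163fee24f371277c01a7644b71a2624e12710279ed861b90268cb1287b8935e00d20e255f7126870c70344b5b431ece1267c01a138637ec30b0f58b480c6814640ee24a4a190620c85a84a6ee24a380337c019ab93afda317ae2ebbb0c24e00cb9c25a5e1283b8922206396a2657712427c9544a523ecd51b80325b891fe00c8e6247ab18c7b0c1d416259e621f51317b891b444a9ea254b71235c01843063af00609f7eb3b8918b4b96ea26037122fc017ee00beec3059b846279779d44bbee2453802e9c01713c6369f28b9a127282713d86091c24cac127fa896adc4882308ab802cdc0162d8607ea609ae564ba895cdc486f00563802abb0c0ce00a8685d3b51299b890ae00a470051761813c0140e009eea24eb7120fc01363c4986a24bf7120dc012bd4493ee241780247a8920dc48270047351233b8903e008af004478021dc010be00846c300b8060200000)))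
noncomputable def ep_3_c6 : BT (Bx Nat) := (BT.leaf (Bx.mk (nat_lit 0x204ad7c24f8cbab855b60184a64575598caaac09104ae9a2c24888bab0b093a52ea42424cc6d9ff15d437b78781ed7c2e9e0c654bb84612b9481012a0a654642e984974b9811db708ab02d94dc229e8b9f4c654e4849b49b47a6112c908c08b24adc2246e111ce08f56ada9b82505c1177708882b664dc22116c994690cdb843d882511a1143309245ae4fdc21c9ef625064f30049edc21b1ab65b7086a6c8432e439ee10d09d8af18454dc2196e10c77086192d6cdc2176e10ad208b5b842adc2148a1204a090420484dc21458e9378033856c8dbc2136e1096f6d0db84234e42da6f5a770844f2e4120238ee10878032b22f70e00c9e811174087672e7e2823e64b93ab08c5b841c5244720123370837c018be00c56e106b55ca5c01853023a70060dd08b168418b5996ee105f803007b61fd58a8ee1057802f693a38dc20a7005df802ebc0172dc209f005bf802ddc016ddc208f005aec087fb8410e00b57005a3802cfc0163dc20760bd7f802bdb840de00ae700567802adb840b3821e6cb47b70815c014ce00a4f0051b7081173240e009f6e101f80275c0137e0099ee101b8025fc012cdc202f0049f80249b8404e009070047770807c0119e008b70044b8021fc010ce0084ee10078020400000)))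
noncomputable def ep_3_p : BT (Bx Nat) := (BT.leaf (Bx.mk (nat_lit 0x228c489d0a268389912258478f15e28278815e1c477c15dd8477409dcc576f09db4276c15dac37670dd88376209d84676115d80575e0dd78275b15d60375519d54275319944564f15934464c0d92c164a1192816481991c66470991826450d9142644199105642199085642118f4663d098f0563b158ec4639198e02638058dc3636198d82635198d456350d8d06634158cc3632198c46630198bc262e198ac662b0d8a86629198a45629118a41628198a056281189c36260589466250588c66230d88c26221988856221188466211588426210548035200947c551f05478151d09470651c0d470251b1946c551b11468651a15468451a0946815190946055180545c65171545c45170545465150d45425141945055141145015131944c45130944c15111944435110944065101544035100943c250e19438350e09434650d15434350d0902c640b0d02c240a19028540a0d02824081902034080901c64071501c340709018640615018440519014540510c10630414c10430318c0c530310c0c2303048083202084046000000000)))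
noncomputable def ep_3_e0 : BT Nat := (BT.node (nat_lit 68) (BT.node (nat_lit 66) (BT.leaf (nat_lit 786434)) (BT.leaf (nat_lit 524290))) (BT.node (nat_lit 69) (BT.leaf (nat_lit 262146)) (BT.leaf (nat_lit 2))))
noncomputable def ep_3_e : BT Nat := ep_3_e0
noncomputable def ep_3_cols : List (BT (Bx Nat)) := [ep_3_c0, ep_3_c1, ep_3_c2, ep_3_c3, ep_3_c4, ep_3_c5, ep_3_c6]
noncomputable def ep_3_ch (x j : Nat) : Bx Nat := chunkG ep_3_cols (nat_lit 1) x j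
noncomputable def ep_3_L (x : Nat) : Bx (Nat → Nat) := lookG ep_3_ch (nat_lit 8) (nat_lit 255) (nat_lit 21) (nat_lit 2097151) x
noncomputable def ep_3_pc (_ j : Nat) : Bx Nat := ep_3_p.get j
noncomputable def ep_3_pb : Bx (Nat → Nat) := lookG ep_3_pc (nat_lit 8) (nat_lit 255) (nat_lit 18) (nat_lit 262143) (nat_lit 0)
noncomputable def ep_3_rots : BT CW := (BT.node (nat_lit 57) (BT.node (nat_lit 28) (BT.node (nat_lit 14) (BT.node (nat_lit 7) (BT.node (nat_lit 3) (BT.node (nat_lit 1) (BT.leaf ⟨[], (nat_lit 1000000), (nat_lit 0), (nat_lit 0), (nat_lit 0)⟩) (BT.node (nat_lit 2) (BT.leaf ⟨[], (nat_lit 1000000), (nat_lit 0), (nat_lit 0), (nat_lit 1)⟩) (BT.leaf ⟨[], (nat_lit 1000000), (nat_lit 0), (nat_lit 0), (nat_lit 2)⟩))) (BT.node (nat_lit 5) (BT.node (nat_lit 4) (BT.leaf ⟨[(nat_lit 6), (nat_lit 6)], (nat_lit 13), (nat_lit 0), (nat_lit 0), (nat_lit 3)⟩) (BT.leaf ⟨[(nat_lit 3), (nat_lit 2)], (nat_lit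 24), (nat_lit 1), (nat_lit 0), (nat_lit 3)⟩)) (BT.node (nat_lit 6) (BT.leaf ⟨[(nat_lit 2), (nat_lit 3)], (nat_lit 24), (nat_lit 0), (nat_lit 0), (nat_lit 3)⟩) (BT.leaf ⟨[(nat_lit 1), (nat_lit 1)], (nat_lit 0), (nat_lit 0), (nat_lit 0), (nat_lit 3)⟩)))) (BT.node (nat_lit 10) (BT.node (nat_lit 8) (BT.leaf ⟨[(nat_lit 4), (nat_lit 4)], (nat_lit 3), (nat_lit 0), (nat_lit 0), (nat_lit 3)⟩) (BT.node (nat_lit 9) (BT.leaf ⟨[(nat_lit 5), (nat_lit 5)], (nat_lit 6), (nat_lit 0), (nat_lit 0), (nat_lit 3)⟩) (BT.leaf ⟨[(nat_lit 2), (nat_lit 2), (nat_lit 2), (nat_lit 2)], (nat_lit 1), (nat_lit 0), (nat_lit 0), (nat_lit 3)⟩))) (BT.node (nat_lit 12) (BT.node (nat_lit 11) (BT.leaf ⟨[(nat_lit 4), (nat_lit 5), (nat_lit 4), (nat_lit 5)], (nat_lit 7), (nat_lit 1), (nat_lit 0), (nat_lit 3)⟩) (BT.leaf ⟨[(nat_lit 5), (nat_lit 6), (nat_lit 5), (nat_lit 6)], (nat_lit 14), (nat_lit 1), (nat_lit 0), (nat_lit 3)⟩)) (BT.node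 (nat_lit 13) (BT.leaf ⟨[(nat_lit 3), (nat_lit 3), (nat_lit 5), (nat_lit 3), (nat_lit 5), (nat_lit 2), (nat_lit 2), (nat_lit 6), (nat_lit 5), (nat_lit 6), (nat_lit 3), (nat_lit 5)], (nat_lit 43), (nat_lit 0), (nat_lit 0), (nat_lit 3)⟩) (BT.leaf ⟨[(nat_lit 3), (nat_lit 6), (nat_lit 3), (nat_lit 6), (nat_lit 2), (nat_lit 6), (nat_lit 2), (nat_lit 1), (nat_lit 6)], (nat_lit 15), (nat_lit 1), (nat_lit 0), (nat_lit 3)⟩))))) (BT.node (nat_lit 21) (BT.node (nat_lit 17) (BT.node (nat_lit 15) (BT.leaf ⟨[(nat_lit 3), (nat_lit 6), (nat_lit 2), (nat_lit 6), (nat_lit 2), (nat_lit 1), (nat_lit 6), (nat_lit 3), (nat_lit 6)], (nat_lit 15), (nat_lit 3), (nat_lit 0), (nat_lit 3)⟩) (BT.node (nat_lit 16) (BT.leaf ⟨[(nat_lit 1), (nat_lit 3), (nat_lit 6), (nat_lit 3), (nat_lit 6), (nat_lit 2), (nat_lit 6), (nat_lit 2), (nat_lit 6)], (nat_lit 41), (nat_lit 0), (nat_lit 0), (nat_lit 3)⟩) (BT.leaf ⟨[(nat_lit 1), (nat_lit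 3), (nat_lit 3), (nat_lit 1), (nat_lit 3), (nat_lit 1), (nat_lit 2)], (nat_lit 28), (nat_lit 4), (nat_lit 0), (nat_lit 3)⟩))) (BT.node (nat_lit 19) (BT.node (nat_lit 18) (BT.leaf ⟨[(nat_lit 1), (nat_lit 2), (nat_lit 6), (nat_lit 2), (nat_lit 2), (nat_lit 1), (nat_lit 2), (nat_lit 6), (nat_lit 2), (nat_lit 2)], (nat_lit 16), (nat_lit 4), (nat_lit 0), (nat_lit 3)⟩) (BT.leaf ⟨[(nat_lit 3), (nat_lit 1), (nat_lit 2), (nat_lit 1), (nat_lit 2), (nat_lit 2), (nat_lit 1)], (nat_lit 2), (nat_lit 3), (nat_lit 0), (nat_lit 3)⟩)) (BT.node (nat_lit 20) (BT.leaf ⟨[(nat_lit 2), (nat_lit 6), (nat_lit 2), (nat_lit 1), (nat_lit 6), (nat_lit 3), (nat_lit 6), (nat_lit 3), (nat_lit 6)], (nat_lit 15), (nat_lit 5), (nat_lit 0), (nat_lit 3)⟩) (BT.leaf ⟨[(nat_lit 2), (nat_lit 6), (nat_lit 1), (nat_lit 3), (nat_lit 6), (nat_lit 3), (nat_lit 6), (nat_lit 2), (nat_lit 6)], (nat_lit 41), (nat_lit 7), (nat_lit 0), (nat_lit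 3)⟩)))) (BT.node (nat_lit 24) (BT.node (nat_lit 22) (BT.leaf ⟨[(nat_lit 1), (nat_lit 6), (nat_lit 3), (nat_lit 6), (nat_lit 3), (nat_lit 6), (nat_lit 2), (nat_lit 6), (nat_lit 2)], (nat_lit 15), (nat_lit 8), (nat_lit 0), (nat_lit 3)⟩) (BT.node (nat_lit 23) (BT.leaf ⟨[(nat_lit 5), (nat_lit 1), (nat_lit 3), (nat_lit 5), (nat_lit 2), (nat_lit 1), (nat_lit 5), (nat_lit 3), (nat_lit 5), (nat_lit 2)], (nat_lit 9), (nat_lit 4), (nat_lit 0), (nat_lit 3)⟩) (BT.leaf ⟨[(nat_lit 5), (nat_lit 2), (nat_lit 5), (nat_lit 1), (nat_lit 3), (nat_lit 5), (nat_lit 2), (nat_lit 1), (nat_lit 5), (nat_lit 3)], (nat_lit 9), (nat_lit 2), (nat_lit 0), (nat_lit 3)⟩))) (BT.node (nat_lit 26) (BT.node (nat_lit 25) (BT.leaf ⟨[(nat_lit 1), (nat_lit 2), (nat_lit 5), (nat_lit 2), (nat_lit 2), (nat_lit 1), (nat_lit 2), (nat_lit 5), (nat_lit 2), (nat_lit 2)], (nat_lit 8), (nat_lit 4), (nat_lit 0), (nat_lit 3)⟩) (BT.leaf ⟨[(nat_lit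 1), (nat_lit 2), (nat_lit 2), (nat_lit 1), (nat_lit 3), (nat_lit 1), (nat_lit 2)], (nat_lit 2), (nat_lit 6), (nat_lit 0), (nat_lit 3)⟩)) (BT.node (nat_lit 27) (BT.leaf ⟨[(nat_lit 2), (nat_lit 1), (nat_lit 2), (nat_lit 4), (nat_lit 3), (nat_lit 1), (nat_lit 2), (nat_lit 2), (nat_lit 4), (nat_lit 2)], (nat_lit 4), (nat_lit 8), (nat_lit 0), (nat_lit 3)⟩) (BT.leaf ⟨[(nat_lit 2), (nat_lit 2), (nat_lit 4), (nat_lit 2), (nat_lit 2), (nat_lit 1), (nat_lit 2), (nat_lit 4), (nat_lit 3), (nat_lit 1)], (nat_lit 4), (nat_lit 4), (nat_lit 0), (nat_lit 3)⟩)))))) (BT.node (nat_lit 42) (BT.node (nat_lit 35) (BT.node (nat_lit 31) (BT.node (nat_lit 29) (BT.leaf ⟨[(nat_lit 1), (nat_lit 2), (nat_lit 4), (nat_lit 3), (nat_lit 1), (nat_lit 2), (nat_lit 2), (nat_lit 4), (nat_lit 2), (nat_lit 2)], (nat_lit 4), (nat_lit 9), (nat_lit 0), (nat_lit 3)⟩) (BT.node (nat_lit 30) (BT.leaf ⟨[(nat_lit 3), (nat_lit 3), (nat_lit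 5), (nat_lit 3), (nat_lit 1), (nat_lit 3), (nat_lit 3), (nat_lit 5), (nat_lit 3), (nat_lit 1)], (nat_lit 34), (nat_lit 1), (nat_lit 0), (nat_lit 3)⟩) (BT.leaf ⟨[(nat_lit 2), (nat_lit 5), (nat_lit 1), (nat_lit 3), (nat_lit 5), (nat_lit 2), (nat_lit 1), (nat_lit 5), (nat_lit 3), (nat_lit 5)], (nat_lit 9), (nat_lit 3), (nat_lit 0), (nat_lit 3)⟩))) (BT.node (nat_lit 33) (BT.node (nat_lit 32) (BT.leaf ⟨[(nat_lit 3), (nat_lit 3), (nat_lit 3), (nat_lit 3)], (nat_lit 27), (nat_lit 0), (nat_lit 0), (nat_lit 3)⟩) (BT.leaf ⟨[(nat_lit 2), (nat_lit 1), (nat_lit 3), (nat_lit 3), (nat_lit 1), (nat_lit 3), (nat_lit 1)], (nat_lit 28), (nat_lit 3), (nat_lit 0), (nat_lit 3)⟩)) (BT.node (nat_lit 34) (BT.leaf ⟨[(nat_lit 1), (nat_lit 2), (nat_lit 4), (nat_lit 3), (nat_lit 1), (nat_lit 3), (nat_lit 3), (nat_lit 4), (nat_lit 3), (nat_lit 3)], (nat_lit 30), (nat_lit 6), (nat_lit 0), (nat_lit 3)⟩) (BT.leaf ⟨[(nat_lit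 1), (nat_lit 3), (nat_lit 1), (nat_lit 2), (nat_lit 1), (nat_lit 3), (nat_lit 3)], (nat_lit 28), (nat_lit 0), (nat_lit 0), (nat_lit 3)⟩)))) (BT.node (nat_lit 38) (BT.node (nat_lit 36) (BT.leaf ⟨[(nat_lit 2), (nat_lit 1), (nat_lit 2), (nat_lit 2), (nat_lit 1), (nat_lit 3), (nat_lit 1)], (nat_lit 2), (nat_lit 5), (nat_lit 0), (nat_lit 3)⟩) (BT.node (nat_lit 37) (BT.leaf ⟨[(nat_lit 1), (nat_lit 3), (nat_lit 1), (nat_lit 2), (nat_lit 1), (nat_lit 2), (nat_lit 2)], (nat_lit 2), (nat_lit 2), (nat_lit 0), (nat_lit 3)⟩) (BT.leaf ⟨[(nat_lit 1), (nat_lit 5), (nat_lit 3), (nat_lit 5), (nat_lit 2), (nat_lit 5), (nat_lit 1), (nat_lit 3), (nat_lit 5), (nat_lit 2)], (nat_lit 9), (nat_lit 9), (nat_lit 0), (nat_lit 3)⟩))) (BT.node (nat_lit 40) (BT.node (nat_lit 39) (BT.leaf ⟨[(nat_lit 5), (nat_lit 2), (nat_lit 2), (nat_lit 1), (nat_lit 2), (nat_lit 5), (nat_lit 2), (nat_lit 2), (nat_lit 1), (nat_lit 2)], (nat_lit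 8), (nat_lit 1), (nat_lit 0), (nat_lit 3)⟩) (BT.leaf ⟨[(nat_lit 2), (nat_lit 1), (nat_lit 2), (nat_lit 5), (nat_lit 2), (nat_lit 2), (nat_lit 1), (nat_lit 2), (nat_lit 5), (nat_lit 2)], (nat_lit 8), (nat_lit 3), (nat_lit 0), (nat_lit 3)⟩)) (BT.node (nat_lit 41) (BT.leaf ⟨[(nat_lit 3), (nat_lit 5), (nat_lit 2), (nat_lit 5), (nat_lit 1), (nat_lit 3), (nat_lit 5), (nat_lit 2), (nat_lit 1), (nat_lit 5)], (nat_lit 9), (nat_lit 1), (nat_lit 0), (nat_lit 3)⟩) (BT.leaf ⟨[(nat_lit 1), (nat_lit 3), (nat_lit 3), (nat_lit 5), (nat_lit 3), (nat_lit 1), (nat_lit 3), (nat_lit 3), (nat_lit 5), (nat_lit 3)], (nat_lit 34), (nat_lit 0), (nat_lit 0), (nat_lit 3)⟩))))) (BT.node (nat_lit 49) (BT.node (nat_lit 45) (BT.node (nat_lit 43) (BT.leaf ⟨[(nat_lit 5), (nat_lit 3), (nat_lit 5), (nat_lit 2), (nat_lit 5), (nat_lit 1), (nat_lit 3), (nat_lit 5), (nat_lit 2), (nat_lit 1)], (nat_lit 9), (nat_lit 0), (nat_lit 0),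 (nat_lit 3)⟩) (BT.node (nat_lit 44) (BT.leaf ⟨[(nat_lit 5), (nat_lit 2), (nat_lit 1), (nat_lit 5), (nat_lit 3), (nat_lit 5), (nat_lit 2), (nat_lit 5), (nat_lit 1), (nat_lit 3)], (nat_lit 9), (nat_lit 7), (nat_lit 0), (nat_lit 3)⟩) (BT.leaf ⟨[(nat_lit 6), (nat_lit 3), (nat_lit 5), (nat_lit 2), (nat_lit 6), (nat_lit 3), (nat_lit 5), (nat_lit 2), (nat_lit 6), (nat_lit 3), (nat_lit 5), (nat_lit 2)], (nat_lit 18), (nat_lit 0), (nat_lit 0), (nat_lit 3)⟩))) (BT.node (nat_lit 47) (BT.node (nat_lit 46) (BT.leaf ⟨[(nat_lit 6), (nat_lit 5), (nat_lit 6), (nat_lit 5)], (nat_lit 14), (nat_lit 0), (nat_lit 0), (nat_lit 3)⟩) (BT.leaf ⟨[(nat_lit 6), (nat_lit 2), (nat_lit 2), (nat_lit 1), (nat_lit 2), (nat_lit 6), (nat_lit 2), (nat_lit 2), (nat_lit 1), (nat_lit 2)], (nat_lit 16), (nat_lit 1), (nat_lit 0), (nat_lit 3)⟩)) (BT.node (nat_lit 48) (BT.leaf ⟨[(nat_lit 2), (nat_lit 2), (nat_lit 5), (nat_lit 2), (nat_lit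 6), (nat_lit 5), (nat_lit 6), (nat_lit 3), (nat_lit 3), (nat_lit 5), (nat_lit 2), (nat_lit 5)], (nat_lit 17), (nat_lit 10), (nat_lit 0), (nat_lit 3)⟩) (BT.leaf ⟨[(nat_lit 6), (nat_lit 3), (nat_lit 5), (nat_lit 3), (nat_lit 6), (nat_lit 2), (nat_lit 6), (nat_lit 5), (nat_lit 3), (nat_lit 6), (nat_lit 2), (nat_lit 5), (nat_lit 2), (nat_lit 1)], (nat_lit 19), (nat_lit 0), (nat_lit 0), (nat_lit 3)⟩)))) (BT.node (nat_lit 53) (BT.node (nat_lit 51) (BT.node (nat_lit 50) (BT.leaf ⟨[(nat_lit 6), (nat_lit 3), (nat_lit 6), (nat_lit 3), (nat_lit 6), (nat_lit 2), (nat_lit 6), (nat_lit 2), (nat_lit 1)], (nat_lit 15), (nat_lit 0), (nat_lit 0), (nat_lit 3)⟩) (BT.leaf ⟨[(nat_lit 6), (nat_lit 1), (nat_lit 3), (nat_lit 6), (nat_lit 3), (nat_lit 6), (nat_lit 2), (nat_lit 6), (nat_lit 2)], (nat_lit 41), (nat_lit 8), (nat_lit 0), (nat_lit 3)⟩)) (BT.node (nat_lit 52) (BT.leaf ⟨[(nat_lit 1), (nat_lit 6), (nat_lit 3),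 (nat_lit 5), (nat_lit 3), (nat_lit 6), (nat_lit 2), (nat_lit 6), (nat_lit 5), (nat_lit 3), (nat_lit 6), (nat_lit 2), (nat_lit 5), (nat_lit 2)], (nat_lit 19), (nat_lit 13), (nat_lit 0), (nat_lit 3)⟩) (BT.leaf ⟨[(nat_lit 5), (nat_lit 6), (nat_lit 3), (nat_lit 4), (nat_lit 2), (nat_lit 6), (nat_lit 2), (nat_lit 1), (nat_lit 2), (nat_lit 4), (nat_lit 2), (nat_lit 4), (nat_lit 2), (nat_lit 1), (nat_lit 4), (nat_lit 5), (nat_lit 2), (nat_lit 4), (nat_lit 3), (nat_lit 5), (nat_lit 6), (nat_lit 3), (nat_lit 5), (nat_lit 6), (nat_lit 3)], (nat_lit 20), (nat_lit 19), (nat_lit 0), (nat_lit 3)⟩))) (BT.node (nat_lit 55) (BT.node (nat_lit 54) (BT.leaf ⟨[(nat_lit 6), (nat_lit 3), (nat_lit 6), (nat_lit 2), (nat_lit 6), (nat_lit 2), (nat_lit 1), (nat_lit 6), (nat_lit 3)], (nat_lit 15), (nat_lit 2), (nat_lit 0), (nat_lit 3)⟩) (BT.leaf ⟨[(nat_lit 6), (nat_lit 2), (nat_lit 6), (nat_lit 2), (nat_lit 6), (nat_lit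 1), (nat_lit 3), (nat_lit 6), (nat_lit 3)], (nat_lit 41), (nat_lit 4), (nat_lit 0), (nat_lit 3)⟩)) (BT.node (nat_lit 56) (BT.leaf ⟨[(nat_lit 1), (nat_lit 3), (nat_lit 5), (nat_lit 2), (nat_lit 1), (nat_lit 5), (nat_lit 3), (nat_lit 5), (nat_lit 2), (nat_lit 5)], (nat_lit 9), (nat_lit 5), (nat_lit 0), (nat_lit 3)⟩) (BT.leaf ⟨[(nat_lit 2), (nat_lit 6), (nat_lit 5), (nat_lit 6), (nat_lit 3), (nat_lit 3), (nat_lit 5), (nat_lit 2), (nat_lit 5), (nat_lit 2), (nat_lit 2), (nat_lit 5)], (nat_lit 17), (nat_lit 1), (nat_lit 0), (nat_lit 3)⟩))))))) (BT.node (nat_lit 86) (BT.node (nat_lit 71) (BT.node (nat_lit 64) (BT.node (nat_lit 60) (BT.node (nat_lit 58) (BT.leaf ⟨[(nat_lit 6), (nat_lit 3), (nat_lit 6), (nat_lit 2), (nat_lit 6), (nat_lit 2), (nat_lit 6), (nat_lit 1), (nat_lit 3)], (nat_lit 41), (nat_lit 2), (nat_lit 0), (nat_lit 3)⟩) (BT.node (nat_lit 59) (BT.leaf ⟨[(nat_lit 2), (nat_lit 6), (nat_lit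 2), (nat_lit 2), (nat_lit 1), (nat_lit 2), (nat_lit 6), (nat_lit 2), (nat_lit 2), (nat_lit 1)], (nat_lit 16), (nat_lit 0), (nat_lit 0), (nat_lit 3)⟩) (BT.leaf ⟨[(nat_lit 3), (nat_lit 6), (nat_lit 2), (nat_lit 6), (nat_lit 2), (nat_lit 6), (nat_lit 1), (nat_lit 3), (nat_lit 6)], (nat_lit 41), (nat_lit 3), (nat_lit 0), (nat_lit 3)⟩))) (BT.node (nat_lit 62) (BT.node (nat_lit 61) (BT.leaf ⟨[(nat_lit 6), (nat_lit 2), (nat_lit 6), (nat_lit 2), (nat_lit 1), (nat_lit 6), (nat_lit 3), (nat_lit 6), (nat_lit 3)], (nat_lit 15), (nat_lit 4), (nat_lit 0), (nat_lit 3)⟩) (BT.leaf ⟨[(nat_lit 2), (nat_lit 5), (nat_lit 2), (nat_lit 2), (nat_lit 1), (nat_lit 2), (nat_lit 5), (nat_lit 2), (nat_lit 2), (nat_lit 1)], (nat_lit 8), (nat_lit 0), (nat_lit 0), (nat_lit 3)⟩)) (BT.node (nat_lit 63) (BT.leaf ⟨[(nat_lit 5), (nat_lit 2), (nat_lit 2), (nat_lit 5), (nat_lit 2), (nat_lit 6), (nat_lit 5), (nat_lit 6), (nat_lit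 3), (nat_lit 3), (nat_lit 5), (nat_lit 2)], (nat_lit 17), (nat_lit 9), (nat_lit 0), (nat_lit 3)⟩) (BT.leaf ⟨[(nat_lit 2), (nat_lit 5), (nat_lit 2), (nat_lit 2), (nat_lit 5), (nat_lit 2), (nat_lit 6), (nat_lit 5), (nat_lit 6), (nat_lit 3), (nat_lit 3), (nat_lit 5)], (nat_lit 17), (nat_lit 8), (nat_lit 0), (nat_lit 3)⟩)))) (BT.node (nat_lit 67) (BT.node (nat_lit 65) (BT.leaf ⟨[(nat_lit 3), (nat_lit 5), (nat_lit 3), (nat_lit 5), (nat_lit 2), (nat_lit 2), (nat_lit 6), (nat_lit 5), (nat_lit 6), (nat_lit 3), (nat_lit 5), (nat_lit 3)], (nat_lit 43), (nat_lit 1), (nat_lit 0), (nat_lit 3)⟩) (BT.node (nat_lit 66) (BT.leaf ⟨[(nat_lit 5), (nat_lit 2), (nat_lit 6), (nat_lit 3), (nat_lit 5), (nat_lit 2), (nat_lit 6), (nat_lit 3), (nat_lit 5), (nat_lit 2), (nat_lit 6), (nat_lit 3)], (nat_lit 18), (nat_lit 2), (nat_lit 0), (nat_lit 3)⟩) (BT.leaf ⟨[(nat_lit 2), (nat_lit 6), (nat_lit 2), (nat_lit 6), (nat_lit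 1), (nat_lit 3), (nat_lit 6), (nat_lit 3), (nat_lit 6)], (nat_lit 41), (nat_lit 5), (nat_lit 0), (nat_lit 3)⟩))) (BT.node (nat_lit 69) (BT.node (nat_lit 68) (BT.leaf ⟨[(nat_lit 1), (nat_lit 2), (nat_lit 1), (nat_lit 2), (nat_lit 2), (nat_lit 1), (nat_lit 3)], (nat_lit 2), (nat_lit 4), (nat_lit 0), (nat_lit 3)⟩) (BT.leaf ⟨[(nat_lit 2), (nat_lit 2), (nat_lit 1), (nat_lit 2), (nat_lit 5), (nat_lit 2), (nat_lit 2), (nat_lit 1), (nat_lit 2), (nat_lit 5)], (nat_lit 8), (nat_lit 2), (nat_lit 0), (nat_lit 3)⟩)) (BT.node (nat_lit 70) (BT.leaf ⟨[(nat_lit 3), (nat_lit 5), (nat_lit 3), (nat_lit 3), (nat_lit 5), (nat_lit 3), (nat_lit 5), (nat_lit 2), (nat_lit 2), (nat_lit 6), (nat_lit 5), (nat_lit 6)], (nat_lit 43), (nat_lit 10), (nat_lit 0), (nat_lit 3)⟩) (BT.leaf ⟨[(nat_lit 1), (nat_lit 3), (nat_lit 3), (nat_lit 6), (nat_lit 3), (nat_lit 1), (nat_lit 3), (nat_lit 3), (nat_lit 6), (nat_lit 3)], (nat_lit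 42), (nat_lit 0), (nat_lit 0), (nat_lit 3)⟩))))) (BT.node (nat_lit 78) (BT.node (nat_lit 74) (BT.node (nat_lit 72) (BT.leaf ⟨[(nat_lit 6), (nat_lit 2), (nat_lit 1), (nat_lit 6), (nat_lit 3), (nat_lit 6), (nat_lit 3), (nat_lit 6), (nat_lit 2)], (nat_lit 15), (nat_lit 6), (nat_lit 0), (nat_lit 3)⟩) (BT.node (nat_lit 73) (BT.leaf ⟨[(nat_lit 5), (nat_lit 3), (nat_lit 1), (nat_lit 3), (nat_lit 3), (nat_lit 5), (nat_lit 3), (nat_lit 1), (nat_lit 3), (nat_lit 3)], (nat_lit 34), (nat_lit 3), (nat_lit 0), (nat_lit 3)⟩) (BT.leaf ⟨[(nat_lit 5), (nat_lit 4), (nat_lit 5), (nat_lit 4)], (nat_lit 7), (nat_lit 0), (nat_lit 0), (nat_lit 3)⟩))) (BT.node (nat_lit 76) (BT.node (nat_lit 75) (BT.leaf ⟨[(nat_lit 3), (nat_lit 3), (nat_lit 5), (nat_lit 2), (nat_lit 5), (nat_lit 2), (nat_lit 2), (nat_lit 5), (nat_lit 2), (nat_lit 6), (nat_lit 5), (nat_lit 6)], (nat_lit 17), (nat_lit 5), (nat_lit 0), (nat_lit 3)⟩) (BT.leaf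 ⟨[(nat_lit 2), (nat_lit 5), (nat_lit 2), (nat_lit 6), (nat_lit 5), (nat_lit 6), (nat_lit 3), (nat_lit 3), (nat_lit 5), (nat_lit 2), (nat_lit 5), (nat_lit 2)], (nat_lit 17), (nat_lit 11), (nat_lit 0), (nat_lit 3)⟩)) (BT.node (nat_lit 77) (BT.leaf ⟨[(nat_lit 3), (nat_lit 5), (nat_lit 4), (nat_lit 3), (nat_lit 1), (nat_lit 4), (nat_lit 5), (nat_lit 2), (nat_lit 5), (nat_lit 4), (nat_lit 2), (nat_lit 5), (nat_lit 4)], (nat_lit 10), (nat_lit 8), (nat_lit 0), (nat_lit 3)⟩) (BT.leaf ⟨[(nat_lit 4), (nat_lit 2), (nat_lit 1), (nat_lit 4), (nat_lit 5), (nat_lit 2), (nat_lit 4), (nat_lit 3), (nat_lit 5), (nat_lit 6), (nat_lit 3), (nat_lit 5), (nat_lit 6), (nat_lit 3), (nat_lit 5), (nat_lit 6), (nat_lit 3), (nat_lit 4), (nat_lit 2), (nat_lit 6), (nat_lit 2), (nat_lit 1), (nat_lit 2), (nat_lit 4), (nat_lit 2)], (nat_lit 20), (nat_lit 5), (nat_lit 0), (nat_lit 3)⟩)))) (BT.node (nat_lit 82) (BT.node (nat_lit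 80) (BT.node (nat_lit 79) (BT.leaf ⟨[(nat_lit 2), (nat_lit 4), (nat_lit 3), (nat_lit 1), (nat_lit 2), (nat_lit 2), (nat_lit 4), (nat_lit 2), (nat_lit 2), (nat_lit 1)], (nat_lit 4), (nat_lit 0), (nat_lit 0), (nat_lit 3)⟩) (BT.leaf ⟨[(nat_lit 2), (nat_lit 1), (nat_lit 3), (nat_lit 1), (nat_lit 2), (nat_lit 1), (nat_lit 2)], (nat_lit 2), (nat_lit 1), (nat_lit 0), (nat_lit 3)⟩)) (BT.node (nat_lit 81) (BT.leaf ⟨[(nat_lit 3), (nat_lit 3), (nat_lit 1), (nat_lit 3), (nat_lit 1), (nat_lit 2), (nat_lit 1)], (nat_lit 28), (nat_lit 5), (nat_lit 0), (nat_lit 3)⟩) (BT.leaf ⟨[(nat_lit 4), (nat_lit 2), (nat_lit 2), (nat_lit 1), (nat_lit 2), (nat_lit 4), (nat_lit 3), (nat_lit 1), (nat_lit 2), (nat_lit 2)], (nat_lit 4), (nat_lit 6), (nat_lit 0), (nat_lit 3)⟩))) (BT.node (nat_lit 84) (BT.node (nat_lit 83) (BT.leaf ⟨[(nat_lit 3), (nat_lit 4), (nat_lit 3), (nat_lit 4), (nat_lit 3), (nat_lit 1), (nat_lit 4), (nat_lit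 2), (nat_lit 4), (nat_lit 2), (nat_lit 4), (nat_lit 2), (nat_lit 4)], (nat_lit 5), (nat_lit 7), (nat_lit 0), (nat_lit 3)⟩) (BT.leaf ⟨[(nat_lit 4), (nat_lit 3), (nat_lit 1), (nat_lit 4), (nat_lit 5), (nat_lit 2), (nat_lit 5), (nat_lit 4), (nat_lit 2), (nat_lit 5), (nat_lit 4), (nat_lit 3), (nat_lit 5)], (nat_lit 10), (nat_lit 10), (nat_lit 0), (nat_lit 3)⟩)) (BT.node (nat_lit 85) (BT.leaf ⟨[(nat_lit 3), (nat_lit 4), (nat_lit 5), (nat_lit 3), (nat_lit 5), (nat_lit 4), (nat_lit 1), (nat_lit 2), (nat_lit 4), (nat_lit 5), (nat_lit 2), (nat_lit 4), (nat_lit 5)], (nat_lit 36), (nat_lit 7), (nat_lit 0), (nat_lit 3)⟩) (BT.leaf ⟨[(nat_lit 4), (nat_lit 2), (nat_lit 4), (nat_lit 2), (nat_lit 4), (nat_lit 3), (nat_lit 4), (nat_lit 3), (nat_lit 4), (nat_lit 3), (nat_lit 1), (nat_lit 4), (nat_lit 2)], (nat_lit 5), (nat_lit 2), (nat_lit 0), (nat_lit 3)⟩)))))) (BT.node (nat_lit 100) (BT.node (nat_lit 93) (BT.node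 (nat_lit 89) (BT.node (nat_lit 87) (BT.leaf ⟨[(nat_lit 1), (nat_lit 4), (nat_lit 2), (nat_lit 4), (nat_lit 2), (nat_lit 4), (nat_lit 2), (nat_lit 4), (nat_lit 3), (nat_lit 4), (nat_lit 3), (nat_lit 4), (nat_lit 3)], (nat_lit 5), (nat_lit 12), (nat_lit 0), (nat_lit 3)⟩) (BT.node (nat_lit 88) (BT.leaf ⟨[(nat_lit 4), (nat_lit 1), (nat_lit 2), (nat_lit 4), (nat_lit 2), (nat_lit 4), (nat_lit 2), (nat_lit 4), (nat_lit 3), (nat_lit 4), (nat_lit 3), (nat_lit 4), (nat_lit 3)], (nat_lit 31), (nat_lit 12), (nat_lit 0), (nat_lit 3)⟩) (BT.leaf ⟨[(nat_lit 4), (nat_lit 1), (nat_lit 2), (nat_lit 4), (nat_lit 5), (nat_lit 2), (nat_lit 4), (nat_lit 5), (nat_lit 3), (nat_lit 4), (nat_lit 5), (nat_lit 3), (nat_lit 5)], (nat_lit 36), (nat_lit 12), (nat_lit 0), (nat_lit 3)⟩))) (BT.node (nat_lit 91) (BT.node (nat_lit 90) (BT.leaf ⟨[(nat_lit 4), (nat_lit 3), (nat_lit 1), (nat_lit 2), (nat_lit 2), (nat_lit 4), (nat_lit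 2), (nat_lit 2), (nat_lit 1), (nat_lit 2)], (nat_lit 4), (nat_lit 1), (nat_lit 0), (nat_lit 3)⟩) (BT.leaf ⟨[(nat_lit 4), (nat_lit 2), (nat_lit 4), (nat_lit 2), (nat_lit 4), (nat_lit 2), (nat_lit 4), (nat_lit 3), (nat_lit 4), (nat_lit 3), (nat_lit 4), (nat_lit 3), (nat_lit 1)], (nat_lit 5), (nat_lit 0), (nat_lit 0), (nat_lit 3)⟩)) (BT.node (nat_lit 92) (BT.leaf ⟨[(nat_lit 4), (nat_lit 3), (nat_lit 5), (nat_lit 4), (nat_lit 3), (nat_lit 1), (nat_lit 4), (nat_lit 5), (nat_lit 2), (nat_lit 5), (nat_lit 4), (nat_lit 2), (nat_lit 5)], (nat_lit 10), (nat_lit 7), (nat_lit 0), (nat_lit 3)⟩) (BT.leaf ⟨[(nat_lit 3), (nat_lit 4), (nat_lit 1), (nat_lit 2), (nat_lit 4), (nat_lit 2), (nat_lit 4), (nat_lit 2), (nat_lit 4), (nat_lit 3), (nat_lit 4), (nat_lit 3), (nat_lit 4)], (nat_lit 31), (nat_lit 11), (nat_lit 0), (nat_lit 3)⟩)))) (BT.node (nat_lit 96) (BT.node (nat_lit 94) (BT.leaf ⟨[(nat_lit 4), (nat_lit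 3), (nat_lit 4), (nat_lit 3), (nat_lit 4), (nat_lit 3), (nat_lit 1), (nat_lit 4), (nat_lit 2), (nat_lit 4), (nat_lit 2), (nat_lit 4), (nat_lit 2)], (nat_lit 5), (nat_lit 6), (nat_lit 0), (nat_lit 3)⟩) (BT.node (nat_lit 95) (BT.leaf ⟨[(nat_lit 2), (nat_lit 4), (nat_lit 3), (nat_lit 4), (nat_lit 3), (nat_lit 4), (nat_lit 3), (nat_lit 1), (nat_lit 4), (nat_lit 2), (nat_lit 4), (nat_lit 2), (nat_lit 4)], (nat_lit 5), (nat_lit 5), (nat_lit 0), (nat_lit 3)⟩) (BT.leaf ⟨[(nat_lit 2), (nat_lit 4), (nat_lit 5), (nat_lit 3), (nat_lit 4), (nat_lit 5), (nat_lit 3), (nat_lit 5), (nat_lit 4), (nat_lit 1), (nat_lit 2), (nat_lit 4), (nat_lit 5)], (nat_lit 36), (nat_lit 4), (nat_lit 0), (nat_lit 3)⟩))) (BT.node (nat_lit 98) (BT.node (nat_lit 97) (BT.leaf ⟨[(nat_lit 2), (nat_lit 4), (nat_lit 2), (nat_lit 2), (nat_lit 1), (nat_lit 2), (nat_lit 4), (nat_lit 3), (nat_lit 1), (nat_lit 2)], (nat_lit 4), (nat_lit 5),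 (nat_lit 0), (nat_lit 3)⟩) (BT.leaf ⟨[(nat_lit 2), (nat_lit 4), (nat_lit 3), (nat_lit 4), (nat_lit 3), (nat_lit 4), (nat_lit 3), (nat_lit 4), (nat_lit 1), (nat_lit 2), (nat_lit 4), (nat_lit 2), (nat_lit 4)], (nat_lit 31), (nat_lit 5), (nat_lit 0), (nat_lit 3)⟩)) (BT.node (nat_lit 99) (BT.leaf ⟨[(nat_lit 4), (nat_lit 2), (nat_lit 6), (nat_lit 2), (nat_lit 1), (nat_lit 2), (nat_lit 4), (nat_lit 2), (nat_lit 4), (nat_lit 2), (nat_lit 1), (nat_lit 4), (nat_lit 5), (nat_lit 2), (nat_lit 4), (nat_lit 3), (nat_lit 5), (nat_lit 6), (nat_lit 3), (nat_lit 5), (nat_lit 6), (nat_lit 3), (nat_lit 5), (nat_lit 6), (nat_lit 3)], (nat_lit 20), (nat_lit 22), (nat_lit 0), (nat_lit 3)⟩) (BT.leaf ⟨[(nat_lit 2), (nat_lit 4), (nat_lit 2), (nat_lit 4), (nat_lit 2), (nat_lit 4), (nat_lit 3), (nat_lit 4), (nat_lit 3), (nat_lit 4), (nat_lit 3), (nat_lit 1), (nat_lit 4)], (nat_lit 5), (nat_lit 1), (nat_lit 0), (nat_lit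 3)⟩))))) (BT.node (nat_lit 107) (BT.node (nat_lit 103) (BT.node (nat_lit 101) (BT.leaf ⟨[(nat_lit 1), (nat_lit 2), (nat_lit 4), (nat_lit 2), (nat_lit 4), (nat_lit 2), (nat_lit 4), (nat_lit 3), (nat_lit 4), (nat_lit 3), (nat_lit 4), (nat_lit 3), (nat_lit 4)], (nat_lit 31), (nat_lit 0), (nat_lit 0), (nat_lit 3)⟩) (BT.node (nat_lit 102) (BT.leaf ⟨[(nat_lit 3), (nat_lit 4), (nat_lit 3), (nat_lit 1), (nat_lit 3), (nat_lit 6), (nat_lit 3), (nat_lit 4), (nat_lit 2), (nat_lit 6), (nat_lit 5), (nat_lit 2), (nat_lit 6), (nat_lit 5), (nat_lit 2), (nat_lit 6), (nat_lit 5), (nat_lit 2), (nat_lit 4), (nat_lit 3), (nat_lit 5), (nat_lit 4), (nat_lit 1), (nat_lit 3), (nat_lit 4)], (nat_lit 46), (nat_lit 20), (nat_lit 0), (nat_lit 3)⟩) (BT.leaf ⟨[(nat_lit 4), (nat_lit 3), (nat_lit 5), (nat_lit 4), (nat_lit 1), (nat_lit 3), (nat_lit 4), (nat_lit 3), (nat_lit 4), (nat_lit 3), (nat_lit 1), (nat_lit 3), (nat_lit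 6), (nat_lit 3), (nat_lit 4), (nat_lit 2), (nat_lit 6), (nat_lit 5), (nat_lit 2), (nat_lit 6), (nat_lit 5), (nat_lit 2), (nat_lit 6), (nat_lit 5), (nat_lit 2)], (nat_lit 46), (nat_lit 13), (nat_lit 0), (nat_lit 3)⟩))) (BT.node (nat_lit 105) (BT.node (nat_lit 104) (BT.leaf ⟨[(nat_lit 3), (nat_lit 6), (nat_lit 3), (nat_lit 6), (nat_lit 2), (nat_lit 6), (nat_lit 2), (nat_lit 6), (nat_lit 1)], (nat_lit 41), (nat_lit 1), (nat_lit 0), (nat_lit 3)⟩) (BT.leaf ⟨[(nat_lit 2), (nat_lit 2), (nat_lit 1), (nat_lit 3), (nat_lit 1), (nat_lit 2), (nat_lit 1)], (nat_lit 2), (nat_lit 0), (nat_lit 0), (nat_lit 3)⟩)) (BT.node (nat_lit 106) (BT.leaf ⟨[(nat_lit 3), (nat_lit 1), (nat_lit 3), (nat_lit 3), (nat_lit 4), (nat_lit 3), (nat_lit 3), (nat_lit 1), (nat_lit 2), (nat_lit 4)], (nat_lit 30), (nat_lit 9), (nat_lit 0), (nat_lit 3)⟩) (BT.leaf ⟨[(nat_lit 4), (nat_lit 3), (nat_lit 3), (nat_lit 1), (nat_lit 2), (nat_lit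 4), (nat_lit 3), (nat_lit 1), (nat_lit 3), (nat_lit 3)], (nat_lit 30), (nat_lit 3), (nat_lit 0), (nat_lit 3)⟩)))) (BT.node (nat_lit 111) (BT.node (nat_lit 109) (BT.node (nat_lit 108) (BT.leaf ⟨[(nat_lit 6), (nat_lit 3), (nat_lit 1), (nat_lit 3), (nat_lit 3), (nat_lit 6), (nat_lit 3), (nat_lit 1), (nat_lit 3), (nat_lit 3)], (nat_lit 42), (nat_lit 3), (nat_lit 0), (nat_lit 3)⟩) (BT.leaf ⟨[(nat_lit 3), (nat_lit 1), (nat_lit 3), (nat_lit 3), (nat_lit 6), (nat_lit 3), (nat_lit 1), (nat_lit 3), (nat_lit 3), (nat_lit 6)], (nat_lit 42), (nat_lit 4), (nat_lit 0), (nat_lit 3)⟩)) (BT.node (nat_lit 110) (BT.leaf ⟨[(nat_lit 4), (nat_lit 3), (nat_lit 1), (nat_lit 3), (nat_lit 3), (nat_lit 4), (nat_lit 3), (nat_lit 3), (nat_lit 1), (nat_lit 2)], (nat_lit 30), (nat_lit 8), (nat_lit 0), (nat_lit 3)⟩) (BT.leaf ⟨[(nat_lit 3), (nat_lit 5), (nat_lit 3), (nat_lit 1), (nat_lit 3), (nat_lit 3), (nat_lit 5), (nat_lit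 3), (nat_lit 1), (nat_lit 3)], (nat_lit 34), (nat_lit 2), (nat_lit 0), (nat_lit 3)⟩))) (BT.node (nat_lit 113) (BT.node (nat_lit 112) (BT.leaf ⟨[(nat_lit 4), (nat_lit 5), (nat_lit 2), (nat_lit 4), (nat_lit 5), (nat_lit 3), (nat_lit 4), (nat_lit 5), (nat_lit 3), (nat_lit 5), (nat_lit 4), (nat_lit 1), (nat_lit 2)], (nat_lit 36), (nat_lit 2), (nat_lit 0), (nat_lit 3)⟩) (BT.leaf ⟨[(nat_lit 4), (nat_lit 2), (nat_lit 6), (nat_lit 5), (nat_lit 2), (nat_lit 6), (nat_lit 5), (nat_lit 2), (nat_lit 6), (nat_lit 5), (nat_lit 2), (nat_lit 4), (nat_lit 3), (nat_lit 5), (nat_lit 4), (nat_lit 1), (nat_lit 3), (nat_lit 4), (nat_lit 3), (nat_lit 4), (nat_lit 3), (nat_lit 1), (nat_lit 3), (nat_lit 6), (nat_lit 3)], (nat_lit 46), (nat_lit 2), (nat_lit 0), (nat_lit 3)⟩)) (BT.node (nat_lit 114) (BT.leaf ⟨[(nat_lit 6), (nat_lit 2), (nat_lit 1), (nat_lit 2), (nat_lit 4), (nat_lit 2), (nat_lit 4), (nat_lit 2), (nat_lit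 1), (nat_lit 4), (nat_lit 5), (nat_lit 2), (nat_lit 4), (nat_lit 3), (nat_lit 5), (nat_lit 6), (nat_lit 3), (nat_lit 5), (nat_lit 6), (nat_lit 3), (nat_lit 5), (nat_lit 6), (nat_lit 3), (nat_lit 4), (nat_lit 2)], (nat_lit 20), (nat_lit 24), (nat_lit 0), (nat_lit 3)⟩) (BT.leaf ⟨[(nat_lit 2), (nat_lit 5), (nat_lit 4), (nat_lit 2), (nat_lit 5), (nat_lit 4), (nat_lit 3), (nat_lit 5), (nat_lit 4), (nat_lit 3), (nat_lit 1), (nat_lit 4), (nat_lit 5)], (nat_lit 10), (nat_lit 2), (nat_lit 0), (nat_lit 3)⟩))))))))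
noncomputable def ep_3_hcs : List CW := [⟨[(nat_lit 5)], (nat_lit 0), (nat_lit 0), (nat_lit 0), (nat_lit 0)⟩, ⟨[(nat_lit 4)], (nat_lit 1), (nat_lit 0), (nat_lit 0), (nat_lit 0)⟩, ⟨[(nat_lit 2)], (nat_lit 2), (nat_lit 0), (nat_lit 0), (nat_lit 0)⟩, ⟨[(nat_lit 1)], (nat_lit 3), (nat_lit 0), (nat_lit 0), (nat_lit 0)⟩, ⟨[(nat_lit 5)], (nat_lit 4), (nat_lit 0), (nat_lit 0), (nat_lit 0)⟩, ⟨[(nat_lit 4)], (nat_lit 5), (nat_lit 0), (nat_lit 0), (nat_lit 0)⟩, ⟨[(nat_lit 3)], (nat_lit 6), (nat_lit 0), (nat_lit 0), (nat_lit 0)⟩, ⟨[(nat_lit 1)], (nat_lit 7), (nat_lit 0), (nat_lit 0), (nat_lit 0)⟩]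
noncomputable def ep_3_H (x j : Nat) : Bx (Nat → Nat → Nat) := mkH ep_3_L ep_3_pb.1 ep_3_e.get (lmap CW.w ep_3_hcs) (nat_lit 176) (nat_lit 177) (nat_lit 7) (nat_lit 256) (nat_lit 32768) (nat_lit 16383) x (ep_3_rots.get j)
noncomputable def ep_3_F (x b : Nat) : Bool := blkOK ep_3_H ep_3_ch (nat_lit 177) (nat_lit 256) (nat_lit 128) (nat_lit 8) (nat_lit 255) (nat_lit 21) (nat_lit 2097151) x b

theorem ep_3_k0_0 : allFrom (ep_3_F (nat_lit 0)) (nat_lit 0) (nat_lit 4) = true := by decide +kernel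
theorem ep_3_k1_0 : allFrom (ep_3_F (nat_lit 1)) (nat_lit 0) (nat_lit 4) = true := by decide +kernel
theorem ep_3_k2_0 : allFrom (ep_3_F (nat_lit 2)) (nat_lit 0) (nat_lit 4) = true := by decide +kernel
theorem ep_3_k3_0 : allFrom (ep_3_F (nat_lit 3)) (nat_lit 0) (nat_lit 4) = true := by decide +kernel
theorem ep_3_k4_0 : allFrom (ep_3_F (nat_lit 4)) (nat_lit 0) (nat_lit 4) = true := by decide +kernel
theorem ep_3_k5_0 : allFrom (ep_3_F (nat_lit 5)) (nat_lit 0) (nat_lit 4) = true := by decide +kernel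
theorem ep_3_k6_0 : allFrom (ep_3_F (nat_lit 6)) (nat_lit 0) (nat_lit 4) = true := by decide +kernel

noncomputable def Kc_0 : Net := (Net.cons (nat_lit 1) (nat_lit 0x4511051410100440455151551405401414554104141445145000050504040011400154050000400001004000) (Net.cons (nat_lit 2) (nat_lit 0x3112221202301112201301110321012011331300213110320310113200013200100033232110121120111000) (Net.cons (nat_lit 4) (nat_lit 0x407080601090800070e090c0e0d0b080204070c00020e0b060e00070702000008070d0b09080002010700) (Net.cons (nat_lit 8) (nat_lit 0x25003500ac00c100080041009900c000a70052004e003e00840003001300fc0010004e0001000100000000) (Net.cons (nat_lit 16) (nat_lit 0x11940000b00d00006bc5000050f00000088f0000cc8d0000208c00003ce6000009600000020000000000) (Net.cons (nat_lit 32) (nat_lit 0x29f5580500000000ad2702f80000000000910b2100000000400051170000000000000000) (Net.cons (nat_lit 64) (nat_lit 0x4484a6200000000000000000a78fcc2106ed2c1800000000000000000000000000000000)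 (Net.cons (nat_lit 128) (nat_lit 0x4010c221f5f768118c843413) (Net.cons (nat_lit 256) (nat_lit 0x4010c221f5f768118c843413) (Net.cons (nat_lit 128) (nat_lit 0x2e0886e946fdff3ff5f76a118c843413) (Net.cons (nat_lit 64) (nat_lit 0x144e67640000000000000000ed36f521ffefbe6a000000000000000051f4511608000000) (Net.cons (nat_lit 32) (nat_lit 0x63f4e08d00000000e74e82ca000000004e990ba500000000420a551700000000020b8000) (Net.cons (nat_lit 16) (nat_lit 0x40b40000e80c0000e7f50000da59000048a7000088ed0000ac8e000068ff00004c7000006a0000004140) (Net.cons (nat_lit 8) (nat_lit 0x3400bf003d00c100080011001b004600a500d1001f007e0086009b000100e4001000de0011001100b40030) (Net.cons (nat_lit 4) (nat_lit 0x105070907080e0803060f09050e0d020802050e0701020c0b07060007070d000108060d0b09080102010708) (Net.cons (nat_lit 2) (nat_lit 0x3112221202121132001301130301232013331120033331120310313200211020120033232110121120111000) (Net.cons (nat_lit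 1) (nat_lit 0x4511051410101544455151551405401414554104141445145000050504041411400154050014400001004001) Net.nil)))))))))))))))))
noncomputable def Kc_1 : Net := (Net.cons (nat_lit 1) (nat_lit 0x551444140100500114040101510041440050104001114514141540405500551005040110404045001055510) (Net.cons (nat_lit 2) (nat_lit 0x2231220222332201132213321120222223203021222210223221102100110132202001000110021211131220) (Net.cons (nat_lit 4) (nat_lit 0x90e0b0f0a0b0c0a0f0e050b09000d0f0709090c0c0208050705090609040d040202000d080e000405080000) (Net.cons (nat_lit 8) (nat_lit 0x7600c80074004b00fc00e10005003b00060002001d0050001200ce00610000002800aa0044000200690000) (Net.cons (nat_lit 16) (nat_lit 0x7220000330200008a350000b5130000f45f00000e850000b220000014e0000004900000035200000000) (Net.cons (nat_lit 32) (nat_lit 0xb8f0d33b0000000005bd3cd00000000005e92198000000002448a2b00000000020400802) (Net.cons (nat_lit 64) (nat_lit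 0xf405924e00000000000000000bc10c94282003000000000000000000df08801000000000) (Net.cons (nat_lit 128) (nat_lit 0xd654b803df9f86b56133a2dc) (Net.cons (nat_lit 256) (nat_lit 0xd654b803df9f86b56133a2dc) (Net.cons (nat_lit 128) (nat_lit 0x28f52f47bde82784089706e56133a2dc) (Net.cons (nat_lit 64) (nat_lit 0x8ae049000000000000000000abe27607dbf65ddf000000000000000043e932ac34280802) (Net.cons (nat_lit 32) (nat_lit 0x17c86532000000009fd44d0700000000cd2ff64800000000294445ae0000000063d6fc02) (Net.cons (nat_lit 16) (nat_lit 0x515c000013af0000dab800002d310000548000002f4f0000191f00000bff000054fc00000a080000afb0) (Net.cons (nat_lit 8) (nat_lit 0x15005800da00a000e500ba00c800b20035008700d600f000c2001b000d00b00083003000380026002000ac) (Net.cons (nat_lit 4) (nat_lit 0x4020407070a0009000a020b0004050800080d070c070505010e0906000003030b050b0c0e0a0e01070f090e) (Net.cons (nat_lit 2) (nat_lit 0x1002303330313101230103032113120312203312003212110310002132021032030132003222313020030233)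 (Net.cons (nat_lit 1) (nat_lit 0x540450015101054510140155415040504154151100155100550141100115414445401404441145511445141) Net.nil)))))))))))))))))
noncomputable def Kc_2 : Net := (Net.cons (nat_lit 1) (nat_lit 0x5410554151154500505544444455405541410440515400111105045155154101405510445104000510500040) (Net.cons (nat_lit 2) (nat_lit 0x1101023001001213033100002020201313303203200130212200110212000301100012212032023211100200) (Net.cons (nat_lit 4) (nat_lit 0x70e0b080303040a0b0206090703000f0406030806070904070f030803030706010a06030a060b0000070600) (Net.cons (nat_lit 8) (nat_lit 0xc000030006003700fd009c0007003000c00074009a0002009b0003005200a200c6006000a5006800340000) (Net.cons (nat_lit 16) (nat_lit 0x81c500008a89000012600000a9310000282200008d780000d502000034060000e81900009aa800000000) (Net.cons (nat_lit 32) (nat_lit 0x119cad5600000000c226350f00000000c320436e000000002146129d0000000000002500) (Net.cons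 (nat_lit 64) (nat_lit 0x89901e03000000000000000062b81c600047d2e400000000000000000000000000000000) (Net.cons (nat_lit 128) (nat_lit 0xc8800009be3ab5d01371de6e) (Net.cons (nat_lit 256) (nat_lit 0xc8800009be3ab5d01371de6e) (Net.cons (nat_lit 128) (nat_lit 0x82ab2da4dcc7dafffe3ab5d01371de6e) (Net.cons (nat_lit 64) (nat_lit 0x64c6f1940000000000000000050603bfb5b5fe7200000000000000007514803b48302500) (Net.cons (nat_lit 32) (nat_lit 0xe70e01db0000000066fd3913000000005580cbb4000000001448881300000000a8e97300) (Net.cons (nat_lit 16) (nat_lit 0xe4300009f0d0000b4960000c3640000752600000f95000071eb000029e200006d770000816600001fa0) (Net.cons (nat_lit 8) (nat_lit 0xba00ee008b008d00bf00b800f2009c008100fa009800840051004b00ef005f0070005900ff0052001200b4) (Net.cons (nat_lit 4) (nat_lit 0x60b0405000a0e090c0d0a010c0a0302010608030e010a02000a090b0f0c04050700080e010b0b0e04060006) (Net.cons (nat_lit 2) (nat_lit 0x3222123312322131313301130203321121303030233012001023011111302032312023033222020100313023)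 (Net.cons (nat_lit 1) (nat_lit 0x5151040001414504054511110011150001144110015404455450510000101550505051110411440005054515) Net.nil)))))))))))))))))
noncomputable def Kc_3 : Net := (Net.cons (nat_lit 1) (nat_lit 0x1044510541015410011055110114115044551015010401554445110451004014440114010000051504050100) (Net.cons (nat_lit 2) (nat_lit 0x1323001213002001123033000221220023231211001120013301102102033300010002230110003103031000) (Net.cons (nat_lit 4) (nat_lit 0xb0f0402000400080108070d0e07070408010a000b0902030c06080400070206090d0b0e02070c0403020400) (Net.cons (nat_lit 8) (nat_lit 0x23004700a9002a005500360025002a00310010009f00dd006800d100bd0019005000aa0031006000000000) (Net.cons (nat_lit 16) (nat_lit 0xab7800007e26000069600000621a000021c20000a2060000e83b000029c80000f21f0000048000000000) (Net.cons (nat_lit 32) (nat_lit 0xcf6db9020000000034ee9a15000000004c08860200000000894a30030000000080000094) (Net.cons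 (nat_lit 64) (nat_lit 0x80046400000000000000000202c71800c15ce2300000000000000000000000000000000) (Net.cons (nat_lit 128) (nat_lit 0x214000d0bf7ff99f79004699) (Net.cons (nat_lit 256) (nat_lit 0x214000d0bf7ff99f79004699) (Net.cons (nat_lit 128) (nat_lit 0x5610da94ad5deefbff7ff99ff9004699) (Net.cons (nat_lit 64) (nat_lit 0x8afe7e26000000000000000021a470080c37df2f0000000000000000a96a016b72800094) (Net.cons (nat_lit 32) (nat_lit 0x8c2fbd420000000034a79b57000000004d08e70a00000000880a71cb00000000869f7894) (Net.cons (nat_lit 16) (nat_lit 0xab3b00007e6400006828000067520000218a0000a2260000e973000028800000f3df000005c8000009e0) (Net.cons (nat_lit 8) (nat_lit 0x23004500a900e00057007600a500a20031001000df00df00ea00d100bd00190070002800330068008a008e) (Net.cons (nat_lit 4) (nat_lit 0xf0f0402000408000108070d0e070f0c08010a000b090e030c060804080702060905030e020f0c0c0b020c09) (Net.cons (nat_lit 2) (nat_lit 0x3323001213022101123013000221220023231211001120013121102102033300010002230110023103031000)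 (Net.cons (nat_lit 1) (nat_lit 0x1044510541015410011055110114115044551015010501554445110451004014450114010000051504050100) Net.nil)))))))))))))))))
noncomputable def Kc_4 : Net := (Net.cons (nat_lit 1) (nat_lit 0x4001110050001110004441414105101045500000415444045400504055451014140451011110110144551010) (Net.cons (nat_lit 2) (nat_lit 0x320231323200133200201222112012010221202320121221010301120222321212101220202003000020010) (Net.cons (nat_lit 4) (nat_lit 0x50509010704000b0b0f01050f0605040901020206000e08000001040800040205020b070b030c0a070400) (Net.cons (nat_lit 8) (nat_lit 0x1000c000230052008c00010029000100a900c9002e006000f400c200510083005100f40070005800b40000) (Net.cons (nat_lit 16) (nat_lit 0x9a050000075400007a440000754a0000344a000008d50000b05600008680000099a50000252000000000) (Net.cons (nat_lit 32) (nat_lit 0xa83c6b080000000010f441dc000000002bb6404000000000914332430000000000000084) (Net.cons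 (nat_lit 64) (nat_lit 0x2011500000000000000000061dc830f48a605b00000000000000000000010000000000) (Net.cons (nat_lit 128) (nat_lit 0xa2001807e6dfb0d11d090d3) (Net.cons (nat_lit 256) (nat_lit 0xa2001807e6dfb0d11d090d3) (Net.cons (nat_lit 128) (nat_lit 0x213d09bcfeeb79fbfe6dfb0d11d090d3) (Net.cons (nat_lit 64) (nat_lit 0x9021004c00000000000000004d85874ae48e7d7f0000000000000000dec6324389240084) (Net.cons (nat_lit 32) (nat_lit 0xeb2e284800000000c1ee3cf400000000edb70f70000000000643b823000000009121ec84) (Net.cons (nat_lit 16) (nat_lit 0x8a05000044540000244c00002e520000644200004bcc0000ea4f000094880000dbef0000025a000025b8) (Net.cons (nat_lit 8) (nat_lit 0x9b00d100230073009d00090029000900a900c9002e006100f400d300400083004000d50055007800c60036) (Net.cons (nat_lit 4) (nat_lit 0x80d0408010705000a0a0f00050e0604050801030203080f09000100050901050704030a070a070d0b060505) (Net.cons (nat_lit 2) (nat_lit 0x320231323200333200201222112012010221202321121221011301020232220212101221203103000121001)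 (Net.cons (nat_lit 1) (nat_lit 0x4001510050001110004441454105101045540000415544045400504055451014150451011110110144551010) Net.nil)))))))))))))))))
noncomputable def Kc : List Net := [Kc_0, Kc_1, Kc_2, Kc_3, Kc_4]
noncomputable def Ac : List Nat := [(nat_lit 0x80046803a670008041850cc72256a83c3508437c6004817559d220717069a20b120334c36204720121a04000),
  (nat_lit 0x54a04e84011e980530146028d6011705a34bc30f7185558a688640a500c0116960081000200002144098a802),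
  (nat_lit 0x32f48599d638d8f18e0d027c47f17e54d19365065b864b9d2b3d002a4ad7b334b84b451bd7735c6b8be7737),
  (nat_lit 0xaf3010706c5110ec02a68691d1547ab8d621201986817f281000155426b001a422a200800161050000000000),
  (nat_lit 0x22211c67454148221854c21545029fe141181208701016819d01034282b0004621100c10014040000c00040),
  full (nat_lit 352)]

noncomputable def Bc : List Nat := [(nat_lit 0),
  (nat_lit 0),
  (nat_lit 0),
  (nat_lit 0),
  (nat_lit 0),
  (nat_lit 0)]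

end CF.Schur.HS
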