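import Cfsg.Agent.Schur.Mdl
import Cfsg.Agent.Schur.J3D
import Cfsg.Agent.Comp.J3.Main

/-! The Schur multiplier of J3. -/

set_option autoImplicit false
set_option maxRecDepth 1000000
set_option maxHeartbeats 0
set_option Elab.async false

namespace CF.Schur.J3

open CF.Comp CF.Schur.Pc Cfsg CF.Comp.J3

theorem mdl : type_of% (mdl_of_exact exactP (fun _ => trivial)) := mdl_of_exact exactP (fun _ => trivial)

noncomputable def Wx2 : List (List Nat) := [[(nat_lit 7), (nat_lit 5), (nat_lit 16), (nat_lit 21), (nat_lit 15), (nat_lit 24), (nat_lit 20), (nat_lit 24)],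
  [(nat_lit 23), (nat_lit 9), (nat_lit 16), (nat_lit 7), (nat_lit 21), (nat_lit 16), (nat_lit 23), (nat_lit 19), (nat_lit 19)],
  [(nat_lit 24), (nat_lit 3), (nat_lit 15), (nat_lit 1), (nat_lit 16), (nat_lit 20), (nat_lit 16), (nat_lit 19), (nat_lit 19), (nat_lit 24), (nat_lit 24)],
  [(nat_lit 1), (nat_lit 20), (nat_lit 1), (nat_lit 5), (nat_lit 16), (nat_lit 22), (nat_lit 24), (nat_lit 15), (nat_lit 23), (nat_lit 20), (nat_lit 23), (nat_lit 23)],
  [(nat_lit 16), (nat_lit 17), (nat_lit 24), (nat_lit 1), (nat_lit 15), (nat_lit 15), (nat_lit 24), (nat_lit 19), (nat_lit 19), (nat_lit 23)],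
  [(nat_lit 23), (nat_lit 21), (nat_lit 11), (nat_lit 1), (nat_lit 17), (nat_lit 19), (nat_lit 17), (nat_lit 15), (nat_lit 24), (nat_lit 22), (nat_lit 24)],
  [(nat_lit 21), (nat_lit 9), (nat_lit 5), (nat_lit 9), (nat_lit 16), (nat_lit 17), (nat_lit 15), (nat_lit 19), (nat_lit 24)],
  [(nat_lit 17), (nat_lit 21), (nat_lit 11), (nat_lit 3), (nat_lit 1), (nat_lit 17), (nat_lit 20), (nat_lit 15), (nat_lit 24), (nat_lit 19), (nat_lit 19), (nat_lit 23), (nat_lit 23)],
  [(nat_lit 19), (nat_lit 4), (nat_lit 19), (nat_lit 5), (nat_lit 16), (nat_lit 19), (nat_lit 15), (nat_lit 24), (nat_lit 22), (nat_lit 24)],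
  [(nat_lit 16), (nat_lit 10), (nat_lit 15), (nat_lit 1), (nat_lit 17), (nat_lit 20), (nat_lit 15), (nat_lit 23), (nat_lit 21), (nat_lit 23), (nat_lit 23), (nat_lit 23)]]

theorem qx2_0 : allFrom (preRow N Nx2 Wx2 6156 13) 0 10 = true := by decide +kernel

theorem qx2 : ∀ j < 10, preRow N Nx2 Wx2 6156 13 j = true := by
  have h : ∀ j < 0, preRow N Nx2 Wx2 6156 13 j = true := by simp
  have h := forall_lt_add h (allFrom_iff.1 qx2_0)
  exact h

theorem wx2 : wfAll Nx2 6156 = true := by decide +kernel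

noncomputable def Px2 : Dat := ⟨(nat_lit 2), (nat_lit 7), (nat_lit 7), (nat_lit 9), (nat_lit 37),
  (BT.node (nat_lit 14) (BT.node (nat_lit 7) (BT.node (nat_lit 3) (BT.node (nat_lit 1) (BT.leaf []) (BT.node (nat_lit 2) (BT.leaf [(nat_lit 1), (nat_lit 3)]) (BT.leaf []))) (BT.node (nat_lit 5) (BT.node (nat_lit 4) (BT.leaf [(nat_lit 2)]) (BT.leaf [(nat_lit 2), (nat_lit 4)])) (BT.node (nat_lit 6) (BT.leaf []) (BT.leaf [(nat_lit 3), (nat_lit 6)])))) (BT.node (nat_lit 10) (BT.node (nat_lit 8) (BT.leaf [(nat_lit 3), (nat_lit 6)]) (BT.node (nat_lit 9) (BT.leaf [(nat_lit 3), (nat_lit 5)]) (BT.leaf [(nat_lit 6)]))) (BT.node (nat_lit 12) (BT.node (nat_lit 11) (BT.leaf [(nat_lit 4), (nat_lit 5), (nat_lit 6)]) (BT.leaf [(nat_lit 4), (nat_lit 6)])) (BT.node (nat_lit 13) (BT.leaf [(nat_lit 4), (nat_lit 6)]) (BT.leaf [(nat_lit 4), (nat_lit 6)]))))) (BT.node (nat_lit 21) (BT.node (nat_lit 17) (BT.node (nat_lit 15) (BT.leaf [(nat_lit 6)]) (BT.node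 (nat_lit 16) (BT.leaf [(nat_lit 5)]) (BT.leaf [(nat_lit 5), (nat_lit 6)]))) (BT.node (nat_lit 19) (BT.node (nat_lit 18) (BT.leaf [(nat_lit 5)]) (BT.leaf [(nat_lit 5)])) (BT.node (nat_lit 20) (BT.leaf [(nat_lit 5)]) (BT.leaf [])))) (BT.node (nat_lit 24) (BT.node (nat_lit 22) (BT.leaf [(nat_lit 6)]) (BT.node (nat_lit 23) (BT.leaf [(nat_lit 6)]) (BT.leaf [(nat_lit 6)]))) (BT.node (nat_lit 26) (BT.node (nat_lit 25) (BT.leaf [(nat_lit 6)]) (BT.leaf [(nat_lit 6)])) (BT.node (nat_lit 27) (BT.leaf [(nat_lit 6)]) (BT.leaf [])))))),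
  [⟨(nat_lit 0), [(nat_lit 0)], [(nat_lit 2)]⟩,
  ⟨(nat_lit 0), [(nat_lit 3)], [(nat_lit 4), (nat_lit 6)]⟩,
  ⟨(nat_lit 0), [(nat_lit 6)], [(nat_lit 6)]⟩,
  ⟨(nat_lit 0), [(nat_lit 5)], [(nat_lit 5)]⟩,
  ⟨(nat_lit 0), [(nat_lit 1)], [(nat_lit 1)]⟩,
  ⟨(nat_lit 0), [(nat_lit 2)], [(nat_lit 0), (nat_lit 2), (nat_lit 5), (nat_lit 6)]⟩,
  ⟨(nat_lit 1), [(nat_lit 6)], [(nat_lit 2), (nat_lit 4), (nat_lit 5)]⟩,
  ⟨(nat_lit 0), [(nat_lit 4)], [(nat_lit 3), (nat_lit 4), (nat_lit 5)]⟩,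
  ⟨(nat_lit 2), [(nat_lit 5)], [(nat_lit 1), (nat_lit 3), (nat_lit 4), (nat_lit 5), (nat_lit 6)]⟩]⟩

noncomputable def Xx2_0 : List Test := [⟨(nat_lit 1), [(nat_lit 0), (nat_lit 0)], [], (nat_lit 0x80000000000000000000000000000000000000004000000008000000000000000)⟩,
  ⟨(nat_lit 0), [(nat_lit 3)], [(nat_lit 3), (nat_lit 3)], (nat_lit 0x80000008000000000000000000000000000000000000000000000000000000000)⟩,
  ⟨(nat_lit 0), [(nat_lit 4)], [(nat_lit 4), (nat_lit 4)], (nat_lit 0x80000400000000000000000000000000000000000000000000000000000000000)⟩,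
  ⟨(nat_lit 1), [(nat_lit 1), (nat_lit 1)], [(nat_lit 2)], (nat_lit 0x81000400000000000000000020000000040000000000000000000000000004000)⟩,
  ⟨(nat_lit 0), [(nat_lit 3)], [(nat_lit 0), (nat_lit 0)], (nat_lit 0x81000000000040000000000000000000000000000000000000000000000000000)⟩,
  ⟨(nat_lit 0), [(nat_lit 3)], [(nat_lit 1), (nat_lit 1)], (nat_lit 0x81000000002000000000000000000000000000000000000000000000000000000)⟩,
  ⟨(nat_lit 0), [(nat_lit 3)], [(nat_lit 2), (nat_lit 2)], (nat_lit 0x80000000000000800004000000000000000000000000000000000000000000000)⟩,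
  ⟨(nat_lit 0), [(nat_lit 4)], [(nat_lit 2), (nat_lit 2)], (nat_lit 0x81000000100000000000000000000000000000000000000000000000000000000)⟩,
  ⟨(nat_lit 0), [(nat_lit 5)], [(nat_lit 3), (nat_lit 3)], (nat_lit 0x80020000000000000000000000000000000000000000000000000000000000000)⟩,
  ⟨(nat_lit 0), [(nat_lit 1)], [(nat_lit 0), (nat_lit 0)], (nat_lit 0x81000000000000000000000000000000040000200000000000000000000000000)⟩,
  ⟨(nat_lit 0), [(nat_lit 2)], [(nat_lit 1), (nat_lit 1)], (nat_lit 0x81000000000000000000000020000100000000000000000000000000000000000)⟩,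
  ⟨(nat_lit 1), [(nat_lit 3), (nat_lit 4)], [(nat_lit 4), (nat_lit 3), (nat_lit 2)], (nat_lit 0x80000000000000000000000000000000000000000000000000000000000004000)⟩,
  ⟨(nat_lit 0), [(nat_lit 5)], [(nat_lit 5), (nat_lit 1)], (nat_lit 0x81020000000000000000000000000000000000000000000000000000000000000)⟩,
  ⟨(nat_lit 0), [(nat_lit 4)], [(nat_lit 0), (nat_lit 0)], (nat_lit 0x81020000000040800000001000000000000000000000000000000000000000000)⟩,
  ⟨(nat_lit 0), [(nat_lit 1)], [(nat_lit 1), (nat_lit 0)], (nat_lit 0x81000008000000000000000000000000040010000000000000000000000000000)⟩,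
  ⟨(nat_lit 0), [(nat_lit 2)], [(nat_lit 2), (nat_lit 1)], (nat_lit 0x81000400000000000000000020008000000000000000000000000000000000000)⟩,
  ⟨(nat_lit 1), [(nat_lit 5), (nat_lit 5)], [], (nat_lit 0x81020000100040800004001000000000000000000001000008000000000000000)⟩,
  ⟨(nat_lit 2), [(nat_lit 6), (nat_lit 6)], [], (nat_lit 0x80000400000000810004000020008000000000004000000000000000000000000)⟩,
  ⟨(nat_lit 0), [(nat_lit 3)], [(nat_lit 3), (nat_lit 2)], (nat_lit 0x80000000100000800200000000000000000000000000000000000000000000000)⟩,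
  ⟨(nat_lit 1), [(nat_lit 7), (nat_lit 7)], [(nat_lit 2)], (nat_lit 0x81000400000000810200000000400000040000000000000000000000000004000)⟩,
  ⟨(nat_lit 0), [(nat_lit 4)], [(nat_lit 4), (nat_lit 0)], (nat_lit 0x81020400000040810000000000000000000000000000000000000000000000000)⟩,
  ⟨(nat_lit 0), [(nat_lit 3)], [(nat_lit 2), (nat_lit 0)], (nat_lit 0x80020000100000000000001000000000000000000000000000000000000000000)⟩,
  ⟨(nat_lit 0), [(nat_lit 2)], [(nat_lit 1), (nat_lit 0)], (nat_lit 0x80000000000000810000000000400002000800000000000000000000000000000)⟩,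
  ⟨(nat_lit 0), [(nat_lit 3)], [(nat_lit 2), (nat_lit 1)], (nat_lit 0x81000400100000010000080000400000000000000000000000000000000000000)⟩,
  ⟨(nat_lit 3), [(nat_lit 8), (nat_lit 8)], [], (nat_lit 0x80000000002000010200080020400100040010000000020000000000000000000)⟩]

noncomputable def cx2 : Cert := ⟨Px2, (nat_lit 0), Xx2_0,
  [],
  [(nat_lit 0),
  (nat_lit 0),
  (nat_lit 0),
  (nat_lit 0x80000000000000000000000000000000000000000000000400000000000000000),
  (nat_lit 0x80000000000000000000000000000000000000000080000000000000000000000),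
  (nat_lit 0x80000000000000000000000000000000000800000000000000000000000000000),
  (nat_lit 0x80000000000000000000000000000000000000200000000000000000000000000)],
  (BT.node (nat_lit 14) (BT.node (nat_lit 7) (BT.node (nat_lit 3) (BT.node (nat_lit 1) (BT.leaf (nat_lit 3318213)) (BT.node (nat_lit 2) (BT.leaf (nat_lit 0)) (BT.leaf (nat_lit 27555254)))) (BT.node (nat_lit 5) (BT.node (nat_lit 4) (BT.leaf (nat_lit 1286549)) (BT.leaf (nat_lit 0))) (BT.node (nat_lit 6) (BT.leaf (nat_lit 3318212)) (BT.leaf (nat_lit 0))))) (BT.node (nat_lit 10) (BT.node (nat_lit 8) (BT.leaf (nat_lit 16898)) (BT.node (nat_lit 9) (BT.leaf (nat_lit 0)) (BT.leaf (nat_lit 4864)))) (BT.node (nat_lit 12) (BT.node (nat_lit 11) (BT.leaf (nat_lit 7088660)) (BT.leaf (nat_lit 7948))) (BT.node (nat_lit 13) (BT.leaf (nat_lit 39688)) (BT.leaf (nat_lit 3943168)))))) (BT.node (nat_lit 21) (BT.node (nat_lit 17) (BT.node (nat_lit 15) (BT.leaf (nat_lit 2572)) (BT.node (nat_lit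 16) (BT.leaf (nat_lit 2101376)) (BT.leaf (nat_lit 9181952)))) (BT.node (nat_lit 19) (BT.node (nat_lit 18) (BT.leaf (nat_lit 2109904)) (BT.leaf (nat_lit 2367504))) (BT.node (nat_lit 20) (BT.leaf (nat_lit 3158148)) (BT.leaf (nat_lit 2109840))))) (BT.node (nat_lit 24) (BT.node (nat_lit 22) (BT.leaf (nat_lit 4368)) (BT.node (nat_lit 23) (BT.leaf (nat_lit 4384)) (BT.leaf (nat_lit 4480)))) (BT.node (nat_lit 26) (BT.node (nat_lit 25) (BT.leaf (nat_lit 2)) (BT.leaf (nat_lit 4))) (BT.node (nat_lit 27) (BT.leaf (nat_lit 256)) (BT.leaf (nat_lit 4352)))))))⟩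

theorem okx2 : cx2.OK := Cert.ok_of_check (by decide) (by decide +kernel)


noncomputable def Lx2 : List Lvl := [⟨(nat_lit 0), [[(nat_lit 1), (nat_lit 7), (nat_lit 11), (nat_lit 13)],
  [(nat_lit 3)],
  [(nat_lit 5), (nat_lit 13)],
  [(nat_lit 7)],
  [(nat_lit 9)],
  [(nat_lit 11)],
  [(nat_lit 13)]], (nat_lit 1)⟩]


noncomputable def gx2 : List (List Nat) := [[(nat_lit 15)],
  [(nat_lit 17)],
  [(nat_lit 19)]]

theorem hx2_0 : allFrom (relRow (sameW Nx2 6156 13) 0 Px2) 0 7 = true := by decide +kernel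

theorem hx2 : ∀ j < 7, relRow (sameW Nx2 6156 13) 0 Px2 j = true := by
  have h : ∀ j < 0, relRow (sameW Nx2 6156 13) 0 Px2 j = true := by simp
  have h := forall_lt_add h (allFrom_iff.1 hx2_0)
  exact h

theorem px2 : lall (prAt (sameW Nx2 6156 13) 0 gx2) Px2.prs = true := by decide +kernel

theorem lx2 : lowOK Nx2 6156 0 Px2 Lx2 = true := by decide +kernel

theorem pbdx2 : PBd (⊤ : Subgroup (PG N0)) 2 1 :=
  have h := (mdl.new (k := 13) (l := 10) (by decide) wx2 (by decide +kernel) (by decide +kernel) qx2)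
  h.pbd (h.sameW (k := 13) (by decide)) okx2 (gs := gx2) hx2 px2 lx2 (card_top_eq cardP) (by decide) rfl rfl

noncomputable def Wx3 : List (List Nat) := [[(nat_lit 7), (nat_lit 3), (nat_lit 24), (nat_lit 5), (nat_lit 16), (nat_lit 22), (nat_lit 24), (nat_lit 15), (nat_lit 23), (nat_lit 20)],
  [(nat_lit 15), (nat_lit 15), (nat_lit 1), (nat_lit 15), (nat_lit 20), (nat_lit 17), (nat_lit 15), (nat_lit 23), (nat_lit 23), (nat_lit 21), (nat_lit 23)],
  [(nat_lit 1), (nat_lit 19), (nat_lit 7), (nat_lit 1), (nat_lit 15), (nat_lit 22), (nat_lit 15), (nat_lit 20), (nat_lit 24), (nat_lit 24)],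
  [(nat_lit 23), (nat_lit 19), (nat_lit 5), (nat_lit 22), (nat_lit 19), (nat_lit 17), (nat_lit 19), (nat_lit 19), (nat_lit 23), (nat_lit 23), (nat_lit 23)],
  [(nat_lit 24), (nat_lit 4), (nat_lit 20), (nat_lit 11), (nat_lit 22), (nat_lit 16), (nat_lit 23), (nat_lit 19), (nat_lit 24), (nat_lit 24)],
  [(nat_lit 5), (nat_lit 19), (nat_lit 11), (nat_lit 7), (nat_lit 17), (nat_lit 24), (nat_lit 15), (nat_lit 22), (nat_lit 19), (nat_lit 24)]]

theorem qx3_0 : allFrom (preRow N Nx3 Wx3 6156 13) 0 6 = true := by decide +kernel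

theorem qx3 : ∀ j < 6, preRow N Nx3 Wx3 6156 13 j = true := by
  have h : ∀ j < 0, preRow N Nx3 Wx3 6156 13 j = true := by simp
  have h := forall_lt_add h (allFrom_iff.1 qx3_0)
  exact h

theorem wx3 : wfAll Nx3 6156 = true := by decide +kernel

noncomputable def Px3 : Dat := ⟨(nat_lit 3), (nat_lit 5), (nat_lit 11), (nat_lit 5), (nat_lit 20),
  (BT.node (nat_lit 7) (BT.node (nat_lit 3) (BT.node (nat_lit 1) (BT.leaf [(nat_lit 3), (nat_lit 3)]) (BT.node (nat_lit 2) (BT.leaf [(nat_lit 1), (nat_lit 2)]) (BT.leaf [(nat_lit 4)]))) (BT.node (nat_lit 5) (BT.node (nat_lit 4) (BT.leaf [(nat_lit 2), (nat_lit 4)]) (BT.leaf [(nat_lit 2), (nat_lit 3)])) (BT.node (nat_lit 6) (BT.leaf []) (BT.leaf [(nat_lit 3)])))) (BT.node (nat_lit 11) (BT.node (nat_lit 9) (BT.node (nat_lit 8) (BT.leaf [(nat_lit 3)]) (BT.leaf [(nat_lit 3)])) (BT.node (nat_lit 10) (BT.leaf []) (BT.leaf [(nat_lit 4)]))) (BT.node (nat_lit 13) (BT.node (nat_lit 12) (BT.leaf [(nat_lit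 4)]) (BT.leaf [(nat_lit 4)])) (BT.node (nat_lit 14) (BT.leaf [(nat_lit 4)]) (BT.leaf []))))),
  [⟨(nat_lit 0), [(nat_lit 4)], [(nat_lit 3), (nat_lit 4), (nat_lit 4)]⟩,
  ⟨(nat_lit 0), [(nat_lit 2)], [(nat_lit 2), (nat_lit 2), (nat_lit 3)]⟩,
  ⟨(nat_lit 0), [(nat_lit 1)], [(nat_lit 0), (nat_lit 1), (nat_lit 2), (nat_lit 2), (nat_lit 3), (nat_lit 3)]⟩,
  ⟨(nat_lit 0), [(nat_lit 3)], [(nat_lit 3), (nat_lit 3), (nat_lit 4), (nat_lit 4)]⟩,
  ⟨(nat_lit 0), [(nat_lit 0)], [(nat_lit 0), (nat_lit 1), (nat_lit 1), (nat_lit 2), (nat_lit 2)]⟩]⟩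

noncomputable def Xx3_0 : List Test := [⟨(nat_lit 0), [(nat_lit 1)], [(nat_lit 1), (nat_lit 1), (nat_lit 1)], (nat_lit 0x10000000000100000000000000000000000000000000000000000000)⟩,
  ⟨(nat_lit 0), [(nat_lit 3), (nat_lit 3)], [(nat_lit 3), (nat_lit 1)], (nat_lit 0x60000000000000000000006000000000000000000000000000000000)⟩,
  ⟨(nat_lit 0), [(nat_lit 0)], [(nat_lit 0), (nat_lit 0), (nat_lit 0)], (nat_lit 0x20000000000000000000000004000000000000000000000000000000)⟩,
  ⟨(nat_lit 1), [(nat_lit 0), (nat_lit 0), (nat_lit 0)], [], (nat_lit 0x300200c0000000000400000000000000000000000000000000000003)⟩,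
  ⟨(nat_lit 0), [(nat_lit 3)], [(nat_lit 1), (nat_lit 1), (nat_lit 1)], (nat_lit 0x30000040000000000000003000000000000000000000000000000000)⟩,
  ⟨(nat_lit 1), [(nat_lit 1), (nat_lit 1), (nat_lit 1)], [], (nat_lit 0x60000000000000000403000000004000000000000000000000001800)⟩,
  ⟨(nat_lit 0), [(nat_lit 3)], [(nat_lit 1), (nat_lit 0)], (nat_lit 0x80000000000000000004000000000000000000000000000000000000)⟩,
  ⟨(nat_lit 0), [(nat_lit 4)], [(nat_lit 1), (nat_lit 0)], (nat_lit 0x80000000400000000000000000000000000000000000000000000000)⟩,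
  ⟨(nat_lit 0), [(nat_lit 2), (nat_lit 2)], [(nat_lit 2), (nat_lit 0)], (nat_lit 0x80100000300000000000000000000000060000000000000000000000)⟩,
  ⟨(nat_lit 0), [(nat_lit 1), (nat_lit 1)], [(nat_lit 1), (nat_lit 0)], (nat_lit 0x80000180300000202003808000020030000000180000000000000000)⟩,
  ⟨(nat_lit 1), [(nat_lit 1), (nat_lit 2)], [(nat_lit 2), (nat_lit 1), (nat_lit 3)], (nat_lit 0x80000180280200000003001002000008020000000000001000000000)⟩,
  ⟨(nat_lit 1), [(nat_lit 1), (nat_lit 4)], [(nat_lit 4), (nat_lit 1), (nat_lit 0)], (nat_lit 0x80000080280400000403001002000020010000000000000000000008)⟩,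
  ⟨(nat_lit 1), [(nat_lit 4), (nat_lit 4), (nat_lit 4)], [(nat_lit 3), (nat_lit 3)], (nat_lit 0x8000020028020000040380700000c0280200400c0000300e00000000)⟩,
  ⟨(nat_lit 1), [(nat_lit 2), (nat_lit 2), (nat_lit 2)], [(nat_lit 0)], (nat_lit 0x800201c0100300400c0080700600c0100400000c0080000000c00008)⟩]

noncomputable def cx3 : Cert := ⟨Px3, (nat_lit 1), Xx3_0,
  [⟨(nat_lit 0x40000000000000000000004000000000000000000000000000000000), (nat_lit 3), (nat_lit 36)⟩],
  [(nat_lit 0),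
  (nat_lit 0),
  (nat_lit 0x10000000000000000000000000000000000000040000000000000000),
  (nat_lit 0x20000000000000000000000000000000000000000100000000000000),
  (nat_lit 0x10000000000000000000000000000000000020000000000000000000)],
  (BT.node (nat_lit 7) (BT.node (nat_lit 3) (BT.node (nat_lit 1) (BT.leaf (nat_lit 0)) (BT.node (nat_lit 2) (BT.leaf (nat_lit 0)) (BT.leaf (nat_lit 0)))) (BT.node (nat_lit 5) (BT.node (nat_lit 4) (BT.leaf (nat_lit 3580745)) (BT.leaf (nat_lit 10239488))) (BT.node (nat_lit 6) (BT.leaf (nat_lit 21222)) (BT.leaf (nat_lit 27))))) (BT.node (nat_lit 11) (BT.node (nat_lit 9) (BT.node (nat_lit 8) (BT.leaf (nat_lit 2)) (BT.leaf (nat_lit 2187))) (BT.node (nat_lit 10) (BT.leaf (nat_lit 39528)) (BT.leaf (nat_lit 123932)))) (BT.node (nat_lit 13) (BT.node (nat_lit 12) (BT.leaf (nat_lit 6)) (BT.leaf (nat_lit 6561))) (BT.node (nat_lit 14) (BT.leaf (nat_lit 486)) (BT.leaf (nat_lit 19683))))))⟩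

theorem okx3 : cx3.OK := Cert.ok_of_check (by decide) (by decide +kernel)


noncomputable def Lx3 : List Lvl := [⟨(nat_lit 0), [[(nat_lit 1), (nat_lit 7), (nat_lit 7), (nat_lit 9)],
  [(nat_lit 1), (nat_lit 7), (nat_lit 7), (nat_lit 9)],
  [(nat_lit 3), (nat_lit 9)],
  [(nat_lit 3), (nat_lit 9)],
  [(nat_lit 5)],
  [(nat_lit 5)],
  [(nat_lit 7)],
  [(nat_lit 7)],
  [(nat_lit 9)],
  [(nat_lit 9)]], (nat_lit 1)⟩]


noncomputable def gx3 : List (List Nat) := [[(nat_lit 11)]]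

theorem hx3_0 : allFrom (relRow (sameW Nx3 6156 13) 0 Px3) 0 5 = true := by decide +kernel

theorem hx3 : ∀ j < 5, relRow (sameW Nx3 6156 13) 0 Px3 j = true := by
  have h : ∀ j < 0, relRow (sameW Nx3 6156 13) 0 Px3 j = true := by simp
  have h := forall_lt_add h (allFrom_iff.1 hx3_0)
  exact h

theorem px3 : lall (prAt (sameW Nx3 6156 13) 0 gx3) Px3.prs = true := by decide +kernel

theorem lx3 : lowOK Nx3 6156 0 Px3 Lx3 = true := by decide +kernel

theorem pbdx3 : PBd (⊤ : Subgroup (PG N0)) 3 3 :=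
  have h := (mdl.new (k := 13) (l := 6) (by decide) wx3 (by decide +kernel) (by decide +kernel) qx3)
  h.pbd (h.sameW (k := 13) (by decide)) okx3 (gs := gx3) hx3 px3 lx3 (card_top_eq cardP) (by decide) rfl rfl

instance finitePG : Finite (PG N0) := Nat.finite_of_card_ne_zero (by rw [cardP]; decide)

theorem mult : Nat.card (Mult (⊤ : Subgroup (PG N0))) ≤ 3 :=
  card_mult_le (b := 19) (k := 7) (card_top_eq cardP) [(2, 1), (3, 3)] (by decide +kernel) (by
    simp only [List.mem_cons, List.not_mem_nil, or_false, forall_eq_or_imp, forall_eq]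
    exact ⟨⟨by decide, pbdx2⟩, ⟨by decide, pbdx3⟩⟩)

theorem rels_mem {K : Type*} [Group K] {g : ℕ → K} {rels : List (List ℕ)} (h : ∀ r ∈ rels, ev g r = 1) {m : ℕ}
    {w u : List ℕ} (hb : balanced m (lapp w (subst rels u)) = true) : ev g w ∈ commutator K := by
  have := ev_mem_commutator g hb
  rwa [ev_lapp, ← ev_evs, ev_const_one (x := evs g rels), mul_one] at this
  exact fun i => (nth_mem_or [] rels i).elim (h _) fun e => by rw [evs, e, ev_nil]

theorem schur {F : Type*} [Field F] {ω : F} (hT : (tabQ 2 1 1).Ok (elQ 2 ω)) :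
    HasCyclicSchurMultiplier (Spor.J3 F ω) 3 :=
  have : Finite (Spor.J3 F ω) := Nat.finite_of_card_ne_zero (by rw [card hT]; decide)
  (dom_zmod (cext_mk' _ le_rfl) ((map_ev _ _ _).trans (rels0 hT cw List.mem_cons_self))
    (rels_mem (rels3 hT) (m := 7) (u := [22, 42, 114, 108, 108, 108, 108, 108, 108, 110, 31, 31, 31, 31, 31, 31])
      (by decide +kernel)) (by decide) (order_cw (rep3 hT) (glMat_inj _))).hasCyclic
    ((card_mult_congr (eqv hT)).le.trans (mult_of_top mult))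

end CF.Schur.J3
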