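import Cfsg.Agent.Comp.TCDefs

set_option autoImplicit false
set_option maxRecDepth 1000000
set_option maxHeartbeats 0
set_option Elab.async false

namespace CF.Schur.O82

open CF.Comp

noncomputable def U0_0 : Net := (Net.cons (nat_lit 1) (nat_lit 0x40545014045511015501055051040) (Net.cons (nat_lit 2) (nat_lit 0x311222332101202011102330012200) (Net.cons (nat_lit 4) (nat_lit 0xe0b0d0202040008020f02080300) (Net.cons (nat_lit 8) (nat_lit 0x680006005f0051000900030008) (Net.cons (nat_lit 16) (nat_lit 0x8200006e820000551a00000400) (Net.cons (nat_lit 32) (nat_lit 0x8603090000000034000000) (Net.cons (nat_lit 64) (nat_lit 0xa6e31934000000) (Net.cons (nat_lit 32) (nat_lit 0xeeef9b00000000c5fa0400) (Net.cons (nat_lit 16) (nat_lit 0x6d00005cee00002ff80000d108) (Net.cons (nat_lit 8) (nat_lit 0x86006400a400ec004d009400f8) (Net.cons (nat_lit 4) (nat_lit 0xa0a090c0d01040d0b050c0e05030c) (Net.cons (nat_lit 2) (nat_lit 0x131310002130013031112302102212)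 (Net.cons (nat_lit 1) (nat_lit 0x50554015111104111411445041411) Net.nil)))))))))))))
noncomputable def U0_1 : Net := (Net.cons (nat_lit 1) (nat_lit 0x55114450151404401555544150500) (Net.cons (nat_lit 2) (nat_lit 0x122213211322113101231200020110) (Net.cons (nat_lit 4) (nat_lit 0xf030b0500040c030a0a0604040400) (Net.cons (nat_lit 8) (nat_lit 0x8d009400cc006c00c5005c001c) (Net.cons (nat_lit 16) (nat_lit 0xa10000df49000007d900000100) (Net.cons (nat_lit 32) (nat_lit 0x82241e0000000048000000) (Net.cons (nat_lit 64) (nat_lit 0x86355f48000000) (Net.cons (nat_lit 32) (nat_lit 0xa6bfdf00000000befb0100) (Net.cons (nat_lit 16) (nat_lit 0x3e00000390000056a70000621c) (Net.cons (nat_lit 8) (nat_lit 0x2e00690079002400c800d700e4) (Net.cons (nat_lit 4) (nat_lit 0xb0b090a05090d090403000f0d060e) (Net.cons (nat_lit 2) (nat_lit 0x111102001222300322303212300301) (Net.cons (nat_lit 1) (nat_lit 0x501050555454114541104444041111) Net.nil)))))))))))))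
noncomputable def U0 : List Net := [U0_0, U0_1]
noncomputable def U1_0 : Net := (Net.cons (nat_lit 1) (nat_lit 0x5454004440111104545151511050) (Net.cons (nat_lit 2) (nat_lit 0x120201333300120200021211101000) (Net.cons (nat_lit 4) (nat_lit 0x9020d0c000d060c000b0708000000) (Net.cons (nat_lit 8) (nat_lit 0x7600be0002004800a300050001) (Net.cons (nat_lit 16) (nat_lit 0x22000094d900000c6400004000) (Net.cons (nat_lit 32) (nat_lit 0x4b09190000000060000000) (Net.cons (nat_lit 64) (nat_lit 0xcbdbaae00052b1) (Net.cons (nat_lit 32) (nat_lit 0xe24fe80000000004d14aad) (Net.cons (nat_lit 16) (nat_lit 0x800000aa5a0000cf4700000699) (Net.cons (nat_lit 8) (nat_lit 0x1600a2009e00ce0033006c0029) (Net.cons (nat_lit 4) (nat_lit 0x902090703050203070c0f0c0f0d08) (Net.cons (nat_lit 2) (nat_lit 0x102220233023220220032133212310) (Net.cons (nat_lit 1) (nat_lit 0x441440440441151541545555415444) Net.nil)))))))))))))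
noncomputable def U1_1 : Net := (Net.cons (nat_lit 1) (nat_lit 0x44151110444055111544411005014) (Net.cons (nat_lit 2) (nat_lit 0x3030311011202211011300231210) (Net.cons (nat_lit 4) (nat_lit 0xd010d0a060b01090c0c0d020f0000) (Net.cons (nat_lit 8) (nat_lit 0x4a002b00b60032005a002c00a4) (Net.cons (nat_lit 16) (nat_lit 0x3c0000b891000047000000c900) (Net.cons (nat_lit 32) (nat_lit 0x5b21620000000060000000) (Net.cons (nat_lit 64) (nat_lit 0x819fce7bfae234) (Net.cons (nat_lit 32) (nat_lit 0xef58b10000000029d6cb74) (Net.cons (nat_lit 16) (nat_lit 0x1d000021680000850e0000b9ea) (Net.cons (nat_lit 8) (nat_lit 0x9100e70070004200fa00850040) (Net.cons (nat_lit 4) (nat_lit 0xd020e040c00020f0f0906050c010c) (Net.cons (nat_lit 2) (nat_lit 0x222023201320210021121212011202) (Net.cons (nat_lit 1) (nat_lit 0x414141514111154145100050055110) Net.nil)))))))))))))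
noncomputable def U1_2 : Net := (Net.cons (nat_lit 1) (nat_lit 0x100105451115044144410514051400) (Net.cons (nat_lit 2) (nat_lit 0x232320100001321110232323032000) (Net.cons (nat_lit 4) (nat_lit 0x70f04080e0c030b0a000a0e0000) (Net.cons (nat_lit 8) (nat_lit 0x5100ad0014004700b200cc00a2) (Net.cons (nat_lit 16) (nat_lit 0x100000a1010000a8000000e400) (Net.cons (nat_lit 32) (nat_lit 0x1de40200000000f8000000) (Net.cons (nat_lit 64) (nat_lit 0x371654fac8f012) (Net.cons (nat_lit 32) (nat_lit 0xa2d98400000000273c1020) (Net.cons (nat_lit 16) (nat_lit 0x13000046230000ebeb00004108) (Net.cons (nat_lit 8) (nat_lit 0x6400e8004e00f300430030002e) (Net.cons (nat_lit 4) (nat_lit 0xf050e0f030e0e0d0b070803050a04) (Net.cons (nat_lit 2) (nat_lit 0x301202212330110013201201021200) (Net.cons (nat_lit 1) (nat_lit 0x505105114510005055055045515014) Net.nil)))))))))))))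
noncomputable def U1_3 : Net := (Net.cons (nat_lit 1) (nat_lit 0x114045004551544045050050001010) (Net.cons (nat_lit 2) (nat_lit 0x23112121321130231202122100010) (Net.cons (nat_lit 4) (nat_lit 0xe08040e010d08060c020904010b00) (Net.cons (nat_lit 8) (nat_lit 0x16001300a4001f001f00400008) (Net.cons (nat_lit 16) (nat_lit 0x1400003f2a0000a65c00000a00) (Net.cons (nat_lit 32) (nat_lit 0x18e0620000000004000000) (Net.cons (nat_lit 64) (nat_lit 0x59ba870e8749f8) (Net.cons (nat_lit 32) (nat_lit 0x319fff00000000be340754) (Net.cons (nat_lit 16) (nat_lit 0x14000085e7000027a20000204c) (Net.cons (nat_lit 8) (nat_lit 0x7004a00a500770021004300c4) (Net.cons (nat_lit 4) (nat_lit 0xf0904030c09060002080f06030a0c) (Net.cons (nat_lit 2) (nat_lit 0x131112200021021321030103110130) (Net.cons (nat_lit 1) (nat_lit 0x155040410551544455050444505500) Net.nil)))))))))))))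
noncomputable def U1_4 : Net := (Net.cons (nat_lit 1) (nat_lit 0x445051454400511051114451105440) (Net.cons (nat_lit 2) (nat_lit 0x111120023202101221113210300200) (Net.cons (nat_lit 4) (nat_lit 0xa0a020d020f020e0c050602040100) (Net.cons (nat_lit 8) (nat_lit 0x3a00ad00b500ec000200730034) (Net.cons (nat_lit 16) (nat_lit 0x60000058750000102c00005200) (Net.cons (nat_lit 32) (nat_lit 0x2d06120000000000000000) (Net.cons (nat_lit 64) (nat_lit 0xeeb4be31d14380) (Net.cons (nat_lit 32) (nat_lit 0xe9ed55000000009d7ec8d0) (Net.cons (nat_lit 16) (nat_lit 0xb90000d8120000aefd000053ec) (Net.cons (nat_lit 8) (nat_lit 0x3700c200d200530019005800a4) (Net.cons (nat_lit 4) (nat_lit 0x5090201000e060f060d010b010500) (Net.cons (nat_lit 2) (nat_lit 0x201102120332312331232023100230) (Net.cons (nat_lit 1) (nat_lit 0x41004051154105400505140104410) Net.nil)))))))))))))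
noncomputable def U1_5 : Net := (Net.cons (nat_lit 1) (nat_lit 0x450400554554015555411140440050) (Net.cons (nat_lit 2) (nat_lit 0x102321101030211030202131311320) (Net.cons (nat_lit 4) (nat_lit 0x3020109090b090b0e020200020400) (Net.cons (nat_lit 8) (nat_lit 0xb00e40010000200640031000c) (Net.cons (nat_lit 16) (nat_lit 0x610000f9c60000a94400001100) (Net.cons (nat_lit 32) (nat_lit 0xa089020000000045000000) (Net.cons (nat_lit 64) (nat_lit 0x1baeb26db41178) (Net.cons (nat_lit 32) (nat_lit 0x51561b00000000190cc858) (Net.cons (nat_lit 16) (nat_lit 0xce0000f58b00006b980000d1ec) (Net.cons (nat_lit 8) (nat_lit 0x6e00dd00f9002800fd000b00cc) (Net.cons (nat_lit 4) (nat_lit 0xe080f030a090f0f070108070000) (Net.cons (nat_lit 2) (nat_lit 0x10021210110332220212111311100) (Net.cons (nat_lit 1) (nat_lit 0x550414054454110545401000440040) Net.nil)))))))))))))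
noncomputable def U1_6 : Net := (Net.cons (nat_lit 1) (nat_lit 0x514505511551155100111145501040) (Net.cons (nat_lit 2) (nat_lit 0x11220333012103221033122002200) (Net.cons (nat_lit 4) (nat_lit 0xc020709070c080909070109030400) (Net.cons (nat_lit 8) (nat_lit 0x9b00580072004800f0004400bb) (Net.cons (nat_lit 16) (nat_lit 0x55000016450000884100009100) (Net.cons (nat_lit 32) (nat_lit 0xf2025400000000f8000000) (Net.cons (nat_lit 64) (nat_lit 0x26fa57fed9a10b) (Net.cons (nat_lit 32) (nat_lit 0x1051eb00000000d87715d2) (Net.cons (nat_lit 16) (nat_lit 0xa90000e1630000d1b600000578) (Net.cons (nat_lit 8) (nat_lit 0xb300f600b5007d0097004b000b) (Net.cons (nat_lit 4) (nat_lit 0xd0f07010e0a0b0909060f080b0d00) (Net.cons (nat_lit 2) (nat_lit 0x110123012003201301032310023210) (Net.cons (nat_lit 1) (nat_lit 0x444040551140441155044104454140) Net.nil)))))))))))))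
noncomputable def U1_7 : Net := (Net.cons (nat_lit 1) (nat_lit 0x440010400404011050104145440000) (Net.cons (nat_lit 2) (nat_lit 0x320223131012232003200310031100) (Net.cons (nat_lit 4) (nat_lit 0xe0304050a0302040b0c0e0e0e0900) (Net.cons (nat_lit 8) (nat_lit 0xe000d00bc00e4005f00830003) (Net.cons (nat_lit 16) (nat_lit 0x240000a3d90000e6a000002400) (Net.cons (nat_lit 32) (nat_lit 0x4cc5900000000052000000) (Net.cons (nat_lit 64) (nat_lit 0xa6db1c7e690c83) (Net.cons (nat_lit 32) (nat_lit 0xb52cb500000000d26bac12) (Net.cons (nat_lit 16) (nat_lit 0x4e0000571a0000d07d0000a0f2) (Net.cons (nat_lit 8) (nat_lit 0x4800840098006100e600830063) (Net.cons (nat_lit 4) (nat_lit 0x4080001030306050a0b0103050900) (Net.cons (nat_lit 2) (nat_lit 0x230133022213031003202021031100) (Net.cons (nat_lit 1) (nat_lit 0x455544144414441100504154501050) Net.nil)))))))))))))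
noncomputable def U1_8 : Net := (Net.cons (nat_lit 1) (nat_lit 0x51055104404140145151010445000) (Net.cons (nat_lit 2) (nat_lit 0x133102010231101212021321013200) (Net.cons (nat_lit 4) (nat_lit 0x30d0305080a01020c020609050000) (Net.cons (nat_lit 8) (nat_lit 0x96006e00c60077001400760003) (Net.cons (nat_lit 16) (nat_lit 0x62000035c00000540400001b00) (Net.cons (nat_lit 32) (nat_lit 0x8e22880000000004000000) (Net.cons (nat_lit 64) (nat_lit 0x161e092cc839c1) (Net.cons (nat_lit 32) (nat_lit 0x3a29cf0000000024847b43) (Net.cons (nat_lit 16) (nat_lit 0x77000037a20000494600001b80) (Net.cons (nat_lit 8) (nat_lit 0x36007c00c80067001e003400c3) (Net.cons (nat_lit 4) (nat_lit 0xf070207080e02020d00020d0d0900) (Net.cons (nat_lit 2) (nat_lit 0x121322110232121213011330210200) (Net.cons (nat_lit 1) (nat_lit 0x451441014404101145100011410100) Net.nil)))))))))))))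
noncomputable def U1_9 : Net := (Net.cons (nat_lit 1) (nat_lit 0x504410505111155104440055140000) (Net.cons (nat_lit 2) (nat_lit 0x112320231200323112320131110000) (Net.cons (nat_lit 4) (nat_lit 0xd060c030b0301060c01060c040000) (Net.cons (nat_lit 8) (nat_lit 0x56008a003a0071004b00c00000) (Net.cons (nat_lit 16) (nat_lit 0x25000000170000800a00000900) (Net.cons (nat_lit 32) (nat_lit 0x18010000000084000000) (Net.cons (nat_lit 64) (nat_lit 0xdfa1498c9f3a00) (Net.cons (nat_lit 32) (nat_lit 0x8c3c2700000000c78c6000) (Net.cons (nat_lit 16) (nat_lit 0x6500001a570000806a00000960) (Net.cons (nat_lit 8) (nat_lit 0x5600aa003a0071005f00c00000) (Net.cons (nat_lit 4) (nat_lit 0xd060c030b0301060c01060d040000) (Net.cons (nat_lit 2) (nat_lit 0x112320233200303112331131110200) (Net.cons (nat_lit 1) (nat_lit 0x504410505111155104440055140000) Net.nil)))))))))))))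
noncomputable def U1_10 : Net := (Net.cons (nat_lit 1) (nat_lit 0x51055104404140145151010445000) (Net.cons (nat_lit 2) (nat_lit 0x133102010231101212021321013200) (Net.cons (nat_lit 4) (nat_lit 0x30d0305080a01020c020609050000) (Net.cons (nat_lit 8) (nat_lit 0x96006e00c60077001400760003) (Net.cons (nat_lit 16) (nat_lit 0x62000035c00000540400001b00) (Net.cons (nat_lit 32) (nat_lit 0x8e22880000000004000000) (Net.cons (nat_lit 64) (nat_lit 0x161e092cc839c1) (Net.cons (nat_lit 32) (nat_lit 0x3a29cf0000000024847b43) (Net.cons (nat_lit 16) (nat_lit 0x77000037a20000494600001b80) (Net.cons (nat_lit 8) (nat_lit 0x36007c00c80067001e003400c3) (Net.cons (nat_lit 4) (nat_lit 0xf070207080e02020d00020d0d0900) (Net.cons (nat_lit 2) (nat_lit 0x121322110232121213011330210200) (Net.cons (nat_lit 1) (nat_lit 0x451441014404101145100011410100) Net.nil)))))))))))))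
noncomputable def U1 : List Net := [U1_0, U1_1, U1_2, U1_3, U1_4, U1_5, U1_6, U1_7, U1_8, U1_9, U1_10]
noncomputable def UW : List (List Nat) := [[(nat_lit 3), (nat_lit 2), (nat_lit 3), (nat_lit 2), (nat_lit 4), (nat_lit 2)],
  [(nat_lit 1), (nat_lit 3), (nat_lit 2), (nat_lit 4), (nat_lit 1), (nat_lit 3), (nat_lit 1), (nat_lit 1)],
  [(nat_lit 8), (nat_lit 6), (nat_lit 7), (nat_lit 5), (nat_lit 7)],
  [(nat_lit 6), (nat_lit 6), (nat_lit 6)],
  [(nat_lit 12), (nat_lit 10), (nat_lit 11), (nat_lit 10), (nat_lit 12), (nat_lit 9)],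
  [(nat_lit 10), (nat_lit 11), (nat_lit 10), (nat_lit 12), (nat_lit 10), (nat_lit 12), (nat_lit 10), (nat_lit 12), (nat_lit 9)],
  [(nat_lit 14), (nat_lit 16), (nat_lit 13), (nat_lit 15), (nat_lit 13), (nat_lit 16), (nat_lit 14), (nat_lit 16), (nat_lit 16)],
  [(nat_lit 16), (nat_lit 16), (nat_lit 16), (nat_lit 16), (nat_lit 14), (nat_lit 14)],
  [(nat_lit 18), (nat_lit 19), (nat_lit 19), (nat_lit 19), (nat_lit 17), (nat_lit 20)],
  [(nat_lit 20), (nat_lit 20), (nat_lit 17), (nat_lit 20), (nat_lit 20), (nat_lit 18), (nat_lit 19)],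
  [(nat_lit 23), (nat_lit 23), (nat_lit 21)]]
noncomputable def UC : List Lvl := [⟨(nat_lit 0), [[(nat_lit 1)],
  [(nat_lit 3)]], (nat_lit 7)⟩,
  ⟨(nat_lit 1), [[(nat_lit 5)],
  [(nat_lit 7)]], (nat_lit 6)⟩,
  ⟨(nat_lit 2), [[(nat_lit 9)],
  [(nat_lit 11)]], (nat_lit 5)⟩,
  ⟨(nat_lit 3), [[(nat_lit 13)],
  [(nat_lit 15)]], (nat_lit 4)⟩,
  ⟨(nat_lit 4), [[(nat_lit 17)],
  [(nat_lit 19)]], (nat_lit 2)⟩,
  ⟨(nat_lit 5), [[(nat_lit 21)],
  [(nat_lit 23)]], (nat_lit 1)⟩,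
  ⟨(nat_lit 6), [[(nat_lit 25)]], (nat_lit 2)⟩]
noncomputable def UV : List (List Nat) := [[(nat_lit 0x34b6c147d83ceb1a8f205328c5b0e3), (nat_lit 0xcb493eb827c314e570dfacd73a4f1c)],
  [(nat_lit 0x72b52ca8ee1174132185c262ae3f59), (nat_lit 0x8d4ad35711ee8becde7a3d9d51c0a6)],
  [(nat_lit 0xcd3f234b24c18851c2b13d2fea2325), (nat_lit 0x32c0dcb4db3e77ae3d4ec2d015dcda)],
  [(nat_lit 0x142ee7f6afce268635a90131a1768), (nat_lit 0xfebd118095031d979ca56fece5e897)],
  [(nat_lit 0xe51cc871c3db17d09fa7631410103b), (nat_lit 0x1ae3378e3c24e82f60589cebefefc4)],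
  [(nat_lit 0xf465af04701c30a7dc174c57c0cd49), (nat_lit 0xb9a50fb8fe3cf5823e8b3a83f32b6)],
  [(nat_lit 0xd87155d9a1e187a8a814f54b3ce481), (nat_lit 0x278eaa265e1e785757eb0ab4c31b7e)],
  [(nat_lit 0x20cb02fc5d481b4b37283fdb2047d8), (nat_lit 0xdf34fd03a2b7e4b4c8d7c024dfb827)]]
noncomputable def Uσ : Net := (Net.cons (nat_lit 1) (nat_lit 0x4504504004145411010011450040) (Net.cons (nat_lit 2) (nat_lit 0x331220230011222220223113122220) (Net.cons (nat_lit 4) (nat_lit 0x10d0c01040a0605000100090e0900) (Net.cons (nat_lit 8) (nat_lit 0xaf0080003c009200480041002c) (Net.cons (nat_lit 16) (nat_lit 0xdf0000814600002a080000c800) (Net.cons (nat_lit 32) (nat_lit 0x5d00110000000040000000) (Net.cons (nat_lit 64) (nat_lit 0xa5ca1e42f821eb) (Net.cons (nat_lit 32) (nat_lit 0x75f50d00000000cf6373d7) (Net.cons (nat_lit 16) (nat_lit 0x290000d194000058410000e79f) (Net.cons (nat_lit 8) (nat_lit 0x80083000000200066005c00cc) (Net.cons (nat_lit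 4) (nat_lit 0x7030605040d0f0c0d0b040c000405) (Net.cons (nat_lit 2) (nat_lit 0x330310223131032211000311313102) (Net.cons (nat_lit 1) (nat_lit 0x500054151445115050154540040055) Net.nil)))))))))))))
noncomputable def UCs : List (List Nat) := [[(nat_lit 0), (nat_lit 0xffffffffffffffffffffffffffffff)],
  [(nat_lit 0), (nat_lit 0xffffffffffffffffffffffffffffff)]]
noncomputable def UA : List (List (List Nat)) := [[[1, 0, 1, 1, 1, 0, 0, 1], [1, 0, 0, 0, 0, 1, 0, 1], [1, 0, 1, 1, 1, 0, 1, 0], [0, 0, 1, 1, 1, 0, 0, 0], [0, 1, 1, 0, 1, 0, 0, 0], [1, 1, 1, 1, 1, 0, 1, 0], [1, 0, 1, 0, 0, 1, 0, 1], [0, 1, 0, 0, 1, 0, 0, 1]],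
  [[1, 0, 0, 0, 0, 0, 0, 1], [0, 1, 0, 0, 0, 0, 0, 1], [0, 1, 0, 0, 0, 0, 0, 0], [1, 1, 0, 0, 0, 0, 1, 1], [1, 1, 1, 0, 1, 0, 1, 1], [0, 0, 0, 1, 1, 0, 0, 0], [0, 0, 1, 1, 1, 1, 0, 0], [1, 0, 1, 0, 0, 0, 0, 1]]]
noncomputable def UX : List (List (List (List Nat))) := [[[[0, 0, 1, 1, 0, 1, 0, 0], [1, 0, 0, 0, 0, 0, 1, 1], [0, 1, 1, 1, 0, 1, 0, 1], [1, 1, 0, 0, 0, 0, 0, 1], [0, 1, 0, 1, 1, 0, 0, 0], [0, 0, 1, 0, 0, 0, 0, 0], [1, 1, 0, 1, 1, 0, 0, 1], [0, 1, 0, 1, 1, 1, 0, 1]],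
  [[1, 0, 1, 0, 1, 1, 1, 0], [1, 0, 1, 1, 1, 0, 1, 0], [0, 1, 0, 0, 0, 0, 1, 1], [1, 0, 1, 1, 0, 0, 0, 0], [0, 0, 0, 0, 1, 0, 0, 1], [1, 0, 0, 1, 1, 1, 0, 1], [0, 0, 0, 0, 0, 1, 0, 0], [1, 0, 0, 1, 0, 1, 1, 0]],
  [[1, 0, 1, 1, 0, 0, 0, 0], [0, 0, 0, 1, 1, 0, 1, 0], [0, 0, 0, 0, 0, 1, 0, 0], [0, 0, 1, 1, 0, 1, 1, 1], [0, 0, 1, 0, 0, 1, 0, 1], [1, 0, 1, 1, 0, 0, 1, 1], [0, 1, 0, 0, 1, 0, 1, 0], [1, 0, 1, 1, 1, 0, 1, 0]],
  [[1, 1, 0, 0, 1, 1, 0, 0], [0, 1, 1, 1, 1, 0, 0, 0], [0, 0, 0, 1, 1, 1, 1, 0], [1, 1, 0, 0, 0, 0, 1, 0], [0, 1, 0, 1, 1, 1, 0, 1], [0, 0, 0, 0, 0, 0, 1, 0], [0, 0, 0, 0, 1, 1, 0, 1], [0, 1, 0, 1, 0, 1, 0, 1]]],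
 [[[1, 1, 1, 1, 0, 1, 1, 0], [0, 0, 0, 0, 1, 0, 0, 1], [0, 0, 0, 0, 0, 0, 1, 1], [1, 1, 1, 1, 0, 0, 0, 0], [0, 1, 0, 0, 0, 0, 1, 1], [0, 1, 1, 1, 0, 0, 0, 0], [0, 1, 1, 0, 0, 1, 1, 0], [0, 1, 0, 0, 1, 0, 1, 1]],
  [[1, 1, 1, 1, 1, 0, 0, 1], [1, 1, 0, 1, 0, 1, 0, 1], [1, 0, 0, 1, 0, 1, 1, 0], [0, 0, 0, 0, 1, 0, 0, 1], [0, 1, 0, 0, 0, 0, 0, 1], [1, 1, 1, 1, 0, 1, 1, 0], [1, 1, 1, 1, 0, 1, 0, 1], [1, 1, 0, 0, 0, 0, 0, 1]],
  [[0, 0, 0, 1, 0, 1, 0, 0], [0, 0, 1, 0, 1, 0, 0, 0], [1, 0, 1, 1, 1, 0, 1, 0], [1, 0, 0, 1, 0, 1, 1, 0], [0, 0, 0, 0, 1, 0, 0, 1], [1, 1, 1, 1, 1, 0, 0, 1], [0, 1, 1, 0, 1, 0, 0, 1], [0, 1, 0, 0, 1, 0, 0, 1]],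
  [[0, 0, 0, 0, 1, 0, 0, 1], [0, 1, 1, 0, 0, 1, 1, 0], [0, 1, 0, 0, 0, 0, 1, 0], [1, 0, 1, 1, 1, 1, 0, 1], [0, 1, 1, 1, 1, 1, 1, 0], [1, 1, 1, 1, 1, 1, 0, 0], [0, 1, 1, 0, 1, 0, 0, 0], [0, 1, 1, 0, 1, 1, 1, 0]]]]
noncomputable def UB : List (List Nat) := [[0, 0, 0, 0, 1, 0, 0, 0], [0, 0, 0, 0, 0, 1, 0, 0], [0, 0, 0, 0, 0, 0, 1, 0], [0, 0, 0, 0, 0, 0, 0, 1], [0, 0, 0, 0, 0, 0, 0, 0], [0, 0, 0, 0, 0, 0, 0, 0], [0, 0, 0, 0, 0, 0, 0, 0], [0, 0, 0, 0, 0, 0, 0, 0]]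
noncomputable def Nx2_0 : Net := (Net.cons (nat_lit 1) (nat_lit 0x150105114051510155001401000000) (Net.cons (nat_lit 2) (nat_lit 0x232032120132303100102021211000) (Net.cons (nat_lit 4) (nat_lit 0x403060c090c06020b00080a000000) (Net.cons (nat_lit 8) (nat_lit 0x500094001500a2004800000058) (Net.cons (nat_lit 16) (nat_lit 0xca0000e0800000276400002000) (Net.cons (nat_lit 32) (nat_lit 0x8000090000000060000000) (Net.cons (nat_lit 64) (nat_lit 0xa64160f404116d) (Net.cons (nat_lit 32) (nat_lit 0x8430aa00000000e0c4ae20) (Net.cons (nat_lit 16) (nat_lit 0xda0000e2880000277400006000) (Net.cons (nat_lit 8) (nat_lit 0xd4009400810022004800890058) (Net.cons (nat_lit 4) (nat_lit 0x403070c090d06020b01080a000001) (Net.cons (nat_lit 2) (nat_lit 0x232032120122203100102221211001) (Net.cons (nat_lit 1) (nat_lit 0x150105114051510155001401000000) Net.nil)))))))))))))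
noncomputable def Nx2_1 : Net := (Net.cons (nat_lit 1) (nat_lit 0x101114410140005045011114100000) (Net.cons (nat_lit 2) (nat_lit 0x120221211310122121003012023210) (Net.cons (nat_lit 4) (nat_lit 0x2010e030101010a01090404030200) (Net.cons (nat_lit 8) (nat_lit 0x500034004800540082006a0006) (Net.cons (nat_lit 16) (nat_lit 0x4d0000820e0000690500000000) (Net.cons (nat_lit 32) (nat_lit 0x20c0000000000000000000) (Net.cons (nat_lit 64) (nat_lit 0x3b8850011f5800) (Net.cons (nat_lit 32) (nat_lit 0x42a62400000000802261af) (Net.cons (nat_lit 16) (nat_lit 0xed0000921a00007b0500001254) (Net.cons (nat_lit 8) (nat_lit 0x49002d0059007d0082005f0017) (Net.cons (nat_lit 4) (nat_lit 0x2000f030101050a01090504030600) (Net.cons (nat_lit 2) (nat_lit 0x120221211310122121003012023210) (Net.cons (nat_lit 1) (nat_lit 0x151115400140105105411104140400) Net.nil)))))))))))))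
noncomputable def Nx2_2 : Net := (Net.cons (nat_lit 1) (nat_lit 0x514545545140444000405104450010) (Net.cons (nat_lit 2) (nat_lit 0x13320120011012213210031003000) (Net.cons (nat_lit 4) (nat_lit 0x1010e00040e0c0b0c00000a040800) (Net.cons (nat_lit 8) (nat_lit 0x52000c00f200c5006c004c00b0) (Net.cons (nat_lit 16) (nat_lit 0x100000a6060000101900004f00) (Net.cons (nat_lit 32) (nat_lit 0x12c0050000000007000000) (Net.cons (nat_lit 64) (nat_lit 0xe1ad0387367d86) (Net.cons (nat_lit 32) (nat_lit 0xfeeaf50000000087ec9ab3) (Net.cons (nat_lit 16) (nat_lit 0xd0000024e60000501900006f88) (Net.cons (nat_lit 8) (nat_lit 0x52002e0034006f007400cc00b0) (Net.cons (nat_lit 4) (nat_lit 0x5030d060700090c0e0c0a06040c0b) (Net.cons (nat_lit 2) (nat_lit 0x13320320011212213210033003002) (Net.cons (nat_lit 1) (nat_lit 0x514545545150454010405104450110) Net.nil)))))))))))))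
noncomputable def Nx2_3 : Net := (Net.cons (nat_lit 1) (nat_lit 0x441545504451111004110000440000) (Net.cons (nat_lit 2) (nat_lit 0x201333121123222101011010020000) (Net.cons (nat_lit 4) (nat_lit 0xc0b0c00080b040e01020205080100) (Net.cons (nat_lit 8) (nat_lit 0xa1003a00ce00a2001000210070) (Net.cons (nat_lit 16) (nat_lit 0x4c0000a8e70000a0450000b100) (Net.cons (nat_lit 32) (nat_lit 0x10c0480000000090000000) (Net.cons (nat_lit 64) (nat_lit 0xcc6329b093a9e1) (Net.cons (nat_lit 32) (nat_lit 0xf035cf0000000091a03115) (Net.cons (nat_lit 16) (nat_lit 0x4c0000aae70000a44700007908) (Net.cons (nat_lit 8) (nat_lit 0x6100fa009a00a20050002100f2) (Net.cons (nat_lit 4) (nat_lit 0xc0b0c01000b040e0102020d080900) (Net.cons (nat_lit 2) (nat_lit 0x201233121122322101011010020000) (Net.cons (nat_lit 1) (nat_lit 0x441545504451111004110000440000) Net.nil)))))))))))))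
noncomputable def Nx2_4 : Net := (Net.cons (nat_lit 1) (nat_lit 0x415450051511455451041154140100) (Net.cons (nat_lit 2) (nat_lit 0x221202222123212011101121130000) (Net.cons (nat_lit 4) (nat_lit 0xf0206020e010601040c0f04040000) (Net.cons (nat_lit 8) (nat_lit 0x2a00000069002200ff008000c6) (Net.cons (nat_lit 16) (nat_lit 0xa30000020d0000841800006100) (Net.cons (nat_lit 32) (nat_lit 0x86af0000000000e1000000) (Net.cons (nat_lit 64) (nat_lit 0xbb4ceefd6de353) (Net.cons (nat_lit 32) (nat_lit 0xc995f3000000006f4d5cb0) (Net.cons (nat_lit 16) (nat_lit 0xfc0000207e0000746100006e9f) (Net.cons (nat_lit 8) (nat_lit 0x9f00f300f000cf001b006500a2) (Net.cons (nat_lit 4) (nat_lit 0x60d0f0c0f030f03010a0f050e080d) (Net.cons (nat_lit 2) (nat_lit 0x223002321221200111132013113033) (Net.cons (nat_lit 1) (nat_lit 0x140105504044100104514401415455) Net.nil)))))))))))))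
noncomputable def Nx2_5 : Net := (Net.cons (nat_lit 1) (nat_lit 0x5044010540155400140144144040) (Net.cons (nat_lit 2) (nat_lit 0x311031021111012222200033001020) (Net.cons (nat_lit 4) (nat_lit 0x4010c0908080b0605010109090800) (Net.cons (nat_lit 8) (nat_lit 0x7100a500f200f500980000000c) (Net.cons (nat_lit 16) (nat_lit 0x9000071060000000000008100) (Net.cons (nat_lit 32) (nat_lit 0x2060080000000070000000) (Net.cons (nat_lit 64) (nat_lit 0xb00104f4d365c8) (Net.cons (nat_lit 32) (nat_lit 0x24a1790000000079008911) (Net.cons (nat_lit 16) (nat_lit 0x900007d4e0000064200009744) (Net.cons (nat_lit 8) (nat_lit 0x3900e500f200f500980020004c) (Net.cons (nat_lit 4) (nat_lit 0x4010c0908080b0605090109090802) (Net.cons (nat_lit 2) (nat_lit 0x311031031111012222200033001020) (Net.cons (nat_lit 1) (nat_lit 0x5044010540155400140144144040) Net.nil)))))))))))))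
noncomputable def Nx2_6 : Net := (Net.cons (nat_lit 1) (nat_lit 0x501015415015114410005001000440) (Net.cons (nat_lit 2) (nat_lit 0x310231222331030000300000110000) (Net.cons (nat_lit 4) (nat_lit 0x70d0508080d020703000500000100) (Net.cons (nat_lit 8) (nat_lit 0xe400880083006b0094007f0004) (Net.cons (nat_lit 16) (nat_lit 0x11520000254800000200) (Net.cons (nat_lit 32) (nat_lit 0x4982400000000000000000) (Net.cons (nat_lit 64) (nat_lit 0xfe074e1522607) (Net.cons (nat_lit 32) (nat_lit 0x9ed6c00000000007330098) (Net.cons (nat_lit 16) (nat_lit 0x39760000214900003b05) (Net.cons (nat_lit 8) (nat_lit 0xe5008800c3006f0094006b0005) (Net.cons (nat_lit 4) (nat_lit 0x70d01080809060703010501010001) (Net.cons (nat_lit 2) (nat_lit 0x200230222221121001201011100101) (Net.cons (nat_lit 1) (nat_lit 0x501015415015114410005001000440) Net.nil)))))))))))))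
noncomputable def Nx2_7 : Net := (Net.cons (nat_lit 1) (nat_lit 0x40551415510505504140414415540) (Net.cons (nat_lit 2) (nat_lit 0x121111312132112220312000200) (Net.cons (nat_lit 4) (nat_lit 0xa060b010f0f0e010f040a00060a00) (Net.cons (nat_lit 8) (nat_lit 0x840052002500c2001800c00017) (Net.cons (nat_lit 16) (nat_lit 0x2000001b510000056000001000) (Net.cons (nat_lit 32) (nat_lit 0xd9723f000000001c000000) (Net.cons (nat_lit 64) (nat_lit 0xef69b2ff301ecd) (Net.cons (nat_lit 32) (nat_lit 0x1fd8f1000000002d6c314c) (Net.cons (nat_lit 16) (nat_lit 0x750000d740000014510000cdf7) (Net.cons (nat_lit 8) (nat_lit 0xda00850072008e000100a700fb) (Net.cons (nat_lit 4) (nat_lit 0x503040e0000010e000b050f03050f) (Net.cons (nat_lit 2) (nat_lit 0x222303333130310330002130222022) (Net.cons (nat_lit 1) (nat_lit 0x40551415510505504140414415540) Net.nil)))))))))))))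
noncomputable def Nx2_8 : Net := (Net.cons (nat_lit 1) (nat_lit 0x141115504551510100040500100000) (Net.cons (nat_lit 2) (nat_lit 0x302220201203021100322101011000) (Net.cons (nat_lit 4) (nat_lit 0x90a0405020806020c090b08000000) (Net.cons (nat_lit 8) (nat_lit 0xc400910010006200c100310052) (Net.cons (nat_lit 16) (nat_lit 0x4a00007a620000220800000800) (Net.cons (nat_lit 32) (nat_lit 0x6200520000000062000000) (Net.cons (nat_lit 64) (nat_lit 0x73c81d7a11006f) (Net.cons (nat_lit 32) (nat_lit 0x9a2d9a000000006850184a) (Net.cons (nat_lit 16) (nat_lit 0x20000f20300002b4a0000e343) (Net.cons (nat_lit 8) (nat_lit 0xdc009d0030006200c30037007a) (Net.cons (nat_lit 4) (nat_lit 0xb0a0405030a04000c0b0b08020202) (Net.cons (nat_lit 2) (nat_lit 0x102220201003021100322101011200) (Net.cons (nat_lit 1) (nat_lit 0x141115504551510100040500100000) Net.nil)))))))))))))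
noncomputable def Nx2_9 : Net := (Net.cons (nat_lit 1) (nat_lit 0x501415145405400501004111450514) (Net.cons (nat_lit 2) (nat_lit 0x320310102203020210031033123020) (Net.cons (nat_lit 4) (nat_lit 0x103040706060803000d0908090c00) (Net.cons (nat_lit 8) (nat_lit 0x4e009800860001003400a70031) (Net.cons (nat_lit 16) (nat_lit 0xa7000015800000448200002000) (Net.cons (nat_lit 32) (nat_lit 0x386494000000000a000000) (Net.cons (nat_lit 64) (nat_lit 0xc79cf40afdf923) (Net.cons (nat_lit 32) (nat_lit 0xcc942900000000478e3881) (Net.cons (nat_lit 16) (nat_lit 0xca0000ce07000048030000f2e5) (Net.cons (nat_lit 8) (nat_lit 0xd300de003c006700cd005300fd) (Net.cons (nat_lit 4) (nat_lit 0x9060102060504080a0d0909080808) (Net.cons (nat_lit 2) (nat_lit 0x233001312120023211321200033130) (Net.cons (nat_lit 1) (nat_lit 0x101411444055414415111505041501) Net.nil)))))))))))))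
noncomputable def Nx2_10 : Net := (Net.cons (nat_lit 1) (nat_lit 0x500515110440510100000000104000) (Net.cons (nat_lit 2) (nat_lit 0x32100103131200300020332101000) (Net.cons (nat_lit 4) (nat_lit 0x903020c09000f020a0c0500080000) (Net.cons (nat_lit 8) (nat_lit 0xe200800043000100c300550010) (Net.cons (nat_lit 16) (nat_lit 0x3000002490000894800000600) (Net.cons (nat_lit 32) (nat_lit 0x80a000000000080000000) (Net.cons (nat_lit 64) (nat_lit 0x528d0d8248432d) (Net.cons (nat_lit 32) (nat_lit 0xc5024800000000b5451010) (Net.cons (nat_lit 16) (nat_lit 0x2b000006410000dbe800001e08) (Net.cons (nat_lit 8) (nat_lit 0xea008000db000900cb00d50010) (Net.cons (nat_lit 4) (nat_lit 0x903020e0b000f020a0c05000c0000) (Net.cons (nat_lit 2) (nat_lit 0x32100103131200300020332101000) (Net.cons (nat_lit 1) (nat_lit 0x500515110440510100000000104000) Net.nil)))))))))))))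
noncomputable def Nx2_11 : Net := (Net.cons (nat_lit 1) (nat_lit 0x451054005450511511010100050000) (Net.cons (nat_lit 2) (nat_lit 0x200211112112201122302000022000) (Net.cons (nat_lit 4) (nat_lit 0xd00010000060705000c0102040400) (Net.cons (nat_lit 8) (nat_lit 0x63005800a6006700a3009a0010) (Net.cons (nat_lit 16) (nat_lit 0x40000504c000039480000d000) (Net.cons (nat_lit 32) (nat_lit 0x4ca4520000000008000000) (Net.cons (nat_lit 64) (nat_lit 0xde75008891db73) (Net.cons (nat_lit 32) (nat_lit 0x5ce4de0000000025025848) (Net.cons (nat_lit 16) (nat_lit 0x250000584e0000b34900009844) (Net.cons (nat_lit 8) (nat_lit 0x23006800b7007700a300ca0051) (Net.cons (nat_lit 4) (nat_lit 0xd00010400060705000c0102060400) (Net.cons (nat_lit 2) (nat_lit 0x201211112112201022302010022000) (Net.cons (nat_lit 1) (nat_lit 0x441054005450511411010110050000) Net.nil)))))))))))))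
noncomputable def Nx2_12 : Net := (Net.cons (nat_lit 1) (nat_lit 0x10041150415510140051450455410) (Net.cons (nat_lit 2) (nat_lit 0x112313033121330100130231032000) (Net.cons (nat_lit 4) (nat_lit 0x60a03020804000104030c0b070600) (Net.cons (nat_lit 8) (nat_lit 0xf7003c008c00b90003001f00b0) (Net.cons (nat_lit 16) (nat_lit 0xf8000040860000295800002800) (Net.cons (nat_lit 32) (nat_lit 0x94f09800000000d1000000) (Net.cons (nat_lit 64) (nat_lit 0x70ab1d399f96c) (Net.cons (nat_lit 32) (nat_lit 0x10c87a00000000a4ef0514) (Net.cons (nat_lit 16) (nat_lit 0x2400006e8000004ace000031b3) (Net.cons (nat_lit 8) (nat_lit 0xaa007300ba00c300e500380005) (Net.cons (nat_lit 4) (nat_lit 0x7090a0a0906010d0d070b09020a0a) (Net.cons (nat_lit 2) (nat_lit 0x202102301311211120131211322111) (Net.cons (nat_lit 1) (nat_lit 0x510555441004511010550010055410) Net.nil)))))))))))))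
noncomputable def Nx2_13 : Net := (Net.cons (nat_lit 1) (nat_lit 0x10045001414501551515154510500) (Net.cons (nat_lit 2) (nat_lit 0x113000100200222133300000022320) (Net.cons (nat_lit 4) (nat_lit 0xe070808070003090d000008000000) (Net.cons (nat_lit 8) (nat_lit 0xe4000b008100150024002a0026) (Net.cons (nat_lit 16) (nat_lit 0x7000007d210000e4450000c800) (Net.cons (nat_lit 32) (nat_lit 0x24f100000000d0000000) (Net.cons (nat_lit 64) (nat_lit 0x90ee05df24c2f0) (Net.cons (nat_lit 32) (nat_lit 0x8422d10000000081867969) (Net.cons (nat_lit 16) (nat_lit 0xc6000039ef000069370000eb95) (Net.cons (nat_lit 8) (nat_lit 0x1400ea00150047009200430047) (Net.cons (nat_lit 4) (nat_lit 0xa03080a05050b010c0d060e050c01) (Net.cons (nat_lit 2) (nat_lit 0x130030330203100022013111301220) (Net.cons (nat_lit 1) (nat_lit 0x14500554414511011540041444015) Net.nil)))))))))))))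
noncomputable def Nx2_14 : Net := (Net.cons (nat_lit 1) (nat_lit 0x400411450150405011510000110) (Net.cons (nat_lit 2) (nat_lit 0x101231013001031021230103303230) (Net.cons (nat_lit 4) (nat_lit 0x1000f040c07080c010c0e00050e00) (Net.cons (nat_lit 8) (nat_lit 0x8700c00073000900c600e20020) (Net.cons (nat_lit 16) (nat_lit 0x40000011630000241a0000ff00) (Net.cons (nat_lit 32) (nat_lit 0x3857480000000033000000) (Net.cons (nat_lit 64) (nat_lit 0x992c96b76373c8) (Net.cons (nat_lit 32) (nat_lit 0xf893aa000000006f93452e) (Net.cons (nat_lit 16) (nat_lit 0x86000063370000ce5d0000bc2a) (Net.cons (nat_lit 8) (nat_lit 0x380074006e00dc00d400e4002f) (Net.cons (nat_lit 4) (nat_lit 0x2080506060f000f080f09010f0e00) (Net.cons (nat_lit 2) (nat_lit 0x301323000032133030102332132123) (Net.cons (nat_lit 1) (nat_lit 0x511414010405455415051514445004) Net.nil)))))))))))))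
noncomputable def Nx2_15 : Net := (Net.cons (nat_lit 1) (nat_lit 0x111451151404014054141401404404) (Net.cons (nat_lit 2) (nat_lit 0x11310310302222322331232322110) (Net.cons (nat_lit 4) (nat_lit 0xe0f0302060b0901080b010c070900) (Net.cons (nat_lit 8) (nat_lit 0x4e00e300b70008001300410005) (Net.cons (nat_lit 16) (nat_lit 0x10000064190000a1a200009a00) (Net.cons (nat_lit 32) (nat_lit 0x4055a90000000029000000) (Net.cons (nat_lit 64) (nat_lit 0x71cddf2b109266) (Net.cons (nat_lit 32) (nat_lit 0xafa0e00000000e631e486) (Net.cons (nat_lit 16) (nat_lit 0x4d000028bf0000b40500000e11) (Net.cons (nat_lit 8) (nat_lit 0x9008900ce00c800dc00b100d3) (Net.cons (nat_lit 4) (nat_lit 0x4010a060d040b000f0a0f0a0e0a00) (Net.cons (nat_lit 2) (nat_lit 0x333300311210111232332330311211) (Net.cons (nat_lit 1) (nat_lit 0x441545140010541450155504411515) Net.nil)))))))))))))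
noncomputable def Nx2 : List Net := [Nx2_0, Nx2_1, Nx2_2, Nx2_3, Nx2_4, Nx2_5, Nx2_6, Nx2_7, Nx2_8, Nx2_9, Nx2_10, Nx2_11, Nx2_12, Nx2_13, Nx2_14, Nx2_15]

noncomputable def Nx3_0 : Net := (Net.cons (nat_lit 1) (nat_lit 0x55155444400010151014151040054) (Net.cons (nat_lit 2) (nat_lit 0x32303021311323002202332000030) (Net.cons (nat_lit 4) (nat_lit 0x4070508090000080f0e04080a0900) (Net.cons (nat_lit 8) (nat_lit 0x9900b8008500ed001b00200018) (Net.cons (nat_lit 16) (nat_lit 0x810000d2f6000024c700000400) (Net.cons (nat_lit 32) (nat_lit 0x64e0000000020000000) (Net.cons (nat_lit 64) (nat_lit 0xba73d4ebf9650a) (Net.cons (nat_lit 32) (nat_lit 0x9e1d4700000000f60a0abf) (Net.cons (nat_lit 16) (nat_lit 0x5800002a8800001ec60000eea7) (Net.cons (nat_lit 8) (nat_lit 0x100e1009800cd00e800590054) (Net.cons (nat_lit 4) (nat_lit 0x30c010d0000040f05050f0901060c) (Net.cons (nat_lit 2) (nat_lit 0x220012131213030103002022120013) (Net.cons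 (nat_lit 1) (nat_lit 0x450514055100515454001015044111) Net.nil)))))))))))))
noncomputable def Nx3_1 : Net := (Net.cons (nat_lit 1) (nat_lit 0x104405055444504104001441444500) (Net.cons (nat_lit 2) (nat_lit 0x311121111130130210003332300020) (Net.cons (nat_lit 4) (nat_lit 0x30906020c0e000103070d000b0100) (Net.cons (nat_lit 8) (nat_lit 0x9300ec004800ae004f00860001) (Net.cons (nat_lit 16) (nat_lit 0xbd0000c6e000004b8b00000000) (Net.cons (nat_lit 32) (nat_lit 0xea3f8c0000000024000000) (Net.cons (nat_lit 64) (nat_lit 0x43229c3cb85d33) (Net.cons (nat_lit 32) (nat_lit 0x7388490000000046dc1f37) (Net.cons (nat_lit 16) (nat_lit 0x7e0000ff8d00001775000055c6) (Net.cons (nat_lit 8) (nat_lit 0x5a00c000ca0096001f00450041) (Net.cons (nat_lit 4) (nat_lit 0xc0303070c0e0c0f0403030e050e0e) (Net.cons (nat_lit 2) (nat_lit 0x202312321100333133320111100211) (Net.cons (nat_lit 1) (nat_lit 0x551154505414551145151055054145) Net.nil)))))))))))))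
noncomputable def Nx3_2 : Net := (Net.cons (nat_lit 1) (nat_lit 0x445041101140140010144444404104) (Net.cons (nat_lit 2) (nat_lit 0x131101332333021311223331323300) (Net.cons (nat_lit 4) (nat_lit 0xa0a00010d05030b0106020b0e0000) (Net.cons (nat_lit 8) (nat_lit 0x190020001000d7000100220040) (Net.cons (nat_lit 16) (nat_lit 0x10000074ab0000660000004200) (Net.cons (nat_lit 32) (nat_lit 0x4a34a500000000e0000000) (Net.cons (nat_lit 64) (nat_lit 0x5b763cea000293) (Net.cons (nat_lit 32) (nat_lit 0xba13b200000000ce1bd8a2) (Net.cons (nat_lit 16) (nat_lit 0x3b0000326e0000e59a0000ac37) (Net.cons (nat_lit 8) (nat_lit 0x9c00cc007c00a100cf003a0050) (Net.cons (nat_lit 4) (nat_lit 0x1020a0d0f030e020b000c0d04020c) (Net.cons (nat_lit 2) (nat_lit 0x3301103131200301222310221300) (Net.cons (nat_lit 1) (nat_lit 0x450554141441404511045144440401) Net.nil)))))))))))))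
noncomputable def Nx3_3 : Net := (Net.cons (nat_lit 1) (nat_lit 0x10010505450044001140040141450) (Net.cons (nat_lit 2) (nat_lit 0x332030321011122012020003323310) (Net.cons (nat_lit 4) (nat_lit 0x10a0c0a01060a040b0904050a0c00) (Net.cons (nat_lit 8) (nat_lit 0x1a00f600e4008800c200d8002d) (Net.cons (nat_lit 16) (nat_lit 0x10000a184000007b100000100) (Net.cons (nat_lit 32) (nat_lit 0x4e82560000000058000000) (Net.cons (nat_lit 64) (nat_lit 0x102f37daff9148) (Net.cons (nat_lit 32) (nat_lit 0xb5270500000000112d4be4) (Net.cons (nat_lit 16) (nat_lit 0x5700003d3e000085ec0000a357) (Net.cons (nat_lit 8) (nat_lit 0x1900e9009d00530065006000a8) (Net.cons (nat_lit 4) (nat_lit 0x80c0e0c0f05090008050804020d09) (Net.cons (nat_lit 2) (nat_lit 0x31330100333102223202023320223) (Net.cons (nat_lit 1) (nat_lit 0x410001541410144514444550011110) Net.nil)))))))))))))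
noncomputable def Nx3_4 : Net := (Net.cons (nat_lit 1) (nat_lit 0x544111041100001141545050115540) (Net.cons (nat_lit 2) (nat_lit 0x123312002132113003332221013320) (Net.cons (nat_lit 4) (nat_lit 0xe080b07010e0102010f0f05020f00) (Net.cons (nat_lit 8) (nat_lit 0xe900b500970072005900060008) (Net.cons (nat_lit 16) (nat_lit 0x1500003e8600006a4200008000) (Net.cons (nat_lit 32) (nat_lit 0x10000000012000000) (Net.cons (nat_lit 64) (nat_lit 0x3134aab620e75f) (Net.cons (nat_lit 32) (nat_lit 0x2fda8b0000000066229958) (Net.cons (nat_lit 16) (nat_lit 0x3300007f440000f2c200000dfa) (Net.cons (nat_lit 8) (nat_lit 0xa500610022005500cd00cd001c) (Net.cons (nat_lit 4) (nat_lit 0x506080a060f0208020d0b0c050d0e) (Net.cons (nat_lit 2) (nat_lit 0x130211011020303130033323131110) (Net.cons (nat_lit 1) (nat_lit 0x400514404000504410044040510041) Net.nil)))))))))))))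
noncomputable def Nx3_5 : Net := (Net.cons (nat_lit 1) (nat_lit 0x451045114044041444150000040100) (Net.cons (nat_lit 2) (nat_lit 0x121223110230301012023010223200) (Net.cons (nat_lit 4) (nat_lit 0xd0607070505000200020c08050400) (Net.cons (nat_lit 8) (nat_lit 0x5800320015005c0066007300f1) (Net.cons (nat_lit 16) (nat_lit 0x100000a110000a8380000ea00) (Net.cons (nat_lit 32) (nat_lit 0x4c8c010000000014000000) (Net.cons (nat_lit 64) (nat_lit 0xeb05556c33d9a) (Net.cons (nat_lit 32) (nat_lit 0x3856240000000035fd8c15) (Net.cons (nat_lit 16) (nat_lit 0xad000082260000baf10000c823) (Net.cons (nat_lit 8) (nat_lit 0xc50022000500c400030017004d) (Net.cons (nat_lit 4) (nat_lit 0x40a0f0f090e080e080704040b0e08) (Net.cons (nat_lit 2) (nat_lit 0x131223110330301012233110223200) (Net.cons (nat_lit 1) (nat_lit 0x451045114044041454150000040100) Net.nil)))))))))))))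
noncomputable def Nx3_6 : Net := (Net.cons (nat_lit 1) (nat_lit 0x1415440401441111001145100100) (Net.cons (nat_lit 2) (nat_lit 0x311220210010201202300203100200) (Net.cons (nat_lit 4) (nat_lit 0x4000b0901060205060a0804000100) (Net.cons (nat_lit 8) (nat_lit 0x100086005c008e005600220000) (Net.cons (nat_lit 16) (nat_lit 0x8f000021f80000a05000001000) (Net.cons (nat_lit 32) (nat_lit 0x2220140000000010000000) (Net.cons (nat_lit 64) (nat_lit 0xfa703a33d81007) (Net.cons (nat_lit 32) (nat_lit 0xa30b100000000100894c0) (Net.cons (nat_lit 16) (nat_lit 0xaf000035d80000ba7500005121) (Net.cons (nat_lit 8) (nat_lit 0x12008600c5008e005600230009) (Net.cons (nat_lit 4) (nat_lit 0x1090b0b010b0a07060a080c000100) (Net.cons (nat_lit 2) (nat_lit 0x201220311001201202200203000201) (Net.cons (nat_lit 1) (nat_lit 0x1415440405541011001145500100) Net.nil)))))))))))))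
noncomputable def Nx3_7 : Net := (Net.cons (nat_lit 1) (nat_lit 0x405101455411144454101111450404) (Net.cons (nat_lit 2) (nat_lit 0x302222003000120102012232113310) (Net.cons (nat_lit 4) (nat_lit 0xb080001060d0006040503070b0700) (Net.cons (nat_lit 8) (nat_lit 0x6a00940010001b00bb00b80018) (Net.cons (nat_lit 16) (nat_lit 0x330000f98300003a0c00002100) (Net.cons (nat_lit 32) (nat_lit 0x6a4010000000002000000) (Net.cons (nat_lit 64) (nat_lit 0x4a45b6e6c5bb27) (Net.cons (nat_lit 32) (nat_lit 0xf1254c000000001b9660aa) (Net.cons (nat_lit 16) (nat_lit 0x3700007e7c00005aee0000c7f9) (Net.cons (nat_lit 8) (nat_lit 0xf5000a008d001d005c00db0099) (Net.cons (nat_lit 4) (nat_lit 0x40809010f02090f0b030507040709) (Net.cons (nat_lit 2) (nat_lit 0x32222330333123132312002010013) (Net.cons (nat_lit 1) (nat_lit 0x150454100144411101454444105151) Net.nil)))))))))))))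
noncomputable def Nx3 : List Net := [Nx3_0, Nx3_1, Nx3_2, Nx3_3, Nx3_4, Nx3_5, Nx3_6, Nx3_7]

noncomputable def Nx5_0 : Net := (Net.cons (nat_lit 1) (nat_lit 0x544550500011541105110514444454) (Net.cons (nat_lit 2) (nat_lit 0x100022012021222020220202201200) (Net.cons (nat_lit 4) (nat_lit 0x804080b0607030900090d060c0000) (Net.cons (nat_lit 8) (nat_lit 0x3800a60066004e00e900860054) (Net.cons (nat_lit 16) (nat_lit 0xa0000083cb00000a7300002b00) (Net.cons (nat_lit 32) (nat_lit 0x1101010000000035000000) (Net.cons (nat_lit 64) (nat_lit 0x1ee0af79ae541) (Net.cons (nat_lit 32) (nat_lit 0x9d307900000000d5d67a25) (Net.cons (nat_lit 16) (nat_lit 0x7600007d22000056e8000011f3) (Net.cons (nat_lit 8) (nat_lit 0xd00320070002700e5005900a0) (Net.cons (nat_lit 4) (nat_lit 0x80c0a00010504070e020a010a06) (Net.cons (nat_lit 2) (nat_lit 0x311231222223222200033310003133) (Net.cons (nat_lit 1) (nat_lit 0x110500545550505140001504005055)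 Net.nil)))))))))))))
noncomputable def Nx5_1 : Net := (Net.cons (nat_lit 1) (nat_lit 0x140155404040440410540450414554) (Net.cons (nat_lit 2) (nat_lit 0x330001021300101203100130020110) (Net.cons (nat_lit 4) (nat_lit 0x50408050801010607000d09090b00) (Net.cons (nat_lit 8) (nat_lit 0xeb0066009800e400f800f0000c) (Net.cons (nat_lit 16) (nat_lit 0xdf0000328d0000001800000300) (Net.cons (nat_lit 32) (nat_lit 0xd0890a0000000085000000) (Net.cons (nat_lit 64) (nat_lit 0xfc5ae1ff20857e) (Net.cons (nat_lit 32) (nat_lit 0x3200330000000024ceef5b) (Net.cons (nat_lit 16) (nat_lit 0x41000072bc000069ee0000d493) (Net.cons (nat_lit 8) (nat_lit 0xe900b900c30097003400880039) (Net.cons (nat_lit 4) (nat_lit 0xb040e0e070a0d0e0e0a080f06070b) (Net.cons (nat_lit 2) (nat_lit 0x313231210333123111132021021310) (Net.cons (nat_lit 1) (nat_lit 0x50401441150515450514450111141) Net.nil)))))))))))))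
noncomputable def Nx5_2 : Net := (Net.cons (nat_lit 1) (nat_lit 0x41410154054010054445145001040) (Net.cons (nat_lit 2) (nat_lit 0x132013223231111213233112300330) (Net.cons (nat_lit 4) (nat_lit 0xe020e090a0b0902030209000d0800) (Net.cons (nat_lit 8) (nat_lit 0xf6007600dc00cb008a00d400c0) (Net.cons (nat_lit 16) (nat_lit 0x86000002080000a9ae00000500) (Net.cons (nat_lit 32) (nat_lit 0xc0c9880000000020000000) (Net.cons (nat_lit 64) (nat_lit 0x490ea2bf85c739) (Net.cons (nat_lit 32) (nat_lit 0xb4d5e300000000d1d94227) (Net.cons (nat_lit 16) (nat_lit 0x1300007798000092e90000b728) (Net.cons (nat_lit 8) (nat_lit 0x550080006b0025005300b800bd) (Net.cons (nat_lit 4) (nat_lit 0xe020d0400000a0f000b070d010402) (Net.cons (nat_lit 2) (nat_lit 0x132010013113222323030213311030) (Net.cons (nat_lit 1) (nat_lit 0x541550044554050551505101011145) Net.nil)))))))))))))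
noncomputable def Nx5_3 : Net := (Net.cons (nat_lit 1) (nat_lit 0x144554000101411000454505414410) (Net.cons (nat_lit 2) (nat_lit 0x223310113111131131103331001000) (Net.cons (nat_lit 4) (nat_lit 0x505060f0d0b080605010f0e080a00) (Net.cons (nat_lit 8) (nat_lit 0x7b00350069008100d6007000a8) (Net.cons (nat_lit 16) (nat_lit 0x18000054b00000258200006000) (Net.cons (nat_lit 32) (nat_lit 0x88851300000000c1000000) (Net.cons (nat_lit 64) (nat_lit 0xb5e43edf0a69a1) (Net.cons (nat_lit 32) (nat_lit 0x5092cb000000006e069543) (Net.cons (nat_lit 16) (nat_lit 0x30000215f0000a59600006aad) (Net.cons (nat_lit 8) (nat_lit 0xa600070084005e000900fa00fa) (Net.cons (nat_lit 4) (nat_lit 0xd0d0b0705060a0b0d0c0f01000008) (Net.cons (nat_lit 2) (nat_lit 0x332201022200220020030202332111) (Net.cons (nat_lit 1) (nat_lit 0x144554000101411000454505414410) Net.nil)))))))))))))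
noncomputable def Nx5 : List Net := [Nx5_0, Nx5_1, Nx5_2, Nx5_3]

noncomputable def Np_0 : Net := (Net.cons (nat_lit 1) (nat_lit 0x400410044511145141440001040000) (Net.cons (nat_lit 2) (nat_lit 0x232001022023203323021301020000) (Net.cons (nat_lit 4) (nat_lit 0x2050a090f080c0d0b0c04000100) (Net.cons (nat_lit 8) (nat_lit 0x99001100180085004a00420090) (Net.cons (nat_lit 16) (nat_lit 0x150000084a0000584000004000) (Net.cons (nat_lit 32) (nat_lit 0x15520400000000b9000000) (Net.cons (nat_lit 64) (nat_lit 0x178355bd0ad150) (Net.cons (nat_lit 32) (nat_lit 0xb5db9100000000ed40a910) (Net.cons (nat_lit 16) (nat_lit 0x1d0000c95a0000cde400004200) (Net.cons (nat_lit 8) (nat_lit 0xbd000500190091004a00430090) (Net.cons (nat_lit 4) (nat_lit 0x2050b090e080d0c0b0d04000100) (Net.cons (nat_lit 2) (nat_lit 0x222001032123212333030311020000) (Net.cons (nat_lit 1) (nat_lit 0x400410044511145141440001040000) Net.nil)))))))))))))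
noncomputable def Np_1 : Net := (Net.cons (nat_lit 1) (nat_lit 0x51055104404140145151010445000) (Net.cons (nat_lit 2) (nat_lit 0x133102010231101212021321013200) (Net.cons (nat_lit 4) (nat_lit 0x30d0305080a01020c020609050000) (Net.cons (nat_lit 8) (nat_lit 0x96006e00c60077001400760003) (Net.cons (nat_lit 16) (nat_lit 0x62000035c00000540400001b00) (Net.cons (nat_lit 32) (nat_lit 0x8e22880000000004000000) (Net.cons (nat_lit 64) (nat_lit 0x161e092cc839c1) (Net.cons (nat_lit 32) (nat_lit 0x3a29cf0000000024847b43) (Net.cons (nat_lit 16) (nat_lit 0x77000037a20000494600001b80) (Net.cons (nat_lit 8) (nat_lit 0x36007c00c80067001e003400c3) (Net.cons (nat_lit 4) (nat_lit 0xf070207080e02020d00020d0d0900) (Net.cons (nat_lit 2) (nat_lit 0x121322110232121213011330210200) (Net.cons (nat_lit 1) (nat_lit 0x451441014404101145100011410100) Net.nil)))))))))))))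
noncomputable def Np_2 : Net := (Net.cons (nat_lit 1) (nat_lit 0x445504404100001054044041540000) (Net.cons (nat_lit 2) (nat_lit 0x1210012032103000020101100000) (Net.cons (nat_lit 4) (nat_lit 0x90b0e05010d0b00080c000a0200) (Net.cons (nat_lit 8) (nat_lit 0x82000400d30000004200400003) (Net.cons (nat_lit 16) (nat_lit 0x8d00000ab9000008410000d000) (Net.cons (nat_lit 32) (nat_lit 0x400a00000000021000000) (Net.cons (nat_lit 64) (nat_lit 0x2d92646baab090) (Net.cons (nat_lit 32) (nat_lit 0xb0dd25000000003160b823) (Net.cons (nat_lit 16) (nat_lit 0xb00002a5d000048c50000d080) (Net.cons (nat_lit 8) (nat_lit 0x82002400fb0020006200490023) (Net.cons (nat_lit 4) (nat_lit 0x90b0e05010d0b00080c000e0200) (Net.cons (nat_lit 2) (nat_lit 0x1210012032103000020101100000) (Net.cons (nat_lit 1) (nat_lit 0x445504404100001054044041540000) Net.nil)))))))))))))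
noncomputable def Np_3 : Net := (Net.cons (nat_lit 1) (nat_lit 0x504410505111155104440055140000) (Net.cons (nat_lit 2) (nat_lit 0x112320231200323112320131110000) (Net.cons (nat_lit 4) (nat_lit 0xd060c030b0301060c01060c040000) (Net.cons (nat_lit 8) (nat_lit 0x56008a003a0071004b00c00000) (Net.cons (nat_lit 16) (nat_lit 0x25000000170000800a00000900) (Net.cons (nat_lit 32) (nat_lit 0x18010000000084000000) (Net.cons (nat_lit 64) (nat_lit 0xdfa1498c9f3a00) (Net.cons (nat_lit 32) (nat_lit 0x8c3c2700000000c78c6000) (Net.cons (nat_lit 16) (nat_lit 0x6500001a570000806a00000960) (Net.cons (nat_lit 8) (nat_lit 0x5600aa003a0071005f00c00000) (Net.cons (nat_lit 4) (nat_lit 0xd060c030b0301060c01060d040000) (Net.cons (nat_lit 2) (nat_lit 0x112320233200303112331131110200) (Net.cons (nat_lit 1) (nat_lit 0x504410505111155104440055140000) Net.nil)))))))))))))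
noncomputable def Np_4 : Net := (Net.cons (nat_lit 1) (nat_lit 0x111405505450010104005451001000) (Net.cons (nat_lit 2) (nat_lit 0x211322120102022033110111122000) (Net.cons (nat_lit 4) (nat_lit 0x50b010c0b00040107090600030000) (Net.cons (nat_lit 8) (nat_lit 0xe003900cd0091006a00c30081) (Net.cons (nat_lit 16) (nat_lit 0x280000bc2f00001ba10000a300) (Net.cons (nat_lit 32) (nat_lit 0xb7020000000068000000) (Net.cons (nat_lit 64) (nat_lit 0x641cc6680cab81) (Net.cons (nat_lit 32) (nat_lit 0x8766ab000000005a0651a9) (Net.cons (nat_lit 16) (nat_lit 0x280000bcae000029a100009340) (Net.cons (nat_lit 8) (nat_lit 0xf00a800cc0091006b00720081) (Net.cons (nat_lit 4) (nat_lit 0x50a010d0a080403060904010a0200) (Net.cons (nat_lit 2) (nat_lit 0x211122120122020033110131102000) (Net.cons (nat_lit 1) (nat_lit 0x11005515051011104005451401100) Net.nil)))))))))))))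
noncomputable def Np_5 : Net := (Net.cons (nat_lit 1) (nat_lit 0x105505114010011151411504000000) (Net.cons (nat_lit 2) (nat_lit 0x101111102201032002000132010000) (Net.cons (nat_lit 4) (nat_lit 0xb0e0b0d0f050108020b0403020000) (Net.cons (nat_lit 8) (nat_lit 0x8c000100fa0082004900840001) (Net.cons (nat_lit 16) (nat_lit 0x5400004b670000cd0800004000) (Net.cons (nat_lit 32) (nat_lit 0x10620000000008a000000) (Net.cons (nat_lit 64) (nat_lit 0x60d02d9a654603) (Net.cons (nat_lit 32) (nat_lit 0x7557200000000df085810) (Net.cons (nat_lit 16) (nat_lit 0xd400005fe70000fd0a0000f000) (Net.cons (nat_lit 8) (nat_lit 0x8e000300fa0082004900860003) (Net.cons (nat_lit 4) (nat_lit 0xb0e0b0d0f050108020b0403020000) (Net.cons (nat_lit 2) (nat_lit 0x100111102201022002000133010000) (Net.cons (nat_lit 1) (nat_lit 0x105505114010411151411504000000) Net.nil)))))))))))))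
noncomputable def Np_6 : Net := (Net.cons (nat_lit 1) (nat_lit 0x540400054010114511041444440000) (Net.cons (nat_lit 2) (nat_lit 0x100331002003100323020110000000) (Net.cons (nat_lit 4) (nat_lit 0xf050c05020b070a01060605050000) (Net.cons (nat_lit 8) (nat_lit 0x2b00700036001000b200800032) (Net.cons (nat_lit 16) (nat_lit 0xe00000f6180000760800004000) (Net.cons (nat_lit 32) (nat_lit 0x200000000002c000000) (Net.cons (nat_lit 64) (nat_lit 0x2a4a98bc0a4012) (Net.cons (nat_lit 32) (nat_lit 0x1c7744000000006f185460) (Net.cons (nat_lit 16) (nat_lit 0xc30000f6ba0000760800004d86) (Net.cons (nat_lit 8) (nat_lit 0x2b00700036009000f200800072) (Net.cons (nat_lit 4) (nat_lit 0xd070c05020b070a03060605050000) (Net.cons (nat_lit 2) (nat_lit 0x100331002003120223020300000100) (Net.cons (nat_lit 1) (nat_lit 0x540400054010114511041444440000) Net.nil)))))))))))))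
noncomputable def Np_7 : Net := (Net.cons (nat_lit 1) (nat_lit 0x445011514500054500114504001000) (Net.cons (nat_lit 2) (nat_lit 0x201203102202300210010032000020) (Net.cons (nat_lit 4) (nat_lit 0x2000409080102030200000b000000) (Net.cons (nat_lit 8) (nat_lit 0x800cb00930006005600300040) (Net.cons (nat_lit 16) (nat_lit 0xa500000c160000087200004400) (Net.cons (nat_lit 32) (nat_lit 0xe40480000000082000000) (Net.cons (nat_lit 64) (nat_lit 0xd60c25a6397a6f) (Net.cons (nat_lit 32) (nat_lit 0x1ec078000000008a104420) (Net.cons (nat_lit 16) (nat_lit 0xaf00006d1e000028720000e508) (Net.cons (nat_lit 8) (nat_lit 0x800cb00930016005600300040) (Net.cons (nat_lit 4) (nat_lit 0x6060409080902030204040f000000) (Net.cons (nat_lit 2) (nat_lit 0x201203102202300210010032000020) (Net.cons (nat_lit 1) (nat_lit 0x445011514500054500114504001010) Net.nil)))))))))))))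
noncomputable def Np : List Net := [Np_0, Np_1, Np_2, Np_3, Np_4, Np_5, Np_6, Np_7]

noncomputable def Rp_0 : List (List Nat) := [[(nat_lit 1), (nat_lit 1)],
  [(nat_lit 3), (nat_lit 3), (nat_lit 3)],
  [(nat_lit 5), (nat_lit 5)],
  [(nat_lit 7), (nat_lit 7)],
  [(nat_lit 5), (nat_lit 1), (nat_lit 5), (nat_lit 1)],
  [(nat_lit 7), (nat_lit 1), (nat_lit 7), (nat_lit 1)],
  [(nat_lit 5), (nat_lit 3), (nat_lit 5), (nat_lit 3)],
  [(nat_lit 7), (nat_lit 3), (nat_lit 7), (nat_lit 3)],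
  [(nat_lit 7), (nat_lit 5), (nat_lit 7), (nat_lit 5)],
  [(nat_lit 3), (nat_lit 1), (nat_lit 3), (nat_lit 1), (nat_lit 3), (nat_lit 1)]]

noncomputable def Rp_1 : List (List Nat) := [[(nat_lit 1), (nat_lit 1)],
  [(nat_lit 3), (nat_lit 3), (nat_lit 3)],
  [(nat_lit 5), (nat_lit 5)],
  [(nat_lit 7), (nat_lit 7)],
  [(nat_lit 5), (nat_lit 1), (nat_lit 5), (nat_lit 1)],
  [(nat_lit 7), (nat_lit 1), (nat_lit 7), (nat_lit 1)],
  [(nat_lit 5), (nat_lit 3), (nat_lit 5), (nat_lit 3)],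
  [(nat_lit 7), (nat_lit 3), (nat_lit 7), (nat_lit 3)],
  [(nat_lit 7), (nat_lit 5), (nat_lit 7), (nat_lit 5)],
  [(nat_lit 3), (nat_lit 1), (nat_lit 3), (nat_lit 1), (nat_lit 3), (nat_lit 1)],
  [(nat_lit 9), (nat_lit 9)],
  [(nat_lit 9), (nat_lit 3), (nat_lit 9), (nat_lit 3)],
  [(nat_lit 9), (nat_lit 5), (nat_lit 9), (nat_lit 5)],
  [(nat_lit 9), (nat_lit 1), (nat_lit 9), (nat_lit 1), (nat_lit 9), (nat_lit 1)],
  [(nat_lit 9), (nat_lit 7), (nat_lit 9), (nat_lit 7), (nat_lit 9), (nat_lit 7)]]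

noncomputable def Rp_2 : List (List Nat) := [[(nat_lit 1), (nat_lit 1)],
  [(nat_lit 3), (nat_lit 3), (nat_lit 3)],
  [(nat_lit 5), (nat_lit 5)],
  [(nat_lit 7), (nat_lit 7)],
  [(nat_lit 5), (nat_lit 1), (nat_lit 5), (nat_lit 1)],
  [(nat_lit 7), (nat_lit 1), (nat_lit 7), (nat_lit 1)],
  [(nat_lit 5), (nat_lit 3), (nat_lit 5), (nat_lit 3)],
  [(nat_lit 7), (nat_lit 3), (nat_lit 7), (nat_lit 3)],
  [(nat_lit 7), (nat_lit 5), (nat_lit 7), (nat_lit 5)],
  [(nat_lit 3), (nat_lit 1), (nat_lit 3), (nat_lit 1), (nat_lit 3), (nat_lit 1)],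
  [(nat_lit 9), (nat_lit 9)],
  [(nat_lit 9), (nat_lit 3), (nat_lit 9), (nat_lit 3)],
  [(nat_lit 9), (nat_lit 5), (nat_lit 9), (nat_lit 5)],
  [(nat_lit 9), (nat_lit 1), (nat_lit 9), (nat_lit 1), (nat_lit 9), (nat_lit 1)],
  [(nat_lit 9), (nat_lit 7), (nat_lit 9), (nat_lit 7), (nat_lit 9), (nat_lit 7)],
  [(nat_lit 11), (nat_lit 11)],
  [(nat_lit 11), (nat_lit 1), (nat_lit 11), (nat_lit 1)],
  [(nat_lit 11), (nat_lit 5), (nat_lit 11), (nat_lit 5)],
  [(nat_lit 11), (nat_lit 7), (nat_lit 11), (nat_lit 7)],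
  [(nat_lit 11), (nat_lit 9), (nat_lit 11), (nat_lit 9)],
  [(nat_lit 11), (nat_lit 3), (nat_lit 11), (nat_lit 3), (nat_lit 11), (nat_lit 3)]]

noncomputable def Rp_3 : List (List Nat) := [[(nat_lit 1), (nat_lit 1)],
  [(nat_lit 3), (nat_lit 3), (nat_lit 3)],
  [(nat_lit 5), (nat_lit 5)],
  [(nat_lit 7), (nat_lit 7)],
  [(nat_lit 5), (nat_lit 1), (nat_lit 5), (nat_lit 1)],
  [(nat_lit 7), (nat_lit 1), (nat_lit 7), (nat_lit 1)],
  [(nat_lit 5), (nat_lit 3), (nat_lit 5), (nat_lit 3)],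
  [(nat_lit 7), (nat_lit 3), (nat_lit 7), (nat_lit 3)],
  [(nat_lit 7), (nat_lit 5), (nat_lit 7), (nat_lit 5)],
  [(nat_lit 3), (nat_lit 1), (nat_lit 3), (nat_lit 1), (nat_lit 3), (nat_lit 1)],
  [(nat_lit 9), (nat_lit 9)],
  [(nat_lit 9), (nat_lit 3), (nat_lit 9), (nat_lit 3)],
  [(nat_lit 9), (nat_lit 5), (nat_lit 9), (nat_lit 5)],
  [(nat_lit 9), (nat_lit 1), (nat_lit 9), (nat_lit 1), (nat_lit 9), (nat_lit 1)],
  [(nat_lit 9), (nat_lit 7), (nat_lit 9), (nat_lit 7), (nat_lit 9), (nat_lit 7)],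
  [(nat_lit 11), (nat_lit 11)],
  [(nat_lit 11), (nat_lit 1), (nat_lit 11), (nat_lit 1)],
  [(nat_lit 11), (nat_lit 5), (nat_lit 11), (nat_lit 5)],
  [(nat_lit 11), (nat_lit 7), (nat_lit 11), (nat_lit 7)],
  [(nat_lit 11), (nat_lit 9), (nat_lit 11), (nat_lit 9)],
  [(nat_lit 11), (nat_lit 3), (nat_lit 11), (nat_lit 3), (nat_lit 11), (nat_lit 3)],
  [(nat_lit 13), (nat_lit 13)],
  [(nat_lit 13), (nat_lit 1), (nat_lit 13), (nat_lit 1)],
  [(nat_lit 13), (nat_lit 3), (nat_lit 13), (nat_lit 3)],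
  [(nat_lit 13), (nat_lit 7), (nat_lit 13), (nat_lit 7)],
  [(nat_lit 13), (nat_lit 9), (nat_lit 13), (nat_lit 9), (nat_lit 13), (nat_lit 9)],
  [(nat_lit 9), (nat_lit 11), (nat_lit 13), (nat_lit 9), (nat_lit 1), (nat_lit 4), (nat_lit 11), (nat_lit 4), (nat_lit 1), (nat_lit 9), (nat_lit 13), (nat_lit 11), (nat_lit 9), (nat_lit 1), (nat_lit 3), (nat_lit 1)],
  [(nat_lit 3), (nat_lit 1), (nat_lit 4), (nat_lit 5), (nat_lit 9), (nat_lit 1), (nat_lit 4), (nat_lit 7), (nat_lit 9), (nat_lit 1), (nat_lit 3), (nat_lit 11), (nat_lit 4), (nat_lit 1), (nat_lit 3), (nat_lit 9), (nat_lit 1), (nat_lit 7), (nat_lit 9), (nat_lit 11), (nat_lit 4), (nat_lit 1), (nat_lit 3), (nat_lit 11), (nat_lit 13), (nat_lit 9), (nat_lit 7), (nat_lit 11), (nat_lit 13), (nat_lit 9), (nat_lit 1), (nat_lit 9), (nat_lit 13), (nat_lit 11), (nat_lit 7), (nat_lit 9), (nat_lit 13)]]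

noncomputable def relsp : List (List Nat) := [[(nat_lit 1), (nat_lit 1)],
  [(nat_lit 3), (nat_lit 3), (nat_lit 3)],
  [(nat_lit 5), (nat_lit 5)],
  [(nat_lit 7), (nat_lit 7)],
  [(nat_lit 5), (nat_lit 1), (nat_lit 5), (nat_lit 1)],
  [(nat_lit 7), (nat_lit 1), (nat_lit 7), (nat_lit 1)],
  [(nat_lit 5), (nat_lit 3), (nat_lit 5), (nat_lit 3)],
  [(nat_lit 7), (nat_lit 3), (nat_lit 7), (nat_lit 3)],
  [(nat_lit 7), (nat_lit 5), (nat_lit 7), (nat_lit 5)],
  [(nat_lit 3), (nat_lit 1), (nat_lit 3), (nat_lit 1), (nat_lit 3), (nat_lit 1)],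
  [(nat_lit 9), (nat_lit 9)],
  [(nat_lit 9), (nat_lit 3), (nat_lit 9), (nat_lit 3)],
  [(nat_lit 9), (nat_lit 5), (nat_lit 9), (nat_lit 5)],
  [(nat_lit 9), (nat_lit 1), (nat_lit 9), (nat_lit 1), (nat_lit 9), (nat_lit 1)],
  [(nat_lit 9), (nat_lit 7), (nat_lit 9), (nat_lit 7), (nat_lit 9), (nat_lit 7)],
  [(nat_lit 11), (nat_lit 11)],
  [(nat_lit 11), (nat_lit 1), (nat_lit 11), (nat_lit 1)],
  [(nat_lit 11), (nat_lit 5), (nat_lit 11), (nat_lit 5)],
  [(nat_lit 11), (nat_lit 7), (nat_lit 11), (nat_lit 7)],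
  [(nat_lit 11), (nat_lit 9), (nat_lit 11), (nat_lit 9)],
  [(nat_lit 11), (nat_lit 3), (nat_lit 11), (nat_lit 3), (nat_lit 11), (nat_lit 3)],
  [(nat_lit 13), (nat_lit 13)],
  [(nat_lit 13), (nat_lit 1), (nat_lit 13), (nat_lit 1)],
  [(nat_lit 13), (nat_lit 3), (nat_lit 13), (nat_lit 3)],
  [(nat_lit 13), (nat_lit 7), (nat_lit 13), (nat_lit 7)],
  [(nat_lit 13), (nat_lit 9), (nat_lit 13), (nat_lit 9), (nat_lit 13), (nat_lit 9)],
  [(nat_lit 9), (nat_lit 11), (nat_lit 13), (nat_lit 9), (nat_lit 1), (nat_lit 4), (nat_lit 11), (nat_lit 4), (nat_lit 1), (nat_lit 9), (nat_lit 13), (nat_lit 11), (nat_lit 9), (nat_lit 1), (nat_lit 3), (nat_lit 1)],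
  [(nat_lit 3), (nat_lit 1), (nat_lit 4), (nat_lit 5), (nat_lit 9), (nat_lit 1), (nat_lit 4), (nat_lit 7), (nat_lit 9), (nat_lit 1), (nat_lit 3), (nat_lit 11), (nat_lit 4), (nat_lit 1), (nat_lit 3), (nat_lit 9), (nat_lit 1), (nat_lit 7), (nat_lit 9), (nat_lit 11), (nat_lit 4), (nat_lit 1), (nat_lit 3), (nat_lit 11), (nat_lit 13), (nat_lit 9), (nat_lit 7), (nat_lit 11), (nat_lit 13), (nat_lit 9), (nat_lit 1), (nat_lit 9), (nat_lit 13), (nat_lit 11), (nat_lit 7), (nat_lit 9), (nat_lit 13)],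
  [(nat_lit 15), (nat_lit 15)],
  [(nat_lit 15), (nat_lit 1), (nat_lit 15), (nat_lit 1), (nat_lit 15), (nat_lit 1)],
  [(nat_lit 15), (nat_lit 3), (nat_lit 13), (nat_lit 4), (nat_lit 15), (nat_lit 9), (nat_lit 3)],
  [(nat_lit 15), (nat_lit 9), (nat_lit 1), (nat_lit 15), (nat_lit 13), (nat_lit 1), (nat_lit 9), (nat_lit 1)],
  [(nat_lit 15), (nat_lit 9), (nat_lit 7), (nat_lit 15), (nat_lit 13), (nat_lit 7), (nat_lit 9), (nat_lit 7)],
  [(nat_lit 15), (nat_lit 11), (nat_lit 13), (nat_lit 15), (nat_lit 11), (nat_lit 13), (nat_lit 11), (nat_lit 9)],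
  [(nat_lit 15), (nat_lit 5), (nat_lit 1), (nat_lit 15), (nat_lit 5), (nat_lit 1), (nat_lit 15), (nat_lit 5), (nat_lit 1)]]

noncomputable def ep_0_c0 : BT (Bx Nat) := (BT.leaf (Bx.mk (nat_lit 0x0)))
noncomputable def ep_0_c1 : BT (Bx Nat) := (BT.leaf (Bx.mk (nat_lit 0x92f25e08499091a12035d06a9d08e112b2254abb996bb29655dacb51949aaec65a0ca3cc8caae9659aca3128ea111524aa491c8429225242e41d56c291f523ce41148da91a7206cb19942c05580a4a429484c04e8096e4060210000)))
noncomputable def ep_0_c2 : BT (Bx Nat) := (BT.leaf (Bx.mk (nat_lit 0x1a6d435246bd1b62b7066becc78cd719a5334886610cda19a34cc89ad135219156c4ac855291a605350a69dcc5ab633328664d0ccb34a6612d2395ae198d331901759a33305532aa65d4cb39826490a6414c7b9816489011e0218000)))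
noncomputable def ep_0_c3 : BT (Bx Nat) := (BT.leaf (Bx.mk (nat_lit 0x216c385c8fa48b8196d32c465855f7b3db6734458d214242742b0857d0af115c52d6a5a9ca7215157caae9160aabe66794ce25a65a417482c85755f033c6670aa549208240f80b2a5514a9a9477284a5354a62943728301220220000)))
noncomputable def ep_0_c4 : BT (Bx Nat) := (BT.leaf (Bx.mk (nat_lit 0x346b68d0d195a31345f53e0e775a2da9ef73b2d15d4f739d568a8a7b5ce9345053d8e73a035344d53d2e72e033b44a53cce72203229e3738f0185a2329e0738901794ee39c380b4a761ce1405680a6a745ce0c04f809901260228000)))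
noncomputable def ep_0_c5 : BT (Bx Nat) := (BT.leaf (Bx.mk (nat_lit 0x3a2a744ee891d10ba1e743b01c1d0d3a1980dee859d0ac06e7426e84a036ba0f741d01b2035ba0c741701a60343a097411019a032ba0780c70189d02ba0480c1017dd01c05c80b6e80a02c405780a8e806028c050809b012a0230000)))
noncomputable def ep_0_p : BT (Bx Nat) := (BT.leaf (Bx.mk (nat_lit 0x5a85b38b6416c22c7858e8b1d12342c6458c8916162a2c544898b121624233c5670ace119c13305658acb11961b245640ac811900b1c56388c7050a2a10542088405062a0c4418282150422083410441148221043208441040000000)))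
noncomputable def ep_0_e : BT Nat := BT.leaf (nat_lit 0)
noncomputable def ep_0_cols : List (BT (Bx Nat)) := [ep_0_c0, ep_0_c1, ep_0_c2, ep_0_c3, ep_0_c4, ep_0_c5]
noncomputable def ep_0_ch (x j : Nat) : Bx Nat := chunkG ep_0_cols (nat_lit 1) x j
noncomputable def ep_0_L (x : Nat) : Bx (Nat → Nat) := lookG ep_0_ch (nat_lit 8) (nat_lit 255) (nat_lit 15) (nat_lit 32767) x
noncomputable def ep_0_pc (_ j : Nat) : Bx Nat := ep_0_p.get j
noncomputable def ep_0_pb : Bx (Nat → Nat) := lookG ep_0_pc (nat_lit 8) (nat_lit 255) (nat_lit 15) (nat_lit 32767) (nat_lit 0)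
noncomputable def ep_0_rots : BT CW := (BT.node (nat_lit 10) (BT.node (nat_lit 5) (BT.node (nat_lit 2) (BT.node (nat_lit 1) (BT.leaf ⟨[], (nat_lit 1000000), (nat_lit 0), (nat_lit 0), (nat_lit 0)⟩) (BT.leaf ⟨[], (nat_lit 1000000), (nat_lit 0), (nat_lit 0), (nat_lit 1)⟩)) (BT.node (nat_lit 3) (BT.leaf ⟨[], (nat_lit 1000000), (nat_lit 0), (nat_lit 0), (nat_lit 2)⟩) (BT.node (nat_lit 4) (BT.leaf ⟨[(nat_lit 1), (nat_lit 1)], (nat_lit 0), (nat_lit 0), (nat_lit 0), (nat_lit 3)⟩) (BT.leaf ⟨[(nat_lit 3), (nat_lit 2)], (nat_lit 16), (nat_lit 1), (nat_lit 0), (nat_lit 3)⟩)))) (BT.node (nat_lit 7) (BT.node (nat_lit 6) (BT.leaf ⟨[(nat_lit 2), (nat_lit 3)], (nat_lit 16), (nat_lit 0), (nat_lit 0), (nat_lit 3)⟩) (BT.leaf ⟨[(nat_lit 4), (nat_lit 4)], (nat_lit 2), (nat_lit 0), (nat_lit 0), (nat_lit 3)⟩)) (BT.node (nat_lit 8) (BT.leaf ⟨[(nat_lit 5), (nat_lit 5)], (nat_lit 3), (nat_lit 0), (nat_lit 0), (nat_lit 3)⟩) (BT.node (nat_lit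 9) (BT.leaf ⟨[(nat_lit 2), (nat_lit 2), (nat_lit 2)], (nat_lit 1), (nat_lit 0), (nat_lit 0), (nat_lit 3)⟩) (BT.leaf ⟨[(nat_lit 1), (nat_lit 4), (nat_lit 1), (nat_lit 4)], (nat_lit 4), (nat_lit 1), (nat_lit 0), (nat_lit 3)⟩))))) (BT.node (nat_lit 15) (BT.node (nat_lit 12) (BT.node (nat_lit 11) (BT.leaf ⟨[(nat_lit 1), (nat_lit 5), (nat_lit 1), (nat_lit 5)], (nat_lit 5), (nat_lit 1), (nat_lit 0), (nat_lit 3)⟩) (BT.leaf ⟨[(nat_lit 2), (nat_lit 4), (nat_lit 2), (nat_lit 4)], (nat_lit 6), (nat_lit 1), (nat_lit 0), (nat_lit 3)⟩)) (BT.node (nat_lit 13) (BT.leaf ⟨[(nat_lit 2), (nat_lit 5), (nat_lit 2), (nat_lit 5)], (nat_lit 7), (nat_lit 1), (nat_lit 0), (nat_lit 3)⟩) (BT.node (nat_lit 14) (BT.leaf ⟨[(nat_lit 3), (nat_lit 4), (nat_lit 3), (nat_lit 4)], (nat_lit 24), (nat_lit 0), (nat_lit 0), (nat_lit 3)⟩) (BT.leaf ⟨[(nat_lit 3), (nat_lit 5), (nat_lit 3), (nat_lit 5)], (nat_lit 25), (nat_lit 0), (nat_lit 0), (nat_lit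 3)⟩)))) (BT.node (nat_lit 17) (BT.node (nat_lit 16) (BT.leaf ⟨[(nat_lit 3), (nat_lit 3), (nat_lit 3)], (nat_lit 19), (nat_lit 0), (nat_lit 0), (nat_lit 3)⟩) (BT.leaf ⟨[(nat_lit 4), (nat_lit 5), (nat_lit 4), (nat_lit 5)], (nat_lit 8), (nat_lit 1), (nat_lit 0), (nat_lit 3)⟩)) (BT.node (nat_lit 18) (BT.leaf ⟨[(nat_lit 2), (nat_lit 1), (nat_lit 2), (nat_lit 1), (nat_lit 2), (nat_lit 1)], (nat_lit 9), (nat_lit 0), (nat_lit 0), (nat_lit 3)⟩) (BT.node (nat_lit 19) (BT.leaf ⟨[(nat_lit 3), (nat_lit 1), (nat_lit 3), (nat_lit 1), (nat_lit 3), (nat_lit 1)], (nat_lit 27), (nat_lit 1), (nat_lit 0), (nat_lit 3)⟩) (BT.leaf ⟨[(nat_lit 1), (nat_lit 3), (nat_lit 1), (nat_lit 3), (nat_lit 1), (nat_lit 3)], (nat_lit 27), (nat_lit 0), (nat_lit 0), (nat_lit 3)⟩))))))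
noncomputable def ep_0_hcs : List CW := []
noncomputable def ep_0_H (x j : Nat) : Bx (Nat → Nat → Nat) := mkH ep_0_L ep_0_pb.1 ep_0_e.get (lmap CW.w ep_0_hcs) (nat_lit 48) (nat_lit 49) (nat_lit 6) (nat_lit 64) (nat_lit 2048) (nat_lit 4095) x (ep_0_rots.get j)
noncomputable def ep_0_F (x b : Nat) : Bool := blkOK ep_0_H ep_0_ch (nat_lit 49) (nat_lit 64) (nat_lit 32) (nat_lit 8) (nat_lit 255) (nat_lit 15) (nat_lit 32767) x b

theorem ep_0_k0_0 : allFrom (ep_0_F (nat_lit 0)) (nat_lit 0) (nat_lit 4) = true := by decide +kernel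
theorem ep_0_k1_0 : allFrom (ep_0_F (nat_lit 1)) (nat_lit 0) (nat_lit 4) = true := by decide +kernel
theorem ep_0_k2_0 : allFrom (ep_0_F (nat_lit 2)) (nat_lit 0) (nat_lit 4) = true := by decide +kernel
theorem ep_0_k3_0 : allFrom (ep_0_F (nat_lit 3)) (nat_lit 0) (nat_lit 4) = true := by decide +kernel
theorem ep_0_k4_0 : allFrom (ep_0_F (nat_lit 4)) (nat_lit 0) (nat_lit 4) = true := by decide +kernel
theorem ep_0_k5_0 : allFrom (ep_0_F (nat_lit 5)) (nat_lit 0) (nat_lit 4) = true := by decide +kernel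

noncomputable def ep_1_c0 : BT (Bx Nat) := (BT.leaf (Bx.mk (nat_lit 0x0)))
noncomputable def ep_1_c1 : BT (Bx Nat) := (BT.leaf (Bx.mk (nat_lit 0x3c7c9724b741ea0eb669950a598523155f0ce57929504e862000)))
noncomputable def ep_1_c2 : BT (Bx Nat) := (BT.leaf (Bx.mk (nat_lit 0x946a27d7bcc8a54e3bad5110b7744ca0e12ceb4a0ac38a862000)))
noncomputable def ep_1_c3 : BT (Bx Nat) := (BT.leaf (Bx.mk (nat_lit 0x33f21f683e87b63d3bf218ecd973c39d64e6c74a0b39ca4e2000)))
noncomputable def ep_1_c4 : BT (Bx Nat) := (BT.leaf (Bx.mk (nat_lit 0x19f9c74a9c74b4862c29650949693ad15a6cf24789c40a862000)))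
noncomputable def ep_1_c5 : BT (Bx Nat) := (BT.leaf (Bx.mk (nat_lit 0x2dfa734cdc86b5de3eaa4cd265931d066831262a0bd052862000)))
noncomputable def ep_1_c6 : BT (Bx Nat) := (BT.leaf (Bx.mk (nat_lit 0x3bfa1356dd249924491e83941ba0d3115eed1548b1c906824000)))
noncomputable def ep_1_p : BT (Bx Nat) := (BT.leaf (Bx.mk (nat_lit 0xfa1ec07583646b03471a30b145662b30d9848854409118000000)))
noncomputable def ep_1_e0 : BT Nat := (BT.node (nat_lit 68) (BT.node (nat_lit 66) (BT.leaf (nat_lit 786434)) (BT.leaf (nat_lit 524290))) (BT.node (nat_lit 69) (BT.leaf (nat_lit 262146)) (BT.leaf (nat_lit 2))))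
noncomputable def ep_1_e : BT Nat := ep_1_e0
noncomputable def ep_1_cols : List (BT (Bx Nat)) := [ep_1_c0, ep_1_c1, ep_1_c2, ep_1_c3, ep_1_c4, ep_1_c5, ep_1_c6]
noncomputable def ep_1_ch (x j : Nat) : Bx Nat := chunkG ep_1_cols (nat_lit 1) x j
noncomputable def ep_1_L (x : Nat) : Bx (Nat → Nat) := lookG ep_1_ch (nat_lit 8) (nat_lit 255) (nat_lit 13) (nat_lit 8191) x
noncomputable def ep_1_pc (_ j : Nat) : Bx Nat := ep_1_p.get j
noncomputable def ep_1_pb : Bx (Nat → Nat) := lookG ep_1_pc (nat_lit 8) (nat_lit 255) (nat_lit 13) (nat_lit 8191) (nat_lit 0)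
noncomputable def ep_1_rots : BT CW := (BT.node (nat_lit 14) (BT.node (nat_lit 7) (BT.node (nat_lit 3) (BT.node (nat_lit 1) (BT.leaf ⟨[], (nat_lit 1000000), (nat_lit 0), (nat_lit 0), (nat_lit 0)⟩) (BT.node (nat_lit 2) (BT.leaf ⟨[], (nat_lit 1000000), (nat_lit 0), (nat_lit 0), (nat_lit 1)⟩) (BT.leaf ⟨[], (nat_lit 1000000), (nat_lit 0), (nat_lit 0), (nat_lit 2)⟩))) (BT.node (nat_lit 5) (BT.node (nat_lit 4) (BT.leaf ⟨[(nat_lit 6), (nat_lit 6)], (nat_lit 10), (nat_lit 0), (nat_lit 0), (nat_lit 3)⟩) (BT.leaf ⟨[(nat_lit 1), (nat_lit 1)], (nat_lit 0), (nat_lit 0), (nat_lit 0), (nat_lit 3)⟩)) (BT.node (nat_lit 6) (BT.leaf ⟨[(nat_lit 5), (nat_lit 5)], (nat_lit 3), (nat_lit 0), (nat_lit 0), (nat_lit 3)⟩) (BT.leaf ⟨[(nat_lit 3), (nat_lit 2)], (nat_lit 21), (nat_lit 1), (nat_lit 0), (nat_lit 3)⟩)))) (BT.node (nat_lit 10) (BT.node (nat_lit 8) (BT.leaf ⟨[(nat_lit 2), (nat_lit 3)], (nat_lit 21), (nat_lit 0), (nat_lit 0),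 (nat_lit 3)⟩) (BT.node (nat_lit 9) (BT.leaf ⟨[(nat_lit 2), (nat_lit 2), (nat_lit 2)], (nat_lit 1), (nat_lit 0), (nat_lit 0), (nat_lit 3)⟩) (BT.leaf ⟨[(nat_lit 1), (nat_lit 5), (nat_lit 1), (nat_lit 5)], (nat_lit 5), (nat_lit 1), (nat_lit 0), (nat_lit 3)⟩))) (BT.node (nat_lit 12) (BT.node (nat_lit 11) (BT.leaf ⟨[(nat_lit 2), (nat_lit 5), (nat_lit 2), (nat_lit 5)], (nat_lit 7), (nat_lit 1), (nat_lit 0), (nat_lit 3)⟩) (BT.leaf ⟨[(nat_lit 3), (nat_lit 5), (nat_lit 3), (nat_lit 5)], (nat_lit 30), (nat_lit 0), (nat_lit 0), (nat_lit 3)⟩)) (BT.node (nat_lit 13) (BT.leaf ⟨[(nat_lit 3), (nat_lit 3), (nat_lit 3)], (nat_lit 24), (nat_lit 0), (nat_lit 0), (nat_lit 3)⟩) (BT.leaf ⟨[(nat_lit 2), (nat_lit 6), (nat_lit 2), (nat_lit 6)], (nat_lit 11), (nat_lit 1), (nat_lit 0), (nat_lit 3)⟩))))) (BT.node (nat_lit 21) (BT.node (nat_lit 17) (BT.node (nat_lit 15) (BT.leaf ⟨[(nat_lit 3), (nat_lit 6), (nat_lit 3), (nat_lit 6)], (nat_lit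 34), (nat_lit 0), (nat_lit 0), (nat_lit 3)⟩) (BT.node (nat_lit 16) (BT.leaf ⟨[(nat_lit 4), (nat_lit 6), (nat_lit 4), (nat_lit 6)], (nat_lit 12), (nat_lit 1), (nat_lit 0), (nat_lit 3)⟩) (BT.leaf ⟨[(nat_lit 4), (nat_lit 1), (nat_lit 4), (nat_lit 1)], (nat_lit 4), (nat_lit 0), (nat_lit 0), (nat_lit 3)⟩))) (BT.node (nat_lit 19) (BT.node (nat_lit 18) (BT.leaf ⟨[(nat_lit 4), (nat_lit 5), (nat_lit 4), (nat_lit 5)], (nat_lit 8), (nat_lit 1), (nat_lit 0), (nat_lit 3)⟩) (BT.leaf ⟨[(nat_lit 4), (nat_lit 2), (nat_lit 4), (nat_lit 2)], (nat_lit 6), (nat_lit 0), (nat_lit 0), (nat_lit 3)⟩)) (BT.node (nat_lit 20) (BT.leaf ⟨[(nat_lit 4), (nat_lit 4)], (nat_lit 2), (nat_lit 0), (nat_lit 0), (nat_lit 3)⟩) (BT.leaf ⟨[(nat_lit 6), (nat_lit 5), (nat_lit 6), (nat_lit 5), (nat_lit 6), (nat_lit 5)], (nat_lit 14), (nat_lit 0), (nat_lit 0), (nat_lit 3)⟩)))) (BT.node (nat_lit 25) (BT.node (nat_lit 23) (BT.node (nat_lit 22) (BT.leaf ⟨[(nat_lit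 6), (nat_lit 1), (nat_lit 6), (nat_lit 1), (nat_lit 6), (nat_lit 1)], (nat_lit 13), (nat_lit 0), (nat_lit 0), (nat_lit 3)⟩) (BT.leaf ⟨[(nat_lit 6), (nat_lit 2), (nat_lit 6), (nat_lit 2)], (nat_lit 11), (nat_lit 0), (nat_lit 0), (nat_lit 3)⟩)) (BT.node (nat_lit 24) (BT.leaf ⟨[(nat_lit 1), (nat_lit 2), (nat_lit 1), (nat_lit 2), (nat_lit 1), (nat_lit 2)], (nat_lit 9), (nat_lit 1), (nat_lit 0), (nat_lit 3)⟩) (BT.leaf ⟨[(nat_lit 1), (nat_lit 6), (nat_lit 1), (nat_lit 6), (nat_lit 1), (nat_lit 6)], (nat_lit 13), (nat_lit 1), (nat_lit 0), (nat_lit 3)⟩))) (BT.node (nat_lit 27) (BT.node (nat_lit 26) (BT.leaf ⟨[(nat_lit 5), (nat_lit 6), (nat_lit 5), (nat_lit 6), (nat_lit 5), (nat_lit 6)], (nat_lit 14), (nat_lit 1), (nat_lit 0), (nat_lit 3)⟩) (BT.leaf ⟨[(nat_lit 5), (nat_lit 2), (nat_lit 5), (nat_lit 2)], (nat_lit 7), (nat_lit 0), (nat_lit 0), (nat_lit 3)⟩)) (BT.node (nat_lit 28) (BT.leaf ⟨[(nat_lit 5), (nat_lit 1), (nat_lit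 5), (nat_lit 1)], (nat_lit 5), (nat_lit 0), (nat_lit 0), (nat_lit 3)⟩) (BT.leaf ⟨[(nat_lit 2), (nat_lit 1), (nat_lit 2), (nat_lit 1), (nat_lit 2), (nat_lit 1)], (nat_lit 9), (nat_lit 0), (nat_lit 0), (nat_lit 3)⟩))))))
noncomputable def ep_1_hcs : List CW := [⟨[(nat_lit 5)], (nat_lit 0), (nat_lit 0), (nat_lit 0), (nat_lit 0)⟩, ⟨[(nat_lit 4)], (nat_lit 1), (nat_lit 0), (nat_lit 0), (nat_lit 0)⟩, ⟨[(nat_lit 2)], (nat_lit 2), (nat_lit 0), (nat_lit 0), (nat_lit 0)⟩, ⟨[(nat_lit 1)], (nat_lit 3), (nat_lit 0), (nat_lit 0), (nat_lit 0)⟩, ⟨[(nat_lit 5)], (nat_lit 4), (nat_lit 0), (nat_lit 0), (nat_lit 0)⟩, ⟨[(nat_lit 4)], (nat_lit 5), (nat_lit 0), (nat_lit 0), (nat_lit 0)⟩, ⟨[(nat_lit 3)], (nat_lit 6), (nat_lit 0), (nat_lit 0), (nat_lit 0)⟩, ⟨[(nat_lit 1)], (nat_lit 7), (nat_lit 0), (nat_lit 0), (nat_lit 0)⟩]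
noncomputable def ep_1_H (x j : Nat) : Bx (Nat → Nat → Nat) := mkH ep_1_L ep_1_pb.1 ep_1_e.get (lmap CW.w ep_1_hcs) (nat_lit 15) (nat_lit 16) (nat_lit 7) (nat_lit 16) (nat_lit 512) (nat_lit 1023) x (ep_1_rots.get j)
noncomputable def ep_1_F (x b : Nat) : Bool := blkOK ep_1_H ep_1_ch (nat_lit 16) (nat_lit 16) (nat_lit 32) (nat_lit 8) (nat_lit 255) (nat_lit 13) (nat_lit 8191) x b

theorem ep_1_k0_0 : allFrom (ep_1_F (nat_lit 0)) (nat_lit 0) (nat_lit 4) = true := by decide +kernel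
theorem ep_1_k1_0 : allFrom (ep_1_F (nat_lit 1)) (nat_lit 0) (nat_lit 4) = true := by decide +kernel
theorem ep_1_k2_0 : allFrom (ep_1_F (nat_lit 2)) (nat_lit 0) (nat_lit 4) = true := by decide +kernel
theorem ep_1_k3_0 : allFrom (ep_1_F (nat_lit 3)) (nat_lit 0) (nat_lit 4) = true := by decide +kernel
theorem ep_1_k4_0 : allFrom (ep_1_F (nat_lit 4)) (nat_lit 0) (nat_lit 4) = true := by decide +kernel
theorem ep_1_k5_0 : allFrom (ep_1_F (nat_lit 5)) (nat_lit 0) (nat_lit 4) = true := by decide +kernel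
theorem ep_1_k6_0 : allFrom (ep_1_F (nat_lit 6)) (nat_lit 0) (nat_lit 4) = true := by decide +kernel

noncomputable def ep_2_c0 : BT (Bx Nat) := (BT.leaf (Bx.mk (nat_lit 0x0)))
noncomputable def ep_2_c1 : BT (Bx Nat) := (BT.leaf (Bx.mk (nat_lit 0x43e02ccfc077203b7105e882ea0e64e3b483d84ceb2075da3a698d471eabcf41e71ee1d270e8c07296398c38d59e5c4139b190c1c964c3c0712038710468822bcf0a21820000)))
noncomputable def ep_2_c2 : BT (Bx Nat) := (BT.leaf (Bx.mk (nat_lit 0x31a080ce98a7cf03d0198794e40655e535105b80c93ca5e20b2985440c9c41595122919068c62e039651ec88d50c5b0a25b090e18a80c2b4a1dd00d018279424410e21820000)))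
noncomputable def ep_2_c3 : BT (Bx Nat) := (BT.leaf (Bx.mk (nat_lit 0x496028af1857620bee15b80ac3856602ab105c70ab4054a20b4815449a9c415d22a2a2d050a6a85396298e34f5ca5bcb216294c14960a334516208ee14380a14411202820000)))
noncomputable def ep_2_c4 : BT (Bx Nat) := (BT.leaf (Bx.mk (nat_lit 0x156012cf919746bbc45db2ace15764cb34655832eb1d65ceaaa769442a9a15490ca295504ac7a59396d98a5cd52a5a96296b90c6895ac3b59158b8cd5c372c23d50a21820000)))
noncomputable def ep_2_c5 : BT (Bx Nat) := (BT.leaf (Bx.mk (nat_lit 0x3420224f9d874c4bc725b422e34959a4ae9418724cb9169e824aa547a0838956049ce253812544146049302485205c413e209b104c5a23b5815848cd24372223d00a21820000)))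
noncomputable def ep_2_c6 : BT (Bx Nat) := (BT.leaf (Bx.mk (nat_lit 0x3320228f9e874c43cd219690d3946dc9b8f315410b2535dc43102114989a8c4a20a8f30b5267ae8396418c90d71084081e040d02058825441262090d20372623cc0a21820000)))
noncomputable def ep_2_c7 : BT (Bx Nat) := (BT.leaf (Bx.mk (nat_lit 0x1011f88301dd74c23c711b43ce204652fb50114488b29c5e022310588087c043a20ab010a8829c41498f98b10d8083c41418210d7898825b9d15a20ce1037b824040620840000)))
noncomputable def ep_2_p : BT (Bx Nat) := (BT.leaf (Bx.mk (nat_lit 0xd7c7c743b701b6c1a603a602954395429507848384828447844673c7738773856287628562815245520551c751c6418641464143310130c120832082104700000000)))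
noncomputable def ep_2_e0 : BT Nat := (BT.node (nat_lit 68) (BT.node (nat_lit 66) (BT.leaf (nat_lit 1048578)) (BT.leaf (nat_lit 786434))) (BT.node (nat_lit 69) (BT.leaf (nat_lit 524290)) (BT.node (nat_lit 70) (BT.leaf (nat_lit 262146)) (BT.leaf (nat_lit 2)))))
noncomputable def ep_2_e : BT Nat := ep_2_e0
noncomputable def ep_2_cols : List (BT (Bx Nat)) := [ep_2_c0, ep_2_c1, ep_2_c2, ep_2_c3, ep_2_c4, ep_2_c5, ep_2_c6, ep_2_c7]
noncomputable def ep_2_ch (x j : Nat) : Bx Nat := chunkG ep_2_cols (nat_lit 1) x j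
noncomputable def ep_2_L (x : Nat) : Bx (Nat → Nat) := lookG ep_2_ch (nat_lit 8) (nat_lit 255) (nat_lit 17) (nat_lit 131071) x
noncomputable def ep_2_pc (_ j : Nat) : Bx Nat := ep_2_p.get j
noncomputable def ep_2_pb : Bx (Nat → Nat) := lookG ep_2_pc (nat_lit 8) (nat_lit 255) (nat_lit 16) (nat_lit 65535) (nat_lit 0)
noncomputable def ep_2_rots : BT CW := (BT.node (nat_lit 20) (BT.node (nat_lit 10) (BT.node (nat_lit 5) (BT.node (nat_lit 2) (BT.node (nat_lit 1) (BT.leaf ⟨[], (nat_lit 1000000), (nat_lit 0), (nat_lit 0), (nat_lit 0)⟩) (BT.leaf ⟨[], (nat_lit 1000000), (nat_lit 0), (nat_lit 0), (nat_lit 1)⟩)) (BT.node (nat_lit 3) (BT.leaf ⟨[], (nat_lit 1000000), (nat_lit 0), (nat_lit 0), (nat_lit 2)⟩) (BT.node (nat_lit 4) (BT.leaf ⟨[(nat_lit 7), (nat_lit 7)], (nat_lit 15), (nat_lit 0), (nat_lit 0), (nat_lit 3)⟩) (BT.leaf ⟨[(nat_lit 3), (nat_lit 2)], (nat_lit 27), (nat_lit 1), (nat_lit 0), (nat_lit 3)⟩)))) (BT.node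 (nat_lit 7) (BT.node (nat_lit 6) (BT.leaf ⟨[(nat_lit 2), (nat_lit 3)], (nat_lit 27), (nat_lit 0), (nat_lit 0), (nat_lit 3)⟩) (BT.leaf ⟨[(nat_lit 1), (nat_lit 1)], (nat_lit 0), (nat_lit 0), (nat_lit 0), (nat_lit 3)⟩)) (BT.node (nat_lit 8) (BT.leaf ⟨[(nat_lit 6), (nat_lit 6)], (nat_lit 10), (nat_lit 0), (nat_lit 0), (nat_lit 3)⟩) (BT.node (nat_lit 9) (BT.leaf ⟨[(nat_lit 5), (nat_lit 5)], (nat_lit 3), (nat_lit 0), (nat_lit 0), (nat_lit 3)⟩) (BT.leaf ⟨[(nat_lit 2), (nat_lit 2), (nat_lit 2)], (nat_lit 1), (nat_lit 0), (nat_lit 0), (nat_lit 3)⟩))))) (BT.node (nat_lit 15) (BT.node (nat_lit 12) (BT.node (nat_lit 11) (BT.leaf ⟨[(nat_lit 3), (nat_lit 6), (nat_lit 3), (nat_lit 6)], (nat_lit 40), (nat_lit 0), (nat_lit 0), (nat_lit 3)⟩) (BT.leaf ⟨[(nat_lit 6), (nat_lit 7), (nat_lit 6), (nat_lit 7)], (nat_lit 19), (nat_lit 1), (nat_lit 0), (nat_lit 3)⟩)) (BT.node (nat_lit 13) (BT.leaf ⟨[(nat_lit 3), (nat_lit 5), (nat_lit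 3), (nat_lit 5)], (nat_lit 36), (nat_lit 0), (nat_lit 0), (nat_lit 3)⟩) (BT.node (nat_lit 14) (BT.leaf ⟨[(nat_lit 1), (nat_lit 5), (nat_lit 1), (nat_lit 5)], (nat_lit 5), (nat_lit 1), (nat_lit 0), (nat_lit 3)⟩) (BT.leaf ⟨[(nat_lit 1), (nat_lit 7), (nat_lit 1), (nat_lit 7)], (nat_lit 16), (nat_lit 1), (nat_lit 0), (nat_lit 3)⟩)))) (BT.node (nat_lit 17) (BT.node (nat_lit 16) (BT.leaf ⟨[(nat_lit 5), (nat_lit 7), (nat_lit 5), (nat_lit 7)], (nat_lit 18), (nat_lit 1), (nat_lit 0), (nat_lit 3)⟩) (BT.leaf ⟨[(nat_lit 5), (nat_lit 2), (nat_lit 5), (nat_lit 2)], (nat_lit 7), (nat_lit 0), (nat_lit 0), (nat_lit 3)⟩)) (BT.node (nat_lit 18) (BT.leaf ⟨[(nat_lit 5), (nat_lit 3), (nat_lit 5), (nat_lit 3)], (nat_lit 36), (nat_lit 1), (nat_lit 0), (nat_lit 3)⟩) (BT.node (nat_lit 19) (BT.leaf ⟨[(nat_lit 6), (nat_lit 2), (nat_lit 6), (nat_lit 2)], (nat_lit 11), (nat_lit 0), (nat_lit 0), (nat_lit 3)⟩) (BT.leaf ⟨[(nat_lit 6), (nat_lit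 3), (nat_lit 6), (nat_lit 3)], (nat_lit 40), (nat_lit 1), (nat_lit 0), (nat_lit 3)⟩)))))) (BT.node (nat_lit 30) (BT.node (nat_lit 25) (BT.node (nat_lit 22) (BT.node (nat_lit 21) (BT.leaf ⟨[(nat_lit 4), (nat_lit 7), (nat_lit 4), (nat_lit 7)], (nat_lit 17), (nat_lit 1), (nat_lit 0), (nat_lit 3)⟩) (BT.leaf ⟨[(nat_lit 4), (nat_lit 2), (nat_lit 4), (nat_lit 2)], (nat_lit 6), (nat_lit 0), (nat_lit 0), (nat_lit 3)⟩)) (BT.node (nat_lit 23) (BT.leaf ⟨[(nat_lit 4), (nat_lit 4)], (nat_lit 2), (nat_lit 0), (nat_lit 0), (nat_lit 3)⟩) (BT.node (nat_lit 24) (BT.leaf ⟨[(nat_lit 5), (nat_lit 1), (nat_lit 5), (nat_lit 1)], (nat_lit 5), (nat_lit 0), (nat_lit 0), (nat_lit 3)⟩) (BT.leaf ⟨[(nat_lit 4), (nat_lit 1), (nat_lit 4), (nat_lit 1)], (nat_lit 4), (nat_lit 0), (nat_lit 0), (nat_lit 3)⟩)))) (BT.node (nat_lit 27) (BT.node (nat_lit 26) (BT.leaf ⟨[(nat_lit 4), (nat_lit 6), (nat_lit 4), (nat_lit 6)], (nat_lit 12), (nat_lit 1),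 (nat_lit 0), (nat_lit 3)⟩) (BT.leaf ⟨[(nat_lit 4), (nat_lit 5), (nat_lit 4), (nat_lit 5)], (nat_lit 8), (nat_lit 1), (nat_lit 0), (nat_lit 3)⟩)) (BT.node (nat_lit 28) (BT.leaf ⟨[(nat_lit 7), (nat_lit 2), (nat_lit 7), (nat_lit 2), (nat_lit 7), (nat_lit 2)], (nat_lit 20), (nat_lit 0), (nat_lit 0), (nat_lit 3)⟩) (BT.node (nat_lit 29) (BT.leaf ⟨[(nat_lit 7), (nat_lit 1), (nat_lit 7), (nat_lit 1)], (nat_lit 16), (nat_lit 0), (nat_lit 0), (nat_lit 3)⟩) (BT.leaf ⟨[(nat_lit 7), (nat_lit 6), (nat_lit 7), (nat_lit 6)], (nat_lit 19), (nat_lit 0), (nat_lit 0), (nat_lit 3)⟩))))) (BT.node (nat_lit 35) (BT.node (nat_lit 32) (BT.node (nat_lit 31) (BT.leaf ⟨[(nat_lit 7), (nat_lit 5), (nat_lit 7), (nat_lit 5)], (nat_lit 18), (nat_lit 0), (nat_lit 0), (nat_lit 3)⟩) (BT.leaf ⟨[(nat_lit 2), (nat_lit 1), (nat_lit 2), (nat_lit 1), (nat_lit 2), (nat_lit 1)], (nat_lit 9), (nat_lit 0), (nat_lit 0), (nat_lit 3)⟩)) (BT.node (nat_lit 33)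 (BT.leaf ⟨[(nat_lit 2), (nat_lit 6), (nat_lit 2), (nat_lit 6)], (nat_lit 11), (nat_lit 1), (nat_lit 0), (nat_lit 3)⟩) (BT.node (nat_lit 34) (BT.leaf ⟨[(nat_lit 2), (nat_lit 5), (nat_lit 2), (nat_lit 5)], (nat_lit 7), (nat_lit 1), (nat_lit 0), (nat_lit 3)⟩) (BT.leaf ⟨[(nat_lit 1), (nat_lit 6), (nat_lit 1), (nat_lit 6), (nat_lit 1), (nat_lit 6)], (nat_lit 13), (nat_lit 1), (nat_lit 0), (nat_lit 3)⟩)))) (BT.node (nat_lit 38) (BT.node (nat_lit 36) (BT.leaf ⟨[(nat_lit 6), (nat_lit 5), (nat_lit 6), (nat_lit 5), (nat_lit 6), (nat_lit 5)], (nat_lit 14), (nat_lit 0), (nat_lit 0), (nat_lit 3)⟩) (BT.node (nat_lit 37) (BT.leaf ⟨[(nat_lit 3), (nat_lit 7), (nat_lit 3), (nat_lit 7), (nat_lit 3), (nat_lit 7)], (nat_lit 49), (nat_lit 0), (nat_lit 0), (nat_lit 3)⟩) (BT.leaf ⟨[(nat_lit 1), (nat_lit 2), (nat_lit 1), (nat_lit 2), (nat_lit 1), (nat_lit 2)], (nat_lit 9), (nat_lit 1), (nat_lit 0), (nat_lit 3)⟩))) (BT.node (nat_lit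 39) (BT.leaf ⟨[(nat_lit 1), (nat_lit 3), (nat_lit 1), (nat_lit 3), (nat_lit 1), (nat_lit 3)], (nat_lit 38), (nat_lit 0), (nat_lit 0), (nat_lit 3)⟩) (BT.node (nat_lit 40) (BT.leaf ⟨[(nat_lit 6), (nat_lit 1), (nat_lit 6), (nat_lit 1), (nat_lit 6), (nat_lit 1)], (nat_lit 13), (nat_lit 0), (nat_lit 0), (nat_lit 3)⟩) (BT.leaf ⟨[(nat_lit 5), (nat_lit 6), (nat_lit 5), (nat_lit 6), (nat_lit 5), (nat_lit 6)], (nat_lit 14), (nat_lit 1), (nat_lit 0), (nat_lit 3)⟩)))))))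
noncomputable def ep_2_hcs : List CW := [⟨[(nat_lit 6)], (nat_lit 0), (nat_lit 0), (nat_lit 0), (nat_lit 0)⟩, ⟨[(nat_lit 5)], (nat_lit 1), (nat_lit 0), (nat_lit 0), (nat_lit 0)⟩, ⟨[(nat_lit 4)], (nat_lit 2), (nat_lit 0), (nat_lit 0), (nat_lit 0)⟩, ⟨[(nat_lit 2)], (nat_lit 3), (nat_lit 0), (nat_lit 0), (nat_lit 0)⟩, ⟨[(nat_lit 1)], (nat_lit 4), (nat_lit 0), (nat_lit 0), (nat_lit 0)⟩, ⟨[(nat_lit 6)], (nat_lit 5), (nat_lit 0), (nat_lit 0), (nat_lit 0)⟩, ⟨[(nat_lit 5)], (nat_lit 6), (nat_lit 0), (nat_lit 0), (nat_lit 0)⟩, ⟨[(nat_lit 4)], (nat_lit 7), (nat_lit 0), (nat_lit 0), (nat_lit 0)⟩, ⟨[(nat_lit 3)], (nat_lit 8), (nat_lit 0), (nat_lit 0), (nat_lit 0)⟩, ⟨[(nat_lit 1)], (nat_lit 9), (nat_lit 0), (nat_lit 0), (nat_lit 0)⟩]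
noncomputable def ep_2_H (x j : Nat) : Bx (Nat → Nat → Nat) := mkH ep_2_L ep_2_pb.1 ep_2_e.get (lmap CW.w ep_2_hcs) (nat_lit 32) (nat_lit 33) (nat_lit 8) (nat_lit 64) (nat_lit 4096) (nat_lit 4095) x (ep_2_rots.get j)
noncomputable def ep_2_F (x b : Nat) : Bool := blkOK ep_2_H ep_2_ch (nat_lit 33) (nat_lit 64) (nat_lit 64) (nat_lit 8) (nat_lit 255) (nat_lit 17) (nat_lit 131071) x b

theorem ep_2_k0_0 : allFrom (ep_2_F (nat_lit 0)) (nat_lit 0) (nat_lit 4) = true := by decide +kernel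
theorem ep_2_k1_0 : allFrom (ep_2_F (nat_lit 1)) (nat_lit 0) (nat_lit 4) = true := by decide +kernel
theorem ep_2_k2_0 : allFrom (ep_2_F (nat_lit 2)) (nat_lit 0) (nat_lit 4) = true := by decide +kernel
theorem ep_2_k3_0 : allFrom (ep_2_F (nat_lit 3)) (nat_lit 0) (nat_lit 4) = true := by decide +kernel
theorem ep_2_k4_0 : allFrom (ep_2_F (nat_lit 4)) (nat_lit 0) (nat_lit 4) = true := by decide +kernel
theorem ep_2_k5_0 : allFrom (ep_2_F (nat_lit 5)) (nat_lit 0) (nat_lit 4) = true := by decide +kernel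
theorem ep_2_k6_0 : allFrom (ep_2_F (nat_lit 6)) (nat_lit 0) (nat_lit 4) = true := by decide +kernel
theorem ep_2_k7_0 : allFrom (ep_2_F (nat_lit 7)) (nat_lit 0) (nat_lit 4) = true := by decide +kernel

noncomputable def ep_3_c0 : BT (Bx Nat) := (BT.leaf (Bx.mk (nat_lit 0x0)))
noncomputable def ep_3_c1 : BT (Bx Nat) := (BT.leaf (Bx.mk (nat_lit 0xb07e88e7e799f5e3bcb07cee07f387bea66e438c6a66c828d5e674b81edc1f0387dde3b2437e681f8b078281f6b077e03aa787a203a9ab69e0665787996ae48876e466290e86e06db81ae2a1e8997201dd9198e01d988d6a61d19873a6ad690d5221d5b0726c1c8a196221cf928428397a8e1ea3469072a6a0bb814ee052a073681ccb070e8384b8116a642b83040000)))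
noncomputable def ep_3_c2 : BT (Bx Nat) := (BT.leaf (Bx.mk (nat_lit 0x212fcc2f980be20c3c3a9ece2f23a9de25b6b81fa82bdb0aadc2b440ba504b098a9ee07a90bc602ec88bd622a2929b5e2aa4b0a2e073a1bbe42a5a966e26e48968e45ae89b86629690b82c29290a72a591a0a9ac28ea8b6a45989125e86df90a52a48c90b7a6a53a0a76c287a8b42e0599af368295b0a16a2cbb0a12a2c9b813e6486b812ae048a1b0ea582b83040000)))
noncomputable def ep_3_c3 : BT (Bx Nat) := (BT.leaf (Bx.mk (nat_lit 0x189fec277a98d9e27c309eec270289f9e27d309e60278809b5e634b09a0c27a889bce2729899e2262889ade26eb81d60b2a389cd0269a1cc6a61b9949a02648098e462c80986225f9895a2253a9846651da09968259b093a22588895e8720a933265159094ae05ea0972824fb091ee05a909368254a092ac245a0922c244b81424246b812ee0499890e8242b09040000)))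
noncomputable def ep_3_c4 : BT (Bx Nat) := (BT.leaf (Bx.mk (nat_lit 0x140fc507e141f52f7c1c0ec707a13bdc4ef61c0e46f78541d44f34241cc6ef01bbbc8f7223cc44f6c5c0ac2eee53bb50f6a23ba0af691bc9cafe523b986f241bf8c2fa273a856edf63e81305e33a70aedd23f6d4ed95be6890186bc5daf565be514ed5540492ed32be452ecf53e41900e63f358f4c4bb294f8b53b216f895bd1d6fc65c0158f4463c0dae82b83040000)))
noncomputable def ep_3_c5 : BT (Bx Nat) := (BT.leaf (Bx.mk (nat_lit 0x288eca57e715f5c3fc31dfce573788dde23680fe606b8795d5c6b4308e9e228588bde22962dc626ac89dae022e808b5e3ea80fc203f25959e221c88875eb649886246a290f86221f91582055e91a9646a698846620f9884286a3a8f366b56b082ec20a91d4a2213a1a6e85d9a156aa3c7a085ec205b8156e054908226549a083ac203b813283c4b811aa682b83040000)))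
noncomputable def ep_3_c6 : BT (Bx Nat) := (BT.leaf (Bx.mk (nat_lit 0x222fca43e205e9e33c5b4d0a47d705dda17078ce5c332810d5417b390cda176b0599c338b0596042c805ade16e8a7b5e32a60ca16169b056ee071b81bec1588278e4aa2a8c5ec155b0552041e60571aa9db819e21599106ae064a0586c14cb8182e05f8054a29d361146614898526630e98c36e0569052a640ba113e8410a8c128886a27168147b050ae043b83040000)))
noncomputable def ep_3_c7 : BT (Bx Nat) := (BT.leaf (Bx.mk (nat_lit 0x226fca8fe7b5f6c1b5324eca9bab06b9ebafb06b1c1b1b81f0a9743a3cec1a67aedac1a5706e2e079886aee077924b6c19eb0676c19c4259ee072b81c149645268cc8e2b065a695f90682e06ab81a6e0684a66e01998a6696b98b0632e0619865289959a44a419352446218f92542c186b0616e057aae2a818b9862288c9b060ee04eb8136c182b811ee044b83040000)))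
noncomputable def ep_3_c8 : BT (Bx Nat) := (BT.leaf (Bx.mk (nat_lit 0x220fca87eb04d5ccfc49eeca83a39fdec12d304e6c12bb81f6c12a41fccc830804bca1328a1c6c120b81e2c11fb81dae0743a1a0c12991e9ec11ab046647a4b045ec11679e86e06eb81b1cc9eb0442c10fb043ae066b8196c10db818ee0629205221157b149c113b041ee05db8172e05bb8162680c9042a684b68421c7c9b81468806a1f15a844a9e0ec101b81080000)))
noncomputable def ep_3_p : BT (Bx Nat) := (BT.leaf (Bx.mk (nat_lit 0x9e819dc29d489d478cc18c028b878b488b078ac88ac37a887a0279877986794779467808780177c877c167876747670766c666886648660665c865886587654665065483540853c853885383538253485307530652c552854241420141c841c341c2418741474145414341423103310230c730c530c120872086104800000000)))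
noncomputable def ep_3_e0 : BT Nat := (BT.node (nat_lit 69) (BT.node (nat_lit 66) (BT.leaf (nat_lit 1310722)) (BT.node (nat_lit 68) (BT.leaf (nat_lit 1048578)) (BT.leaf (nat_lit 786434)))) (BT.node (nat_lit 70) (BT.leaf (nat_lit 524290)) (BT.node (nat_lit 71) (BT.leaf (nat_lit 262146)) (BT.leaf (nat_lit 2)))))
noncomputable def ep_3_e : BT Nat := ep_3_e0
noncomputable def ep_3_cols : List (BT (Bx Nat)) := [ep_3_c0, ep_3_c1, ep_3_c2, ep_3_c3, ep_3_c4, ep_3_c5, ep_3_c6, ep_3_c7, ep_3_c8]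
noncomputable def ep_3_ch (x j : Nat) : Bx Nat := chunkG ep_3_cols (nat_lit 1) x j
noncomputable def ep_3_L (x : Nat) : Bx (Nat → Nat) := lookG ep_3_ch (nat_lit 8) (nat_lit 255) (nat_lit 18) (nat_lit 262143) x
noncomputable def ep_3_pc (_ j : Nat) : Bx Nat := ep_3_p.get j
noncomputable def ep_3_pb : Bx (Nat → Nat) := lookG ep_3_pc (nat_lit 8) (nat_lit 255) (nat_lit 16) (nat_lit 65535) (nat_lit 0)
noncomputable def ep_3_rots : BT CW := (BT.node (nat_lit 32) (BT.node (nat_lit 16) (BT.node (nat_lit 8) (BT.node (nat_lit 4) (BT.node (nat_lit 2) (BT.node (nat_lit 1) (BT.leaf ⟨[], (nat_lit 1000000), (nat_lit 0), (nat_lit 0), (nat_lit 0)⟩) (BT.leaf ⟨[], (nat_lit 1000000), (nat_lit 0), (nat_lit 0), (nat_lit 1)⟩)) (BT.node (nat_lit 3) (BT.leaf ⟨[], (nat_lit 1000000), (nat_lit 0), (nat_lit 0), (nat_lit 2)⟩) (BT.leaf ⟨[(nat_lit 8), (nat_lit 8)], (nat_lit 21), (nat_lit 0), (nat_lit 0), (nat_lit 3)⟩))) (BT.node (nat_lit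 6) (BT.node (nat_lit 5) (BT.leaf ⟨[(nat_lit 6), (nat_lit 6)], (nat_lit 10), (nat_lit 0), (nat_lit 0), (nat_lit 3)⟩) (BT.leaf ⟨[(nat_lit 7), (nat_lit 7)], (nat_lit 15), (nat_lit 0), (nat_lit 0), (nat_lit 3)⟩)) (BT.node (nat_lit 7) (BT.leaf ⟨[(nat_lit 1), (nat_lit 1)], (nat_lit 0), (nat_lit 0), (nat_lit 0), (nat_lit 3)⟩) (BT.leaf ⟨[(nat_lit 5), (nat_lit 5)], (nat_lit 3), (nat_lit 0), (nat_lit 0), (nat_lit 3)⟩)))) (BT.node (nat_lit 12) (BT.node (nat_lit 10) (BT.node (nat_lit 9) (BT.leaf ⟨[(nat_lit 3), (nat_lit 2)], (nat_lit 34), (nat_lit 1), (nat_lit 0), (nat_lit 3)⟩) (BT.leaf ⟨[(nat_lit 2), (nat_lit 3)], (nat_lit 34), (nat_lit 0), (nat_lit 0), (nat_lit 3)⟩)) (BT.node (nat_lit 11) (BT.leaf ⟨[(nat_lit 2), (nat_lit 2), (nat_lit 2)], (nat_lit 1), (nat_lit 0), (nat_lit 0), (nat_lit 3)⟩) (BT.leaf ⟨[(nat_lit 6), (nat_lit 7), (nat_lit 6), (nat_lit 7)], (nat_lit 19), (nat_lit 1), (nat_lit 0), (nat_lit 3)⟩))) (BT.node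 (nat_lit 14) (BT.node (nat_lit 13) (BT.leaf ⟨[(nat_lit 1), (nat_lit 5), (nat_lit 1), (nat_lit 5)], (nat_lit 5), (nat_lit 1), (nat_lit 0), (nat_lit 3)⟩) (BT.leaf ⟨[(nat_lit 1), (nat_lit 7), (nat_lit 1), (nat_lit 7)], (nat_lit 16), (nat_lit 1), (nat_lit 0), (nat_lit 3)⟩)) (BT.node (nat_lit 15) (BT.leaf ⟨[(nat_lit 5), (nat_lit 7), (nat_lit 5), (nat_lit 7)], (nat_lit 18), (nat_lit 1), (nat_lit 0), (nat_lit 3)⟩) (BT.leaf ⟨[(nat_lit 6), (nat_lit 2), (nat_lit 6), (nat_lit 2)], (nat_lit 11), (nat_lit 0), (nat_lit 0), (nat_lit 3)⟩))))) (BT.node (nat_lit 24) (BT.node (nat_lit 20) (BT.node (nat_lit 18) (BT.node (nat_lit 17) (BT.leaf ⟨[(nat_lit 6), (nat_lit 3), (nat_lit 6), (nat_lit 3)], (nat_lit 47), (nat_lit 1), (nat_lit 0), (nat_lit 3)⟩) (BT.leaf ⟨[(nat_lit 2), (nat_lit 5), (nat_lit 2), (nat_lit 5)], (nat_lit 7), (nat_lit 1), (nat_lit 0), (nat_lit 3)⟩)) (BT.node (nat_lit 19) (BT.leaf ⟨[(nat_lit 3), (nat_lit 5), (nat_lit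 3), (nat_lit 5)], (nat_lit 43), (nat_lit 0), (nat_lit 0), (nat_lit 3)⟩) (BT.leaf ⟨[(nat_lit 3), (nat_lit 3), (nat_lit 3)], (nat_lit 37), (nat_lit 0), (nat_lit 0), (nat_lit 3)⟩))) (BT.node (nat_lit 22) (BT.node (nat_lit 21) (BT.leaf ⟨[(nat_lit 5), (nat_lit 2), (nat_lit 5), (nat_lit 2)], (nat_lit 7), (nat_lit 0), (nat_lit 0), (nat_lit 3)⟩) (BT.leaf ⟨[(nat_lit 2), (nat_lit 8), (nat_lit 2), (nat_lit 8)], (nat_lit 23), (nat_lit 1), (nat_lit 0), (nat_lit 3)⟩)) (BT.node (nat_lit 23) (BT.leaf ⟨[(nat_lit 5), (nat_lit 3), (nat_lit 5), (nat_lit 3)], (nat_lit 43), (nat_lit 1), (nat_lit 0), (nat_lit 3)⟩) (BT.leaf ⟨[(nat_lit 3), (nat_lit 8), (nat_lit 3), (nat_lit 8)], (nat_lit 59), (nat_lit 0), (nat_lit 0), (nat_lit 3)⟩)))) (BT.node (nat_lit 28) (BT.node (nat_lit 26) (BT.node (nat_lit 25) (BT.leaf ⟨[(nat_lit 1), (nat_lit 8), (nat_lit 1), (nat_lit 8)], (nat_lit 22), (nat_lit 1), (nat_lit 0), (nat_lit 3)⟩) (BT.leaf ⟨[(nat_lit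 5), (nat_lit 8), (nat_lit 5), (nat_lit 8)], (nat_lit 24), (nat_lit 1), (nat_lit 0), (nat_lit 3)⟩)) (BT.node (nat_lit 27) (BT.leaf ⟨[(nat_lit 2), (nat_lit 6), (nat_lit 2), (nat_lit 6)], (nat_lit 11), (nat_lit 1), (nat_lit 0), (nat_lit 3)⟩) (BT.leaf ⟨[(nat_lit 3), (nat_lit 6), (nat_lit 3), (nat_lit 6)], (nat_lit 47), (nat_lit 0), (nat_lit 0), (nat_lit 3)⟩))) (BT.node (nat_lit 30) (BT.node (nat_lit 29) (BT.leaf ⟨[(nat_lit 5), (nat_lit 1), (nat_lit 5), (nat_lit 1)], (nat_lit 5), (nat_lit 0), (nat_lit 0), (nat_lit 3)⟩) (BT.leaf ⟨[(nat_lit 8), (nat_lit 6), (nat_lit 8), (nat_lit 6), (nat_lit 8), (nat_lit 6)], (nat_lit 25), (nat_lit 0), (nat_lit 0), (nat_lit 3)⟩)) (BT.node (nat_lit 31) (BT.leaf ⟨[(nat_lit 8), (nat_lit 1), (nat_lit 8), (nat_lit 1)], (nat_lit 22), (nat_lit 0), (nat_lit 0), (nat_lit 3)⟩) (BT.leaf ⟨[(nat_lit 8), (nat_lit 5), (nat_lit 8), (nat_lit 5)], (nat_lit 24), (nat_lit 0), (nat_lit 0), (nat_lit 3)⟩))))))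 (BT.node (nat_lit 48) (BT.node (nat_lit 40) (BT.node (nat_lit 36) (BT.node (nat_lit 34) (BT.node (nat_lit 33) (BT.leaf ⟨[(nat_lit 8), (nat_lit 2), (nat_lit 8), (nat_lit 2)], (nat_lit 23), (nat_lit 0), (nat_lit 0), (nat_lit 3)⟩) (BT.leaf ⟨[(nat_lit 6), (nat_lit 5), (nat_lit 6), (nat_lit 5), (nat_lit 6), (nat_lit 5)], (nat_lit 14), (nat_lit 0), (nat_lit 0), (nat_lit 3)⟩)) (BT.node (nat_lit 35) (BT.leaf ⟨[(nat_lit 7), (nat_lit 2), (nat_lit 7), (nat_lit 2), (nat_lit 7), (nat_lit 2)], (nat_lit 20), (nat_lit 0), (nat_lit 0), (nat_lit 3)⟩) (BT.leaf ⟨[(nat_lit 7), (nat_lit 1), (nat_lit 7), (nat_lit 1)], (nat_lit 16), (nat_lit 0), (nat_lit 0), (nat_lit 3)⟩))) (BT.node (nat_lit 38) (BT.node (nat_lit 37) (BT.leaf ⟨[(nat_lit 7), (nat_lit 6), (nat_lit 7), (nat_lit 6)], (nat_lit 19), (nat_lit 0), (nat_lit 0), (nat_lit 3)⟩) (BT.leaf ⟨[(nat_lit 7), (nat_lit 5), (nat_lit 7), (nat_lit 5)], (nat_lit 18), (nat_lit 0), (nat_lit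 0), (nat_lit 3)⟩)) (BT.node (nat_lit 39) (BT.leaf ⟨[(nat_lit 6), (nat_lit 1), (nat_lit 6), (nat_lit 1), (nat_lit 6), (nat_lit 1)], (nat_lit 13), (nat_lit 0), (nat_lit 0), (nat_lit 3)⟩) (BT.leaf ⟨[(nat_lit 1), (nat_lit 2), (nat_lit 1), (nat_lit 2), (nat_lit 1), (nat_lit 2)], (nat_lit 9), (nat_lit 1), (nat_lit 0), (nat_lit 3)⟩)))) (BT.node (nat_lit 44) (BT.node (nat_lit 42) (BT.node (nat_lit 41) (BT.leaf ⟨[(nat_lit 2), (nat_lit 1), (nat_lit 2), (nat_lit 1), (nat_lit 2), (nat_lit 1)], (nat_lit 9), (nat_lit 0), (nat_lit 0), (nat_lit 3)⟩) (BT.leaf ⟨[(nat_lit 6), (nat_lit 8), (nat_lit 6), (nat_lit 8), (nat_lit 6), (nat_lit 8)], (nat_lit 25), (nat_lit 1), (nat_lit 0), (nat_lit 3)⟩)) (BT.node (nat_lit 43) (BT.leaf ⟨[(nat_lit 1), (nat_lit 6), (nat_lit 1), (nat_lit 6), (nat_lit 1), (nat_lit 6)], (nat_lit 13), (nat_lit 1), (nat_lit 0), (nat_lit 3)⟩) (BT.leaf ⟨[(nat_lit 3), (nat_lit 7), (nat_lit 3), (nat_lit 7), (nat_lit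 3), (nat_lit 7)], (nat_lit 56), (nat_lit 0), (nat_lit 0), (nat_lit 3)⟩))) (BT.node (nat_lit 46) (BT.node (nat_lit 45) (BT.leaf ⟨[(nat_lit 5), (nat_lit 6), (nat_lit 5), (nat_lit 6), (nat_lit 5), (nat_lit 6)], (nat_lit 14), (nat_lit 1), (nat_lit 0), (nat_lit 3)⟩) (BT.leaf ⟨[(nat_lit 7), (nat_lit 3), (nat_lit 1), (nat_lit 6), (nat_lit 8), (nat_lit 7), (nat_lit 6), (nat_lit 1), (nat_lit 2), (nat_lit 1), (nat_lit 6), (nat_lit 7), (nat_lit 8), (nat_lit 6), (nat_lit 1), (nat_lit 3)], (nat_lit 26), (nat_lit 6), (nat_lit 0), (nat_lit 3)⟩)) (BT.node (nat_lit 47) (BT.leaf ⟨[(nat_lit 2), (nat_lit 1), (nat_lit 6), (nat_lit 7), (nat_lit 8), (nat_lit 6), (nat_lit 1), (nat_lit 3), (nat_lit 7), (nat_lit 3), (nat_lit 1), (nat_lit 6), (nat_lit 8), (nat_lit 7), (nat_lit 6), (nat_lit 1)], (nat_lit 26), (nat_lit 14), (nat_lit 0), (nat_lit 3)⟩) (BT.leaf ⟨[(nat_lit 2), (nat_lit 7), (nat_lit 2), (nat_lit 7), (nat_lit 2), (nat_lit 7)],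 (nat_lit 20), (nat_lit 1), (nat_lit 0), (nat_lit 3)⟩))))) (BT.node (nat_lit 56) (BT.node (nat_lit 52) (BT.node (nat_lit 50) (BT.node (nat_lit 49) (BT.leaf ⟨[(nat_lit 8), (nat_lit 7), (nat_lit 6), (nat_lit 1), (nat_lit 3), (nat_lit 1), (nat_lit 6), (nat_lit 7), (nat_lit 8), (nat_lit 6), (nat_lit 1), (nat_lit 2), (nat_lit 7), (nat_lit 2), (nat_lit 1), (nat_lit 6)], (nat_lit 62), (nat_lit 13), (nat_lit 0), (nat_lit 3)⟩) (BT.leaf ⟨[(nat_lit 8), (nat_lit 3), (nat_lit 8), (nat_lit 3)], (nat_lit 59), (nat_lit 1), (nat_lit 0), (nat_lit 3)⟩)) (BT.node (nat_lit 51) (BT.leaf ⟨[(nat_lit 8), (nat_lit 7), (nat_lit 6), (nat_lit 1), (nat_lit 2), (nat_lit 1), (nat_lit 6), (nat_lit 7), (nat_lit 8), (nat_lit 6), (nat_lit 1), (nat_lit 3), (nat_lit 7), (nat_lit 3), (nat_lit 1), (nat_lit 6)], (nat_lit 26), (nat_lit 10), (nat_lit 0), (nat_lit 3)⟩) (BT.leaf ⟨[(nat_lit 6), (nat_lit 8), (nat_lit 7), (nat_lit 6), (nat_lit 1), (nat_lit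 3), (nat_lit 1), (nat_lit 6), (nat_lit 7), (nat_lit 8), (nat_lit 6), (nat_lit 1), (nat_lit 2), (nat_lit 7), (nat_lit 2), (nat_lit 1)], (nat_lit 62), (nat_lit 12), (nat_lit 0), (nat_lit 3)⟩))) (BT.node (nat_lit 54) (BT.node (nat_lit 53) (BT.leaf ⟨[(nat_lit 7), (nat_lit 2), (nat_lit 1), (nat_lit 6), (nat_lit 8), (nat_lit 7), (nat_lit 6), (nat_lit 1), (nat_lit 3), (nat_lit 1), (nat_lit 6), (nat_lit 7), (nat_lit 8), (nat_lit 6), (nat_lit 1), (nat_lit 2)], (nat_lit 62), (nat_lit 9), (nat_lit 0), (nat_lit 3)⟩) (BT.leaf ⟨[(nat_lit 1), (nat_lit 6), (nat_lit 8), (nat_lit 7), (nat_lit 5), (nat_lit 6), (nat_lit 8), (nat_lit 2), (nat_lit 1), (nat_lit 3), (nat_lit 4), (nat_lit 6), (nat_lit 1), (nat_lit 3), (nat_lit 5), (nat_lit 6), (nat_lit 1), (nat_lit 2), (nat_lit 7), (nat_lit 3), (nat_lit 1), (nat_lit 2), (nat_lit 6), (nat_lit 1), (nat_lit 5), (nat_lit 6), (nat_lit 7), (nat_lit 3), (nat_lit 1), (nat_lit 2), (nat_lit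 7), (nat_lit 8), (nat_lit 6), (nat_lit 5), (nat_lit 7), (nat_lit 8), (nat_lit 6)], (nat_lit 27), (nat_lit 30), (nat_lit 0), (nat_lit 3)⟩)) (BT.node (nat_lit 55) (BT.leaf ⟨[(nat_lit 1), (nat_lit 6), (nat_lit 7), (nat_lit 8), (nat_lit 6), (nat_lit 1), (nat_lit 3), (nat_lit 7), (nat_lit 3), (nat_lit 1), (nat_lit 6), (nat_lit 8), (nat_lit 7), (nat_lit 6), (nat_lit 1), (nat_lit 2)], (nat_lit 26), (nat_lit 15), (nat_lit 0), (nat_lit 3)⟩) (BT.leaf ⟨[(nat_lit 1), (nat_lit 2), (nat_lit 1), (nat_lit 6), (nat_lit 7), (nat_lit 8), (nat_lit 6), (nat_lit 1), (nat_lit 3), (nat_lit 7), (nat_lit 3), (nat_lit 1), (nat_lit 6), (nat_lit 8), (nat_lit 7), (nat_lit 6)], (nat_lit 26), (nat_lit 13), (nat_lit 0), (nat_lit 3)⟩)))) (BT.node (nat_lit 60) (BT.node (nat_lit 58) (BT.node (nat_lit 57) (BT.leaf ⟨[(nat_lit 1), (nat_lit 3), (nat_lit 1), (nat_lit 3), (nat_lit 1), (nat_lit 3)], (nat_lit 45), (nat_lit 0), (nat_lit 0), (nat_lit 3)⟩)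 (BT.leaf ⟨[(nat_lit 4), (nat_lit 6), (nat_lit 1), (nat_lit 3), (nat_lit 5), (nat_lit 6), (nat_lit 1), (nat_lit 2), (nat_lit 7), (nat_lit 3), (nat_lit 1), (nat_lit 2), (nat_lit 6), (nat_lit 1), (nat_lit 5), (nat_lit 6), (nat_lit 7), (nat_lit 3), (nat_lit 1), (nat_lit 2), (nat_lit 7), (nat_lit 8), (nat_lit 6), (nat_lit 5), (nat_lit 7), (nat_lit 8), (nat_lit 6), (nat_lit 1), (nat_lit 6), (nat_lit 8), (nat_lit 7), (nat_lit 5), (nat_lit 6), (nat_lit 8), (nat_lit 2), (nat_lit 1), (nat_lit 3)], (nat_lit 27), (nat_lit 3), (nat_lit 0), (nat_lit 3)⟩)) (BT.node (nat_lit 59) (BT.leaf ⟨[(nat_lit 4), (nat_lit 4)], (nat_lit 2), (nat_lit 0), (nat_lit 0), (nat_lit 3)⟩) (BT.leaf ⟨[(nat_lit 4), (nat_lit 6), (nat_lit 4), (nat_lit 6)], (nat_lit 12), (nat_lit 1), (nat_lit 0), (nat_lit 3)⟩))) (BT.node (nat_lit 62) (BT.node (nat_lit 61) (BT.leaf ⟨[(nat_lit 4), (nat_lit 7), (nat_lit 4), (nat_lit 7)], (nat_lit 17), (nat_lit 1), (nat_lit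 0), (nat_lit 3)⟩) (BT.leaf ⟨[(nat_lit 4), (nat_lit 2), (nat_lit 4), (nat_lit 2)], (nat_lit 6), (nat_lit 0), (nat_lit 0), (nat_lit 3)⟩)) (BT.node (nat_lit 63) (BT.leaf ⟨[(nat_lit 4), (nat_lit 5), (nat_lit 4), (nat_lit 5)], (nat_lit 8), (nat_lit 1), (nat_lit 0), (nat_lit 3)⟩) (BT.node (nat_lit 64) (BT.leaf ⟨[(nat_lit 4), (nat_lit 1), (nat_lit 4), (nat_lit 1)], (nat_lit 4), (nat_lit 0), (nat_lit 0), (nat_lit 3)⟩) (BT.leaf ⟨[(nat_lit 4), (nat_lit 3), (nat_lit 4), (nat_lit 3)], (nat_lit 42), (nat_lit 1), (nat_lit 0), (nat_lit 3)⟩))))))))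
noncomputable def ep_3_hcs : List CW := [⟨[(nat_lit 7)], (nat_lit 0), (nat_lit 0), (nat_lit 0), (nat_lit 0)⟩, ⟨[(nat_lit 6)], (nat_lit 1), (nat_lit 0), (nat_lit 0), (nat_lit 0)⟩, ⟨[(nat_lit 5)], (nat_lit 2), (nat_lit 0), (nat_lit 0), (nat_lit 0)⟩, ⟨[(nat_lit 4)], (nat_lit 3), (nat_lit 0), (nat_lit 0), (nat_lit 0)⟩, ⟨[(nat_lit 2)], (nat_lit 4), (nat_lit 0), (nat_lit 0), (nat_lit 0)⟩, ⟨[(nat_lit 1)], (nat_lit 5), (nat_lit 0), (nat_lit 0), (nat_lit 0)⟩, ⟨[(nat_lit 7)], (nat_lit 6), (nat_lit 0), (nat_lit 0), (nat_lit 0)⟩, ⟨[(nat_lit 6)], (nat_lit 7), (nat_lit 0), (nat_lit 0), (nat_lit 0)⟩, ⟨[(nat_lit 5)], (nat_lit 8), (nat_lit 0), (nat_lit 0), (nat_lit 0)⟩, ⟨[(nat_lit 4)], (nat_lit 9), (nat_lit 0), (nat_lit 0), (nat_lit 0)⟩, ⟨[(nat_lit 3)], (nat_lit 10), (nat_lit 0), (nat_lit 0), (nat_lit 0)⟩, ⟨[(nat_lit 1)], (nat_lit 11), (nat_lit 0), (nat_lit 0), (nat_lit 0)⟩]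
noncomputable def ep_3_H (x j : Nat) : Bx (Nat → Nat → Nat) := mkH ep_3_L ep_3_pb.1 ep_3_e.get (lmap CW.w ep_3_hcs) (nat_lit 63) (nat_lit 64) (nat_lit 9) (nat_lit 64) (nat_lit 8192) (nat_lit 4095) x (ep_3_rots.get j)
noncomputable def ep_3_F (x b : Nat) : Bool := blkOK ep_3_H ep_3_ch (nat_lit 64) (nat_lit 64) (nat_lit 128) (nat_lit 8) (nat_lit 255) (nat_lit 18) (nat_lit 262143) x b

theorem ep_3_k0_0 : allFrom (ep_3_F (nat_lit 0)) (nat_lit 0) (nat_lit 4) = true := by decide +kernel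
theorem ep_3_k1_0 : allFrom (ep_3_F (nat_lit 1)) (nat_lit 0) (nat_lit 4) = true := by decide +kernel
theorem ep_3_k2_0 : allFrom (ep_3_F (nat_lit 2)) (nat_lit 0) (nat_lit 4) = true := by decide +kernel
theorem ep_3_k3_0 : allFrom (ep_3_F (nat_lit 3)) (nat_lit 0) (nat_lit 4) = true := by decide +kernel
theorem ep_3_k4_0 : allFrom (ep_3_F (nat_lit 4)) (nat_lit 0) (nat_lit 4) = true := by decide +kernel
theorem ep_3_k5_0 : allFrom (ep_3_F (nat_lit 5)) (nat_lit 0) (nat_lit 4) = true := by decide +kernel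
theorem ep_3_k6_0 : allFrom (ep_3_F (nat_lit 6)) (nat_lit 0) (nat_lit 4) = true := by decide +kernel
theorem ep_3_k7_0 : allFrom (ep_3_F (nat_lit 7)) (nat_lit 0) (nat_lit 4) = true := by decide +kernel
theorem ep_3_k8_0 : allFrom (ep_3_F (nat_lit 8)) (nat_lit 0) (nat_lit 4) = true := by decide +kernel

noncomputable def ep_4_c0 : BT (Bx Nat) := (BT.leaf (Bx.mk (nat_lit 0x0)))
noncomputable def ep_4_c1 : BT (Bx Nat) := (BT.leaf (Bx.mk (nat_lit 0x1dbf861bf7acf675c8751d7f4102e47087279bdcac757182e8202e0697edacf515886188869842ea1cf6fa82f6b02c761be51647318863b02c3542eb24f6eacf3c2e45e8c85b742f1882dd75bdab02b4b02b3a82f0b02b2682c568844742c82b43ba82ecb02aeacf2f41bb9502c9882ca28a4b8ca4c54f4d78f53b40e6382bd6f255642d4b40e290842ac82574f4028a3f7e43e3cf46a82df242d2b029f3c2ce8cf3879bb78c2b590a36b40d9b40d8b40d6948317d7a8a82cfb40d0b0296702a19c29e907298c2aa782b09482794f26a82c1b029378f23787227482cb0290b40baa0a2b90f1d9071ca429195e199029a9881898f17b40ada428f98714b40a47db92a8a1bb40a0a881595b8eac8099d78cac708a1b8aa828da828bb0284ac705a8286b4087b0282b4083b418100000)))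
noncomputable def ep_4_c2 : BT (Bx Nat) := (BT.leaf (Bx.mk (nat_lit 0x14cf80957774ff632675545f4b05e20f4f31c5e1105dd5cfef585ee7176d70cec615714e669185d6246cdacfc8796e6356c6b05c3ac6e4086f224febacfbc2c6e0846bd7665b6c5dc145f064cda5c5c2956d9817571c5eab05b1ac6d590fe7545d2acfaf74cd06c5d1405e529749a05ca286acaccabb40e88c6d394cb0306ceb05a7ac6c5b40e3605d84c5cb64fc0b05a1b05a08953930fdf305ba3571fb40de84fb871537a05b5acc9bb0598ac6b485732b40d4906a870ccf705ad74c962ccc1a85ccb0595ac6aab40c7b40c494fa6806bf806be68fa3687a286625856a4b40bb8c59e88f9d8879ca85b6b058dac69ab40b398f97b40aeb40a999714b058a6d51290591846939058f8d50eb40999d70c9c78b8971094589ac785a1687a0688a4786a4683a9502b4084b418100000)))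
noncomputable def ep_4_c3 : BT (Bx Nat) := (BT.leaf (Bx.mk (nat_lit 0x1037804377703762c3755acf408372043625c36b19ddb5836f5dd6e6c36d6c36c20361232d64836ab03498c3537436646b4ea8363b0343b40f3233712835f2c33cb033914ef072b5c7035d6035a9035865dc27c3571cee9a8354b0331883485ac5270e4f703506c32f2c34620368ace2b52b41a4ecc2434da8367b032830365a8344b0327b40e460ed92832c603407c3257c3248035ea8360b031f36cbb8433d803386c337ace1ba4eb6a8333b031880332b40d590347a8351b031674e2e2434ba834aa8329b03158c330b40c59032680321803206432364322b40bfb40be3033a90e1e8431d8431ca8335a8319b030db40b4943177032db40aa94314803106831294e118430a95d8f8830eb409a9830c9830bb409399d099c3069c307a0305a8308b0302a0304a4303b030100000)))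
noncomputable def ep_4_c4 : BT (Bx Nat) := (BT.leaf (Bx.mk (nat_lit 0x1a7785e7776caf6248f5648f4127e25c8f218bf1b03d610aef688ee6896d68aec588e1208db208dd20be870ae7727e628be5603c3689630c3f3543eb2cae078abc2c95e1c3e9167dc1c3ea6315a64bd4643d5b03b2b40f06a7d8603d974ac86c8d26cad16e7d090aaf283c6503c9203b524bcb203b654acd703d3749472e7ce9c3b39c3b4649649c3b1748acacaa378d3f78d3e2c3b9743df30d3b7839f3093daca9d1093724bca24d4ca0d44a0bc5b40d7a08c2743a88c3cf70d2e90396703c12b11ba4399a439a78930a4398a4397808a1827a0a83c0b03927c3a57c3a47e73a2a711a83b8b038e243aba8d29a8baaa88a7a8aa69672dac88dac90c80390b40a22439e84b93ac889b409ca8395a8394b03879e70aa838fb0384b408bb0383b0382b4088b4086b4085b418100000)))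
noncomputable def ep_4_c5 : BT (Bx Nat) := (BT.leaf (Bx.mk (nat_lit 0x150780a0f7b06662cb7560b741166260b72210e8854f0670dcacb5218b6db0650b064d8466988b6a1c671b0647b40f6310e56a0c3650e30c67358649b063bb063a810de8865b6066f8cb5d6505a6064469645894d789656a4633a4634ad030a866eb062eb40ecb062d68646b40eb8d04a2904b8864c5cb61b0628b40e76d04e646586515964664acb2774b2cb06227d0bf7d0be953b9b061fb40e0b40df9063db061c713b7910358c636a9154a90d58e0b2acb18a8653b0616b40d1b40cf706419102b8c629910aab40c8a8642b06148062180620b0612b40c084b2585624b40bc9501eb060eb40b89501b906199509aa8631b060cb40af94b15b40a689390b40a3990118461398b0fb409d98b0db40979960b8110a9cb099d0889d607a0605a5486a1084a9382a4603b418100000)))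
noncomputable def ep_4_c6 : BT (Bx Nat) := (BT.leaf (Bx.mk (nat_lit 0x164f812a760c4f72c9f5889ee11ee2609f275371894705d86f844f4b04d0189ec8c4e1644e9689ea24c4b88de779ee630c65684cf884d10c4f39206b79860244bc7c4bb804db76eb7849dd664da91ed88c4d9904b88ded68c4d490c5596248689d28cde3b40ed6cc64484c6504c16cc4a204e8684cc749ac904d38c4be4e4cea44a9a44aa9202f909c2549cd694407cc3f90dc7b049f28c5f80c5e344b939eba95457704dc8a4b5844b6a4499a449a9a01d949b17c4a48c4c36cdae6c496704c9724aba8dc4a8c4595320ac99595426884a180c306d8232541e8c9a5904a8b40bd204a2944b28d41c84c1ba8db3a8c34ac98d99817724ada84a7b048b9231076a11704928c4939898f9130ea8498b0487b40949130a9c9899cc08b408ca9405a4486a0c04a8482ad303b418100000)))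
noncomputable def ep_4_c7 : BT (Bx Nat) := (BT.leaf (Bx.mk (nat_lit 0x173f8099f71daf6b0465b046311a62b045a69a7175a705daefb0451219de21a6058453b044cb044a1d9e821ae721a66b40f558443b40f40c47361cc81c46c2843c1c46db04366e5dcb0435b40f295a5890459799d779a569045495ad55d9ebb042eb40ee2043b61caf8c44659ab0b40ea258cbb40e9b04285c461259c791cce90444959c55d9e4b0426b042465ac07d8bf298be344392dadf25a503199f39a3d7dab8699b7b40ddb40db94433999b47d9b2b04175444d5c44fb40d25841679ca051cab944299992ab40c9b0414b40c2b0413b40c169aa369922b04107442c2c43a4da1e81a9d8191c79c9b984199d89ab040cb40b15daadb040bb40a7b40a56d99275a11b40a1b040885c8eb0407b4098b40958a58ab0404b408fb408d9990594406b4089984029dc83b418100000)))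
noncomputable def ep_4_c8 : BT (Bx Nat) := (BT.leaf (Bx.mk (nat_lit 0x185740a1778c56c2ebf51eaf8112e262bf26d2f16d2f05dc6f21c6e7616d91c765abe1145691b1ea215e895c51952d02c54b8d5c3912630c5735456b8dc602453c3453f76bdb723dc7055d6e3b784558892d972157792d689c5484555b052f26bd29056790566752c8b052c50549b052a315e5b052955c4d7054f9452e705416c544715c58856471c4276ac619c403a8de795be34525295df91f3b2c51f3d2a1745266855ab051ab05198e833885347e13285c31b0516b40d39924774528b40ceb0515b40ccb40ca792ad76aa779c38392bd812a069c231e122385397c524328bab050f805177d214b050db40b6b40b58a89885c1db40b0b40ab7851c805106e112b050985593b409e8920cb409b8450e9528b8e38ab409199208a92879050595586ad204a15829c503b418100000)))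
noncomputable def ep_4_c9 : BT (Bx Nat) := (BT.leaf (Bx.mk (nat_lit 0xb026eb026c151f6229e91e9f4111f066e5db02580c273b0255b40f8661e6b40f7511eb161ea1c2756c24c661e36026db02446a6c860267911e2b024221b6016d402db5e60272b02356ee5bb02347add9b40f160253951d6b40ef79b5465b57229d265b51691d06423840249b022b72568b02291424546f4e6426472547b0227191cab40e5b0226b40e136fc11025f31b3b6c22e351bd2703c2c23f711a1b021e69b4fb021a7db33b40dcb40da78236b02177e931751b0621af7253ea4220b0215b40cd251aab40cbb0214b40c6b40c321b228229c66d231c2256c23aa91adb020fb40b97e19d7c22482918b40b77e1997c21bb40b2b020bb40acb40a871f93b020979191b0208b409fb02078298d95f8cb4096b0205b4092b4090b408ea6286b408a99b04ad183b0201b408200000)))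
noncomputable def ep_4_p : BT (Bx Nat) := (BT.leaf (Bx.mk (nat_lit 0x13b899d84ce616728f38c79c41c5a1e2c1315848aa4c511e280d140589a2c4c1e250f124288e2c4706221310c38861443062112eec57742bb909db0eed4976a3bb425da02ecc176423b205d886ec4275e43ae1dd70aeb8175a2bac21d592ea887524ba921d40eea0575013a725d386e9c274c4ba61d920ec8856421b200d8f8cc7c563e131f058f12c7056344b1a218c90c6036301317258b8ec58862c2b16098b02c54962a43150d8a84c5096283b1415498ea4c15242a9211480ea40151e4a8f21470aa38451a428d0d4684a3075182a8b25458ea2c64141a0925049082094103a0725038e81c640e218524c20e61043080983108108408220408812400000000)))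
noncomputable def ep_4_e0 : BT Nat := (BT.node (nat_lit 69) (BT.node (nat_lit 66) (BT.leaf (nat_lit 1572866)) (BT.node (nat_lit 68) (BT.leaf (nat_lit 1310722)) (BT.leaf (nat_lit 1048578)))) (BT.node (nat_lit 71) (BT.node (nat_lit 70) (BT.leaf (nat_lit 786434)) (BT.leaf (nat_lit 524290))) (BT.node (nat_lit 72) (BT.leaf (nat_lit 262146)) (BT.leaf (nat_lit 2)))))
noncomputable def ep_4_e : BT Nat := ep_4_e0
noncomputable def ep_4_cols : List (BT (Bx Nat)) := [ep_4_c0, ep_4_c1, ep_4_c2, ep_4_c3, ep_4_c4, ep_4_c5, ep_4_c6, ep_4_c7, ep_4_c8, ep_4_c9]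
noncomputable def ep_4_ch (x j : Nat) : Bx Nat := chunkG ep_4_cols (nat_lit 1) x j
noncomputable def ep_4_L (x : Nat) : Bx (Nat → Nat) := lookG ep_4_ch (nat_lit 8) (nat_lit 255) (nat_lit 20) (nat_lit 1048575) x
noncomputable def ep_4_pc (_ j : Nat) : Bx Nat := ep_4_p.get j
noncomputable def ep_4_pb : Bx (Nat → Nat) := lookG ep_4_pc (nat_lit 8) (nat_lit 255) (nat_lit 17) (nat_lit 131071) (nat_lit 0)
noncomputable def ep_4_rots : BT CW := (BT.node (nat_lit 52) (BT.node (nat_lit 26) (BT.node (nat_lit 13) (BT.node (nat_lit 6) (BT.node (nat_lit 3) (BT.node (nat_lit 1) (BT.leaf ⟨[], (nat_lit 1000000), (nat_lit 0), (nat_lit 0), (nat_lit 0)⟩) (BT.node (nat_lit 2) (BT.leaf ⟨[], (nat_lit 1000000), (nat_lit 0), (nat_lit 0), (nat_lit 1)⟩) (BT.leaf ⟨[], (nat_lit 1000000), (nat_lit 0), (nat_lit 0), (nat_lit 2)⟩))) (BT.node (nat_lit 4) (BT.leaf ⟨[(nat_lit 9), (nat_lit 9)], (nat_lit 28), (nat_lit 0), (nat_lit 0), (nat_lit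 3)⟩) (BT.node (nat_lit 5) (BT.leaf ⟨[(nat_lit 1), (nat_lit 1)], (nat_lit 0), (nat_lit 0), (nat_lit 0), (nat_lit 3)⟩) (BT.leaf ⟨[(nat_lit 3), (nat_lit 2)], (nat_lit 41), (nat_lit 1), (nat_lit 0), (nat_lit 3)⟩)))) (BT.node (nat_lit 9) (BT.node (nat_lit 7) (BT.leaf ⟨[(nat_lit 4), (nat_lit 4)], (nat_lit 2), (nat_lit 0), (nat_lit 0), (nat_lit 3)⟩) (BT.node (nat_lit 8) (BT.leaf ⟨[(nat_lit 7), (nat_lit 7)], (nat_lit 15), (nat_lit 0), (nat_lit 0), (nat_lit 3)⟩) (BT.leaf ⟨[(nat_lit 6), (nat_lit 6)], (nat_lit 10), (nat_lit 0), (nat_lit 0), (nat_lit 3)⟩))) (BT.node (nat_lit 11) (BT.node (nat_lit 10) (BT.leaf ⟨[(nat_lit 8), (nat_lit 8)], (nat_lit 21), (nat_lit 0), (nat_lit 0), (nat_lit 3)⟩) (BT.leaf ⟨[(nat_lit 2), (nat_lit 3)], (nat_lit 41), (nat_lit 0), (nat_lit 0), (nat_lit 3)⟩)) (BT.node (nat_lit 12) (BT.leaf ⟨[(nat_lit 5), (nat_lit 5)], (nat_lit 3), (nat_lit 0), (nat_lit 0), (nat_lit 3)⟩) (BT.leaf ⟨[(nat_lit 2), (nat_lit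 2), (nat_lit 2)], (nat_lit 1), (nat_lit 0), (nat_lit 0), (nat_lit 3)⟩))))) (BT.node (nat_lit 19) (BT.node (nat_lit 16) (BT.node (nat_lit 14) (BT.leaf ⟨[(nat_lit 1), (nat_lit 4), (nat_lit 1), (nat_lit 4)], (nat_lit 4), (nat_lit 1), (nat_lit 0), (nat_lit 3)⟩) (BT.node (nat_lit 15) (BT.leaf ⟨[(nat_lit 2), (nat_lit 4), (nat_lit 2), (nat_lit 4)], (nat_lit 6), (nat_lit 1), (nat_lit 0), (nat_lit 3)⟩) (BT.leaf ⟨[(nat_lit 1), (nat_lit 7), (nat_lit 1), (nat_lit 7)], (nat_lit 16), (nat_lit 1), (nat_lit 0), (nat_lit 3)⟩))) (BT.node (nat_lit 17) (BT.leaf ⟨[(nat_lit 4), (nat_lit 7), (nat_lit 4), (nat_lit 7)], (nat_lit 17), (nat_lit 1), (nat_lit 0), (nat_lit 3)⟩) (BT.node (nat_lit 18) (BT.leaf ⟨[(nat_lit 4), (nat_lit 6), (nat_lit 4), (nat_lit 6)], (nat_lit 12), (nat_lit 1), (nat_lit 0), (nat_lit 3)⟩) (BT.leaf ⟨[(nat_lit 6), (nat_lit 7), (nat_lit 6), (nat_lit 7)], (nat_lit 19), (nat_lit 1), (nat_lit 0), (nat_lit 3)⟩)))) (BT.node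 (nat_lit 22) (BT.node (nat_lit 20) (BT.leaf ⟨[(nat_lit 1), (nat_lit 8), (nat_lit 1), (nat_lit 8)], (nat_lit 22), (nat_lit 1), (nat_lit 0), (nat_lit 3)⟩) (BT.node (nat_lit 21) (BT.leaf ⟨[(nat_lit 4), (nat_lit 5), (nat_lit 4), (nat_lit 5)], (nat_lit 8), (nat_lit 1), (nat_lit 0), (nat_lit 3)⟩) (BT.leaf ⟨[(nat_lit 5), (nat_lit 7), (nat_lit 5), (nat_lit 7)], (nat_lit 18), (nat_lit 1), (nat_lit 0), (nat_lit 3)⟩))) (BT.node (nat_lit 24) (BT.node (nat_lit 23) (BT.leaf ⟨[(nat_lit 4), (nat_lit 2), (nat_lit 4), (nat_lit 2)], (nat_lit 6), (nat_lit 0), (nat_lit 0), (nat_lit 3)⟩) (BT.leaf ⟨[(nat_lit 6), (nat_lit 2), (nat_lit 6), (nat_lit 2)], (nat_lit 11), (nat_lit 0), (nat_lit 0), (nat_lit 3)⟩)) (BT.node (nat_lit 25) (BT.leaf ⟨[(nat_lit 2), (nat_lit 8), (nat_lit 2), (nat_lit 8)], (nat_lit 23), (nat_lit 1), (nat_lit 0), (nat_lit 3)⟩) (BT.leaf ⟨[(nat_lit 4), (nat_lit 3), (nat_lit 4), (nat_lit 3)], (nat_lit 49), (nat_lit 1),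 (nat_lit 0), (nat_lit 3)⟩)))))) (BT.node (nat_lit 39) (BT.node (nat_lit 32) (BT.node (nat_lit 29) (BT.node (nat_lit 27) (BT.leaf ⟨[(nat_lit 6), (nat_lit 3), (nat_lit 6), (nat_lit 3)], (nat_lit 54), (nat_lit 1), (nat_lit 0), (nat_lit 3)⟩) (BT.node (nat_lit 28) (BT.leaf ⟨[(nat_lit 3), (nat_lit 8), (nat_lit 3), (nat_lit 8)], (nat_lit 66), (nat_lit 0), (nat_lit 0), (nat_lit 3)⟩) (BT.leaf ⟨[(nat_lit 3), (nat_lit 3), (nat_lit 3)], (nat_lit 44), (nat_lit 0), (nat_lit 0), (nat_lit 3)⟩))) (BT.node (nat_lit 30) (BT.leaf ⟨[(nat_lit 1), (nat_lit 5), (nat_lit 1), (nat_lit 5)], (nat_lit 5), (nat_lit 1), (nat_lit 0), (nat_lit 3)⟩) (BT.node (nat_lit 31) (BT.leaf ⟨[(nat_lit 2), (nat_lit 5), (nat_lit 2), (nat_lit 5)], (nat_lit 7), (nat_lit 1), (nat_lit 0), (nat_lit 3)⟩) (BT.leaf ⟨[(nat_lit 5), (nat_lit 8), (nat_lit 5), (nat_lit 8)], (nat_lit 24), (nat_lit 1), (nat_lit 0), (nat_lit 3)⟩)))) (BT.node (nat_lit 35) (BT.node (nat_lit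 33) (BT.leaf ⟨[(nat_lit 5), (nat_lit 2), (nat_lit 5), (nat_lit 2)], (nat_lit 7), (nat_lit 0), (nat_lit 0), (nat_lit 3)⟩) (BT.node (nat_lit 34) (BT.leaf ⟨[(nat_lit 5), (nat_lit 3), (nat_lit 5), (nat_lit 3)], (nat_lit 50), (nat_lit 1), (nat_lit 0), (nat_lit 3)⟩) (BT.leaf ⟨[(nat_lit 9), (nat_lit 1), (nat_lit 9), (nat_lit 1), (nat_lit 9), (nat_lit 1)], (nat_lit 29), (nat_lit 0), (nat_lit 0), (nat_lit 3)⟩))) (BT.node (nat_lit 37) (BT.node (nat_lit 36) (BT.leaf ⟨[(nat_lit 8), (nat_lit 3), (nat_lit 9), (nat_lit 6), (nat_lit 2), (nat_lit 9), (nat_lit 2)], (nat_lit 30), (nat_lit 2), (nat_lit 0), (nat_lit 3)⟩) (BT.leaf ⟨[(nat_lit 8), (nat_lit 1), (nat_lit 8), (nat_lit 1)], (nat_lit 22), (nat_lit 0), (nat_lit 0), (nat_lit 3)⟩)) (BT.node (nat_lit 38) (BT.leaf ⟨[(nat_lit 6), (nat_lit 1), (nat_lit 9), (nat_lit 8), (nat_lit 1), (nat_lit 6), (nat_lit 1), (nat_lit 9)], (nat_lit 31), (nat_lit 1), (nat_lit 0), (nat_lit 3)⟩) (BT.leaf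 ⟨[(nat_lit 5), (nat_lit 9), (nat_lit 8), (nat_lit 5), (nat_lit 6), (nat_lit 5), (nat_lit 9), (nat_lit 6)], (nat_lit 32), (nat_lit 2), (nat_lit 0), (nat_lit 3)⟩))))) (BT.node (nat_lit 45) (BT.node (nat_lit 42) (BT.node (nat_lit 40) (BT.leaf ⟨[(nat_lit 6), (nat_lit 4), (nat_lit 6), (nat_lit 4)], (nat_lit 12), (nat_lit 0), (nat_lit 0), (nat_lit 3)⟩) (BT.node (nat_lit 41) (BT.leaf ⟨[(nat_lit 5), (nat_lit 4), (nat_lit 5), (nat_lit 4)], (nat_lit 8), (nat_lit 0), (nat_lit 0), (nat_lit 3)⟩) (BT.leaf ⟨[(nat_lit 2), (nat_lit 9), (nat_lit 2), (nat_lit 8), (nat_lit 3), (nat_lit 9), (nat_lit 6)], (nat_lit 30), (nat_lit 6), (nat_lit 0), (nat_lit 3)⟩))) (BT.node (nat_lit 43) (BT.leaf ⟨[(nat_lit 8), (nat_lit 2), (nat_lit 8), (nat_lit 2)], (nat_lit 23), (nat_lit 0), (nat_lit 0), (nat_lit 3)⟩) (BT.node (nat_lit 44) (BT.leaf ⟨[(nat_lit 5), (nat_lit 1), (nat_lit 5), (nat_lit 1)], (nat_lit 5), (nat_lit 0), (nat_lit 0), (nat_lit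 3)⟩) (BT.leaf ⟨[(nat_lit 2), (nat_lit 1), (nat_lit 2), (nat_lit 1), (nat_lit 2), (nat_lit 1)], (nat_lit 9), (nat_lit 0), (nat_lit 0), (nat_lit 3)⟩)))) (BT.node (nat_lit 48) (BT.node (nat_lit 46) (BT.leaf ⟨[(nat_lit 2), (nat_lit 6), (nat_lit 2), (nat_lit 6)], (nat_lit 11), (nat_lit 1), (nat_lit 0), (nat_lit 3)⟩) (BT.node (nat_lit 47) (BT.leaf ⟨[(nat_lit 1), (nat_lit 6), (nat_lit 1), (nat_lit 6), (nat_lit 1), (nat_lit 6)], (nat_lit 13), (nat_lit 1), (nat_lit 0), (nat_lit 3)⟩) (BT.leaf ⟨[(nat_lit 6), (nat_lit 5), (nat_lit 6), (nat_lit 5), (nat_lit 6), (nat_lit 5)], (nat_lit 14), (nat_lit 0), (nat_lit 0), (nat_lit 3)⟩))) (BT.node (nat_lit 50) (BT.node (nat_lit 49) (BT.leaf ⟨[(nat_lit 7), (nat_lit 2), (nat_lit 7), (nat_lit 2), (nat_lit 7), (nat_lit 2)], (nat_lit 20), (nat_lit 0), (nat_lit 0), (nat_lit 3)⟩) (BT.leaf ⟨[(nat_lit 7), (nat_lit 4), (nat_lit 7), (nat_lit 4)], (nat_lit 17), (nat_lit 0), (nat_lit 0), (nat_lit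 3)⟩)) (BT.node (nat_lit 51) (BT.leaf ⟨[(nat_lit 7), (nat_lit 6), (nat_lit 7), (nat_lit 6)], (nat_lit 19), (nat_lit 0), (nat_lit 0), (nat_lit 3)⟩) (BT.leaf ⟨[(nat_lit 7), (nat_lit 1), (nat_lit 7), (nat_lit 1)], (nat_lit 16), (nat_lit 0), (nat_lit 0), (nat_lit 3)⟩))))))) (BT.node (nat_lit 78) (BT.node (nat_lit 65) (BT.node (nat_lit 58) (BT.node (nat_lit 55) (BT.node (nat_lit 53) (BT.leaf ⟨[(nat_lit 7), (nat_lit 5), (nat_lit 7), (nat_lit 5)], (nat_lit 18), (nat_lit 0), (nat_lit 0), (nat_lit 3)⟩) (BT.node (nat_lit 54) (BT.leaf ⟨[(nat_lit 9), (nat_lit 6), (nat_lit 2), (nat_lit 9), (nat_lit 2), (nat_lit 8), (nat_lit 3)], (nat_lit 30), (nat_lit 4), (nat_lit 0), (nat_lit 3)⟩) (BT.leaf ⟨[(nat_lit 1), (nat_lit 9), (nat_lit 1), (nat_lit 9), (nat_lit 1), (nat_lit 9)], (nat_lit 29), (nat_lit 1), (nat_lit 0), (nat_lit 3)⟩))) (BT.node (nat_lit 56) (BT.leaf ⟨[(nat_lit 8), (nat_lit 5), (nat_lit 8), (nat_lit 5)], (nat_lit 24),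 (nat_lit 0), (nat_lit 0), (nat_lit 3)⟩) (BT.node (nat_lit 57) (BT.leaf ⟨[(nat_lit 7), (nat_lit 8), (nat_lit 9), (nat_lit 7), (nat_lit 8), (nat_lit 7), (nat_lit 6), (nat_lit 9)], (nat_lit 33), (nat_lit 1), (nat_lit 0), (nat_lit 3)⟩) (BT.leaf ⟨[(nat_lit 3), (nat_lit 7), (nat_lit 3), (nat_lit 7), (nat_lit 3), (nat_lit 7)], (nat_lit 63), (nat_lit 0), (nat_lit 0), (nat_lit 3)⟩)))) (BT.node (nat_lit 61) (BT.node (nat_lit 59) (BT.leaf ⟨[(nat_lit 3), (nat_lit 4), (nat_lit 3), (nat_lit 4)], (nat_lit 49), (nat_lit 0), (nat_lit 0), (nat_lit 3)⟩) (BT.node (nat_lit 60) (BT.leaf ⟨[(nat_lit 1), (nat_lit 3), (nat_lit 1), (nat_lit 3), (nat_lit 1), (nat_lit 3)], (nat_lit 52), (nat_lit 0), (nat_lit 0), (nat_lit 3)⟩) (BT.leaf ⟨[(nat_lit 6), (nat_lit 1), (nat_lit 6), (nat_lit 1), (nat_lit 6), (nat_lit 1)], (nat_lit 13), (nat_lit 0), (nat_lit 0), (nat_lit 3)⟩))) (BT.node (nat_lit 63) (BT.node (nat_lit 62) (BT.leaf ⟨[(nat_lit 8),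 (nat_lit 3), (nat_lit 9), (nat_lit 3), (nat_lit 6), (nat_lit 9), (nat_lit 2)], (nat_lit 73), (nat_lit 4), (nat_lit 0), (nat_lit 3)⟩) (BT.leaf ⟨[(nat_lit 9), (nat_lit 6), (nat_lit 1), (nat_lit 9), (nat_lit 8), (nat_lit 1), (nat_lit 6), (nat_lit 1)], (nat_lit 31), (nat_lit 0), (nat_lit 0), (nat_lit 3)⟩)) (BT.node (nat_lit 64) (BT.leaf ⟨[(nat_lit 6), (nat_lit 5), (nat_lit 9), (nat_lit 8), (nat_lit 5), (nat_lit 6), (nat_lit 5), (nat_lit 9)], (nat_lit 32), (nat_lit 1), (nat_lit 0), (nat_lit 3)⟩) (BT.leaf ⟨[(nat_lit 5), (nat_lit 6), (nat_lit 5), (nat_lit 6), (nat_lit 5), (nat_lit 6)], (nat_lit 14), (nat_lit 1), (nat_lit 0), (nat_lit 3)⟩))))) (BT.node (nat_lit 71) (BT.node (nat_lit 68) (BT.node (nat_lit 66) (BT.leaf ⟨[(nat_lit 8), (nat_lit 6), (nat_lit 8), (nat_lit 6), (nat_lit 8), (nat_lit 6)], (nat_lit 25), (nat_lit 0), (nat_lit 0), (nat_lit 3)⟩) (BT.node (nat_lit 67) (BT.leaf ⟨[(nat_lit 9), (nat_lit 2), (nat_lit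 8), (nat_lit 3), (nat_lit 9), (nat_lit 6), (nat_lit 2)], (nat_lit 30), (nat_lit 0), (nat_lit 0), (nat_lit 3)⟩) (BT.leaf ⟨[(nat_lit 6), (nat_lit 5), (nat_lit 9), (nat_lit 6), (nat_lit 5), (nat_lit 9), (nat_lit 8), (nat_lit 5)], (nat_lit 32), (nat_lit 6), (nat_lit 0), (nat_lit 3)⟩))) (BT.node (nat_lit 69) (BT.leaf ⟨[(nat_lit 9), (nat_lit 4), (nat_lit 1), (nat_lit 9), (nat_lit 4), (nat_lit 1), (nat_lit 9), (nat_lit 4), (nat_lit 1)], (nat_lit 34), (nat_lit 0), (nat_lit 0), (nat_lit 3)⟩) (BT.node (nat_lit 70) (BT.leaf ⟨[(nat_lit 6), (nat_lit 9), (nat_lit 2), (nat_lit 8), (nat_lit 3), (nat_lit 9), (nat_lit 3)], (nat_lit 73), (nat_lit 1), (nat_lit 0), (nat_lit 3)⟩) (BT.leaf ⟨[(nat_lit 8), (nat_lit 1), (nat_lit 6), (nat_lit 1), (nat_lit 9), (nat_lit 6), (nat_lit 1), (nat_lit 9)], (nat_lit 31), (nat_lit 4), (nat_lit 0), (nat_lit 3)⟩)))) (BT.node (nat_lit 74) (BT.node (nat_lit 72) (BT.leaf ⟨[(nat_lit 1), (nat_lit 2),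 (nat_lit 1), (nat_lit 2), (nat_lit 1), (nat_lit 2)], (nat_lit 9), (nat_lit 1), (nat_lit 0), (nat_lit 3)⟩) (BT.node (nat_lit 73) (BT.leaf ⟨[(nat_lit 6), (nat_lit 8), (nat_lit 6), (nat_lit 8), (nat_lit 6), (nat_lit 8)], (nat_lit 25), (nat_lit 1), (nat_lit 0), (nat_lit 3)⟩) (BT.leaf ⟨[(nat_lit 9), (nat_lit 3), (nat_lit 6), (nat_lit 9), (nat_lit 2), (nat_lit 8), (nat_lit 3)], (nat_lit 73), (nat_lit 6), (nat_lit 0), (nat_lit 3)⟩))) (BT.node (nat_lit 76) (BT.node (nat_lit 75) (BT.leaf ⟨[(nat_lit 7), (nat_lit 9), (nat_lit 6), (nat_lit 7), (nat_lit 8), (nat_lit 7), (nat_lit 9), (nat_lit 8)], (nat_lit 76), (nat_lit 6), (nat_lit 0), (nat_lit 3)⟩) (BT.leaf ⟨[(nat_lit 2), (nat_lit 7), (nat_lit 2), (nat_lit 7), (nat_lit 2), (nat_lit 7)], (nat_lit 20), (nat_lit 1), (nat_lit 0), (nat_lit 3)⟩)) (BT.node (nat_lit 77) (BT.leaf ⟨[(nat_lit 9), (nat_lit 5), (nat_lit 6), (nat_lit 5), (nat_lit 8), (nat_lit 9), (nat_lit 5), (nat_lit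 6)], (nat_lit 75), (nat_lit 7), (nat_lit 0), (nat_lit 3)⟩) (BT.leaf ⟨[(nat_lit 4), (nat_lit 1), (nat_lit 9), (nat_lit 4), (nat_lit 1), (nat_lit 9), (nat_lit 4), (nat_lit 1), (nat_lit 9)], (nat_lit 34), (nat_lit 1), (nat_lit 0), (nat_lit 3)⟩)))))) (BT.node (nat_lit 91) (BT.node (nat_lit 84) (BT.node (nat_lit 81) (BT.node (nat_lit 79) (BT.leaf ⟨[(nat_lit 4), (nat_lit 1), (nat_lit 4), (nat_lit 1)], (nat_lit 4), (nat_lit 0), (nat_lit 0), (nat_lit 3)⟩) (BT.node (nat_lit 80) (BT.leaf ⟨[(nat_lit 8), (nat_lit 7), (nat_lit 6), (nat_lit 1), (nat_lit 2), (nat_lit 1), (nat_lit 6), (nat_lit 7), (nat_lit 8), (nat_lit 6), (nat_lit 1), (nat_lit 3), (nat_lit 7), (nat_lit 3), (nat_lit 1), (nat_lit 6)], (nat_lit 26), (nat_lit 10), (nat_lit 0), (nat_lit 3)⟩) (BT.leaf ⟨[(nat_lit 8), (nat_lit 3), (nat_lit 8), (nat_lit 3)], (nat_lit 66), (nat_lit 1), (nat_lit 0), (nat_lit 3)⟩))) (BT.node (nat_lit 82) (BT.leaf ⟨[(nat_lit 9), (nat_lit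 7), (nat_lit 8), (nat_lit 7), (nat_lit 6), (nat_lit 9), (nat_lit 7), (nat_lit 8)], (nat_lit 33), (nat_lit 3), (nat_lit 0), (nat_lit 3)⟩) (BT.node (nat_lit 83) (BT.leaf ⟨[(nat_lit 9), (nat_lit 7), (nat_lit 8), (nat_lit 9), (nat_lit 7), (nat_lit 8), (nat_lit 7), (nat_lit 6)], (nat_lit 33), (nat_lit 0), (nat_lit 0), (nat_lit 3)⟩) (BT.leaf ⟨[(nat_lit 6), (nat_lit 2), (nat_lit 9), (nat_lit 2), (nat_lit 8), (nat_lit 3), (nat_lit 9)], (nat_lit 30), (nat_lit 5), (nat_lit 0), (nat_lit 3)⟩)))) (BT.node (nat_lit 87) (BT.node (nat_lit 85) (BT.leaf ⟨[(nat_lit 8), (nat_lit 9), (nat_lit 7), (nat_lit 8), (nat_lit 7), (nat_lit 6), (nat_lit 9), (nat_lit 7)], (nat_lit 33), (nat_lit 2), (nat_lit 0), (nat_lit 3)⟩) (BT.node (nat_lit 86) (BT.leaf ⟨[(nat_lit 3), (nat_lit 6), (nat_lit 9), (nat_lit 2), (nat_lit 8), (nat_lit 3), (nat_lit 9)], (nat_lit 73), (nat_lit 0), (nat_lit 0), (nat_lit 3)⟩) (BT.leaf ⟨[(nat_lit 8), (nat_lit 7), (nat_lit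 6), (nat_lit 9), (nat_lit 7), (nat_lit 8), (nat_lit 9), (nat_lit 7)], (nat_lit 33), (nat_lit 5), (nat_lit 0), (nat_lit 3)⟩))) (BT.node (nat_lit 89) (BT.node (nat_lit 88) (BT.leaf ⟨[(nat_lit 3), (nat_lit 5), (nat_lit 3), (nat_lit 5)], (nat_lit 50), (nat_lit 0), (nat_lit 0), (nat_lit 3)⟩) (BT.leaf ⟨[(nat_lit 3), (nat_lit 6), (nat_lit 3), (nat_lit 6)], (nat_lit 54), (nat_lit 0), (nat_lit 0), (nat_lit 3)⟩)) (BT.node (nat_lit 90) (BT.leaf ⟨[(nat_lit 9), (nat_lit 8), (nat_lit 5), (nat_lit 6), (nat_lit 5), (nat_lit 9), (nat_lit 6), (nat_lit 5)], (nat_lit 32), (nat_lit 3), (nat_lit 0), (nat_lit 3)⟩) (BT.leaf ⟨[(nat_lit 9), (nat_lit 1), (nat_lit 6), (nat_lit 1), (nat_lit 8), (nat_lit 9), (nat_lit 1), (nat_lit 6)], (nat_lit 74), (nat_lit 7), (nat_lit 0), (nat_lit 3)⟩))))) (BT.node (nat_lit 98) (BT.node (nat_lit 94) (BT.node (nat_lit 92) (BT.leaf ⟨[(nat_lit 9), (nat_lit 8), (nat_lit 7), (nat_lit 9), (nat_lit 6), (nat_lit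 7), (nat_lit 8), (nat_lit 7)], (nat_lit 76), (nat_lit 4), (nat_lit 0), (nat_lit 3)⟩) (BT.node (nat_lit 93) (BT.leaf ⟨[(nat_lit 6), (nat_lit 9), (nat_lit 1), (nat_lit 6), (nat_lit 1), (nat_lit 8), (nat_lit 9), (nat_lit 1)], (nat_lit 74), (nat_lit 6), (nat_lit 0), (nat_lit 3)⟩) (BT.leaf ⟨[(nat_lit 9), (nat_lit 6), (nat_lit 7), (nat_lit 8), (nat_lit 7), (nat_lit 9), (nat_lit 8), (nat_lit 7)], (nat_lit 76), (nat_lit 7), (nat_lit 0), (nat_lit 3)⟩))) (BT.node (nat_lit 96) (BT.node (nat_lit 95) (BT.leaf ⟨[(nat_lit 9), (nat_lit 8), (nat_lit 1), (nat_lit 6), (nat_lit 1), (nat_lit 9), (nat_lit 6), (nat_lit 1)], (nat_lit 31), (nat_lit 3), (nat_lit 0), (nat_lit 3)⟩) (BT.leaf ⟨[(nat_lit 9), (nat_lit 6), (nat_lit 5), (nat_lit 9), (nat_lit 8), (nat_lit 5), (nat_lit 6), (nat_lit 5)], (nat_lit 32), (nat_lit 0), (nat_lit 0), (nat_lit 3)⟩)) (BT.node (nat_lit 97) (BT.leaf ⟨[(nat_lit 5), (nat_lit 6), (nat_lit 5), (nat_lit 8), (nat_lit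 9), (nat_lit 5), (nat_lit 6), (nat_lit 9)], (nat_lit 75), (nat_lit 0), (nat_lit 0), (nat_lit 3)⟩) (BT.leaf ⟨[(nat_lit 4), (nat_lit 9), (nat_lit 1), (nat_lit 4), (nat_lit 9), (nat_lit 1), (nat_lit 4), (nat_lit 9), (nat_lit 1)], (nat_lit 77), (nat_lit 1), (nat_lit 0), (nat_lit 3)⟩)))) (BT.node (nat_lit 101) (BT.node (nat_lit 99) (BT.leaf ⟨[(nat_lit 8), (nat_lit 7), (nat_lit 6), (nat_lit 1), (nat_lit 3), (nat_lit 1), (nat_lit 6), (nat_lit 7), (nat_lit 8), (nat_lit 6), (nat_lit 1), (nat_lit 2), (nat_lit 7), (nat_lit 2), (nat_lit 1), (nat_lit 6)], (nat_lit 69), (nat_lit 13), (nat_lit 0), (nat_lit 3)⟩) (BT.node (nat_lit 100) (BT.leaf ⟨[(nat_lit 1), (nat_lit 5), (nat_lit 6), (nat_lit 7), (nat_lit 3), (nat_lit 1), (nat_lit 2), (nat_lit 7), (nat_lit 8), (nat_lit 6), (nat_lit 5), (nat_lit 7), (nat_lit 8), (nat_lit 6), (nat_lit 1), (nat_lit 6), (nat_lit 8), (nat_lit 7), (nat_lit 5), (nat_lit 6), (nat_lit 8), (nat_lit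 2), (nat_lit 1), (nat_lit 3), (nat_lit 4), (nat_lit 6), (nat_lit 1), (nat_lit 3), (nat_lit 5), (nat_lit 6), (nat_lit 1), (nat_lit 2), (nat_lit 7), (nat_lit 3), (nat_lit 1), (nat_lit 2), (nat_lit 6)], (nat_lit 27), (nat_lit 16), (nat_lit 0), (nat_lit 3)⟩) (BT.leaf ⟨[(nat_lit 3), (nat_lit 1), (nat_lit 2), (nat_lit 7), (nat_lit 8), (nat_lit 6), (nat_lit 5), (nat_lit 7), (nat_lit 8), (nat_lit 6), (nat_lit 1), (nat_lit 6), (nat_lit 8), (nat_lit 7), (nat_lit 5), (nat_lit 6), (nat_lit 8), (nat_lit 2), (nat_lit 1), (nat_lit 3), (nat_lit 4), (nat_lit 6), (nat_lit 1), (nat_lit 3), (nat_lit 5), (nat_lit 6), (nat_lit 1), (nat_lit 2), (nat_lit 7), (nat_lit 3), (nat_lit 1), (nat_lit 2), (nat_lit 6), (nat_lit 1), (nat_lit 5), (nat_lit 6), (nat_lit 7)], (nat_lit 27), (nat_lit 20), (nat_lit 0), (nat_lit 3)⟩))) (BT.node (nat_lit 103) (BT.node (nat_lit 102) (BT.leaf ⟨[(nat_lit 3), (nat_lit 9), (nat_lit 3), (nat_lit 6), (nat_lit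 9), (nat_lit 2), (nat_lit 8)], (nat_lit 73), (nat_lit 5), (nat_lit 0), (nat_lit 3)⟩) (BT.leaf ⟨[(nat_lit 7), (nat_lit 8), (nat_lit 7), (nat_lit 6), (nat_lit 9), (nat_lit 7), (nat_lit 8), (nat_lit 9)], (nat_lit 33), (nat_lit 4), (nat_lit 0), (nat_lit 3)⟩)) (BT.node (nat_lit 104) (BT.leaf ⟨[(nat_lit 1), (nat_lit 3), (nat_lit 1), (nat_lit 6), (nat_lit 7), (nat_lit 8), (nat_lit 6), (nat_lit 1), (nat_lit 2), (nat_lit 7), (nat_lit 2), (nat_lit 1), (nat_lit 6), (nat_lit 8), (nat_lit 7), (nat_lit 6)], (nat_lit 69), (nat_lit 0), (nat_lit 0), (nat_lit 3)⟩) (BT.leaf ⟨[(nat_lit 2), (nat_lit 8), (nat_lit 3), (nat_lit 9), (nat_lit 6), (nat_lit 2), (nat_lit 9)], (nat_lit 30), (nat_lit 1), (nat_lit 0), (nat_lit 3)⟩))))))))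
noncomputable def ep_4_hcs : List CW := [⟨[(nat_lit 8)], (nat_lit 0), (nat_lit 0), (nat_lit 0), (nat_lit 0)⟩, ⟨[(nat_lit 7)], (nat_lit 1), (nat_lit 0), (nat_lit 0), (nat_lit 0)⟩, ⟨[(nat_lit 6)], (nat_lit 2), (nat_lit 0), (nat_lit 0), (nat_lit 0)⟩, ⟨[(nat_lit 5)], (nat_lit 3), (nat_lit 0), (nat_lit 0), (nat_lit 0)⟩, ⟨[(nat_lit 4)], (nat_lit 4), (nat_lit 0), (nat_lit 0), (nat_lit 0)⟩, ⟨[(nat_lit 2)], (nat_lit 5), (nat_lit 0), (nat_lit 0), (nat_lit 0)⟩, ⟨[(nat_lit 1)], (nat_lit 6), (nat_lit 0), (nat_lit 0), (nat_lit 0)⟩, ⟨[(nat_lit 8)], (nat_lit 7), (nat_lit 0), (nat_lit 0), (nat_lit 0)⟩, ⟨[(nat_lit 7)], (nat_lit 8), (nat_lit 0), (nat_lit 0), (nat_lit 0)⟩, ⟨[(nat_lit 6)], (nat_lit 9), (nat_lit 0), (nat_lit 0), (nat_lit 0)⟩, ⟨[(nat_lit 5)], (nat_lit 10), (nat_lit 0), (nat_lit 0), (nat_lit 0)⟩, ⟨[(nat_lit 4)], (nat_lit 11), (nat_lit 0), (nat_lit 0), (nat_lit 0)⟩, ⟨[(nat_lit 3)], (nat_lit 12), (nat_lit 0), (nat_lit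 0), (nat_lit 0)⟩, ⟨[(nat_lit 1)], (nat_lit 13), (nat_lit 0), (nat_lit 0), (nat_lit 0)⟩]
noncomputable def ep_4_H (x j : Nat) : Bx (Nat → Nat → Nat) := mkH ep_4_L ep_4_pb.1 ep_4_e.get (lmap CW.w ep_4_hcs) (nat_lit 120) (nat_lit 121) (nat_lit 10) (nat_lit 128) (nat_lit 16384) (nat_lit 8191) x (ep_4_rots.get j)
noncomputable def ep_4_F (x b : Nat) : Bool := blkOK ep_4_H ep_4_ch (nat_lit 121) (nat_lit 128) (nat_lit 128) (nat_lit 8) (nat_lit 255) (nat_lit 20) (nat_lit 1048575) x b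

theorem ep_4_k0_0 : allFrom (ep_4_F (nat_lit 0)) (nat_lit 0) (nat_lit 4) = true := by decide +kernel
theorem ep_4_k1_0 : allFrom (ep_4_F (nat_lit 1)) (nat_lit 0) (nat_lit 4) = true := by decide +kernel
theorem ep_4_k2_0 : allFrom (ep_4_F (nat_lit 2)) (nat_lit 0) (nat_lit 4) = true := by decide +kernel
theorem ep_4_k3_0 : allFrom (ep_4_F (nat_lit 3)) (nat_lit 0) (nat_lit 4) = true := by decide +kernel
theorem ep_4_k4_0 : allFrom (ep_4_F (nat_lit 4)) (nat_lit 0) (nat_lit 4) = true := by decide +kernel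
theorem ep_4_k5_0 : allFrom (ep_4_F (nat_lit 5)) (nat_lit 0) (nat_lit 4) = true := by decide +kernel
theorem ep_4_k6_0 : allFrom (ep_4_F (nat_lit 6)) (nat_lit 0) (nat_lit 4) = true := by decide +kernel
theorem ep_4_k7_0 : allFrom (ep_4_F (nat_lit 7)) (nat_lit 0) (nat_lit 4) = true := by decide +kernel
theorem ep_4_k8_0 : allFrom (ep_4_F (nat_lit 8)) (nat_lit 0) (nat_lit 4) = true := by decide +kernel
theorem ep_4_k9_0 : allFrom (ep_4_F (nat_lit 9)) (nat_lit 0) (nat_lit 4) = true := by decide +kernel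

noncomputable def Kc2_0 : Net := (Net.cons (nat_lit 1) (nat_lit 0x100010051440510104544511055400105000110511400005545401104150) (Net.cons (nat_lit 2) (nat_lit 0x221032330001220113001120002010200000312323200310020021121100) (Net.cons (nat_lit 4) (nat_lit 0xf050c0103060b0a0f0d070f08000000010c0700090c000200010c020000) (Net.cons (nat_lit 8) (nat_lit 0x110012002a000900e200e0007c00000086000200b10010008500200000) (Net.cons (nat_lit 16) (nat_lit 0xdf1100006ad000003800000044000000021d0000810400000000) (Net.cons (nat_lit 32) (nat_lit 0x620600000000f818440000000000421928c40000000000000000) (Net.cons (nat_lit 64) (nat_lit 0x4400000000000000000000000000b800000000000000) (Net.cons (nat_lit 128) (nat_lit 0x440000000000b800000000000000) (Net.cons (nat_lit 64) (nat_lit 0x6fc6cb1e5c400000000000000000fa1928c400000000) (Net.cons (nat_lit 32) (nat_lit 0xc3bb00000000bfaad622000000004619aacc0000000095240000) (Net.cons (nat_lit 16)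 (nat_lit 0x8e1500006b8100009adb000044000000021f0000890c00006800) (Net.cons (nat_lit 8) (nat_lit 0x710025009d00de0025007600fe000000c7002300bd0018008d00200004) (Net.cons (nat_lit 4) (nat_lit 0xe01090006090b0b0e08070b08040408010c0f00090c000201010c030108) (Net.cons (nat_lit 2) (nat_lit 0x222033320132310022200023110030200300312323200310020021321110) (Net.cons (nat_lit 1) (nat_lit 0x500110151440510104544511055401115000110551400005545401104151) Net.nil)))))))))))))))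
noncomputable def Kc2_1 : Net := (Net.cons (nat_lit 1) (nat_lit 0x410444151400551140550115540450044001145004404141440054400500) (Net.cons (nat_lit 2) (nat_lit 0x310110000113313320223110232020033003032101030322220030030100) (Net.cons (nat_lit 4) (nat_lit 0x2080503040c0908090b0b0804020000010006010e040b0c040608030100) (Net.cons (nat_lit 8) (nat_lit 0x300b700a9005e00690080000c0018000d0001000c0043004e00000000) (Net.cons (nat_lit 16) (nat_lit 0x13a600007b58000013270000c00c000044e00000164800008000) (Net.cons (nat_lit 32) (nat_lit 0x208400000000126140080000000044b1a0440000000020000000) (Net.cons (nat_lit 64) (nat_lit 0x40080000800000000000000000002200000000000000) (Net.cons (nat_lit 128) (nat_lit 0x4008040080002200000000000000) (Net.cons (nat_lit 64) (nat_lit 0xe3aaf479c30e000000000000000062b1ac4420000000) (Net.cons (nat_lit 32) (nat_lit 0x5ce900000000eb85409f00000000dcb5ac450000000057488000) (Net.cons (nat_lit 16)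 (nat_lit 0xebd00000026e00004f210000c00c000044c00000844c00008130) (Net.cons (nat_lit 8) (nat_lit 0x90004400f5008a009200bf004b0018000e00c1008800c3004e004c003c) (Net.cons (nat_lit 4) (nat_lit 0x9010d06020b0404040f0f080a010601010000010a040e08000608030900) (Net.cons (nat_lit 2) (nat_lit 0x123212013031310100222031010001033303032101030320020032030101) (Net.cons (nat_lit 1) (nat_lit 0x110011004150455411444001440000054001105445004540040015400500) Net.nil)))))))))))))))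
noncomputable def Kc2_2 : Net := (Net.cons (nat_lit 1) (nat_lit 0x454551544040040445001540404140010151400040151000015100045100) (Net.cons (nat_lit 2) (nat_lit 0x120112000323132130211121101220202231202002112021121200001100) (Net.cons (nat_lit 4) (nat_lit 0x7000107010605040e040f080a04000a0c080e00020a0200010c02040000) (Net.cons (nat_lit 8) (nat_lit 0xfc00b60092002a0030004500420088003e00110004001300c400480000) (Net.cons (nat_lit 16) (nat_lit 0x8360000901a000064c000001609000014050000164800000000) (Net.cons (nat_lit 32) (nat_lit 0xb1660000000043a2060000000000290511700000000000800000) (Net.cons (nat_lit 64) (nat_lit 0x6002000100000000000000000004080000000000000) (Net.cons (nat_lit 128) (nat_lit 0x600200010004080000000000000) (Net.cons (nat_lit 64) (nat_lit 0x9f746ba6740200000000000000006985117000800000) (Net.cons (nat_lit 32) (nat_lit 0x1c3400000000dc8a664300000000bf3df1f10000000096c88000) (Net.cons (nat_lit 16) (nat_lit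 0xd3e40000d6580000408b00001e49000014050000565b00006800) (Net.cons (nat_lit 8) (nat_lit 0x270066002000f300c4002e00d20088003f0015000c001300c400480004) (Net.cons (nat_lit 4) (nat_lit 0x8060e080e000c04010409070304060a0e080e00020b0300010d02040100) (Net.cons (nat_lit 2) (nat_lit 0x123112333020102103211121131223202231202002112021121200001100) (Net.cons (nat_lit 1) (nat_lit 0x101004011515515110554015151415010151400040151000015100045100) Net.nil)))))))))))))))
noncomputable def Kc2_3 : Net := (Net.cons (nat_lit 1) (nat_lit 0x504505401110051105541110005454105000111401101010044010014544) (Net.cons (nat_lit 2) (nat_lit 0x201131310100223301302012022220201003020223102000202212021020) (Net.cons (nat_lit 4) (nat_lit 0x208010a09080d08040e04000000010008010c000100090a07080000) (Net.cons (nat_lit 8) (nat_lit 0xae008900b900e900c400d9006600000000002800000011009400040000) (Net.cons (nat_lit 16) (nat_lit 0x32400000920c000046240000600c0000004000000b1e00000000)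 (Net.cons (nat_lit 32) (nat_lit 0x4009000000000645200000000000204041100000000000000000) (Net.cons (nat_lit 64) (nat_lit 0x20000000400000000000000000000600000000000000) (Net.cons (nat_lit 128) (nat_lit 0x2000000040000600000000000000) (Net.cons (nat_lit 64) (nat_lit 0xe00d3e7d400000000000000000002640411000000000) (Net.cons (nat_lit 32) (nat_lit 0x6cab000000009729261800000000604c4110000000008b1e8000) (Net.cons (nat_lit 16) (nat_lit 0x82790000dec50000368b0000600c0000084300001b3f000064c0) (Net.cons (nat_lit 8) (nat_lit 0xd500bf00c900b9009000f900560000000100a800800011009c000c0008) (Net.cons (nat_lit 4) (nat_lit 0x101020d010a0b0a0d0e020e0c040b0801000a010c000100090a07080102) (Net.cons (nat_lit 2) (nat_lit 0x221331201131323301203002132223301303020223102002202212021021) (Net.cons (nat_lit 1) (nat_lit 0x504515001110011115545114001001115010111441101010044010014544) Net.nil)))))))))))))))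
noncomputable def Kc2_4 : Net := (Net.cons (nat_lit 1) (nat_lit 0x40450451510451041004045014104105040410001501101051011100500) (Net.cons (nat_lit 2) (nat_lit 0x231223202230130000313131000100320001000000303120001012112200) (Net.cons (nat_lit 4) (nat_lit 0x10002020403060d0c0c020e040400040205020801000909050c08000800) (Net.cons (nat_lit 8) (nat_lit 0x1b00f7000a003300600094009400800041002a00240088000d00490000) (Net.cons (nat_lit 16) (nat_lit 0xa69b00003f800000128000004000000032000000044100000000) (Net.cons (nat_lit 32) (nat_lit 0xb400000000009da1400000000000220200440000000000000000) (Net.cons (nat_lit 64) (nat_lit 0x40000200000000000000000000001c80000000000000) (Net.cons (nat_lit 128) (nat_lit 0x4000020000001c80000000000000) (Net.cons (nat_lit 64) (nat_lit 0xe600a36d528000000000000000003e82004400000000) (Net.cons (nat_lit 32) (nat_lit 0x853f000000007ca77dd800000000e20213440000000004494000) (Net.cons (nat_lit 16)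 (nat_lit 0x5ff800003e9200007e12000040060000120a00000dc100005940) (Net.cons (nat_lit 8) (nat_lit 0x360079004c00b7008d00c200020080001100020036009a005d008900c4) (Net.cons (nat_lit 4) (nat_lit 0x1010e0a0f0c0600070b0b0207070f040205000801020b09050c0a000a01) (Net.cons (nat_lit 2) (nat_lit 0x122333133122230000322132000200321300122000323120021012112200) (Net.cons (nat_lit 1) (nat_lit 0x515505105045104414551100541411115040410441501101051011110500) Net.nil)))))))))))))))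
noncomputable def Kc2_5 : Net := (Net.cons (nat_lit 1) (nat_lit 0x500441045500500445115144011040044145045000104010044450500040) (Net.cons (nat_lit 2) (nat_lit 0x20100200200013110330111310130101321210022000111300132001000) (Net.cons (nat_lit 4) (nat_lit 0xa06080b0806080c0c040e0800000000060006000900000004070c000600) (Net.cons (nat_lit 8) (nat_lit 0x3d00bf001e00b300a100f5001c000800c4002000540050001f00180000) (Net.cons (nat_lit 16) (nat_lit 0xe440000b05d00003c00000004a8000012000000008f00000200) (Net.cons (nat_lit 32) (nat_lit 0xb312000000004080040800000000b20040140000000000000000) (Net.cons (nat_lit 64) (nat_lit 0x4089200000000000000000000004000000000000000) (Net.cons (nat_lit 128) (nat_lit 0x408920000004000000000000000) (Net.cons (nat_lit 64) (nat_lit 0x7ff92f7bc080000000000000000f200401400000000) (Net.cons (nat_lit 32) (nat_lit 0x4c9e000000004c1ef75a00000000bea0625600000000049f9200) (Net.cons (nat_lit 16) (nat_lit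 0x101a0000cf7c00000b5a000004a800001200000008ef0000e960) (Net.cons (nat_lit 8) (nat_lit 0x6f007b009600a200a500e300c2000800cc006000d40050009f00920004) (Net.cons (nat_lit 4) (nat_lit 0x606070c0d0e0a0e010b0a0609070304070007000900000004070e000e00) (Net.cons (nat_lit 2) (nat_lit 0x10200100100023220330222320230101321210022000111322110023200) (Net.cons (nat_lit 1) (nat_lit 0x55114510055055110440411544515054145045400104010044450500040) Net.nil)))))))))))))))
noncomputable def Kc2_6 : Net := (Net.cons (nat_lit 1) (nat_lit 0x40504441450554101050515541500040005150045400440411000015410) (Net.cons (nat_lit 2) (nat_lit 0x131122231013033300200012120100000001212012303000123000021020) (Net.cons (nat_lit 4) (nat_lit 0x200060b0202050b020d0201020500010a040a090b040802000402040000) (Net.cons (nat_lit 8) (nat_lit 0x5400f1006900120084004c0018000500400088008c0082009200160000) (Net.cons (nat_lit 16) (nat_lit 0xab290000d06100007c6400006200000080000000011600000000)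 (Net.cons (nat_lit 32) (nat_lit 0xa03300000000301c620000000000888004810000000000000000) (Net.cons (nat_lit 64) (nat_lit 0x62000800000000000000000000001004000000000000) (Net.cons (nat_lit 128) (nat_lit 0x6200080000001004000000000000) (Net.cons (nat_lit 64) (nat_lit 0xff7bea99780400000000000000009884048100000000) (Net.cons (nat_lit 32) (nat_lit 0x454900000000d4ffe21100000000ca8004830000000001169000) (Net.cons (nat_lit 16) (nat_lit 0xd350000029e10000f9ff00006700000081080000431600002e48) (Net.cons (nat_lit 8) (nat_lit 0x2c00ee007f008a00a400a4005f0005004800b800bc0087009200160044) (Net.cons (nat_lit 4) (nat_lit 0xd0d0f04070d03040d030c01050309010a040a090f040802010403000407) (Net.cons (nat_lit 2) (nat_lit 0x101122201310300033233312123133001201212012303000123000021020) (Net.cons (nat_lit 1) (nat_lit 0x515051114105001454505040014055050045150445400440411040015410) Net.nil)))))))))))))))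
noncomputable def Kc2_7 : Net := (Net.cons (nat_lit 1) (nat_lit 0x50404455005454151011404510504544001440110000005400440400100) (Net.cons (nat_lit 2) (nat_lit 0x131210122302010103003213001020010033002030012032023310022000) (Net.cons (nat_lit 4) (nat_lit 0x5080a0e0b0409000c040c07080800010405000403050b0c080c00000400) (Net.cons (nat_lit 8) (nat_lit 0x1000d800b8000200a00028005a0011008900c40080000e006000000000) (Net.cons (nat_lit 16) (nat_lit 0x142e0000bb1200004650000004040000189f0000084600000800) (Net.cons (nat_lit 32) (nat_lit 0x7a1000000000e22204000000000018b901460000000040000000) (Net.cons (nat_lit 64) (nat_lit 0x400081100000000000000000000e200000000000000) (Net.cons (nat_lit 128) (nat_lit 0x40008110000e200000000000000) (Net.cons (nat_lit 64) (nat_lit 0x3e084bf744100000000000000000fab9014640000000) (Net.cons (nat_lit 32) (nat_lit 0x204a00000000f64eefb7000000001cbd89c700000000e6462800) (Net.cons (nat_lit 16) (nat_lit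 0xb06d0000e93a00000e450000150c000058df0000094700005808) (Net.cons (nat_lit 8) (nat_lit 0x74008200860058009f008d0042001100c9008400c3004f00e100000006) (Net.cons (nat_lit 4) (nat_lit 0x50e08080209020f0e090c010c0e05050405000403050b0c080c00000c00) (Net.cons (nat_lit 2) (nat_lit 0x101213122032303132210311311201010033002030012032023310222000) (Net.cons (nat_lit 1) (nat_lit 0x505151100550101404544151045051544001440110000005400440400110) Net.nil)))))))))))))))
noncomputable def Kc2 : List Net := [Kc2_0, Kc2_1, Kc2_2, Kc2_3, Kc2_4, Kc2_5, Kc2_6, Kc2_7]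
noncomputable def Ac2 : List Nat := [(nat_lit 0x4e1d70e801dedc9a8345bbf4297e25030002418c04001080000000000010),
  (nat_lit 0x4c63e8103205a2007531002080000f5fefb8c367f1963600dd756706fc2),
  (nat_lit 0x65018bf0f86af868dfc60717a1e38780aa04800c00001080000080000000),
  (nat_lit 0xdd2e9e244caccf3d190aa07e63170f032002c18000001080000080200000),
  (nat_lit 0xd7ed584284b84780095f473e738f8fc4ef6c867deafd237caff23c5ba428),
  (nat_lit 0x186055e7d90188abb1146f62b75bbff8b5bfd82f37bf046f42d01828205b),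
  (nat_lit 0x5583e41e1b70dde4a816f08127bb771b55c03d81dc400d858000c1000100),
  (nat_lit 0xa9a2a17bb109202da07f0930dfaeff085100410200015000001c006c28b0),
  (nat_lit 0xffffffffffffffffffffffffffffff),
  (nat_lit 0xffffffffffffffffffffffffffffff000000000000000000000000000000)]

noncomputable def Bc2 : List Nat := [(nat_lit 0),
  (nat_lit 0),
  (nat_lit 0),
  (nat_lit 0),
  (nat_lit 0),
  (nat_lit 0),
  (nat_lit 0),
  (nat_lit 0),
  (nat_lit 0),
  (nat_lit 0)]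


end CF.Schur.O82
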