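import Cfsg.Agent.Schur.Cl
import Cfsg.Agent.Schur.O82D

/-! The Schur multiplier of O82. -/

set_option autoImplicit false
set_option maxRecDepth 1000000
set_option maxHeartbeats 0
set_option Elab.async false

namespace CF.Schur.O82

open CF.Comp CF.Schur.Pc Cfsg

theorem linU_a : linAll (tabP 2) 120 8 UV UA U0 UCs 2 = true := by decide +kernel
theorem linU : LinOK (tabP 2) 120 8 2 UV UA U0 :=
  ⟨⟨Uσ, by decide +kernel⟩, by decide +kernel, by decide +kernel, rfl,
    UCs, by decide +kernel, rfl, linAll_iff.1 linU_a⟩
theorem chU : ChainGe U0 U1 120 7 2 UW UC 174182400 :=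
  ⟨rfl, by decide, by decide, slp_of_slpOK (by decide +kernel), by decide +kernel, by decide +kernel,
    by decide +kernel⟩
theorem memU : allFrom (omAt (tabP 2) 8 UB UA UX) 0 2 = true := by decide +kernel

variable {G Ω : Type*} [Group G] [MulAction G Ω] {D : CF.Comp.Dom Ω 120} {f : ℕ → G} {H : Subgroup G} {bs : List ℕ}
  [Finite H]

noncomputable def Wx2 : List (List Nat) := [[(nat_lit 12), (nat_lit 4), (nat_lit 1), (nat_lit 15), (nat_lit 8), (nat_lit 12), (nat_lit 12), (nat_lit 14), (nat_lit 14), (nat_lit 19), (nat_lit 26)],
  [(nat_lit 15), (nat_lit 4), (nat_lit 8), (nat_lit 12), (nat_lit 7), (nat_lit 18), (nat_lit 11), (nat_lit 17), (nat_lit 26)],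
  [(nat_lit 5), (nat_lit 4), (nat_lit 1), (nat_lit 6), (nat_lit 8), (nat_lit 9), (nat_lit 7), (nat_lit 15), (nat_lit 11), (nat_lit 9), (nat_lit 14), (nat_lit 14), (nat_lit 23), (nat_lit 26)],
  [(nat_lit 7), (nat_lit 4), (nat_lit 16), (nat_lit 7), (nat_lit 18), (nat_lit 11), (nat_lit 9), (nat_lit 20), (nat_lit 18)],
  [(nat_lit 7), (nat_lit 4), (nat_lit 18), (nat_lit 5), (nat_lit 7), (nat_lit 14), (nat_lit 20), (nat_lit 23), (nat_lit 25)],
  [(nat_lit 21), (nat_lit 2), (nat_lit 12), (nat_lit 8), (nat_lit 14), (nat_lit 12), (nat_lit 9), (nat_lit 21), (nat_lit 13), (nat_lit 20), (nat_lit 18), (nat_lit 23), (nat_lit 26)],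
  [(nat_lit 12), (nat_lit 4), (nat_lit 1), (nat_lit 8), (nat_lit 15), (nat_lit 8), (nat_lit 19), (nat_lit 11), (nat_lit 20), (nat_lit 13), (nat_lit 13), (nat_lit 18), (nat_lit 18), (nat_lit 23), (nat_lit 26)],
  [(nat_lit 21), (nat_lit 2), (nat_lit 9), (nat_lit 7), (nat_lit 21), (nat_lit 11), (nat_lit 13), (nat_lit 13), (nat_lit 19)],
  [(nat_lit 4), (nat_lit 8), (nat_lit 2), (nat_lit 12), (nat_lit 13), (nat_lit 7), (nat_lit 14), (nat_lit 12), (nat_lit 20), (nat_lit 13), (nat_lit 13), (nat_lit 25)],
  [(nat_lit 12), (nat_lit 4), (nat_lit 1), (nat_lit 8), (nat_lit 9), (nat_lit 7), (nat_lit 19), (nat_lit 13), (nat_lit 11), (nat_lit 16), (nat_lit 13), (nat_lit 13), (nat_lit 19), (nat_lit 23), (nat_lit 25)],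
  [(nat_lit 6), (nat_lit 7), (nat_lit 1), (nat_lit 8), (nat_lit 11), (nat_lit 7), (nat_lit 14), (nat_lit 12), (nat_lit 13), (nat_lit 15), (nat_lit 20), (nat_lit 23), (nat_lit 25)],
  [(nat_lit 11), (nat_lit 4), (nat_lit 7), (nat_lit 13), (nat_lit 7), (nat_lit 21), (nat_lit 11), (nat_lit 9), (nat_lit 14), (nat_lit 14), (nat_lit 18), (nat_lit 18), (nat_lit 23), (nat_lit 26)],
  [(nat_lit 17), (nat_lit 3), (nat_lit 2), (nat_lit 7), (nat_lit 6), (nat_lit 7), (nat_lit 13), (nat_lit 11), (nat_lit 9), (nat_lit 15), (nat_lit 18), (nat_lit 18), (nat_lit 23), (nat_lit 26)],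
  [(nat_lit 10), (nat_lit 3), (nat_lit 2), (nat_lit 7), (nat_lit 11), (nat_lit 8), (nat_lit 18), (nat_lit 11), (nat_lit 14), (nat_lit 14), (nat_lit 18), (nat_lit 26)],
  [(nat_lit 9), (nat_lit 3), (nat_lit 17), (nat_lit 7), (nat_lit 6), (nat_lit 7), (nat_lit 15), (nat_lit 11), (nat_lit 9), (nat_lit 14), (nat_lit 23), (nat_lit 26)],
  [(nat_lit 1), (nat_lit 1), (nat_lit 22), (nat_lit 7), (nat_lit 9), (nat_lit 7), (nat_lit 19), (nat_lit 11), (nat_lit 21), (nat_lit 13), (nat_lit 20), (nat_lit 18), (nat_lit 25)]]

theorem qx2_0 : allFrom (preRow (lapp U0 U1) Nx2 Wx2 120 7) 0 16 = true := by decide +kernel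

theorem qx2 : ∀ j < 16, preRow (lapp U0 U1) Nx2 Wx2 120 7 j = true := by
  have h : ∀ j < 0, preRow (lapp U0 U1) Nx2 Wx2 120 7 j = true := by simp
  have h := forall_lt_add h (allFrom_iff.1 qx2_0)
  exact h

theorem wx2 : wfAll Nx2 120 = true := by decide +kernel

noncomputable def Px2 : Dat := ⟨(nat_lit 2), (nat_lit 12), (nat_lit 11), (nat_lit 33), (nat_lit 111),
  (BT.node (nat_lit 39) (BT.node (nat_lit 19) (BT.node (nat_lit 9) (BT.node (nat_lit 4) (BT.node (nat_lit 2) (BT.node (nat_lit 1) (BT.leaf []) (BT.leaf [(nat_lit 1)])) (BT.node (nat_lit 3) (BT.leaf []) (BT.leaf [(nat_lit 2)]))) (BT.node (nat_lit 6) (BT.node (nat_lit 5) (BT.leaf [(nat_lit 2)]) (BT.leaf [])) (BT.node (nat_lit 7) (BT.leaf [(nat_lit 3), (nat_lit 6)]) (BT.node (nat_lit 8) (BT.leaf [(nat_lit 3), (nat_lit 5)]) (BT.leaf [(nat_lit 3), (nat_lit 4)]))))) (BT.node (nat_lit 14) (BT.node (nat_lit 11) (BT.node (nat_lit 10) (BT.leaf []) (BT.leaf [(nat_lit 4), (nat_lit 9)])) (BT.node (nat_lit 12) (BT.leaf [(nat_lit 4), (nat_lit 7), (nat_lit 11)]) (BT.node (nat_lit 13) (BT.leaf [(nat_lit 4)]) (BT.leaf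 [(nat_lit 4)])))) (BT.node (nat_lit 16) (BT.node (nat_lit 15) (BT.leaf []) (BT.leaf [(nat_lit 5), (nat_lit 8)])) (BT.node (nat_lit 17) (BT.leaf [(nat_lit 5)]) (BT.node (nat_lit 18) (BT.leaf [(nat_lit 5), (nat_lit 7)]) (BT.leaf [(nat_lit 5)])))))) (BT.node (nat_lit 29) (BT.node (nat_lit 24) (BT.node (nat_lit 21) (BT.node (nat_lit 20) (BT.leaf [(nat_lit 5), (nat_lit 11)]) (BT.leaf [])) (BT.node (nat_lit 22) (BT.leaf [(nat_lit 6)]) (BT.node (nat_lit 23) (BT.leaf [(nat_lit 6), (nat_lit 8)]) (BT.leaf [(nat_lit 6), (nat_lit 9)])))) (BT.node (nat_lit 26) (BT.node (nat_lit 25) (BT.leaf [(nat_lit 6)]) (BT.leaf [(nat_lit 6)])) (BT.node (nat_lit 27) (BT.leaf [(nat_lit 6)]) (BT.node (nat_lit 28) (BT.leaf []) (BT.leaf [(nat_lit 7), (nat_lit 10)]))))) (BT.node (nat_lit 34) (BT.node (nat_lit 31) (BT.node (nat_lit 30) (BT.leaf [(nat_lit 7)]) (BT.leaf [(nat_lit 7)])) (BT.node (nat_lit 32) (BT.leaf [(nat_lit 7), (nat_lit 11)]) (BT.node (nat_lit 33) (BT.leaf [(nat_lit 7)]) (BT.leaf [(nat_lit 7)])))) (BT.node (nat_lit 36) (BT.node (nat_lit 35) (BT.leaf [(nat_lit 7), (nat_lit 11)])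 (BT.leaf [])) (BT.node (nat_lit 37) (BT.leaf [(nat_lit 8)]) (BT.node (nat_lit 38) (BT.leaf [(nat_lit 8)]) (BT.leaf [(nat_lit 8), (nat_lit 10)]))))))) (BT.node (nat_lit 58) (BT.node (nat_lit 48) (BT.node (nat_lit 43) (BT.node (nat_lit 41) (BT.node (nat_lit 40) (BT.leaf [(nat_lit 8)]) (BT.leaf [(nat_lit 8), (nat_lit 11)])) (BT.node (nat_lit 42) (BT.leaf [(nat_lit 8)]) (BT.leaf [(nat_lit 8)]))) (BT.node (nat_lit 45) (BT.node (nat_lit 44) (BT.leaf [(nat_lit 8)]) (BT.leaf [])) (BT.node (nat_lit 46) (BT.leaf [(nat_lit 9)]) (BT.node (nat_lit 47) (BT.leaf [(nat_lit 9), (nat_lit 10)]) (BT.leaf [(nat_lit 9)]))))) (BT.node (nat_lit 53) (BT.node (nat_lit 50) (BT.node (nat_lit 49) (BT.leaf [(nat_lit 9)]) (BT.leaf [(nat_lit 9)])) (BT.node (nat_lit 51) (BT.leaf [(nat_lit 9), (nat_lit 11)]) (BT.node (nat_lit 52) (BT.leaf [(nat_lit 9)]) (BT.leaf [(nat_lit 9)])))) (BT.node (nat_lit 55) (BT.node (nat_lit 54) (BT.leaf [(nat_lit 9)]) (BT.leaf [])) (BT.node (nat_lit 56) (BT.leaf [(nat_lit 10)]) (BT.node (nat_lit 57) (BT.leaf [(nat_lit 10)]) (BT.leaf [(nat_lit 10)])))))) (BT.node (nat_lit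 68) (BT.node (nat_lit 63) (BT.node (nat_lit 60) (BT.node (nat_lit 59) (BT.leaf [(nat_lit 10), (nat_lit 11)]) (BT.leaf [(nat_lit 10)])) (BT.node (nat_lit 61) (BT.leaf [(nat_lit 10)]) (BT.node (nat_lit 62) (BT.leaf [(nat_lit 10)]) (BT.leaf [(nat_lit 10)])))) (BT.node (nat_lit 65) (BT.node (nat_lit 64) (BT.leaf [(nat_lit 10)]) (BT.leaf [(nat_lit 10)])) (BT.node (nat_lit 66) (BT.leaf []) (BT.node (nat_lit 67) (BT.leaf [(nat_lit 11)]) (BT.leaf [(nat_lit 11)]))))) (BT.node (nat_lit 73) (BT.node (nat_lit 70) (BT.node (nat_lit 69) (BT.leaf [(nat_lit 11)]) (BT.leaf [(nat_lit 11)])) (BT.node (nat_lit 71) (BT.leaf [(nat_lit 11)]) (BT.node (nat_lit 72) (BT.leaf [(nat_lit 11)]) (BT.leaf [(nat_lit 11)])))) (BT.node (nat_lit 75) (BT.node (nat_lit 74) (BT.leaf [(nat_lit 11)]) (BT.leaf [(nat_lit 11)])) (BT.node (nat_lit 76) (BT.leaf [(nat_lit 11)]) (BT.node (nat_lit 77) (BT.leaf [(nat_lit 11)]) (BT.leaf [])))))))),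
  [⟨(nat_lit 0), [(nat_lit 8)], [(nat_lit 10)]⟩,
  ⟨(nat_lit 1), [(nat_lit 7)], [(nat_lit 4)]⟩,
  ⟨(nat_lit 2), [(nat_lit 11)], [(nat_lit 10)]⟩,
  ⟨(nat_lit 1), [(nat_lit 3)], [(nat_lit 3), (nat_lit 5)]⟩,
  ⟨(nat_lit 1), [(nat_lit 5)], [(nat_lit 3), (nat_lit 11)]⟩,
  ⟨(nat_lit 3), [(nat_lit 5)], [(nat_lit 5), (nat_lit 8)]⟩,
  ⟨(nat_lit 3), [(nat_lit 6)], [(nat_lit 3), (nat_lit 8)]⟩,
  ⟨(nat_lit 3), [(nat_lit 7)], [(nat_lit 5), (nat_lit 10)]⟩,
  ⟨(nat_lit 3), [(nat_lit 8)], [(nat_lit 5), (nat_lit 11)]⟩,
  ⟨(nat_lit 2), [(nat_lit 1)], [(nat_lit 1), (nat_lit 5)]⟩,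
  ⟨(nat_lit 2), [(nat_lit 7)], [(nat_lit 7), (nat_lit 10)]⟩,
  ⟨(nat_lit 2), [(nat_lit 9)], [(nat_lit 9), (nat_lit 11)]⟩,
  ⟨(nat_lit 2), [(nat_lit 10)], [(nat_lit 10), (nat_lit 11)]⟩,
  ⟨(nat_lit 0), [(nat_lit 7)], [(nat_lit 5), (nat_lit 7), (nat_lit 10)]⟩,
  ⟨(nat_lit 0), [(nat_lit 10)], [(nat_lit 8), (nat_lit 10), (nat_lit 11)]⟩,
  ⟨(nat_lit 1), [(nat_lit 2)], [(nat_lit 2), (nat_lit 7), (nat_lit 10)]⟩,
  ⟨(nat_lit 1), [(nat_lit 4)], [(nat_lit 4), (nat_lit 7), (nat_lit 11)]⟩,
  ⟨(nat_lit 1), [(nat_lit 6)], [(nat_lit 3), (nat_lit 8), (nat_lit 11)]⟩,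
  ⟨(nat_lit 1), [(nat_lit 9)], [(nat_lit 4), (nat_lit 10), (nat_lit 11)]⟩,
  ⟨(nat_lit 1), [(nat_lit 10)], [(nat_lit 7), (nat_lit 9), (nat_lit 10)]⟩,
  ⟨(nat_lit 3), [(nat_lit 1)], [(nat_lit 1), (nat_lit 5), (nat_lit 7)]⟩,
  ⟨(nat_lit 2), [(nat_lit 0)], [(nat_lit 0), (nat_lit 6), (nat_lit 8)]⟩,
  ⟨(nat_lit 2), [(nat_lit 4)], [(nat_lit 2), (nat_lit 7), (nat_lit 11)]⟩,
  ⟨(nat_lit 0), [(nat_lit 5)], [(nat_lit 7), (nat_lit 8), (nat_lit 10), (nat_lit 11)]⟩,
  ⟨(nat_lit 0), [(nat_lit 6)], [(nat_lit 8), (nat_lit 9), (nat_lit 10), (nat_lit 11)]⟩,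
  ⟨(nat_lit 0), [(nat_lit 9)], [(nat_lit 6), (nat_lit 9), (nat_lit 10), (nat_lit 11)]⟩,
  ⟨(nat_lit 1), [(nat_lit 8)], [(nat_lit 5), (nat_lit 6), (nat_lit 8), (nat_lit 11)]⟩,
  ⟨(nat_lit 2), [(nat_lit 2)], [(nat_lit 2), (nat_lit 4), (nat_lit 7), (nat_lit 10)]⟩,
  ⟨(nat_lit 2), [(nat_lit 5)], [(nat_lit 1), (nat_lit 7), (nat_lit 8), (nat_lit 10)]⟩,
  ⟨(nat_lit 2), [(nat_lit 6)], [(nat_lit 0), (nat_lit 8), (nat_lit 9), (nat_lit 11)]⟩,
  ⟨(nat_lit 3), [(nat_lit 4)], [(nat_lit 3), (nat_lit 7), (nat_lit 9), (nat_lit 10)]⟩,
  ⟨(nat_lit 3), [(nat_lit 9)], [(nat_lit 4), (nat_lit 6), (nat_lit 9), (nat_lit 10), (nat_lit 11)]⟩,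
  ⟨(nat_lit 2), [(nat_lit 8)], [(nat_lit 8), (nat_lit 10), (nat_lit 11)]⟩]⟩

noncomputable def Xx2_0 : List Test := [⟨(nat_lit 1), [(nat_lit 0), (nat_lit 0)], [], (nat_lit 0x600000000000000000000000000000000000400000000000000000000000000000000000000000000000000000000180000000000000000000000000000000000000000000000000000000000000000000000000000000000000000000000000000000000000000000000000000000000000000000000000000000000000000000000000000000000000000000000000000000000000000002)⟩,
  ⟨(nat_lit 2), [(nat_lit 1), (nat_lit 1)], [], (nat_lit 0x600000000000000000000000000000000000000000000000000000000000000000000000000000000000000000000000000000000000000000000030000000000000000000000000000000000000000000000000000000002000000000000000000000000000000000000000000000000000000000000000000000000000000000000000000000000000000000000000000000000000001000)⟩,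
  ⟨(nat_lit 3), [(nat_lit 2), (nat_lit 2)], [], (nat_lit 0x600c00000000000000000000000000000000400000000000000000000000000000000000000000000000000000000000000000000000000000000000000000000000000000000000000000000000000000000000000000000000000000000000000000000000000000000000000000000000000000000000000000000000000000000000000000000000000000000000000000000000800000)⟩,
  ⟨(nat_lit 2), [(nat_lit 3), (nat_lit 3)], [], (nat_lit 0x400000000000000000000000000000000000000000000000000000000000000000000000000000000000000000000000000000000000000000000000000000000000000000000000000000000000000080000200000000000000000000000000000000000000000000000000000000000000000000000000000000000000000000000000000000000000000000000000000000000400000000)⟩,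
  ⟨(nat_lit 2), [(nat_lit 4), (nat_lit 4)], [], (nat_lit 0x600400000000000000000000040000000000000000000000000000000000000000000000000000000000000000000000000000000000000000000000000000000000000000000000000000000000000180000000000000000000000000000040000000000000000000000000000000000000000000000000000000000000000000000000000000000000000000000000000000200000000000)⟩,
  ⟨(nat_lit 4), [(nat_lit 5), (nat_lit 5)], [], (nat_lit 0x400000000000000000000000000000000000000000000000000000000000000000000000000000000000000000000080000000400000000000000000000000000000000000000000000000000000000000000000000000000000000000000000000000000000000000000000000000000000000000000000000000000000000000000000000000000000000000000000000100000000000000)⟩,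
  ⟨(nat_lit 4), [(nat_lit 6), (nat_lit 6)], [], (nat_lit 0x600000000000000000000000000000000000000000000000000000000000000000000000000000000000000000000080000000000001000000000000000000000000000000003000000000000000000000000000000000000000000000000040000000000000000000000000000000000000000000000000000000000000000000000000000000000000000000000000080000000000000000)⟩,
  ⟨(nat_lit 4), [(nat_lit 7), (nat_lit 7)], [], (nat_lit 0x600000000000000000000000000000000000400000000000008000000000000000000000000000000000000000000000000000000000000000000030000000000000000000000000000000000000000080000000000000000000000000000000000000000000000000000000000000000000000000000000000000000000000000000000000000000000000000000040000000000000000000)⟩,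
  ⟨(nat_lit 4), [(nat_lit 8), (nat_lit 8)], [], (nat_lit 0x600400000000000000010000000000000000000000000000000000000000000000000000000000000000000000000180000000000000000000000000000000000000000000000000000000000000000080000000000000000000000000000000000000000000000000000000000000000000000000000000000000000000000000000000000000000000000000020000000000000000000000)⟩,
  ⟨(nat_lit 3), [(nat_lit 9), (nat_lit 9)], [], (nat_lit 0x400000000000000000000000000000000000000000000000000000000000000000000000000000000000000000000000000000000000000000000000000000000000000000000000000000000000000080000000000800000000000000000000000000000000000000000000000000000000000000000000000000000000000000000000000000000000000010000000000000000000000000)⟩,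
  ⟨(nat_lit 3), [(nat_lit 10), (nat_lit 10)], [], (nat_lit 0x400000000000000000000000000000000000400000002000000000000000000000000000000000000000000000000000000000000000000000000000000000000000000000000000000000000000000000000000000000000000000000000000000000000000000000000000000000000000000000000000000000000000000000000000000000000000008000000000000000000000000000)⟩,
  ⟨(nat_lit 3), [(nat_lit 11), (nat_lit 11)], [], (nat_lit 0x400400001000000000000000000000000000000000000000000000000000000000000000000000000000000000000000000000000000000000000000000000000000000000000000000000000000000000000000000000000000000000000000000000000000000000000000000000000000000000000000000000000000000000000000000000000004000000000000000000000000000000)⟩,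
  ⟨(nat_lit 3), [(nat_lit 12), (nat_lit 12)], [], (nat_lit 0x400400800000000000000000000000000000000000000000000000000000000000000000000000000000000000000000000000000000000000000000000000000000000000000000000000000000000000000000000000000000000000000000000000000000000000000000000000000000000000000000000000000000000000000000000000002000000000000000000000000000000000)⟩,
  ⟨(nat_lit 0), [(nat_lit 1)], [(nat_lit 0), (nat_lit 0)], (nat_lit 0x400000000000000000000000000000000000000000000000000000000000000000000000000000000000000000000000000000000000000000000000000000000000000000000000000000000000000000000000000000000000000000000000000000000000000000008000000000000000000000000000000000000000000000000000000000000000000000000000000000000000000000)⟩,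
  ⟨(nat_lit 0), [(nat_lit 4)], [(nat_lit 2), (nat_lit 2)], (nat_lit 0x400000000000000000000000000000000000000000000000000000000000000000000000000000000000000000000000000000000000000000000000000000000000000000000000000000000000000000000000000000000000010000000000000000000000000000000000000000000000000000000000000000000000000000000000000000000000000000000000000000000000000000)⟩,
  ⟨(nat_lit 0), [(nat_lit 3)], [(nat_lit 0), (nat_lit 0)], (nat_lit 0x400000000000000000000000000000000000000000000000000000000000000000000000000000000000000000000000000000000000000000000000000000000000000000001000000000000000040000000000000000000000000000000000000000400000000000000000000000000000000000000000000000000000000000000000000000000000000000000000000000000000000000)⟩,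
  ⟨(nat_lit 0), [(nat_lit 3)], [(nat_lit 2), (nat_lit 2)], (nat_lit 0x400000000000000000000000000000000000000000000000000000000000000000000000000000000000000000000000000000000000000000000000000000000000000000000000000000000000000000000000000000002000008000000000100000000000000000000000000000000000000000000000000000000000000000000000000000000000000000000000000000000000000000)⟩,
  ⟨(nat_lit 0), [(nat_lit 4)], [(nat_lit 0), (nat_lit 0)], (nat_lit 0x400000000000000000000000000000000000000000000000000000000000000000200000000000000000000000040000000000000000000000000000000000000000000000000000000000000000000000000000000000000000000000040000000000000000000000000000000000000000000000000000000000000000000000000000000000000000000000000000000000000000000000)⟩,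
  ⟨(nat_lit 0), [(nat_lit 5)], [(nat_lit 0), (nat_lit 0)], (nat_lit 0x400000000000000000000000000000000000000000000000000000000000000000000000000000000000000000000080000000000000000000008000000000000000000000000000000000000000000000000000000002000000000000000000000000000000000000000000000000000000000000000000000000000000000000000000000000000000000000000000000000000000000000)⟩,
  ⟨(nat_lit 0), [(nat_lit 5)], [(nat_lit 2), (nat_lit 2)], (nat_lit 0x400000000000000000000000000000000000000000000000000000000000000000000000000000000000000000000000000000000000000000000010000000000000200000000000000000000000000000000000800000000000000000000000000000000000000000000000000000000000000000000000000000000000000000000000000000000000000000000000000000000000000000)⟩,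
  ⟨(nat_lit 0), [(nat_lit 5)], [(nat_lit 4), (nat_lit 4)], (nat_lit 0x400400000000000000000020000000000000000000000000000000000000000000000000000000000000000000000000000000000000000000000000000000000000000000000000000000000000000000200000000000000000000000000000000000000000000000000000000000000000000000000000000000000000000000000000000000000000000000000000000000000000000000)⟩,
  ⟨(nat_lit 0), [(nat_lit 6)], [(nat_lit 1), (nat_lit 1)], (nat_lit 0x400000000000000000000000000000000000000000000000000000000000000000000000000000000000000000000080000000000000000004000000000000000000000000000000000000000040000000000000000000000000000000000000000000000000000000000000000000000000000000000000000000000000000000000000000000000000000000000000000000000000000000)⟩,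
  ⟨(nat_lit 0), [(nat_lit 6)], [(nat_lit 2), (nat_lit 2)], (nat_lit 0x400000000000000000000000000000000000000000000000000000000000000000200000000000000000010000000000000000000000000000000000000000000000000000000000000000020000000000000000000000000000000000000000000000000000000000000000000000000000000000000000000000000000000000000000000000000000000000000000000000000000000000)⟩,
  ⟨(nat_lit 0), [(nat_lit 7)], [(nat_lit 0), (nat_lit 0)], (nat_lit 0x400000000000000000000000000000000000400000000000000000000000000100000000000000000000000000000000000000000000000000000000000000000000000001000000000000000000000000000000000000000000000000000000000000000000000000000000000000000000000000000000000000000000000000000000000000000000000000000000000000000000000000)⟩,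
  ⟨(nat_lit 0), [(nat_lit 7)], [(nat_lit 3), (nat_lit 3)], (nat_lit 0x400400000000000000000000040000000000000000000000000000000000000000000000000000000000000000000000000000000000000000000000000000000200000000000000000000000000000000000000000000000000000000000000000000000000000000000000000000000000000000000000000000000000000000000000000000000000000000000000000000000000000000)⟩,
  ⟨(nat_lit 0), [(nat_lit 7)], [(nat_lit 6), (nat_lit 6)], (nat_lit 0x400400000000000008000000000000000000000000000000000000000000000000000000000000000000000000000000000000000000000000000000040000000000000000000000000000000000000000000000000000000000000000000000000000000000000000000000000000000000000000000000000000000000000000000000000000000000000000000000000000000000000000)⟩,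
  ⟨(nat_lit 0), [(nat_lit 8)], [(nat_lit 2), (nat_lit 2)], (nat_lit 0x400000000000000000000000000000000000400000000000000000000040000000000000000000000000000000000000000000000000004000000000000000000000000000000000000000000000000000000000000000000000000000000000000000000000000000000000000000000000000000000000000000000000000000000000000000000000000000000000000000000000000000)⟩,
  ⟨(nat_lit 0), [(nat_lit 9)], [(nat_lit 1), (nat_lit 1)], (nat_lit 0x400000000000000000000000000000000000400000000000000000000000080000000000000000000000000040000000000000000000000000000000000000000000000000000000000000000000000000000000000000000000000000000000000000000000000000000000000000000000000000000000000000000000000000000000000000000000000000000000000000000000000000)⟩,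
  ⟨(nat_lit 0), [(nat_lit 9)], [(nat_lit 5), (nat_lit 5)], (nat_lit 0x400400000000000000010000000000000000000000000000000000000000000000000000000004000000000000000000000000000000000000000000000000000000000000000000000000000000000000000000000000000000000000000000000000000000000000000000000000000000000000000000000000000000000000000000000000000000000000000000000000000000000000)⟩,
  ⟨(nat_lit 1), [(nat_lit 13), (nat_lit 13)], [], (nat_lit 0x400000000000000000000000000000000000400000002000008000000000000000000000000000000000000000000000000000000000000000000000000040000000000000000000000000000000000080000000000000000000000000000000000000000000000000000000000000000000000000000000000000000000000000000000000001000000000000000000000000000000000000)⟩,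
  ⟨(nat_lit 1), [(nat_lit 14), (nat_lit 14)], [], (nat_lit 0x400400800002000000000000000000000000000001000000000000000000000000000000000000000000000000000080000000000000000000000000000000000000000000000000000000000000000000000000000000000000000000000000000000000000000000000000000000000000000000000000000000000000000000000000000800000000000000000000000000000000000000)⟩,
  ⟨(nat_lit 2), [(nat_lit 15), (nat_lit 15)], [], (nat_lit 0x400000000000000000000000000000000000400000002000000000000040000000000000000000000000000000000000000000000000000000000010000000000000200000000000000000000000000000000000000000000000000000000000000000000000000000000000000000000000000000000000000000000000000000000000400000000000000000000000000000000000000000)⟩,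
  ⟨(nat_lit 2), [(nat_lit 16), (nat_lit 16)], [], (nat_lit 0x400400000000004000000020000000000000000000000000000000000000000000000000000000000000000000000000000000000000000000000010000000080000000000000000000000000000000000000000000000000000000000000000000000000000000000000000000000000000000000000000000000000000000000000200000000000000000000000000000000000000000000)⟩,
  ⟨(nat_lit 2), [(nat_lit 17), (nat_lit 17)], [], (nat_lit 0x600400000002000000000000040000000000000000000000000000000000000000000000000000000000000000000080000000000001000000000000000000000000000000003000000000000000000000000000000000000000000000000040000000000000000000000000000000000000000000000000000000000000000000100000000000000000000000000000000000000000000000)⟩,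
  ⟨(nat_lit 2), [(nat_lit 18), (nat_lit 18)], [], (nat_lit 0x600400800000000000000020000000000000400000000000000010000000000000600000000000000000000000000000000000000000000000000000000000000000000000000000000000000000000000000000000000002000000000000000000000000000000000000000000000000000000000000000000000000000000080000000000000000000000000000000000000000000000000)⟩,
  ⟨(nat_lit 2), [(nat_lit 19), (nat_lit 19)], [], (nat_lit 0x400000000000000000000000000000000000000800002000000000000000000000200000800000000000000000000000000000000000000000000010000000000000000000000000000000000000000000000000000000000000000000000000000000000000000000000000000000000000000000000000000000000000040000000000000000000000000000000000000000000000000000)⟩,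
  ⟨(nat_lit 4), [(nat_lit 20), (nat_lit 20)], [], (nat_lit 0x400000000000000000000000000000000000000000000000000000000000000000000000000000000000000000000000000000000000000000000010000040000000000400000000000000000000000080000000000800000000000000000000000000000000000000000000000000000000000000000000000000000020000000000000000000000000000000000000000000000000000000)⟩,
  ⟨(nat_lit 3), [(nat_lit 21), (nat_lit 21)], [], (nat_lit 0x400000000000000000000000000000000000000000000000000000000000000000000000000000000000000000000080000200000000000000008000000000000000000000001000000000000000040000000000000000000000000000000000000000000000000000000000000000000000000000000000000000010000000000000000000000000000000000000000000000000000000000)⟩,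
  ⟨(nat_lit 3), [(nat_lit 22), (nat_lit 22)], [], (nat_lit 0x600400000000004000000000000080000000000000000000000000000000000000000000000000000000000000000000000000000000000000000010000000000000200000000000000000000000000000000000000000006000000000000000000000000400000000000000000000000000000000000000000008000000000000000000000000000000000000000000000000000000000000)⟩,
  ⟨(nat_lit 2), [(nat_lit 1), (nat_lit 4)], [(nat_lit 4), (nat_lit 1)], (nat_lit 0x6000000000000000000000600000000000000000000000000000000000000000000000000000000000000000000000000000000000000000000000000000c0000000000000000000000000000000000000000000000000000004000000000000000000000000000000000000000000000000000000000000000000000000000000000000000000000000000000000000000000000000000000)⟩,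
  ⟨(nat_lit 0), [(nat_lit 3)], [(nat_lit 3), (nat_lit 0)], (nat_lit 0x600000000000000000000000000000000000000000000000000000000000000000000000000000000000000000000000000000000000000000000000000000000000000000003000000018000000000000000000000000000000000000000000000000400000000000000000000000000000000000000000000000000000000000000000000000000000000000000000000000000000000000)⟩,
  ⟨(nat_lit 0), [(nat_lit 4)], [(nat_lit 4), (nat_lit 0)], (nat_lit 0x60000000000000000000000000000000000000000000000000000000000000000060000000000000c000000000000000000000000000000000000000000000000000000000000000000000000000000000000000000000000000000000040000000000000000000000000000000000000000000000000000000000000000000000000000000000000000000000000000000000000000000000)⟩,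
  ⟨(nat_lit 0), [(nat_lit 6)], [(nat_lit 6), (nat_lit 2)], (nat_lit 0x600000000000000000000000000000000000000000000000000000000000000000600000003000000000000000000000000000000000000000000000000000000000000000000000000000020000000000000000000000000000000000000000000000000000000000000000000000000000000000000000000000000000000000000000000000000000000000000000000000000000000000)⟩,
  ⟨(nat_lit 0), [(nat_lit 7)], [(nat_lit 7), (nat_lit 3)], (nat_lit 0x600c0000000000c000000000000000000000000000000000000000000000000000000000000000000000000000000000000000000000000000000000000000000200000000000000000000000000000000000000000000000000000000000000000000000000000000000000000000000000000000000000000000000000000000000000000000000000000000000000000000000000000000)⟩,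
  ⟨(nat_lit 0), [(nat_lit 9)], [(nat_lit 9), (nat_lit 1)], (nat_lit 0x600000000000000000000000000000000000c01800000000000000000000000000000000000000000000000040000000000000000000000000000000000000000000000000000000000000000000000000000000000000000000000000000000000000000000000000000000000000000000000000000000000000000000000000000000000000000000000000000000000000000000000000)⟩,
  ⟨(nat_lit 0), [(nat_lit 4)], [(nat_lit 1), (nat_lit 1)], (nat_lit 0x400400000000004000000000000000100000000000000000000000000000000000000000000000000000000000000000000000000000000000000010000000000000000400000000000000000000000000000000000000000000000020000000000000000000000000000000000000000000000000000000000000000000000000000000000000000000000000000000000000000000000000)⟩,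
  ⟨(nat_lit 1), [(nat_lit 23), (nat_lit 23)], [], (nat_lit 0x600400800002004000000000000000000000400001002000000000000000000000000000000000000000000000000080100000000000000000000010000000000000000000000000000000000000000180000000000000000000000000000000000000000000000000000000000000000000000000000000004000000000000000000000000000000000000000000000000000000000000000)⟩,
  ⟨(nat_lit 1), [(nat_lit 24), (nat_lit 24)], [], (nat_lit 0x600400801002000000000000000000000000400801000000000000000000000000200400000000000000000000000080000000000000000000000000000000000000000000003000000000000000000000000000000000000000000000000000000000000000000000000000000000000000000000000002000000000000000000000000000000000000000000000000000000000000000000)⟩,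
  ⟨(nat_lit 1), [(nat_lit 25), (nat_lit 25)], [], (nat_lit 0x400400801000000008000000000000000000400800000004000000000000000000000000001000000000000000000000000000000000000000000000000000000000000000001000000000000000000000000000000000000000000000000000000000000000000000000000000000000000000000001000000000000000000000000000000000000000000000000000000000000000000000)⟩,
  ⟨(nat_lit 2), [(nat_lit 26), (nat_lit 26)], [], (nat_lit 0x400400000002000008010000000000000000000000000000000000000000000000000000000000000000000000000000000200400000000000000000000000000000000000001002000000000000000080000000000000000000000000000000000000000000000000000000000000000000000000800000000000000000000000000000000000000000000000000000000000000000000000)⟩,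
  ⟨(nat_lit 3), [(nat_lit 27), (nat_lit 27)], [], (nat_lit 0x400000000000000000000000000000000000400000002000000010000040000000000000000000000000000000000000000000000000000000000010000000080000200000000000000000000000000000000000000000002000008000000000000000000000000000000000000000000000000400000000000000000000000000000000000000000000000000000000000000000000000000)⟩,
  ⟨(nat_lit 3), [(nat_lit 28), (nat_lit 28)], [], (nat_lit 0x600000000000000000000000000000000000400001002000000000000000080000000000000000000000000000000080100000000000000004000010000000000000000400000000000000000000000180000000000000000000000000000000000000000000000002000000000000000000200000000000000000000000000000000000000000000000000000000000000000000000000000)⟩,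
  ⟨(nat_lit 3), [(nat_lit 29), (nat_lit 29)], [], (nat_lit 0x600400001002000000000000000000000200000000000000000000000000000000200400000000000000000000040080000000000000000000008000000000000000000000003000000000000000000000000000000000000000000000000000000000000000000000000008000000000100000000000000000000000000000000000000000000000000000000000000000000000000000000)⟩,
  ⟨(nat_lit 0), [(nat_lit 4)], [(nat_lit 2), (nat_lit 1)], (nat_lit 0x600000000000000000000000000180000000000000000000000000000000000000000000000000000000000000000000000000000000000000000000000000000000600000000000000000000000000000000000000000000000000000000000000000000000000000000000000000000000000000000000000000000000000000000000000000000000000000000000000000000000000000)⟩,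
  ⟨(nat_lit 4), [(nat_lit 30), (nat_lit 30)], [], (nat_lit 0x600400801000000000000000000000000000400800002000000000020000000000200000800000000008000000000000000000000000000000000010000000000100000000000000000000000000000000000000000000006000000000000040000000000000000000000000000000080000000000000000000000000000000000000000000000000000000000000000000000000000000000)⟩,
  ⟨(nat_lit 0), [(nat_lit 7)], [(nat_lit 6), (nat_lit 0)], (nat_lit 0x60000180000000000000000000000000020000000000000c000000000000000000000000000000000000000000000000000000000000000000000000000000000000000000000000000000000000000000000000000000000000000000000000000000000000000000000000000000000000000000000000000000000000000000000000000000000000000000000000000000000000000000)⟩,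
  ⟨(nat_lit 2), [(nat_lit 18), (nat_lit 3)], [(nat_lit 3), (nat_lit 18)], (nat_lit 0x600001800000000000000000040000000000000000000000008000020000000000000000000000000018000000000000000000000000000000000000000000000000000000000000000000000000000000300000000000000004000000000000000000000000000000000000000000000000000000000000000000000000000000000000000000000000000000000000000000000000000000)⟩,
  ⟨(nat_lit 0), [(nat_lit 4)], [(nat_lit 3), (nat_lit 0)], (nat_lit 0x600000000000000000000000000000000000000000000000000000000000000000000000003000000018000000000000000000000000000000000000000000000000000000000000004000000000000000000000000000000000000000000000000000000000000000000000000000000000000000000000000000000000000000000000000000000000000000000000000000000000000000)⟩,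
  ⟨(nat_lit 0), [(nat_lit 3)], [(nat_lit 1), (nat_lit 0)], (nat_lit 0x600000000000000000000000000000000000000000000000000000000000000000000000000000000000000000000000000000000000000000000000000000000000000000000002000000000060000000000000000001000000000000000000000000000000000000000000000000000000000000000000000000000000000000000000000000000000000000000000000000000000000000)⟩,
  ⟨(nat_lit 0), [(nat_lit 3)], [(nat_lit 2), (nat_lit 0)], (nat_lit 0x600000000000000000000000000000000000000000000000000000000000000000000000000000000000000000000000000000000000000000000000000000000000000000000000004000030000000000000000000000000000000000020000000000000000000000000000000000000000000000000000000000000000000000000000000000000000000000000000000000000000000000)⟩,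
  ⟨(nat_lit 0), [(nat_lit 5)], [(nat_lit 2), (nat_lit 0)], (nat_lit 0x600000000000000000000000000000000000000000000000000000000000000000000000000000000000000000000000100000000000006000000000000000000000000000800000000000000000000000000000000000000000000000000000000000000000000000000000000000000000000000000000000000000000000000000000000000000000000000000000000000000000000000)⟩,
  ⟨(nat_lit 0), [(nat_lit 6)], [(nat_lit 2), (nat_lit 1)], (nat_lit 0x600000000000000000000000000000000000000000000000000000000000000000000c00000000000000000020000000000000000000006000000000000000000000000000000000000000000000000000000000000000000000000000000000000000000000000000000000000000000000000000000000000000000000000000000000000000000000000000000000000000000000000000)⟩,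
  ⟨(nat_lit 4), [(nat_lit 31), (nat_lit 31)], [], (nat_lit 0x400400801000000008000020000000000000400800000004000010000000000000000000001000004000000000000000000000000000000000000000000000000000000000001000004000000000000000000000000000002000000000000000000000000000000000000000000040000000000000000000000000000000000000000000000000000000000000000000000000000000000000)⟩,
  ⟨(nat_lit 0), [(nat_lit 3)], [(nat_lit 2), (nat_lit 1)], (nat_lit 0x600400000000004000000000000000000000000000000000000000000000000000000000000000000000000000000000000000000000000000000000000000000000000000000000000000000000000000100000c00000000000000010000000000000000000000000000000000000000000000000000000000000000000000000000000000000000000000000000000000000000000000000)⟩,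
  ⟨(nat_lit 4), [(nat_lit 31), (nat_lit 8)], [(nat_lit 8), (nat_lit 31)], (nat_lit 0x600000800000000000010060000000000000000000000000008000000000000000000c00000002000000000000000000000000000000000000000000000000000000000000000002000000000000000000300000000000000000000000000000000000000000000000000000000000000000000000000000000000000000000000000000000000000000000000000000000000000000000000)⟩,
  ⟨(nat_lit 3), [(nat_lit 32), (nat_lit 22)], [(nat_lit 22), (nat_lit 32), (nat_lit 2)], (nat_lit 0x600001800006004000000000000080000000000000000000000000000040000000000000000000000000000000000000100000001800002000000000000000000000000000000000000000000000000000000000000000000000000000000000000000000000000000000000000000000000000000000000000000000000000000000000000000000000000000000000000000000000c00000)⟩,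
  ⟨(nat_lit 0), [(nat_lit 6)], [(nat_lit 5), (nat_lit 2)], (nat_lit 0x60000000100000c000000000000000000000000000000000000000000000000000000001800006000000000000000000000000000000000000000000020000000000000000000000000000000000000000000000000000000000000000000000000000000000000000000000000000000000000000000000000000000000000000000000000000000000000000000000000000000000000000)⟩,
  ⟨(nat_lit 0), [(nat_lit 8)], [(nat_lit 3), (nat_lit 2)], (nat_lit 0x600c01800000000000000060000000000000000000000000000030060000000000000000000000000000000000000000000000001800000000000000000000000000000000000000000000000000000000000000000000000000000000000000000000000000000000000000000000000000000000000000000000000000000000000000000000000000000000000000000000000000000000)⟩,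
  ⟨(nat_lit 3), [(nat_lit 28), (nat_lit 22)], [(nat_lit 22), (nat_lit 28), (nat_lit 2)], (nat_lit 0x60000100000600c000000000000000300000000000000000000000000040000000000000000000000000000000000000100000000000002000000000000000000000200c00000000000000000000000000300000000000000000000000000000000000000001800000000000000000000000000000000000000000000000000000000000000000000000000000000000000000000000c00000)⟩,
  ⟨(nat_lit 3), [(nat_lit 29), (nat_lit 22)], [(nat_lit 22), (nat_lit 29)], (nat_lit 0x60000000300600400000000000008000060000000300200000000000000000000000000080000000000001000000000010000000000000200000000000000000000000000180000000c000000000000000000000000000000000000000000000000000000000003000000000000000000000000000000000000000000000000000000000000000000000000000000000000000000000000000)⟩,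
  ⟨(nat_lit 3), [(nat_lit 29), (nat_lit 28)], [(nat_lit 28), (nat_lit 29)], (nat_lit 0x60000080000200400000000000000010000000000000200000000000000000030000040080000000000000002000000010000000000000000401800000000000000000000180000600000000000000000000000000000000000000000000000000000000000000000000c000000000000000000000000000000000000000000000000000000000000000000000000000000000000000000000)⟩]

noncomputable def cx2 : Cert := ⟨Px2, (nat_lit 1), Xx2_0,
  [⟨(nat_lit 0x600000000000000000000000000000000000000000000000000000000000000000000000000000000000000000000000000000000000000000000000000000000000000000000000000000000000000000000000000000000000018000000000000000000000000000000000000000000000000000000000000000000000000000000000000000000000000000000000000000000000000000), (nat_lit 2), (nat_lit 805306368)⟩, ⟨(nat_lit 0x60000000000000000000000000000000000000000000000000000000000000000000000000000000000000000000000000000000000000000000000000000000000000000000000000000000000000000000000000000000000000000000000000000000000000000000c000000000000000000000000000000000000000000000000000000000000000000000000000000000000000000000),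 (nat_lit 2), (nat_lit 201326592)⟩],
  [(nat_lit 0),
  (nat_lit 0),
  (nat_lit 0),
  (nat_lit 0),
  (nat_lit 0x200000000000000000000000000000000000000000000000000000000000000000000000000000000000000000000000000000000000000000000000000000000000000000000000000000000000000000000000000000000000000000000000080000000000000000000000000000000000000000000000000000000000000000000000000000000000000000000000000000000000000000),
  (nat_lit 0x200000000000000000000000000000000000000000000000000000000000000000000000000000000000000000000000000000000000000000000000000000000000000000000000000000000000000000000000000000000000000000000000000100000000000000000000000000000000000000000000000000000000000000000000000000000000000000000000000000000000000000),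
  (nat_lit 0x200000000000000000000000000000000000000000000000000000000000000000000000000000000000000000000000000000000000000000000000000000000000000000000000000000000000000000000000000000000000000000000000000000200000000000000000000000000000000000000000000000000000000000000000000000000000000000000000000000000000000000),
  (nat_lit 0x200000000000000000000000000000000000000000000000000000000000000000000000000000000000000000000000000000000000000000000000000000000000000000000000000000000000000000000000400000000000000000000000000000000000000000000000000000000000000000000000000000000000000000000000000000000000000000000000000000000000000000),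
  (nat_lit 0x200000000000000000000000000000000000000000000000000000000000000000000000000000000000000000000000000000000000000000000000000000000000000000000000000000000000000000000000000001000000000000000000000000000000000000000000000000000000000000000000000000000000000000000000000000000000000000000000000000000000000000),
  (nat_lit 0x200000000000000000000000000000000000000000000000000000000000000000000000000000000000000000000000000000000000000000000000000000000000000000000000000000000000000000000000000000000000000000020000000000000000000000000000000000000000000000000000000000000000000000000000000000000000000000000000000000000000000000),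
  (nat_lit 0x200000000000000000000000000000000000000000000000000000000000000000000000000000000000000000000000000000000000000000000000000000000000000000800000000000000000000000000000000000000000000000000000000000000000000000000000000000000000000000000000000000000000000000000000000000000000000000000000000000000000000000),
  (nat_lit 0x200000000000000000000000000000000000000000000000000000000000000000000000000000000000000000000000000000000000000000000000000000000000000000000000000000000000000000000000400000000000000010000000000000000000000000000000000000000000000000000000000000000000000000000000000000000000000000000000000000000000000000)],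
  (BT.node (nat_lit 39) (BT.node (nat_lit 19) (BT.node (nat_lit 9) (BT.node (nat_lit 4) (BT.node (nat_lit 2) (BT.node (nat_lit 1) (BT.leaf (nat_lit 0x100c25ef0fd96be2f9a)) (BT.leaf (nat_lit 2))) (BT.node (nat_lit 3) (BT.leaf (nat_lit 0x212048a4805b14)) (BT.leaf (nat_lit 0x1818288f8d183a25e86)))) (BT.node (nat_lit 6) (BT.node (nat_lit 5) (BT.leaf (nat_lit 0x690c84ba02d460440c)) (BT.leaf (nat_lit 0x80210000000008))) (BT.node (nat_lit 7) (BT.leaf (nat_lit 0)) (BT.node (nat_lit 8) (BT.leaf (nat_lit 0)) (BT.leaf (nat_lit 0)))))) (BT.node (nat_lit 14) (BT.node (nat_lit 11) (BT.node (nat_lit 10) (BT.leaf (nat_lit 0x254201444)) (BT.leaf (nat_lit 0))) (BT.node (nat_lit 12) (BT.leaf (nat_lit 0)) (BT.node (nat_lit 13) (BT.leaf (nat_lit 1)) (BT.leaf (nat_lit 0x20080441219))))) (BT.node (nat_lit 16) (BT.node (nat_lit 15) (BT.leaf (nat_lit 262145)) (BT.leaf (nat_lit 0))) (BT.node (nat_lit 17) (BT.leaf (nat_lit 0x250201c04)) (BT.node (nat_lit 18) (BT.leaf (nat_lit 0)) (BT.leaf (nat_lit 0x250201424))))))) (BT.node (nat_lit 29) (BT.node (nat_lit 24) (BT.node (nat_lit 21) (BT.node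 (nat_lit 20) (BT.leaf (nat_lit 0x20000200000000000)) (BT.leaf (nat_lit 0x250201404))) (BT.node (nat_lit 22) (BT.leaf (nat_lit 0x100c018e0f49aa40e9a)) (BT.node (nat_lit 23) (BT.leaf (nat_lit 0x100d010e07e86941b0a)) (BT.leaf (nat_lit 0x12004081210205000))))) (BT.node (nat_lit 26) (BT.node (nat_lit 25) (BT.leaf (nat_lit 0x100c018e4f49aa60e9a)) (BT.leaf (nat_lit 0x10004081210205000))) (BT.node (nat_lit 27) (BT.leaf (nat_lit 0x100c010e07e86941b0a)) (BT.node (nat_lit 28) (BT.leaf (nat_lit 0x100c018e0f49aa60e9a)) (BT.leaf (nat_lit 0)))))) (BT.node (nat_lit 34) (BT.node (nat_lit 31) (BT.node (nat_lit 30) (BT.leaf (nat_lit 0x4290200a00)) (BT.leaf (nat_lit 2359305))) (BT.node (nat_lit 32) (BT.leaf (nat_lit 0x20500222290642041)) (BT.node (nat_lit 33) (BT.leaf (nat_lit 0x200610641019)) (BT.leaf (nat_lit 0x290240209))))) (BT.node (nat_lit 36) (BT.node (nat_lit 35) (BT.leaf (nat_lit 0x16000a00ab1c724394)) (BT.leaf (nat_lit 262153))) (BT.node (nat_lit 37) (BT.leaf (nat_lit 0x210301004)) (BT.node (nat_lit 38) (BT.leaf (nat_lit 0x210a01004)) (BT.leaf (nat_lit 0x400120014004141d))))))))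 (BT.node (nat_lit 58) (BT.node (nat_lit 48) (BT.node (nat_lit 43) (BT.node (nat_lit 41) (BT.node (nat_lit 40) (BT.leaf (nat_lit 0x100c018e0f4dea60bda)) (BT.leaf (nat_lit 0x230c043a00c4441415))) (BT.node (nat_lit 42) (BT.leaf (nat_lit 0x210201084)) (BT.leaf (nat_lit 0x8000120000)))) (BT.node (nat_lit 45) (BT.node (nat_lit 44) (BT.leaf (nat_lit 0x120014004141d)) (BT.leaf (nat_lit 0x210201004))) (BT.node (nat_lit 46) (BT.leaf (nat_lit 0x102014102c5008)) (BT.node (nat_lit 47) (BT.leaf (nat_lit 0x100000ba0e2daa67a9f)) (BT.leaf (nat_lit 0x10201411245008)))))) (BT.node (nat_lit 53) (BT.node (nat_lit 50) (BT.node (nat_lit 49) (BT.leaf (nat_lit 0x10814380600040008)) (BT.leaf (nat_lit 0x10281410245008))) (BT.node (nat_lit 51) (BT.leaf (nat_lit 0x6001a409f0c522395)) (BT.node (nat_lit 52) (BT.leaf (nat_lit 0x10301410245008)) (BT.leaf (nat_lit 0x10603410204001))))) (BT.node (nat_lit 55) (BT.node (nat_lit 54) (BT.leaf (nat_lit 0x100c00a80e39aa26e82)) (BT.leaf (nat_lit 0x10201410245008))) (BT.node (nat_lit 56) (BT.leaf (nat_lit 0x212201000)) (BT.node (nat_lit 57) (BT.leaf (nat_lit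 0x230201000)) (BT.leaf (nat_lit 0x200201000))))))) (BT.node (nat_lit 68) (BT.node (nat_lit 63) (BT.node (nat_lit 60) (BT.node (nat_lit 59) (BT.leaf (nat_lit 0x30c141a06c444541c)) (BT.leaf (nat_lit 0x10200410601019))) (BT.node (nat_lit 61) (BT.leaf (nat_lit 1074005517)) (BT.node (nat_lit 62) (BT.leaf (nat_lit 0x100c00c90e082823e92)) (BT.leaf (nat_lit 0x210200000))))) (BT.node (nat_lit 65) (BT.node (nat_lit 64) (BT.leaf (nat_lit 0xb14205104)) (BT.leaf (nat_lit 0x400210201000))) (BT.node (nat_lit 66) (BT.leaf (nat_lit 0x210201000)) (BT.node (nat_lit 67) (BT.leaf (nat_lit 0x100c20c90e292a26e82)) (BT.leaf (nat_lit 0xa04290240a09)))))) (BT.node (nat_lit 73) (BT.node (nat_lit 70) (BT.node (nat_lit 69) (BT.leaf (nat_lit 0x80000000240009)) (BT.leaf (nat_lit 0x214201010))) (BT.node (nat_lit 71) (BT.leaf (nat_lit 0x210601010)) (BT.node (nat_lit 72) (BT.leaf (nat_lit 0x250201010)) (BT.leaf (nat_lit 0x218201010))))) (BT.node (nat_lit 75) (BT.node (nat_lit 74) (BT.leaf (nat_lit 0x200210201010)) (BT.leaf (nat_lit 0x804000100))) (BT.node (nat_lit 76) (BT.leaf (nat_lit 0x210203010))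 (BT.node (nat_lit 77) (BT.leaf (nat_lit 0x210205010)) (BT.leaf (nat_lit 0x210201010)))))))))⟩

theorem okx2 : cx2.OK := Cert.ok_of_check (by decide) (by decide +kernel)


noncomputable def Lx2 : List Lvl := [⟨(nat_lit 0), [[(nat_lit 5)],
  [(nat_lit 9)],
  [(nat_lit 15)],
  [(nat_lit 19)],
  [(nat_lit 21)],
  [(nat_lit 23)]], (nat_lit 1)⟩,
  ⟨(nat_lit 2), [[(nat_lit 1), (nat_lit 19)],
  [(nat_lit 3), (nat_lit 15), (nat_lit 21), (nat_lit 23)],
  [(nat_lit 17), (nat_lit 21), (nat_lit 23)]], (nat_lit 1)⟩,
  ⟨(nat_lit 1), [[(nat_lit 7), (nat_lit 9)],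
  [(nat_lit 11), (nat_lit 15)],
  [(nat_lit 13), (nat_lit 17), (nat_lit 19), (nat_lit 21), (nat_lit 23)]], (nat_lit 1)⟩]


noncomputable def gx2 : List (List Nat) := [[(nat_lit 25)],
  [(nat_lit 27)],
  [(nat_lit 29)],
  [(nat_lit 31)]]

theorem hx2_0 : allFrom (relRow (sameW Nx2 120 7) 0 Px2) 0 12 = true := by decide +kernel

theorem hx2 : ∀ j < 12, relRow (sameW Nx2 120 7) 0 Px2 j = true := by
  have h : ∀ j < 0, relRow (sameW Nx2 120 7) 0 Px2 j = true := by simp
  have h := forall_lt_add h (allFrom_iff.1 hx2_0)
  exact h

theorem px2 : lall (prAt (sameW Nx2 120 7) 0 gx2) Px2.prs = true := by decide +kernel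

theorem lx2 : lowOK Nx2 120 0 Px2 Lx2 = true := by decide +kernel

theorem pbdx2 (mdl : Mdl D (lapp U0 U1) f H bs) (card : Nat.card H = 174182400) : PBd H 2 4 :=
  have h := (mdl.new (k := 7) (l := 16) (by decide) wx2 (by decide +kernel) (by decide +kernel) qx2)
  h.pbd (h.sameW (k := 7) (by decide)) okx2 (gs := gx2) hx2 px2 lx2 card (by decide) rfl rfl

noncomputable def Wx3 : List (List Nat) := [[(nat_lit 7), (nat_lit 4), (nat_lit 1), (nat_lit 16), (nat_lit 8), (nat_lit 22), (nat_lit 11), (nat_lit 9), (nat_lit 13), (nat_lit 15), (nat_lit 23), (nat_lit 26)],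
  [(nat_lit 5), (nat_lit 3), (nat_lit 2), (nat_lit 23), (nat_lit 7), (nat_lit 6), (nat_lit 7), (nat_lit 15), (nat_lit 11), (nat_lit 16), (nat_lit 13), (nat_lit 19), (nat_lit 17), (nat_lit 26)],
  [(nat_lit 4), (nat_lit 1), (nat_lit 11), (nat_lit 7), (nat_lit 19), (nat_lit 12), (nat_lit 20), (nat_lit 23), (nat_lit 26)],
  [(nat_lit 4), (nat_lit 2), (nat_lit 7), (nat_lit 15), (nat_lit 8), (nat_lit 21), (nat_lit 11), (nat_lit 17), (nat_lit 13), (nat_lit 18), (nat_lit 23)],
  [(nat_lit 5), (nat_lit 4), (nat_lit 7), (nat_lit 20), (nat_lit 7), (nat_lit 19), (nat_lit 12), (nat_lit 18), (nat_lit 18), (nat_lit 26)],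
  [(nat_lit 4), (nat_lit 1), (nat_lit 9), (nat_lit 7), (nat_lit 12), (nat_lit 20), (nat_lit 13), (nat_lit 13), (nat_lit 18), (nat_lit 18), (nat_lit 23), (nat_lit 26)],
  [(nat_lit 17), (nat_lit 4), (nat_lit 6), (nat_lit 7), (nat_lit 15), (nat_lit 11), (nat_lit 20), (nat_lit 13), (nat_lit 13), (nat_lit 20), (nat_lit 18), (nat_lit 23), (nat_lit 26)],
  [(nat_lit 18), (nat_lit 4), (nat_lit 9), (nat_lit 8), (nat_lit 18), (nat_lit 11), (nat_lit 9), (nat_lit 14), (nat_lit 14), (nat_lit 20)]]

theorem qx3_0 : allFrom (preRow (lapp U0 U1) Nx3 Wx3 120 7) 0 8 = true := by decide +kernel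

theorem qx3 : ∀ j < 8, preRow (lapp U0 U1) Nx3 Wx3 120 7 j = true := by
  have h : ∀ j < 0, preRow (lapp U0 U1) Nx3 Wx3 120 7 j = true := by simp
  have h := forall_lt_add h (allFrom_iff.1 qx3_0)
  exact h

theorem wx3 : wfAll Nx3 120 = true := by decide +kernel

noncomputable def Px3 : Dat := ⟨(nat_lit 3), (nat_lit 5), (nat_lit 7), (nat_lit 8), (nat_lit 23),
  (BT.node (nat_lit 7) (BT.node (nat_lit 3) (BT.node (nat_lit 1) (BT.leaf []) (BT.node (nat_lit 2) (BT.leaf [(nat_lit 1)]) (BT.leaf []))) (BT.node (nat_lit 5) (BT.node (nat_lit 4) (BT.leaf [(nat_lit 2), (nat_lit 3)]) (BT.leaf [(nat_lit 2)])) (BT.node (nat_lit 6) (BT.leaf []) (BT.leaf [(nat_lit 3), (nat_lit 4)])))) (BT.node (nat_lit 11) (BT.node (nat_lit 9) (BT.node (nat_lit 8) (BT.leaf [(nat_lit 3)]) (BT.leaf [(nat_lit 3)])) (BT.node (nat_lit 10) (BT.leaf []) (BT.leaf [(nat_lit 4)]))) (BT.node (nat_lit 13) (BT.node (nat_lit 12) (BT.leaf [(nat_lit 4)]) (BT.leaf [(nat_lit 4)])) (BT.node (nat_lit 14) (BT.leaf [(nat_lit 4)]) (BT.leaf []))))),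
  [⟨(nat_lit 0), [(nat_lit 1)], [(nat_lit 1), (nat_lit 1)]⟩,
  ⟨(nat_lit 0), [(nat_lit 2)], [(nat_lit 2), (nat_lit 2)]⟩,
  ⟨(nat_lit 1), [(nat_lit 1)], [(nat_lit 1)]⟩,
  ⟨(nat_lit 1), [(nat_lit 0)], [(nat_lit 0), (nat_lit 0), (nat_lit 1)]⟩,
  ⟨(nat_lit 1), [(nat_lit 3)], [(nat_lit 3), (nat_lit 3)]⟩,
  ⟨(nat_lit 1), [(nat_lit 2)], [(nat_lit 2), (nat_lit 3)]⟩,
  ⟨(nat_lit 2), [(nat_lit 2)], [(nat_lit 2)]⟩,
  ⟨(nat_lit 2), [(nat_lit 1)], [(nat_lit 1), (nat_lit 1), (nat_lit 2)]⟩]⟩

noncomputable def Xx3_0 : List Test := [⟨(nat_lit 1), [(nat_lit 0), (nat_lit 0), (nat_lit 0)], [], (nat_lit 0x20000000000000000000000400000000000000000)⟩,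
  ⟨(nat_lit 1), [(nat_lit 1), (nat_lit 1), (nat_lit 1)], [], (nat_lit 0x20000000000000000080000000000000000000000)⟩,
  ⟨(nat_lit 2), [(nat_lit 2), (nat_lit 3)], [(nat_lit 3), (nat_lit 2)], (nat_lit 0x20000000000000000000000008000000000000000)⟩,
  ⟨(nat_lit 2), [(nat_lit 4), (nat_lit 5)], [(nat_lit 5), (nat_lit 4)], (nat_lit 0x20000000000010000000000000000000000000000)⟩,
  ⟨(nat_lit 3), [(nat_lit 6), (nat_lit 7)], [(nat_lit 7), (nat_lit 6)], (nat_lit 0x20000000000000000001000000000000000000000)⟩,
  ⟨(nat_lit 0), [(nat_lit 3)], [(nat_lit 0), (nat_lit 0), (nat_lit 0)], (nat_lit 0x20400000000000000000000000000000000000000)⟩,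
  ⟨(nat_lit 0), [(nat_lit 2)], [(nat_lit 1), (nat_lit 0)], (nat_lit 0x40000000000000400000000000000000000000000)⟩,
  ⟨(nat_lit 0), [(nat_lit 3)], [(nat_lit 1), (nat_lit 0)], (nat_lit 0x40000004000000000000000000000000000000000)⟩,
  ⟨(nat_lit 2), [(nat_lit 3), (nat_lit 3), (nat_lit 3)], [], (nat_lit 0x20000000000000000000000400100000000000000)⟩,
  ⟨(nat_lit 0), [(nat_lit 4)], [(nat_lit 2), (nat_lit 0)], (nat_lit 0x40010000000000000000000000000000000000000)⟩,
  ⟨(nat_lit 0), [(nat_lit 2), (nat_lit 2)], [(nat_lit 2), (nat_lit 0)], (nat_lit 0x40000000001000000000000000000000000000000)⟩,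
  ⟨(nat_lit 0), [(nat_lit 3)], [(nat_lit 2), (nat_lit 0)], (nat_lit 0x40010200000000000000000000000000000000000)⟩,
  ⟨(nat_lit 0), [(nat_lit 2)], [(nat_lit 0), (nat_lit 0), (nat_lit 0)], (nat_lit 0x20408000040800000000000000000000000000000)⟩]

noncomputable def cx3 : Cert := ⟨Px3, (nat_lit 0), Xx3_0,
  [],
  [(nat_lit 0),
  (nat_lit 0),
  (nat_lit 0),
  (nat_lit 0x20000000000000000000020000000000000000000),
  (nat_lit 0x20000000000000004000000000000000000000000)],
  (BT.node (nat_lit 7) (BT.node (nat_lit 3) (BT.node (nat_lit 1) (BT.leaf (nat_lit 13123)) (BT.node (nat_lit 2) (BT.leaf (nat_lit 18)) (BT.leaf (nat_lit 2)))) (BT.node (nat_lit 5) (BT.node (nat_lit 4) (BT.leaf (nat_lit 0)) (BT.leaf (nat_lit 162))) (BT.node (nat_lit 6) (BT.leaf (nat_lit 6)) (BT.leaf (nat_lit 0))))) (BT.node (nat_lit 11) (BT.node (nat_lit 9) (BT.node (nat_lit 8) (BT.leaf (nat_lit 729)) (BT.leaf (nat_lit 54))) (BT.node (nat_lit 10) (BT.leaf (nat_lit 59049)) (BT.leaf (nat_lit 1220589)))) (BT.node (nat_lit 13) (BT.node (nat_lit 12) (BT.leaf (nat_lit 2187)) (BT.leaf (nat_lit 216513))) (BT.node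 (nat_lit 14) (BT.leaf (nat_lit 19683)) (BT.leaf (nat_lit 486))))))⟩

theorem okx3 : cx3.OK := Cert.ok_of_check (by decide) (by decide +kernel)


noncomputable def Lx3 : List Lvl := [⟨(nat_lit 0), [[(nat_lit 1), (nat_lit 3), (nat_lit 9), (nat_lit 9)],
  [(nat_lit 1), (nat_lit 3), (nat_lit 9), (nat_lit 9)],
  [(nat_lit 3), (nat_lit 9)],
  [(nat_lit 3), (nat_lit 9)],
  [(nat_lit 7)],
  [(nat_lit 7)],
  [(nat_lit 9)],
  [(nat_lit 9)]], (nat_lit 1)⟩,
  ⟨(nat_lit 1), [[(nat_lit 5), (nat_lit 7), (nat_lit 9)],
  [(nat_lit 5), (nat_lit 7), (nat_lit 9)]], (nat_lit 1)⟩]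


noncomputable def gx3 : List (List Nat) := [[(nat_lit 11)],
  [(nat_lit 13)],
  [(nat_lit 15)]]

theorem hx3_0 : allFrom (relRow (sameW Nx3 120 7) 0 Px3) 0 5 = true := by decide +kernel

theorem hx3 : ∀ j < 5, relRow (sameW Nx3 120 7) 0 Px3 j = true := by
  have h : ∀ j < 0, relRow (sameW Nx3 120 7) 0 Px3 j = true := by simp
  have h := forall_lt_add h (allFrom_iff.1 hx3_0)
  exact h

theorem px3 : lall (prAt (sameW Nx3 120 7) 0 gx3) Px3.prs = true := by decide +kernel

theorem lx3 : lowOK Nx3 120 0 Px3 Lx3 = true := by decide +kernel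

theorem pbdx3 (mdl : Mdl D (lapp U0 U1) f H bs) (card : Nat.card H = 174182400) : PBd H 3 1 :=
  have h := (mdl.new (k := 7) (l := 8) (by decide) wx3 (by decide +kernel) (by decide +kernel) qx3)
  h.pbd (h.sameW (k := 7) (by decide)) okx3 (gs := gx3) hx3 px3 lx3 card (by decide) rfl rfl

noncomputable def Wx5 : List (List Nat) := [[(nat_lit 4), (nat_lit 5), (nat_lit 3), (nat_lit 17), (nat_lit 8), (nat_lit 9), (nat_lit 7), (nat_lit 19), (nat_lit 11), (nat_lit 20), (nat_lit 13), (nat_lit 13), (nat_lit 19)],
  [(nat_lit 2), (nat_lit 15), (nat_lit 4), (nat_lit 12), (nat_lit 7), (nat_lit 14), (nat_lit 12), (nat_lit 16), (nat_lit 13), (nat_lit 17), (nat_lit 23)],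
  [(nat_lit 6), (nat_lit 2), (nat_lit 7), (nat_lit 13), (nat_lit 8), (nat_lit 13), (nat_lit 11), (nat_lit 17), (nat_lit 13), (nat_lit 18), (nat_lit 18), (nat_lit 23)],
  [(nat_lit 12), (nat_lit 7), (nat_lit 1), (nat_lit 12), (nat_lit 7), (nat_lit 9), (nat_lit 13), (nat_lit 11), (nat_lit 21), (nat_lit 13), (nat_lit 13), (nat_lit 20)]]

theorem qx5_0 : allFrom (preRow (lapp U0 U1) Nx5 Wx5 120 7) 0 4 = true := by decide +kernel

theorem qx5 : ∀ j < 4, preRow (lapp U0 U1) Nx5 Wx5 120 7 j = true := by
  have h : ∀ j < 0, preRow (lapp U0 U1) Nx5 Wx5 120 7 j = true := by simp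
  have h := forall_lt_add h (allFrom_iff.1 qx5_0)
  exact h

theorem wx5 : wfAll Nx5 120 = true := by decide +kernel

noncomputable def Px5 : Dat := ⟨(nat_lit 5), (nat_lit 2), (nat_lit 7), (nat_lit 4), (nat_lit 7),
  (BT.node (nat_lit 1) (BT.leaf []) (BT.node (nat_lit 2) (BT.leaf [(nat_lit 1)]) (BT.leaf []))),
  [⟨(nat_lit 0), [(nat_lit 0)], [(nat_lit 1), (nat_lit 1), (nat_lit 1)]⟩,
  ⟨(nat_lit 0), [(nat_lit 1)], [(nat_lit 0), (nat_lit 0), (nat_lit 0)]⟩,
  ⟨(nat_lit 1), [(nat_lit 1)], [(nat_lit 0), (nat_lit 0), (nat_lit 0), (nat_lit 0)]⟩,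
  ⟨(nat_lit 1), [(nat_lit 0)], [(nat_lit 1), (nat_lit 1), (nat_lit 1), (nat_lit 1)]⟩]⟩

noncomputable def Xx5_0 : List Test := [⟨(nat_lit 1), [(nat_lit 0), (nat_lit 0), (nat_lit 0), (nat_lit 0), (nat_lit 0)], [], (nat_lit 0x80c0040000000)⟩,
  ⟨(nat_lit 1), [(nat_lit 1), (nat_lit 1), (nat_lit 1), (nat_lit 1), (nat_lit 1)], [], (nat_lit 0x8100030000000)⟩,
  ⟨(nat_lit 2), [(nat_lit 2), (nat_lit 3)], [(nat_lit 3), (nat_lit 2)], (nat_lit 0x6001800000000)⟩]

noncomputable def cx5 : Cert := ⟨Px5, (nat_lit 0), Xx5_0,
  [],
  [(nat_lit 0),
  (nat_lit 0)],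
  (BT.node (nat_lit 1) (BT.leaf (nat_lit 23)) (BT.node (nat_lit 2) (BT.leaf (nat_lit 75)) (BT.leaf (nat_lit 19))))⟩

theorem okx5 : cx5.OK := Cert.ok_of_check (by decide) (by decide +kernel)


noncomputable def Lx5 : List Lvl := [⟨(nat_lit 0), [[(nat_lit 1), (nat_lit 3), (nat_lit 3)],
  [(nat_lit 1), (nat_lit 3), (nat_lit 3)],
  [(nat_lit 1), (nat_lit 3), (nat_lit 3)],
  [(nat_lit 1), (nat_lit 3), (nat_lit 3)],
  [(nat_lit 3)],
  [(nat_lit 3)],
  [(nat_lit 3)],
  [(nat_lit 3)]], (nat_lit 1)⟩]


noncomputable def gx5 : List (List Nat) := [[(nat_lit 5)],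
  [(nat_lit 7)]]

theorem hx5_0 : allFrom (relRow (sameW Nx5 120 7) 0 Px5) 0 2 = true := by decide +kernel

theorem hx5 : ∀ j < 2, relRow (sameW Nx5 120 7) 0 Px5 j = true := by
  have h : ∀ j < 0, relRow (sameW Nx5 120 7) 0 Px5 j = true := by simp
  have h := forall_lt_add h (allFrom_iff.1 hx5_0)
  exact h

theorem px5 : lall (prAt (sameW Nx5 120 7) 0 gx5) Px5.prs = true := by decide +kernel

theorem lx5 : lowOK Nx5 120 0 Px5 Lx5 = true := by decide +kernel

theorem pbdx5 (mdl : Mdl D (lapp U0 U1) f H bs) (card : Nat.card H = 174182400) : PBd H 5 1 :=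
  have h := (mdl.new (k := 7) (l := 4) (by decide) wx5 (by decide +kernel) (by decide +kernel) qx5)
  h.pbd (h.sameW (k := 7) (by decide)) okx5 (gs := gx5) hx5 px5 lx5 card (by decide) rfl rfl

theorem mult (mdl : Mdl D (lapp U0 U1) f H bs) (card : Nat.card H = 174182400) : Nat.card (Mult H) ≤ 4 :=
  card_mult_le (b := 7) (k := 12) card [(2, 4), (3, 1), (5, 1)] (by decide +kernel) (by
    simp only [List.mem_cons, List.not_mem_nil, or_false, forall_eq_or_imp, forall_eq]
    exact ⟨⟨by decide, pbdx2 mdl card⟩, ⟨by decide, pbdx3 mdl card⟩, ⟨by decide, pbdx5 mdl card⟩⟩)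

noncomputable def Wp : List (List Nat) := [[(nat_lit 18), (nat_lit 18), (nat_lit 26)],
  [(nat_lit 25)],
  [(nat_lit 20), (nat_lit 18), (nat_lit 25)],
  [(nat_lit 23)],
  [(nat_lit 15), (nat_lit 15), (nat_lit 20), (nat_lit 23), (nat_lit 26)],
  [(nat_lit 22), (nat_lit 7), (nat_lit 9), (nat_lit 7), (nat_lit 10), (nat_lit 12), (nat_lit 16), (nat_lit 13), (nat_lit 19), (nat_lit 17), (nat_lit 23), (nat_lit 26)],
  [(nat_lit 16), (nat_lit 12), (nat_lit 20), (nat_lit 13), (nat_lit 13), (nat_lit 19), (nat_lit 17), (nat_lit 26)],
  [(nat_lit 13), (nat_lit 3), (nat_lit 2), (nat_lit 7), (nat_lit 16), (nat_lit 8), (nat_lit 15), (nat_lit 12), (nat_lit 14), (nat_lit 17), (nat_lit 23), (nat_lit 25)]]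

theorem qp_0 : allFrom (preRow (lapp U0 U1) Np Wp 120 7) 0 8 = true := by decide +kernel

theorem qp : ∀ j < 8, preRow (lapp U0 U1) Np Wp 120 7 j = true := by
  have h : ∀ j < 0, preRow (lapp U0 U1) Np Wp 120 7 j = true := by simp
  have h := forall_lt_add h (allFrom_iff.1 qp_0)
  exact h

theorem wp : wfAll Np 120 = true := by decide +kernel

theorem ep_0_all : CF.Comp.Cov ep_0_F 4 6 0 := by
  have h := CF.Comp.Cov.zero ep_0_F 4
  have h := h.blk (b := 4) ep_0_k0_0 rfl
  have h := h.next (y := 1) rfl rfl
  have h := h.blk (b := 4) ep_0_k1_0 rfl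
  have h := h.next (y := 2) rfl rfl
  have h := h.blk (b := 4) ep_0_k2_0 rfl
  have h := h.next (y := 3) rfl rfl
  have h := h.blk (b := 4) ep_0_k3_0 rfl
  have h := h.next (y := 4) rfl rfl
  have h := h.blk (b := 4) ep_0_k4_0 rfl
  have h := h.next (y := 5) rfl rfl
  have h := h.blk (b := 4) ep_0_k5_0 rfl
  have h := h.next (y := 6) rfl rfl
  exact h

theorem ep_0 : Enum Rp_0 [] (gensW 4) 48 :=
  ⟨ep_0_cols, ep_0_ch, ep_0_L, ep_0_H, ep_0_pb.1, ep_0_e.get, [(nat_lit 0), (nat_lit 1), (nat_lit 3), (nat_lit 4), (nat_lit 5), (nat_lit 7)], (nat_lit 13), (nat_lit 8), ep_0_rots, ep_0_hcs,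
    (nat_lit 49), (nat_lit 6), (nat_lit 64), (nat_lit 32), (nat_lit 2048), (nat_lit 4095), (nat_lit 8), (nat_lit 255), (nat_lit 15), (nat_lit 32767), (nat_lit 1), (nat_lit 4),
    fun _ _ => rfl, fun _ => rfl, fun _ _ => rfl, by decide +kernel, ep_0_all.1⟩

theorem ep_1_all : CF.Comp.Cov ep_1_F 4 7 0 := by
  have h := CF.Comp.Cov.zero ep_1_F 4
  have h := h.blk (b := 4) ep_1_k0_0 rfl
  have h := h.next (y := 1) rfl rfl
  have h := h.blk (b := 4) ep_1_k1_0 rfl
  have h := h.next (y := 2) rfl rfl
  have h := h.blk (b := 4) ep_1_k2_0 rfl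
  have h := h.next (y := 3) rfl rfl
  have h := h.blk (b := 4) ep_1_k3_0 rfl
  have h := h.next (y := 4) rfl rfl
  have h := h.blk (b := 4) ep_1_k4_0 rfl
  have h := h.next (y := 5) rfl rfl
  have h := h.blk (b := 4) ep_1_k5_0 rfl
  have h := h.next (y := 6) rfl rfl
  have h := h.blk (b := 4) ep_1_k6_0 rfl
  have h := h.next (y := 7) rfl rfl
  exact h

theorem ep_1 : Enum Rp_1 (gensW 4) (gensW 5) 15 :=
  ⟨ep_1_cols, ep_1_ch, ep_1_L, ep_1_H, ep_1_pb.1, ep_1_e.get, [(nat_lit 0), (nat_lit 1), (nat_lit 3), (nat_lit 4), (nat_lit 5), (nat_lit 7), (nat_lit 9)], (nat_lit 29), (nat_lit 8), ep_1_rots, ep_1_hcs,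
    (nat_lit 16), (nat_lit 7), (nat_lit 16), (nat_lit 32), (nat_lit 512), (nat_lit 1023), (nat_lit 8), (nat_lit 255), (nat_lit 13), (nat_lit 8191), (nat_lit 1), (nat_lit 4),
    fun _ _ => rfl, fun _ => rfl, fun _ _ => rfl, by decide +kernel, ep_1_all.1⟩

theorem ep_2_all : CF.Comp.Cov ep_2_F 4 8 0 := by
  have h := CF.Comp.Cov.zero ep_2_F 4
  have h := h.blk (b := 4) ep_2_k0_0 rfl
  have h := h.next (y := 1) rfl rfl
  have h := h.blk (b := 4) ep_2_k1_0 rfl
  have h := h.next (y := 2) rfl rfl
  have h := h.blk (b := 4) ep_2_k2_0 rfl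
  have h := h.next (y := 3) rfl rfl
  have h := h.blk (b := 4) ep_2_k3_0 rfl
  have h := h.next (y := 4) rfl rfl
  have h := h.blk (b := 4) ep_2_k4_0 rfl
  have h := h.next (y := 5) rfl rfl
  have h := h.blk (b := 4) ep_2_k5_0 rfl
  have h := h.next (y := 6) rfl rfl
  have h := h.blk (b := 4) ep_2_k6_0 rfl
  have h := h.next (y := 7) rfl rfl
  have h := h.blk (b := 4) ep_2_k7_0 rfl
  have h := h.next (y := 8) rfl rfl
  exact h

theorem ep_2 : Enum Rp_2 (gensW 5) (gensW 6) 32 :=
  ⟨ep_2_cols, ep_2_ch, ep_2_L, ep_2_H, ep_2_pb.1, ep_2_e.get, [(nat_lit 0), (nat_lit 1), (nat_lit 3), (nat_lit 4), (nat_lit 5), (nat_lit 7), (nat_lit 9), (nat_lit 11)], (nat_lit 61), (nat_lit 8), ep_2_rots, ep_2_hcs,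
    (nat_lit 33), (nat_lit 8), (nat_lit 64), (nat_lit 64), (nat_lit 4096), (nat_lit 4095), (nat_lit 8), (nat_lit 255), (nat_lit 17), (nat_lit 131071), (nat_lit 1), (nat_lit 4),
    fun _ _ => rfl, fun _ => rfl, fun _ _ => rfl, by decide +kernel, ep_2_all.1⟩

theorem ep_3_all : CF.Comp.Cov ep_3_F 4 9 0 := by
  have h := CF.Comp.Cov.zero ep_3_F 4
  have h := h.blk (b := 4) ep_3_k0_0 rfl
  have h := h.next (y := 1) rfl rfl
  have h := h.blk (b := 4) ep_3_k1_0 rfl
  have h := h.next (y := 2) rfl rfl
  have h := h.blk (b := 4) ep_3_k2_0 rfl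
  have h := h.next (y := 3) rfl rfl
  have h := h.blk (b := 4) ep_3_k3_0 rfl
  have h := h.next (y := 4) rfl rfl
  have h := h.blk (b := 4) ep_3_k4_0 rfl
  have h := h.next (y := 5) rfl rfl
  have h := h.blk (b := 4) ep_3_k5_0 rfl
  have h := h.next (y := 6) rfl rfl
  have h := h.blk (b := 4) ep_3_k6_0 rfl
  have h := h.next (y := 7) rfl rfl
  have h := h.blk (b := 4) ep_3_k7_0 rfl
  have h := h.next (y := 8) rfl rfl
  have h := h.blk (b := 4) ep_3_k8_0 rfl
  have h := h.next (y := 9) rfl rfl
  exact h

theorem ep_3 : Enum Rp_3 (gensW 6) (gensW 7) 63 :=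
  ⟨ep_3_cols, ep_3_ch, ep_3_L, ep_3_H, ep_3_pb.1, ep_3_e.get, [(nat_lit 0), (nat_lit 1), (nat_lit 3), (nat_lit 4), (nat_lit 5), (nat_lit 7), (nat_lit 9), (nat_lit 11), (nat_lit 13)], (nat_lit 125), (nat_lit 8), ep_3_rots, ep_3_hcs,
    (nat_lit 64), (nat_lit 9), (nat_lit 64), (nat_lit 128), (nat_lit 8192), (nat_lit 4095), (nat_lit 8), (nat_lit 255), (nat_lit 18), (nat_lit 262143), (nat_lit 1), (nat_lit 4),
    fun _ _ => rfl, fun _ => rfl, fun _ _ => rfl, by decide +kernel, ep_3_all.1⟩

theorem ep_4_all : CF.Comp.Cov ep_4_F 4 10 0 := by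
  have h := CF.Comp.Cov.zero ep_4_F 4
  have h := h.blk (b := 4) ep_4_k0_0 rfl
  have h := h.next (y := 1) rfl rfl
  have h := h.blk (b := 4) ep_4_k1_0 rfl
  have h := h.next (y := 2) rfl rfl
  have h := h.blk (b := 4) ep_4_k2_0 rfl
  have h := h.next (y := 3) rfl rfl
  have h := h.blk (b := 4) ep_4_k3_0 rfl
  have h := h.next (y := 4) rfl rfl
  have h := h.blk (b := 4) ep_4_k4_0 rfl
  have h := h.next (y := 5) rfl rfl
  have h := h.blk (b := 4) ep_4_k5_0 rfl
  have h := h.next (y := 6) rfl rfl
  have h := h.blk (b := 4) ep_4_k6_0 rfl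
  have h := h.next (y := 7) rfl rfl
  have h := h.blk (b := 4) ep_4_k7_0 rfl
  have h := h.next (y := 8) rfl rfl
  have h := h.blk (b := 4) ep_4_k8_0 rfl
  have h := h.next (y := 9) rfl rfl
  have h := h.blk (b := 4) ep_4_k9_0 rfl
  have h := h.next (y := 10) rfl rfl
  exact h

theorem ep_4 : Enum relsp (gensW 7) (gensW 8) 120 :=
  ⟨ep_4_cols, ep_4_ch, ep_4_L, ep_4_H, ep_4_pb.1, ep_4_e.get, [(nat_lit 0), (nat_lit 1), (nat_lit 3), (nat_lit 4), (nat_lit 5), (nat_lit 7), (nat_lit 9), (nat_lit 11), (nat_lit 13), (nat_lit 15)], (nat_lit 253), (nat_lit 8), ep_4_rots, ep_4_hcs,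
    (nat_lit 121), (nat_lit 10), (nat_lit 128), (nat_lit 128), (nat_lit 16384), (nat_lit 8191), (nat_lit 8), (nat_lit 255), (nat_lit 20), (nat_lit 1048575), (nat_lit 1), (nat_lit 4),
    fun _ _ => rfl, fun _ => rfl, fun _ _ => rfl, by decide +kernel, ep_4_all.1⟩

theorem bndp {K : Type*} [Group K] {g : ℕ → K} (hr : ∀ r ∈ relsp, ev g r = 1) : Bound g (gensW 8) 174182400 :=
  (ep_4.bound (rels_sub hr (by decide +kernel))
    (ep_3.bound (rels_sub hr (by decide +kernel))
    (ep_2.bound (rels_sub hr (by decide +kernel))
    (ep_1.bound (rels_sub hr (by decide +kernel))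
    (ep_0.bound (rels_sub hr (by decide +kernel))
    (bound_nil _))))))

theorem mp (mdl : Mdl D (lapp U0 U1) f H bs) (card : Nat.card H = 174182400) : type_of% (mdl.new (k := 7) (l := 8) (by decide) wp (by decide +kernel) (by decide +kernel) qp) := (mdl.new (k := 7) (l := 8) (by decide) wp (by decide +kernel) (by decide +kernel) qp)

noncomputable def Sp : List Lvl := [⟨(nat_lit 0), [[(nat_lit 15)],
  [(nat_lit 13)],
  [(nat_lit 11)],
  [(nat_lit 9)],
  [(nat_lit 7)],
  [(nat_lit 5)],
  [(nat_lit 3)],
  [(nat_lit 1)]], (nat_lit 4)⟩,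
  ⟨(nat_lit 2), [[(nat_lit 13)],
  [(nat_lit 11)],
  [(nat_lit 9)],
  [(nat_lit 7)],
  [(nat_lit 5)],
  [(nat_lit 3)],
  [(nat_lit 1)]], (nat_lit 5)⟩,
  ⟨(nat_lit 1), [[(nat_lit 11)],
  [(nat_lit 9)],
  [(nat_lit 7)],
  [(nat_lit 5)],
  [(nat_lit 3)],
  [(nat_lit 1)]], (nat_lit 5)⟩,
  ⟨(nat_lit 3), [[(nat_lit 9)],
  [(nat_lit 7)],
  [(nat_lit 5)],
  [(nat_lit 3)],
  [(nat_lit 1)]], (nat_lit 3)⟩,
  ⟨(nat_lit 19), [[(nat_lit 7)],
  [(nat_lit 5)],
  [(nat_lit 3)],
  [(nat_lit 1)]], (nat_lit 2)⟩,
  ⟨(nat_lit 4), [[(nat_lit 1)],
  [(nat_lit 3), (nat_lit 1), (nat_lit 5), (nat_lit 3), (nat_lit 7)]], (nat_lit 1)⟩]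


theorem rp_0 : allFrom (relNo (sameW Np 120 7) relsp) 0 35 = true := by decide +kernel

theorem rp : ∀ j < 35, relNo (sameW Np 120 7) relsp j = true := by
  have h : ∀ j < 0, relNo (sameW Np 120 7) relsp j = true := by simp
  have h := forall_lt_add h (allFrom_iff.1 rp_0)
  exact h

theorem presp (mdl : Mdl D (lapp U0 U1) f H bs) (card : Nat.card H = 174182400) : Presents relsp 8 fun i => (⟨_, (mp mdl card).mem i⟩ : H) :=
  ((mp mdl card).presents ((mp mdl card).sameW (k := 7) (by decide)) (bndp (ug_rels _)) rp (by decide +kernel) (ch := Sp) card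
    (by decide) (by decide +kernel))

noncomputable def Lc2 : LD := ⟨Kc2, (nat_lit 0), Ac2, Bc2⟩

noncomputable def Tc2 : List (List Nat) := [[(nat_lit 19)],
  [(nat_lit 17)],
  [(nat_lit 19)],
  [(nat_lit 19)],
  [(nat_lit 19)],
  [(nat_lit 19)],
  [(nat_lit 19)],
  [(nat_lit 19)],
  [(nat_lit 19)],
  [(nat_lit 17)],
  [(nat_lit 19)],
  [(nat_lit 19)],
  [(nat_lit 19)],
  [(nat_lit 17), (nat_lit 19)],
  [(nat_lit 17), (nat_lit 19)],
  [(nat_lit 19)],
  [(nat_lit 19)],
  [(nat_lit 19)],
  [(nat_lit 19)],
  [(nat_lit 19)],
  [],
  [(nat_lit 19)],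
  [(nat_lit 19)],
  [(nat_lit 19)],
  [(nat_lit 19)],
  [(nat_lit 17)],
  [],
  [(nat_lit 19)],
  [(nat_lit 19)],
  [],
  [],
  [],
  [],
  [],
  []]

noncomputable def Uc2 : List (List Nat) := [[(nat_lit 56), (nat_lit 69), (nat_lit 41), (nat_lit 59), (nat_lit 20), (nat_lit 1), (nat_lit 1), (nat_lit 6), (nat_lit 7), (nat_lit 7), (nat_lit 21), (nat_lit 21), (nat_lit 21), (nat_lit 21), (nat_lit 31), (nat_lit 43), (nat_lit 43), (nat_lit 58), (nat_lit 58), (nat_lit 58)],
  [(nat_lit 10), (nat_lit 1), (nat_lit 5)]]

theorem wc2 : Wf 240 Kc2 := wf_of_wfAll (by decide +kernel)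

theorem rc2_0 : allFrom (tailAt (lsame ar2 Lc2 (sameA Kc2 240 8)) relsp Tc2) 0 35 = true := by decide +kernel

theorem rc2 : ∀ j < 35, tailAt (lsame ar2 Lc2 (sameA Kc2 240 8)) relsp Tc2 j = true := by
  have h : ∀ j < 0, tailAt (lsame ar2 Lc2 (sameA Kc2 240 8)) relsp Tc2 j = true := by simp
  have h := forall_lt_add h (allFrom_iff.1 rc2_0)
  exact h

theorem cc2 : covOK (lsame ar2 Lc2 (sameA Kc2 240 8)) 8 2 relsp Tc2 Uc2 = true := by decide +kernel

theorem domc2 (mdl : Mdl D (lapp U0 U1) f H bs) (card : Nat.card H = 174182400) : Dom H (Multiplicative (ZMod 2 × ZMod 2)) :=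
  dom_lab2 (L := Lc2) (presp mdl card) wc2 (pf_of_sameA wc2 (k := 8) (by decide)) (by decide +kernel) (by decide +kernel) cc2 rc2
    120 (by decide +kernel)

theorem schur (mdl : Mdl D (lapp U0 U1) f H bs) (card : Nat.card H = 174182400) :
    HasSchurMultiplier H (Multiplicative (ZMod 2 × ZMod 2)) :=
  (domc2 mdl card).hasSchur ((mult mdl card).trans (by simp))

theorem schur_of {K : Type*} [Group K] (h : HasReps K 120 U0 2) (hc : Nat.card K = 174182400) :
    HasSchurMultiplier K (Multiplicative (ZMod 2 × ZMod 2)) :=
  schur_of_reps chU h hc (by decide) schur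

end CF.Schur.O82
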