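import Cfsg.Agent.Schur.Mdl

/-! Normal forms in polycyclic groups. -/

set_option autoImplicit false

namespace CF.Schur.Pc

open CF.Comp

variable {Γ : Type*} [Group Γ] {P : Dat} {y : ℕ → Γ}

theorem exists_step [Finite Γ] {K : Subgroup Γ} {y : Γ} {p : ℕ} (hp : 0 < p) (h1 : ∀ k ∈ K, y⁻¹ * k * y ∈ K)
    (h2 : y ^ p ∈ K) {S : Set Γ} (hS : ∀ s ∈ S, s = y ∨ s ∈ K) {g : Γ} (hg : g ∈ Subgroup.closure S) :
    ∃ a < p, ∃ k ∈ K, g = y ^ a * k := by
  have h3 : ∀ (b : ℕ), ∀ k ∈ K, (y ^ b)⁻¹ * k * y ^ b ∈ K := by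
    intro b
    induction b with
    | zero => simp
    | succ b ih =>
      intro k hk
      have := h1 _ (ih k hk)
      rwa [show y⁻¹ * ((y ^ b)⁻¹ * k * y ^ b) * y = (y ^ (b + 1))⁻¹ * k * y ^ (b + 1) by group] at this
  let M : Submonoid Γ :=
    { carrier := {g | ∃ b : ℕ, ∃ k ∈ K, g = y ^ b * k}
      one_mem' := ⟨0, 1, K.one_mem, by simp⟩
      mul_mem' := by
        rintro _ _ ⟨a, k, hk, rfl⟩ ⟨b, l, hl, rfl⟩
        exact ⟨a + b, _, K.mul_mem (h3 b k hk) hl, by group⟩ }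
  have h4 : g ∈ Submonoid.closure S := by
    rw [← Subgroup.closure_toSubmonoid_of_finite]
    exact hg
  have h5 : S ⊆ M := fun s hs => (hS s hs).elim
    (fun e => ⟨1, 1, K.one_mem, by simp [e]⟩) fun h => ⟨0, s, h, by simp⟩
  obtain ⟨b, k, hk, e⟩ : g ∈ M := (Submonoid.closure_le (S := M)).2 h5 h4
  exact ⟨b % p, Nat.mod_lt _ hp, _, K.mul_mem (K.pow_mem h2 (b / p)) hk, by
    rw [e, ← pow_mul, ← mul_assoc, ← pow_add, Nat.mod_add_div]⟩

theorem Rel.tab_mem (hw : WF P) {i j : ℕ} (h1 : i ≤ j) (h2 : j < P.n) :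
    pv y (P.tab.get (idx i j)) ∈ gen P.n y (i + 1) :=
  pv_mem fun a ha => mem_gen y (hw.tab i j h1 h2 a ha).1 (hw.tab i j h1 h2 a ha).2

theorem Rel.conj_mem (h : Rel P y) (hw : WF P) (i : ℕ) :
    ∀ k ∈ gen P.n y (i + 1), (y i)⁻¹ * k * y i ∈ gen P.n y (i + 1) := by
  intro k hk
  have : gen P.n y (i + 1) ≤ (gen P.n y (i + 1)).comap (MulAut.conj (y i)⁻¹).toMonoidHom := by
    rw [gen, Subgroup.closure_le]
    rintro _ ⟨j, ⟨h1, h2⟩, rfl⟩
    show (y i)⁻¹ * y j * (y i)⁻¹⁻¹ ∈ gen P.n y (i + 1)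
    rw [inv_inv, mul_assoc, h.conj i j h1 h2, inv_mul_cancel_left]
    exact Rel.tab_mem hw (by omega) h2
  simpa using this hk

theorem Rel.exists_step [Finite Γ] (h : Rel P y) (hw : WF P) (hp : 0 < P.p) {i : ℕ} (hi : i < P.n) {g : Γ}
    (hg : g ∈ gen P.n y i) : ∃ a < P.p, ∃ k ∈ gen P.n y (i + 1), g = y i ^ a * k :=
  Pc.exists_step hp (h.conj_mem hw i) (h.pow i hi ▸ Rel.tab_mem hw le_rfl hi) (by
    rintro _ ⟨j, ⟨h1, h2⟩, rfl⟩
    rcases h1.eq_or_lt with rfl | h1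
    exacts [Or.inl rfl, Or.inr (mem_gen y h1 h2)]) hg

theorem gen_top (n : ℕ) (y : ℕ → Γ) : gen n y n = ⊥ := by
  rw [gen, Subgroup.closure_eq_bot_iff]
  rintro _ ⟨j, ⟨h1, h2⟩, rfl⟩
  omega

/-- the normal words in the generators `i, …, i + d - 1` -/
def nfs (p : ℕ) : ℕ → ℕ → List (List ℕ)
  | 0, _ => [[]]
  | d + 1, i => (List.range p).flatMap fun a => (nfs p d (i + 1)).map (List.replicate a i ++ ·)

theorem Rel.exists_nf [Finite Γ] (h : Rel P y) (hw : WF P) (hp : 0 < P.p) (d : ℕ) :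
    ∀ i, i + d = P.n → ∀ g ∈ gen P.n y i, ∃ w ∈ nfs P.p d i, g = pv y w := by
  induction d with
  | zero =>
    rintro _ rfl g hg
    exact ⟨[], by simp [nfs], by simpa [gen_top] using hg⟩
  | succ d ih =>
    intro i hi g hg
    obtain ⟨a, ha, k, hk, rfl⟩ := h.exists_step hw hp (by omega) hg
    obtain ⟨w, hw', rfl⟩ := ih (i + 1) (by omega) k hk
    exact ⟨List.replicate a i ++ w, by simpa [nfs] using ⟨a, ha, w, hw', rfl⟩, by rw [pv_append, pv_replicate]⟩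

/-- all normal words but the empty one are conjugate to `c` -/
noncomputable def cjAll (same : List ℕ → List ℕ → Bool) (o : ℕ) (P : Dat) (c : List ℕ) (xs : List (List ℕ)) : Bool :=
  allFrom (fun j => same (lapp (nth [] xs j) (lw o (nth [] (nfs P.p P.n 0) (j + 1)))) (lapp c (nth [] xs j))) 0
    (P.p ^ P.n - 1)

theorem length_nfs (p d i : ℕ) : (nfs p d i).length = p ^ d := by
  induction d generalizing i with
  | zero => rfl
  | succ d ih => simp [nfs, ih, pow_succ']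

theorem nth_nfs_zero {p : ℕ} (hp : 0 < p) (d i : ℕ) : nth [] (nfs p d i) 0 = [] := by
  induction d generalizing i with
  | zero => rfl
  | succ d ih =>
    obtain ⟨p, rfl⟩ : ∃ q, p = q + 1 := ⟨p - 1, by omega⟩
    have h := ih (i + 1)
    have h1 := length_nfs (p + 1) d (i + 1)
    rw [nfs, List.range_succ_eq_map, List.flatMap_cons]
    generalize nfs (p + 1) d (i + 1) = L at h h1
    cases L with
    | nil => exact absurd h1 (by positivity : (p + 1) ^ d ≠ 0).symm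
    | cons a L => exact h

theorem conj_of_cjAll [Finite Γ] {f : ℕ → Γ} {same : List ℕ → List ℕ → Bool}
    (hs : ∀ u w, same u w = true → ev f u = ev f w) {o : ℕ} (h : ∀ j < P.n, relRow same o P j = true)
    (hw : P.wf = true) (hp : 0 < P.p) {c : List ℕ} {xs : List (List ℕ)} (hc : cjAll same o P c xs = true) {g : Γ}
    (hg : g ∈ gen P.n (fun i => f (o + i)) 0) (h1 : g ≠ 1) : ∃ x, ev f x * g * (ev f x)⁻¹ = ev f c := by
  obtain ⟨w, hw', rfl⟩ := (rel_of_relRow hs h).exists_nf (wf_of hw) hp _ 0 (Nat.zero_add _) g hg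
  obtain ⟨j, hj, rfl⟩ := exists_nth_of_mem [] hw'
  cases j with
  | zero => exact absurd (by rw [nth_nfs_zero hp, pv_nil]) h1
  | succ j =>
    have := hs _ _ (allFrom_zero.1 hc j (by rw [length_nfs] at hj; omega))
    rw [ev_lapp, ev_lapp, ev_lw] at this
    exact ⟨_, by rw [this, mul_inv_cancel_right]⟩

theorem ev_sub {f : ℕ → Γ} {H : Subgroup Γ} (hm : ∀ i, f i ∈ H) (w : List ℕ) :
    ev (fun i => (⟨f i, hm i⟩ : H)) w = ⟨ev f w, ev_mem hm w⟩ :=
  Subtype.ext (map_ev H.subtype _ w)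

theorem Mdl.exists_cj {Ω : Type*} [MulAction Γ Ω] {n : ℕ} {D : CF.Comp.Dom Ω n} {nets : List Net} {f : ℕ → Γ}
    {H : Subgroup Γ} [Finite H] {bs : List ℕ} (h : Mdl D nets f H bs) {same : List ℕ → List ℕ → Bool}
    (hs : ∀ u w, same u w = true → ev f u = ev f w) {o : ℕ} (h1 : allFrom (relRow same o P) 0 P.n = true)
    (hw : P.wf = true) (hp : 0 < P.p) {ch : List Lvl} (hl : lowOK nets n o P ch = true) {c : List ℕ}
    {xs : List (List ℕ)} (hc : cjAll same o P c xs = true) :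
    ∃ X : Subgroup H, Nat.card X = P.p ^ P.n ∧ ∀ g ∈ X, g ≠ 1 → ∃ x, x * g * x⁻¹ = ⟨ev f c, ev_mem h.mem c⟩ := by
  have hs' : ∀ u w, same u w = true → ev (fun i => (⟨f i, h.mem i⟩ : H)) u = ev (fun i => (⟨f i, h.mem i⟩ : H)) w :=
    fun u w e => by simp only [ev_sub, hs u w e]
  refine ⟨_, le_antisymm ((rel_of_relRow hs' (allFrom_zero.1 h1)).card_le (wf_of hw) hp)
    (low_sub h.reps h.lt hl h.mem), fun g hg g1 => ?_⟩
  obtain ⟨x, e⟩ := conj_of_cjAll hs' (allFrom_zero.1 h1) hw hp hc hg g1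
  exact ⟨_, e.trans (ev_sub h.mem c)⟩

end CF.Schur.Pc
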