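import Cfsg.Agent.Schur.MT
import Cfsg.Agent.Schur.MTD
import Cfsg.Agent.Schur.Mat
import Cfsg.Agent.Schur.Nf

/-! Extensions of `M₂₃` by the code module split; the non-split extension by the cocode module is unique. -/

set_option autoImplicit false
set_option maxRecDepth 100000
set_option maxHeartbeats 400000

namespace CF.Schur.M23T

open CF.Comp CF.Comp.Mat CF.Schur.Mat CF.Schur.MT Cfsg Cfsg.Spor Function Finset
open CF.Leech hiding brec_and beq_iff ble_iff
open CF.Schur.Pc hiding idx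

theorem reps : Reps D0 NT (el NT) := reps_el (by decide +kernel)

theorem mem : ∀ i, el NT i ∈ M23 := el_mem (m := 11) rfl (mem_M23_of reps (by decide +kernel) (by decide +kernel))

/-- the generators of a Sylow 2-subgroup and four more elements -/
noncomputable def f (i : ℕ) : M23 := ⟨el NT i, mem i⟩

theorem rels_one : ∀ r ∈ rels, ev f r = 1 := fun r hr => (ev_sub mem r).trans (Subtype.ext
  (rels_of_relNo (same_el reps) (allFrom_zero.1 (by decide +kernel)) r hr))

theorem low {g : ℕ → M23} (h : ∀ i, g i = f i) : PM23x2.p ^ PM23x2.n ≤ Nat.card (gen PM23x2.n g 0) := by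
  have := low_sub reps (by decide) (o := 0) (P := PM23x2) (c := LM23x2) (by decide +kernel) mem
  simp only [zero_add] at this
  rwa [funext h]

theorem tab : allFrom (relRow (inRels (rels.take 28)) 0 PM23x2) 0 PM23x2.n = true := by decide +kernel

theorem of_take {r : List ℕ} (h : r ∈ rels.take 28) : ∃ j < 28, nth [] rels j = r := by
  obtain ⟨j, hj, rfl⟩ := List.getElem_of_mem h
  rw [List.length_take] at hj
  exact ⟨j, by omega, by rw [nth_eq_getD, List.getD_eq_getElem _ _ (by omega), List.getElem_take]⟩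

theorem evL_f (x : ℕ) {j : ℕ} (hj : j < 24) : (evL f x : M23).1 (pt j) = pt (appW NT [x] j) := by
  have := reps.smul_pt [x] hj
  rwa [← show (ev f [x] : M23).1 = ev (el NT) [x] from congrArg Subtype.val (ev_sub mem _), ev_cons, ev_nil,
    mul_one] at this

theorem lt_of_lall {As : List (List ℕ)} (h : lall (lall fun a => Nat.ble a 2047) As = true) (x k : ℕ) :
    nth 0 (nth [] As x) k < 2 ^ 11 := by
  rcases nth_mem_or 0 (nth [] As x) k with h1 | h1
  · rcases nth_mem_or [] As x with h2 | h2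
    · exact Nat.lt_succ_of_le (ble_iff.1 (lall_iff.1 (lall_iff.1 h _ h2) _ h1))
    · simp [h2] at h1
  · simp [h1]

variable {E : Type*} [Group E] {N : Subgroup E} [hN : N.Normal]

/-- the projection to `M₂₃` -/
def pr (φ : E ⧸ N ≃* M23) : E →* M23 := φ.toMonoidHom.comp (QuotientGroup.mk' N)

theorem pr_surj (φ : E ⧸ N ≃* M23) : Surjective (pr φ) := φ.surjective.comp QuotientGroup.mk_surjective

theorem pr_ker (φ : E ⧸ N ≃* M23) : (pr φ).ker = N := by
  ext
  simp [pr]

theorem pr_evL {φ : E ⧸ N ≃* M23} {y : ℕ → E} (hy : ∀ i, pr φ (y i) = f i) (x : ℕ) :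
    φ (QuotientGroup.mk (evL y x)) = evL f x :=
  (map_evL (pr φ) y x).trans (by simp only [hy])

theorem exists_cor (φ : E ⧸ N ≃* M23) {κ : E → ℕ → ZMod 2} {As Cs co : List (List ℕ)} {Xs : List (List ℕ × List ℕ)}
    {ε : ℕ} {τ : List ℕ} (h : ∀ y : ℕ → E, (∀ i, pr φ (y i) = f i) → Mod N κ 11 y 11 As)
    (hX : lall (idOK As rels 11 11) Xs = true)
    (hc : allFrom (corOK As rels Cs 11 11 (Xs.flatMap Prod.snd) ε τ co) 0 28 = true) :
    ∃ (x : ℕ → E) (e : ZMod 2), (∀ i, pr φ (x i) = f i) ∧ ∀ j < 28, ev x (nth [] rels j) ∈ N ∧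
      ∀ k < 11, κ (ev x (nth [] rels j)) k = if (nth 0 τ j).testBit k then e else 0 := by
  choose y hy using fun i => pr_surj φ (f i)
  obtain ⟨x, e, h2, h3⟩ := (h y hy).exists_cor (fun r hr => (pr_ker φ).le (show pr φ _ = 1 by
    simpa only [map_ev, hy] using rels_one r hr)) (lall_iff.1 hX) (allFrom_zero.1 hc)
  refine ⟨x, e, fun i => ?_, h3⟩
  obtain ⟨n, hn, e⟩ := h2 i
  rw [e, map_mul, hy, (pr_ker φ).ge hn, mul_one]

theorem not_dvd : ¬ PM23x2.p ^ (PM23x2.n + 1) ∣ Nat.card M23 := by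
  rw [card_M23]
  decide

theorem split [Finite E] (φ : E ⧸ N ≃* M23) {κ : E → ℕ → ZMod 2} {As : List (List ℕ)} {x : ℕ → E}
    (h : Mod N κ 11 x 11 As) (hx : ∀ i, pr φ (x i) = f i)
    (hr : ∀ j < 28, ev x (nth [] rels j) ∈ N ∧ ∀ k < 11, κ (ev x (nth [] rels j)) k = 0) :
    ∃ H : Subgroup E, H ⊓ N = ⊥ ∧ H ⊔ N = ⊤ := by
  have hk := pr_ker φ
  have : IsMulCommutative (pr φ).ker := ⟨⟨fun a b => Subtype.ext (h.ext (hk.le (a * b).2) (hk.le (b * a).2) fun k hk' =>
    (h.mul _ (hk.le a.2) _ (hk.le b.2) k hk').trans ((add_comm ..).trans (h.mul _ (hk.le b.2) _ (hk.le a.2) k hk').symm))⟩⟩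
  refine hk ▸ split_of_rel (pr_surj φ) (P := PM23x2) Nat.prime_two (fun a => ⟨1, Subtype.ext ?_⟩)
    (rel_of_inRels (fun r h' => ?_) tab) (wf_of (by decide +kernel)) (low hx) not_dvd
  · show a.1 ^ 2 = 1
    exact h.inj _ (N.pow_mem (hk.le a.2) _) fun k hk' => by
      rw [sq, h.mul _ (hk.le a.2) _ (hk.le a.2) k hk', CharTwo.add_self_eq_zero]
  · obtain ⟨j, hj, rfl⟩ := of_take h'
    exact h.inj _ (hr j hj).1 (hr j hj).2

theorem dot_sum {ι : Type*} [Fintype ι] (d r : ℕ) (w : ι → ZMod 2) (M : ι → ℕ → ZMod 2) :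
    dot d (fun l => ∑ p, w p * M p l) r = ∑ p, w p * dot d (M p) r := by
  simp only [dot, mul_sum, mul_ite, mul_zero]
  rw [sum_comm]
  exact sum_congr rfl fun k _ => by split_ifs <;> simp

theorem coord {w : GolayPt → ZMod 2} (hw : w ∈ golayCode) {j : ℕ} (hj : j < 24) :
    w (pt j) = dot 11 (fun l => w (pt l)) (nth 0 R j) + w none * (1 + dot 11 (fun _ => 1) (nth 0 R j)) := by
  induction hw using Submodule.span_induction with
  | mem v hv =>
    rcases hv with ⟨a, rfl⟩ | rfl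
    · exact ((by decide +kernel : ∀ a, ∀ j < 24, qrWord a (pt j) = dot 11 (fun l => qrWord a (pt l)) (nth 0 R j)) a j
        hj).trans (by simp [qrWord])
    · simp [CharTwo.add_cancel_left, add_comm (1 : ZMod 2)]
  | zero => simp [dot]
  | add a b _ _ ha hb =>
    rw [Pi.add_apply, ha, hb, Pi.add_apply, add_mul, add_add_add_comm, dot, dot, ← sum_add_distrib]
    exact congrArg (· + _) (sum_congr rfl fun k _ => by split_ifs <;> simp)
  | smul c a _ ha =>
    rcases zmod2_cases c with rfl | rfl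
    exacts [by simp [dot], by rwa [one_smul]]

open Classical in
theorem split_code [Finite E] (φ : E ⧸ N ≃* M23) (ψ : Additive N →+ (GolayPt → ZMod 2)) (hinj : Injective ψ)
    (hr : ∀ w, w ∈ Set.range ψ ↔ w ∈ golayCode ∧ w none = 0)
    (hψ : ∀ (g : E) (n : N), ψ (Additive.ofMul ⟨g * n * g⁻¹, hN.conj_mem n n.2 g⟩) =
      ψ (Additive.ofMul n) ∘ ⇑((φ (QuotientGroup.mk g) : M23) : Equiv.Perm GolayPt)⁻¹) :
    ∃ H : Subgroup E, H ⊓ N = ⊥ ∧ H ⊔ N = ⊤ := by
  have h1 : ∀ n, ∀ j < 24, ψ n (pt j) = dot 11 (fun l => ψ n (pt l)) (nth 0 R j) := fun n j hj => by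
    have := (hr _).1 ⟨n, rfl⟩
    rw [coord this.1 hj, this.2, zero_mul, add_zero]
  have h : ∀ y : ℕ → E, (∀ i, pr φ (y i) = f i) →
      Mod N (fun e k => if h : e ∈ N then ψ (Additive.ofMul ⟨e, h⟩) (pt k) else 0) 11 y 11 Ac := fun y hy => by
    refine ⟨hN, fun a ha b hb k _ => ?_, fun a ha h => ?_, fun v => ?_, lt_of_lall (by decide +kernel),
      fun x hx a ha k hk => ?_⟩
    · rw [dif_pos ha, dif_pos hb, dif_pos (N.mul_mem ha hb), ← Pi.add_apply, ← map_add]
      rfl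
    · simp only [dif_pos ha] at h
      refine congrArg (fun n : Additive N => (n.toMul : E)) (hinj (a₁ := Additive.ofMul ⟨a, ha⟩) (a₂ := 0) ?_)
      rw [map_zero]
      exact funext (forall_pt.2 fun j hj => (h1 _ j hj).trans ((dot_congr h _).trans (by simp [dot])))
    · have h2 : ∀ k < 11, isCode (nth 0 B k) = true ∧ word (ofMask (nth 0 B k)) none = 0 ∧
          ∀ l < 11, word (ofMask (nth 0 B k)) (pt l) = if k = l then 1 else 0 := by decide +kernel
      obtain ⟨n, hn⟩ := (hr (∑ k ∈ range 11, v k • word (ofMask (nth 0 B k)))).2 ⟨golayCode.sum_mem fun k hk =>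
        golayCode.smul_mem _ (mem_CS_iff_word.1 (ofMask_mem_CS (h2 k (mem_range.1 hk)).1)),
        (Finset.sum_apply ..).trans (sum_eq_zero fun k hk => by simp [(h2 k (mem_range.1 hk)).2.1])⟩
      refine ⟨n.toMul, n.toMul.2, fun l hl => ?_⟩
      rw [dif_pos n.toMul.2]
      refine (congrFun hn _).trans ((Finset.sum_apply ..).trans ((sum_congr rfl fun k hk => by
        rw [Pi.smul_apply, (h2 k (mem_range.1 hk)).2.2 l hl]).trans ?_))
      simp [hl]
    · simp only [dif_pos ha, dif_pos (hN.conj_mem a ha _)]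
      rw [hψ _ ⟨a, ha⟩, pr_evL hy, ← Subgroup.coe_inv, ← evL_linv, comp_apply, evL_f _ (by omega),
        h1 _ _ (reps.appW_lt _ (by omega)), (by decide +kernel : ∀ x < 22, ∀ k < 11,
          nth 0 R (appW NT [linv (x + 1)] k) = nth 0 (nth [] Ac x) k) x hx k hk]
  obtain ⟨x, e, hx, h2⟩ := exists_cor φ (τ := []) (ε := 0) (Cs := Cc) (co := Kc) (Xs := Xc) h (by decide +kernel)
    (by decide +kernel)
  exact split φ (h x hx) hx fun j hj => ⟨(h2 j hj).1, fun k hk => ((h2 j hj).2 k hk).trans (by simp [nth])⟩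

/-- reduction to the first eleven coordinates -/
noncomputable def M (p : GolayPt) (l : ℕ) : ZMod 2 := if (nth 0 R (idx p)).testBit l then 1 else 0

/-- coordinates on the cocode -/
noncomputable def lam : (GolayPt → ZMod 2) →+ ℕ → ZMod 2 :=
  AddMonoidHom.mk' (fun w l => ∑ p, w p * M p l) fun a b => by
    ext
    simp [add_mul, sum_add_distrib]

theorem lam_apply (w : GolayPt → ZMod 2) (l : ℕ) : lam w l = ∑ p, w p * M p l := rfl

theorem lam_single (p : GolayPt) : lam (Pi.single p 1) = M p := by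
  ext
  simp [lam_apply, Pi.single_apply, -Fintype.sum_option]

theorem lam_code {w : GolayPt → ZMod 2} (hw : w ∈ golayCode) {k : ℕ} (hk : k < 11) : lam w k = 0 := by
  induction hw using Submodule.span_induction with
  | mem v hv =>
    rcases hv with ⟨a, rfl⟩ | rfl
    · exact (by decide +kernel : ∀ a, ∀ k < 11, ∑ p, qrWord a p * M p k = 0) a k hk
    · exact (by decide +kernel : ∀ k < 11, ∑ p, 1 * M p k = 0) k hk
  | zero => simp
  | add a b _ _ ha hb => simp [ha, hb]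
  | smul c a _ ha => rcases zmod2_cases c with rfl | rfl <;> simp [ha]

/-- the word on the first eleven points -/
def emb : (ℕ → ZMod 2) →+ GolayPt → ZMod 2 :=
  AddMonoidHom.mk' (fun v p => if idx p < 11 then v (idx p) else 0) fun a b => by
    ext p
    simp only [Pi.add_apply]
    split_ifs <;> simp

theorem lam_emb (v : ℕ → ZMod 2) {k : ℕ} (hk : k < 11) : lam (emb v) k = v k := by
  have h : ∀ p, ∀ k < 11, idx p < 11 → M p k = if p = pt k then 1 else 0 := by decide +kernel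
  rw [lam_apply, sum_eq_single (pt k) (fun p _ hp => ?_) (by simp)]
  · simp [emb, idx_pt (show k < 24 by omega), hk, h _ k hk]
  · by_cases h' : idx p < 11 <;> simp [emb, h', h p k hk, hp]

variable {θ : (GolayPt → ZMod 2) →+ Additive N}

open Classical in
/-- coordinates on `N` -/
noncomputable def kap (hs : Surjective θ) (e : E) : ℕ → ZMod 2 :=
  if h : e ∈ N then lam (surjInv hs (Additive.ofMul ⟨e, h⟩)) else 0

variable (hs : Surjective θ) (hker : ∀ w, θ w = 0 ↔ w ∈ golayCode ∨ w + Pi.single none 1 ∈ golayCode)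
include hs hker

theorem kap_eq (w : GolayPt → ZMod 2) {k : ℕ} (hk : k < 11) : kap hs (θ w).toMul k = lam w k := by
  rw [kap, dif_pos (θ w).toMul.2, ← sub_eq_zero, ← Pi.sub_apply, ← map_sub]
  rcases (hker (surjInv hs (θ w) - w)).1 (by rw [map_sub, surjInv_eq hs, sub_self]) with h | h
  · exact lam_code h hk
  · have := lam_code h hk
    rwa [map_add, lam_single, Pi.add_apply, (by decide +kernel : ∀ k < 11, M none k = 0) k hk, add_zero] at this

theorem mod_co {φ : E ⧸ N ≃* M23} (hθ : ∀ (g : E) (w : GolayPt → ZMod 2),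
    ((θ (w ∘ ⇑((φ (QuotientGroup.mk g) : M23) : Equiv.Perm GolayPt)⁻¹)).toMul : E) = g * ((θ w).toMul : E) * g⁻¹)
    (y : ℕ → E) (hy : ∀ i, pr φ (y i) = f i) : Mod N (kap hs) 11 y 11 Ad := by
  have h0 : ∀ a ∈ N, ∃ w, (θ w).toMul = a := fun a ha =>
    (hs (Additive.ofMul ⟨a, ha⟩)).imp fun w e => by rw [e]; rfl
  refine ⟨hN, fun a ha b hb k hk => ?_, fun a ha h => ?_, fun v => ⟨_, (θ (emb v)).toMul.2, fun k hk => ?_⟩,
    lt_of_lall (by decide +kernel), fun x hx a ha k hk => ?_⟩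
  · obtain ⟨v, rfl⟩ := h0 a ha
    obtain ⟨w, rfl⟩ := h0 b hb
    rw [← Subgroup.coe_mul, ← toMul_add, ← map_add, kap_eq hs hker _ hk, kap_eq hs hker _ hk, kap_eq hs hker _ hk,
      map_add, Pi.add_apply]
  · obtain ⟨w, rfl⟩ := h0 a ha
    have e : θ = θ.comp (emb.comp lam) := AddMonoidHom.pi_ext fun p c => by
      rcases zmod2_cases c with rfl | rfl
      · simp
      rw [AddMonoidHom.comp_apply, AddMonoidHom.comp_apply, lam_single, ← sub_eq_zero, ← map_sub, hker,
        mem_golayCode_iff, mem_golayCode_iff, mem_CS_iff, mem_CS_iff]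
      revert p
      decide +kernel
    have : emb (lam w) = 0 := funext fun p => ite_eq_right_iff.2 fun hp => (kap_eq hs hker w hp).symm.trans (h _ hp)
    rw [e, AddMonoidHom.comp_apply, AddMonoidHom.comp_apply, this, map_zero]
    rfl
  · rw [kap_eq hs hker _ hk, lam_emb v hk]
  · obtain ⟨w, rfl⟩ := h0 a ha
    rw [← hθ, kap_eq hs hker _ hk, dot_congr fun l hl => kap_eq hs hker w hl, pr_evL hy]
    simp only [lam_apply]
    rw [dot_sum, ← Equiv.sum_comp (evL f (x + 1) : M23).1]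
    refine sum_congr rfl fun p _ => ?_
    obtain ⟨j, hj, rfl⟩ := D0_full p
    rw [D0_pt, comp_apply, Equiv.Perm.coe_inv, Equiv.symm_apply_apply, evL_f _ hj, (by decide +kernel : ∀ x < 22,
      ∀ j < 24, ∀ k < 11, M (pt (appW NT [x + 1] j)) k = dot 11 (M (pt j)) (nth 0 (nth [] Ad x) k)) x hx j hj k hk]

theorem exists_co [Finite E] {φ : E ⧸ N ≃* M23} (hθ : ∀ (g : E) (w : GolayPt → ZMod 2),
    ((θ (w ∘ ⇑((φ (QuotientGroup.mk g) : M23) : Equiv.Perm GolayPt)⁻¹)).toMul : E) = g * ((θ w).toMul : E) * g⁻¹)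
    (hns : ∀ H : Subgroup E, H ⊓ N = ⊥ → H ⊔ N ≠ ⊤) : ∃ x : ℕ → E, (∀ i, pr φ (x i) = f i) ∧ ∀ j < 28,
      ev x (nth [] rels j) = (θ (emb fun k => if (nth 0 tau j).testBit k then 1 else 0)).toMul := by
  obtain ⟨x, e, hx, h⟩ := exists_cor φ (τ := tau) (ε := eps) (Cs := Cd) (co := Kd) (Xs := Xd) (mod_co hs hker hθ)
    (by decide +kernel) (by decide +kernel)
  rcases zmod2_cases e with rfl | rfl
  · obtain ⟨H, h1, h2⟩ := split φ (mod_co hs hker hθ x hx) hx fun j hj => by simpa using h j hj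
    exact absurd h2 (hns H h1)
  · exact ⟨x, hx, fun j hj => (mod_co hs hker hθ x hx).ext (h j hj).1 (Subtype.prop _) fun k hk => by
      rw [(h j hj).2 k hk, kap_eq hs hker _ hk, lam_emb _ hk]⟩

omit hker in
theorem range_eq (φ : E ⧸ N ≃* M23) : (N.subtype.comp (AddMonoidHom.toMultiplicativeLeft θ)).range = (pr φ).ker := by
  rw [pr_ker, MonoidHom.range_comp, MonoidHom.range_eq_top.2 hs, ← MonoidHom.range_eq_map, N.range_subtype]

theorem iso_co [Finite E] {φ : E ⧸ N ≃* M23} (hθ : ∀ (g : E) (w : GolayPt → ZMod 2),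
    ((θ (w ∘ ⇑((φ (QuotientGroup.mk g) : M23) : Equiv.Perm GolayPt)⁻¹)).toMul : E) = g * ((θ w).toMul : E) * g⁻¹)
    (hns : ∀ H : Subgroup E, H ⊓ N = ⊥ → H ⊔ N ≠ ⊤) {E' : Type*} [Group E'] [Finite E'] {N' : Subgroup E'} [N'.Normal]
    {φ' : E' ⧸ N' ≃* M23} {θ' : (GolayPt → ZMod 2) →+ Additive N'} (hs' : Surjective θ')
    (hker' : ∀ w, θ' w = 0 ↔ w ∈ golayCode ∨ w + Pi.single none 1 ∈ golayCode)
    (hθ' : ∀ (g : E') (w : GolayPt → ZMod 2),
      ((θ' (w ∘ ⇑((φ' (QuotientGroup.mk g) : M23) : Equiv.Perm GolayPt)⁻¹)).toMul : E') = g * ((θ' w).toMul : E') * g⁻¹)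
    (hns' : ∀ H : Subgroup E', H ⊓ N' = ⊥ → H ⊔ N' ≠ ⊤) : Nonempty (E ≃* E') := by
  obtain ⟨x, hx, h⟩ := exists_co hs hker hθ hns
  obtain ⟨x', hx', h'⟩ := exists_co hs' hker' hθ' hns'
  refine iso_of_rel (pr_surj φ) (pr_surj φ') (range_eq hs φ) (range_eq hs' φ') ?_ (fun g g' e a => ?_) (P := PM23x2)
    Nat.prime_two (fun a => ?_) (fun i => (hx i).trans (hx' i).symm) (fun r hr => ?_) tab (wf_of (by decide +kernel))
    (low hx) not_dvd
  · ext w
    simp [hker, hker']
  · refine ⟨.ofAdd _, (hθ g a.toAdd).symm, (hθ' g' a.toAdd).symm.trans ?_⟩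
    rw [← show φ (QuotientGroup.mk g) = φ' (QuotientGroup.mk g') from e]
    rfl
  · exact (sq a).trans (funext fun p => CharTwo.add_self_eq_zero (a.toAdd p))
  · obtain ⟨j, hj, rfl⟩ := of_take hr
    exact ⟨.ofAdd _, h j hj, h' j hj⟩

end CF.Schur.M23T
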