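import Cfsg.Agent.Schur.Ext
import Cfsg.Agent.Schur.Nf
import Cfsg.Agent.Comp.Mat
import Cfsg.Agent.Comp.TC
import Cfsg.Agent.Schur.M23XD

/-! The non-split extension `2¹¹·M₂₃`. -/

set_option autoImplicit false
set_option maxRecDepth 1000000
set_option maxHeartbeats 0
set_option Elab.async false

namespace CF.Schur.M23X

open CF.Comp CF.Comp.Mat Cfsg Cfsg.Spor
open CF.Leech hiding brec_and beq_iff ble_iff
open CF.Schur.Pc hiding idx

theorem mdl : Mdl D0 NM (el NM) M23 (List.range 24) :=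
  have h : Reps D0 NM (el NM) := reps_el (by decide +kernel)
  mdl_of_faithful h (by decide) (el_mem (m := 7) rfl (mem_M23_of h (by decide +kernel) (by decide +kernel)))
    (D0_full.faithful _)

theorem eM_0_all : CF.Comp.Cov eM_0_F 4 5 0 := by
  have h := CF.Comp.Cov.zero eM_0_F 4
  have h := h.blk (b := 4) eM_0_k0_0 rfl
  have h := h.next (y := 1) rfl rfl
  have h := h.blk (b := 4) eM_0_k1_0 rfl
  have h := h.next (y := 2) rfl rfl
  have h := h.blk (b := 4) eM_0_k2_0 rfl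
  have h := h.next (y := 3) rfl rfl
  have h := h.blk (b := 4) eM_0_k3_0 rfl
  have h := h.next (y := 4) rfl rfl
  have h := h.blk (b := 4) eM_0_k4_0 rfl
  have h := h.next (y := 5) rfl rfl
  exact h

theorem eM_0 : Enum RM_0 [] (gensW 3) 48 :=
  ⟨eM_0_cols, eM_0_ch, eM_0_L, eM_0_H, eM_0_pb.1, eM_0_e.get, [(nat_lit 0), (nat_lit 1), (nat_lit 3), (nat_lit 4), (nat_lit 5)], (nat_lit 5), (nat_lit 7), eM_0_rots, eM_0_hcs,
    (nat_lit 49), (nat_lit 5), (nat_lit 64), (nat_lit 32), (nat_lit 2048), (nat_lit 4095), (nat_lit 8), (nat_lit 255), (nat_lit 15), (nat_lit 32767), (nat_lit 1), (nat_lit 4),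
    fun _ _ => rfl, fun _ => rfl, fun _ _ => rfl, by decide +kernel, eM_0_all.1⟩

theorem eM_1_all : CF.Comp.Cov eM_1_F 4 6 0 := by
  have h := CF.Comp.Cov.zero eM_1_F 4
  have h := h.blk (b := 4) eM_1_k0_0 rfl
  have h := h.next (y := 1) rfl rfl
  have h := h.blk (b := 4) eM_1_k1_0 rfl
  have h := h.next (y := 2) rfl rfl
  have h := h.blk (b := 4) eM_1_k2_0 rfl
  have h := h.next (y := 3) rfl rfl
  have h := h.blk (b := 4) eM_1_k3_0 rfl
  have h := h.next (y := 4) rfl rfl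
  have h := h.blk (b := 4) eM_1_k4_0 rfl
  have h := h.next (y := 5) rfl rfl
  have h := h.blk (b := 4) eM_1_k5_0 rfl
  have h := h.next (y := 6) rfl rfl
  exact h

theorem eM_1 : Enum RM_1 (gensW 3) (gensW 4) 20 :=
  ⟨eM_1_cols, eM_1_ch, eM_1_L, eM_1_H, eM_1_pb.1, eM_1_e.get, [(nat_lit 0), (nat_lit 1), (nat_lit 3), (nat_lit 4), (nat_lit 5), (nat_lit 7)], (nat_lit 13), (nat_lit 7), eM_1_rots, eM_1_hcs,
    (nat_lit 21), (nat_lit 6), (nat_lit 32), (nat_lit 32), (nat_lit 1024), (nat_lit 2047), (nat_lit 8), (nat_lit 255), (nat_lit 14), (nat_lit 16383), (nat_lit 1), (nat_lit 4),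
    fun _ _ => rfl, fun _ => rfl, fun _ _ => rfl, by decide +kernel, eM_1_all.1⟩

theorem eM_2_all : CF.Comp.Cov eM_2_F 4 7 0 := by
  have h := CF.Comp.Cov.zero eM_2_F 4
  have h := h.blk (b := 4) eM_2_k0_0 rfl
  have h := h.next (y := 1) rfl rfl
  have h := h.blk (b := 4) eM_2_k1_0 rfl
  have h := h.next (y := 2) rfl rfl
  have h := h.blk (b := 4) eM_2_k2_0 rfl
  have h := h.next (y := 3) rfl rfl
  have h := h.blk (b := 4) eM_2_k3_0 rfl
  have h := h.next (y := 4) rfl rfl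
  have h := h.blk (b := 4) eM_2_k4_0 rfl
  have h := h.next (y := 5) rfl rfl
  have h := h.blk (b := 4) eM_2_k5_0 rfl
  have h := h.next (y := 6) rfl rfl
  have h := h.blk (b := 4) eM_2_k6_0 rfl
  have h := h.next (y := 7) rfl rfl
  exact h

theorem eM_2 : Enum RM_2 (gensW 4) (gensW 5) 21 :=
  ⟨eM_2_cols, eM_2_ch, eM_2_L, eM_2_H, eM_2_pb.1, eM_2_e.get, [(nat_lit 0), (nat_lit 1), (nat_lit 3), (nat_lit 4), (nat_lit 5), (nat_lit 7), (nat_lit 9)], (nat_lit 29), (nat_lit 7), eM_2_rots, eM_2_hcs,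
    (nat_lit 22), (nat_lit 7), (nat_lit 32), (nat_lit 64), (nat_lit 2048), (nat_lit 2047), (nat_lit 8), (nat_lit 255), (nat_lit 16), (nat_lit 65535), (nat_lit 1), (nat_lit 4),
    fun _ _ => rfl, fun _ => rfl, fun _ _ => rfl, by decide +kernel, eM_2_all.1⟩

theorem eM_3_all : CF.Comp.Cov eM_3_F 4 8 0 := by
  have h := CF.Comp.Cov.zero eM_3_F 4
  have h := h.blk (b := 4) eM_3_k0_0 rfl
  have h := h.next (y := 1) rfl rfl
  have h := h.blk (b := 4) eM_3_k1_0 rfl
  have h := h.next (y := 2) rfl rfl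
  have h := h.blk (b := 4) eM_3_k2_0 rfl
  have h := h.next (y := 3) rfl rfl
  have h := h.blk (b := 4) eM_3_k3_0 rfl
  have h := h.next (y := 4) rfl rfl
  have h := h.blk (b := 4) eM_3_k4_0 rfl
  have h := h.next (y := 5) rfl rfl
  have h := h.blk (b := 4) eM_3_k5_0 rfl
  have h := h.next (y := 6) rfl rfl
  have h := h.blk (b := 4) eM_3_k6_0 rfl
  have h := h.next (y := 7) rfl rfl
  have h := h.blk (b := 4) eM_3_k7_0 rfl
  have h := h.next (y := 8) rfl rfl
  exact h

theorem eM_3 : Enum RM_3 (gensW 5) (gensW 6) 22 :=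
  ⟨eM_3_cols, eM_3_ch, eM_3_L, eM_3_H, eM_3_pb.1, eM_3_e.get, [(nat_lit 0), (nat_lit 1), (nat_lit 3), (nat_lit 4), (nat_lit 5), (nat_lit 7), (nat_lit 9), (nat_lit 11)], (nat_lit 61), (nat_lit 7), eM_3_rots, eM_3_hcs,
    (nat_lit 23), (nat_lit 8), (nat_lit 32), (nat_lit 64), (nat_lit 2048), (nat_lit 2047), (nat_lit 8), (nat_lit 255), (nat_lit 16), (nat_lit 65535), (nat_lit 1), (nat_lit 4),
    fun _ _ => rfl, fun _ => rfl, fun _ _ => rfl, by decide +kernel, eM_3_all.1⟩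

theorem eM_4_all : CF.Comp.Cov eM_4_F 4 9 0 := by
  have h := CF.Comp.Cov.zero eM_4_F 4
  have h := h.blk (b := 4) eM_4_k0_0 rfl
  have h := h.next (y := 1) rfl rfl
  have h := h.blk (b := 4) eM_4_k1_0 rfl
  have h := h.next (y := 2) rfl rfl
  have h := h.blk (b := 4) eM_4_k2_0 rfl
  have h := h.next (y := 3) rfl rfl
  have h := h.blk (b := 4) eM_4_k3_0 rfl
  have h := h.next (y := 4) rfl rfl
  have h := h.blk (b := 4) eM_4_k4_0 rfl
  have h := h.next (y := 5) rfl rfl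
  have h := h.blk (b := 4) eM_4_k5_0 rfl
  have h := h.next (y := 6) rfl rfl
  have h := h.blk (b := 4) eM_4_k6_0 rfl
  have h := h.next (y := 7) rfl rfl
  have h := h.blk (b := 4) eM_4_k7_0 rfl
  have h := h.next (y := 8) rfl rfl
  have h := h.blk (b := 4) eM_4_k8_0 rfl
  have h := h.next (y := 9) rfl rfl
  exact h

theorem eM_4 : Enum relsM (gensW 6) (gensW 7) 23 :=
  ⟨eM_4_cols, eM_4_ch, eM_4_L, eM_4_H, eM_4_pb.1, eM_4_e.get, [(nat_lit 0), (nat_lit 1), (nat_lit 3), (nat_lit 4), (nat_lit 5), (nat_lit 7), (nat_lit 9), (nat_lit 11), (nat_lit 13)], (nat_lit 125), (nat_lit 7), eM_4_rots, eM_4_hcs,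
    (nat_lit 24), (nat_lit 9), (nat_lit 32), (nat_lit 64), (nat_lit 2048), (nat_lit 2047), (nat_lit 8), (nat_lit 255), (nat_lit 16), (nat_lit 65535), (nat_lit 1), (nat_lit 4),
    fun _ _ => rfl, fun _ => rfl, fun _ _ => rfl, by decide +kernel, eM_4_all.1⟩

theorem bndM {K : Type*} [Group K] {g : ℕ → K} (hr : ∀ r ∈ relsM, ev g r = 1) : Bound g (gensW 7) 10200960 :=
  (eM_4.bound (rels_sub hr (by decide +kernel))
    (eM_3.bound (rels_sub hr (by decide +kernel))
    (eM_2.bound (rels_sub hr (by decide +kernel))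
    (eM_1.bound (rels_sub hr (by decide +kernel))
    (eM_0.bound (rels_sub hr (by decide +kernel))
    (bound_nil _))))))

theorem mM : type_of% mdl := mdl

noncomputable def SM : List Lvl := [⟨(nat_lit 0), [[(nat_lit 13)],
  [(nat_lit 11)],
  [(nat_lit 9)],
  [(nat_lit 7)],
  [(nat_lit 5)],
  [(nat_lit 3)],
  [(nat_lit 1)]], (nat_lit 4)⟩,
  ⟨(nat_lit 1), [[(nat_lit 11)],
  [(nat_lit 9)],
  [(nat_lit 7)],
  [(nat_lit 5)],
  [(nat_lit 3)],
  [(nat_lit 1)]], (nat_lit 4)⟩,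
  ⟨(nat_lit 2), [[(nat_lit 9)],
  [(nat_lit 7)],
  [(nat_lit 5)],
  [(nat_lit 3)],
  [(nat_lit 1)]], (nat_lit 3)⟩,
  ⟨(nat_lit 3), [[(nat_lit 7)],
  [(nat_lit 5)],
  [(nat_lit 3)],
  [(nat_lit 1)]], (nat_lit 3)⟩,
  ⟨(nat_lit 4), [[(nat_lit 5)],
  [(nat_lit 3)],
  [(nat_lit 1)]], (nat_lit 2)⟩,
  ⟨(nat_lit 5), [[(nat_lit 5), (nat_lit 3), (nat_lit 5)]], (nat_lit 2)⟩]


theorem rM_0 : allFrom (relNo (sameW NM 24 5) relsM) 0 30 = true := by decide +kernel

theorem rM : ∀ j < 30, relNo (sameW NM 24 5) relsM j = true := by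
  have h : ∀ j < 0, relNo (sameW NM 24 5) relsM j = true := by simp
  have h := forall_lt_add h (allFrom_iff.1 rM_0)
  exact h

theorem presM : Presents relsM 7 fun i => (⟨_, (mM).mem i⟩ : M23) :=
  ((mM).presents ((mM).sameW (k := 5) (by decide)) (bndM (ug_rels _)) rM (by decide +kernel) (ch := SM) card_M23
    (by decide) (by decide +kernel))

theorem top : clo (fun i => (⟨_, mM.mem i⟩ : M23)) (gensW 7) = ⊤ := Subgroup.map_injective M23.subtype_injective (by
  rw [map_clo, ← MonoidHom.range_eq_map, M23.range_subtype]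
  exact mM.clo_eq (ch := SM) card_M23 (by decide) (by decide +kernel))

set_option maxHeartbeats 400000

theorem wK : Wf 506 K := wf_of_wfAll (by decide +kernel)

theorem same {u w : List ℕ} (h : sameW K 506 9 u w = true) : ev (pf K) u = ev (pf K) w := wK.sameW (by decide) h

/-- the generators of the normal subgroup -/
noncomputable def t (p : GolayPt) : Equiv.Perm ℕ := pf K (7 + idx p)

theorem t_comm (p q : GolayPt) : t p * t q = t q * t p := by
  simpa [evL_odd, t] using same (allFrom_zero.1 (allFrom_zero.1 (by decide +kernel : allFrom (fun i => allFrom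
    (fun j => sameW K 506 9 [2 * (7 + i) + 1, 2 * (7 + j) + 1] [2 * (7 + j) + 1, 2 * (7 + i) + 1]) 0 24) 0 24 = true)
    _ (idx_lt p)) _ (idx_lt q))

theorem t_sq (p : GolayPt) : t p * t p = 1 := by
  simpa [evL_odd, t] using same (allFrom_zero.1 (by decide +kernel : allFrom
    (fun i => sameW K 506 9 [2 * (7 + i) + 1, 2 * (7 + i) + 1] []) 0 24 = true) _ (idx_lt p))

theorem t_conj (i : ℕ) (hi : i < 7) (p : GolayPt) : pf K i * t p = t (el NM i p) * pf K i := by
  have h := allFrom_zero.1 (allFrom_zero.1 (by decide +kernel : allFrom (fun i => allFrom (fun j =>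
    Bool.rec false (sameW K 506 9 [2 * i + 1, 2 * (7 + j) + 1] [2 * (7 + (nth Net.nil NM i).app j) + 1, 2 * i + 1])
      (Nat.ble ((nth Net.nil NM i).app j) 23)) 0 24) 0 7 = true) i hi) _ (idx_lt p)
  rw [brec_and, ble_iff] at h
  have e : idx (el NM i p) = (nth Net.nil NM i).app (idx p) := by
    rw [← idx_pt (Nat.lt_succ_of_le h.1), ← D0_pt, ← D0_full.els_apply mdl.reps.wf i (idx_lt p), D0_pt, pt_idx]
  simpa [evL_odd, t, e] using same h.2

theorem gen_eq : gen 24 (fun j => pf K (7 + j)) 0 = Subgroup.closure (Set.range t) := by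
  rw [gen]
  congr 1
  ext
  exact ⟨fun ⟨j, hj, e⟩ => ⟨pt j, by rw [← e, t, idx_pt hj.2]⟩, fun ⟨p, e⟩ => ⟨idx p, ⟨Nat.zero_le _, idx_lt p⟩, e⟩⟩

theorem rels_mem : ∀ r ∈ relsM, ev (pf K) r ∈ Subgroup.closure (Set.range t) := by
  intro r hr
  obtain ⟨j, hj, rfl⟩ := exists_nth_of_mem [] hr
  have h := allFrom_zero.1 (by decide +kernel : allFrom (fun j => Bool.rec false
    (sameW K 506 9 (nth [] relsM j) (nth [] T j)) (inRange 7 24 (nth [] T j))) 0 (llen relsM) = true) j (by rwa [llen_eq])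
  rw [brec_and] at h
  rw [same h.2, ← gen_eq]
  exact ev_mem_gen h.1

theorem prod_eq {l : List GolayPt} (h : sameW K 506 9 (lw 7 (l.map idx)) [] = true) : (l.map t).prod = 1 := by
  have := same h
  rwa [ev_lw, pv, List.map_map] at this

/-- the squares modulo 23 -/
def sqs (a : ZMod 23) : List GolayPt := ([0, 1, 2, 3, 4, 6, 8, 9, 12, 13, 16, 18] : List (ZMod 23)).map fun x => some (x + a)

theorem ker_iff {A : Type*} [AddGroup A] {θ : (GolayPt → ZMod 2) →+ A} (hs : Function.Surjective θ)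
    (h : ∀ l : List GolayPt, (l.map t).prod = 1 → θ (l.map (Pi.single · 1)).sum = 0) (hc : 2048 ≤ Nat.card A)
    (w : GolayPt → ZMod 2) : θ w = 0 ↔ w ∈ golayCode ∨ w + Pi.single none 1 ∈ golayCode := by
  have h0 : θ (Pi.single none 1) = 0 := by simpa using h [none] (prod_eq (by decide +kernel))
  have h1 : golayCode.toAddSubgroup ≤ θ.ker := by
    intro v hv
    induction hv using Submodule.span_induction with
    | mem v hv =>
      rcases hv with ⟨a, rfl⟩ | rfl
      · rw [(by decide +kernel : ∀ a, qrWord a = ((sqs a).map (Pi.single · 1)).sum) a]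
        exact h _ (prod_eq ((by decide +kernel : ∀ a, sameW K 506 9 (lw 7 ((sqs a).map idx)) [] = true) a))
      · rw [(by decide +kernel : (1 : GolayPt → ZMod 2) = (((List.range 24).map pt).map (Pi.single · 1)).sum)]
        exact h _ (prod_eq (by decide +kernel))
    | zero => exact zero_mem _
    | add a b _ _ ha hb => exact add_mem ha hb
    | smul c a _ ha => rcases zmod2_cases c with rfl | rfl <;> simp [ha]
  have h2 : ∀ v : GolayPt → ZMod 2, v + Pi.single none 1 + Pi.single none 1 = v := fun v => by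
    rw [add_assoc, ← Pi.single_add, show (1 + 1 : ZMod 2) = 0 from rfl, Pi.single_zero, add_zero]
  let S : Set (GolayPt → ZMod 2) := golayCode ∪ (· + Pi.single none 1) '' (golayCode : Set (GolayPt → ZMod 2))
  have h3 : S ⊆ θ.ker := by
    rintro v (hv | ⟨v, hv, rfl⟩)
    exacts [h1 hv, add_mem (h1 hv) h0]
  have h4 : (golayCode : Set (GolayPt → ZMod 2)).ncard = 4096 := by
    rw [← ncard_CS_all, CS, supports, Set.ncard_image_of_injective]
    exact fun a b e => by rw [← word_support₂ a, e, word_support₂]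
  have h5 : S.ncard = 8192 := by
    rw [Set.ncard_union_eq, Set.ncard_image_of_injective _ (add_left_injective _), h4]
    rw [Set.disjoint_left]
    rintro _ h ⟨v, hv, rfl⟩
    have := card_of_mem_CS (mem_golayCode_iff.1 (golayCode.sub_mem h hv))
    rw [add_sub_cancel_left] at this
    exact absurd this (by decide +kernel)
  have h6 : (θ.ker : Set (GolayPt → ZMod 2)).ncard ≤ 8192 := by
    have := θ.ker.card_mul_index
    rw [AddSubgroup.index_ker, AddMonoidHom.range_eq_top.2 hs, AddSubgroup.card_top, Nat.card_fun, Nat.card_zmod,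
      Nat.card_eq_fintype_card (α := GolayPt), card_pts] at this
    have h7 := Nat.mul_le_mul_left (Nat.card θ.ker) hc
    rw [← Nat.card_coe_set_eq, SetLike.coe_sort_coe]
    omega
  rw [← AddMonoidHom.mem_ker, ← SetLike.mem_coe, ← Set.eq_of_subset_of_ncard_le h3 (h5 ▸ h6)]
  exact or_congr_right ⟨fun ⟨v, hv, e⟩ => by rwa [← e, h2], fun h => ⟨_, h, h2 w⟩⟩

theorem exists_ext : ∃ (E : Type) (_ : Group E) (_ : Finite E) (N : Subgroup E) (_ : N.Normal) (φ : E ⧸ N ≃* M23)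
    (θ : (GolayPt → ZMod 2) →+ Additive N), Function.Surjective θ ∧
    (∀ w, θ w = 0 ↔ w ∈ golayCode ∨ w + Pi.single none 1 ∈ golayCode) ∧
    (∀ (g : E) (w : GolayPt → ZMod 2), ((θ (w ∘ ⇑((φ (QuotientGroup.mk g) : M23) : Equiv.Perm GolayPt)⁻¹)).toMul : E) =
      g * ((θ w).toMul : E) * g⁻¹) ∧ ∀ H : Subgroup E, H ⊓ N = ⊥ → H ⊔ N ≠ ⊤ := by
  have hw : ∀ x ∈ w0, x ≤ 2 * 7 := lettersLe_iff.1 (by decide +kernel : lettersLe 7 [w0] = true) _ (by simp)
  obtain ⟨E, _, _, N, _, φ, θ, h1, h2, ⟨_, h3⟩, h4, h5⟩ := exists_perm_ext M23.subtype presM top t_sq t_comm t_conj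
    rels_mem hw ((ev_sub mM.mem w0).trans (Subtype.ext (mM.sameW (k := 5) (by decide) w0 [] (by decide +kernel))))
    ((reps_nat wK).not_fixW (b := 252) (w := w0) (by decide) (by decide +kernel)) fun i hi p => by
      rw [t, fox_eq _ _ _ hw]
      exact (reps_nat wK).fixW (by decide) (allFrom_zero.1 (allFrom_zero.1 (by decide +kernel : allFrom (fun i =>
        allFrom (fun j => fixW K 252 (foxW 7 i (7 + j) w0)) 0 24) 0 7 = true) i hi) _ (idx_lt p))
  refine ⟨E, _, ‹_›, N, ‹_›, φ, θ, h1, ker_iff h1 h2 (le_of_le_of_eq ?_ h3.symm), h4, h5⟩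
  rw [← gen_eq] at *
  exact card_of_cenOK (ch := CN) wK (by decide) (by decide +kernel)

end CF.Schur.M23X
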