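import Cfsg.Agent.Schur.PcDefs

/-! Data for the Thompson subgroup of a Sylow 2-subgroup of `Fi₂₃`. -/

set_option autoImplicit false
set_option maxRecDepth 1000000
set_option maxHeartbeats 0
set_option Elab.async false

namespace CF.Schur.F23J

open CF.Comp CF.Schur.Pc

noncomputable def Q : Dat := ⟨(nat_lit 2), (nat_lit 18), (nat_lit 0), (nat_lit 0), (nat_lit 171),
  (BT.node (nat_lit 85) (BT.node (nat_lit 42) (BT.node (nat_lit 21) (BT.node (nat_lit 10) (BT.node (nat_lit 5) (BT.node (nat_lit 2) (BT.node (nat_lit 1) (BT.leaf []) (BT.leaf [(nat_lit 1), (nat_lit 3), (nat_lit 14), (nat_lit 16)])) (BT.node (nat_lit 3) (BT.leaf [(nat_lit 16)]) (BT.node (nat_lit 4) (BT.leaf [(nat_lit 2), (nat_lit 6), (nat_lit 11), (nat_lit 13), (nat_lit 14)]) (BT.leaf [(nat_lit 2), (nat_lit 4), (nat_lit 12), (nat_lit 16)])))) (BT.node (nat_lit 7) (BT.node (nat_lit 6) (BT.leaf []) (BT.leaf [(nat_lit 3)])) (BT.node (nat_lit 8) (BT.leaf [(nat_lit 3), (nat_lit 16)]) (BT.node (nat_lit 9) (BT.leaf [(nat_lit 3), (nat_lit 5), (nat_lit 14)]) (BT.leaf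 []))))) (BT.node (nat_lit 15) (BT.node (nat_lit 12) (BT.node (nat_lit 11) (BT.leaf [(nat_lit 4), (nat_lit 5), (nat_lit 6), (nat_lit 13), (nat_lit 17)]) (BT.leaf [(nat_lit 4), (nat_lit 10), (nat_lit 15)])) (BT.node (nat_lit 13) (BT.leaf [(nat_lit 4), (nat_lit 10)]) (BT.node (nat_lit 14) (BT.leaf [(nat_lit 4), (nat_lit 6), (nat_lit 12)]) (BT.leaf [(nat_lit 10)])))) (BT.node (nat_lit 18) (BT.node (nat_lit 16) (BT.leaf [(nat_lit 5)]) (BT.node (nat_lit 17) (BT.leaf [(nat_lit 5), (nat_lit 6), (nat_lit 16), (nat_lit 17)]) (BT.leaf [(nat_lit 5)]))) (BT.node (nat_lit 19) (BT.leaf [(nat_lit 5), (nat_lit 17)]) (BT.node (nat_lit 20) (BT.leaf [(nat_lit 5), (nat_lit 12)]) (BT.leaf [])))))) (BT.node (nat_lit 31) (BT.node (nat_lit 26) (BT.node (nat_lit 23) (BT.node (nat_lit 22) (BT.leaf [(nat_lit 6)]) (BT.leaf [(nat_lit 6), (nat_lit 17)])) (BT.node (nat_lit 24) (BT.leaf [(nat_lit 6), (nat_lit 12), (nat_lit 15)]) (BT.node (nat_lit 25) (BT.leaf [(nat_lit 6)]) (BT.leaf [(nat_lit 6), (nat_lit 15)])))) (BT.node (nat_lit 28) (BT.node (nat_lit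 27) (BT.leaf [(nat_lit 6), (nat_lit 17)]) (BT.leaf [(nat_lit 17)])) (BT.node (nat_lit 29) (BT.leaf [(nat_lit 7)]) (BT.node (nat_lit 30) (BT.leaf [(nat_lit 7)]) (BT.leaf [(nat_lit 7), (nat_lit 8), (nat_lit 9)]))))) (BT.node (nat_lit 36) (BT.node (nat_lit 33) (BT.node (nat_lit 32) (BT.leaf [(nat_lit 7)]) (BT.leaf [(nat_lit 7), (nat_lit 9)])) (BT.node (nat_lit 34) (BT.leaf [(nat_lit 7), (nat_lit 11), (nat_lit 14), (nat_lit 15)]) (BT.node (nat_lit 35) (BT.leaf [(nat_lit 7), (nat_lit 13), (nat_lit 16)]) (BT.leaf [])))) (BT.node (nat_lit 39) (BT.node (nat_lit 37) (BT.leaf [(nat_lit 8), (nat_lit 11), (nat_lit 14), (nat_lit 16), (nat_lit 17)]) (BT.node (nat_lit 38) (BT.leaf [(nat_lit 8), (nat_lit 9), (nat_lit 10)]) (BT.leaf [(nat_lit 8), (nat_lit 10)]))) (BT.node (nat_lit 40) (BT.leaf [(nat_lit 8), (nat_lit 11), (nat_lit 12), (nat_lit 13)]) (BT.node (nat_lit 41) (BT.leaf [(nat_lit 8), (nat_lit 10)]) (BT.leaf [(nat_lit 8), (nat_lit 12)]))))))) (BT.node (nat_lit 63) (BT.node (nat_lit 52) (BT.node (nat_lit 47) (BT.node (nat_lit 44)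 (BT.node (nat_lit 43) (BT.leaf [(nat_lit 8), (nat_lit 14), (nat_lit 16)]) (BT.leaf [(nat_lit 8)])) (BT.node (nat_lit 45) (BT.leaf []) (BT.node (nat_lit 46) (BT.leaf [(nat_lit 9), (nat_lit 11), (nat_lit 13), (nat_lit 17)]) (BT.leaf [(nat_lit 9)])))) (BT.node (nat_lit 49) (BT.node (nat_lit 48) (BT.leaf [(nat_lit 9), (nat_lit 10)]) (BT.leaf [(nat_lit 9), (nat_lit 13)])) (BT.node (nat_lit 50) (BT.leaf [(nat_lit 9)]) (BT.node (nat_lit 51) (BT.leaf [(nat_lit 9), (nat_lit 14), (nat_lit 15)]) (BT.leaf [(nat_lit 9), (nat_lit 16)]))))) (BT.node (nat_lit 57) (BT.node (nat_lit 54) (BT.node (nat_lit 53) (BT.leaf [(nat_lit 9)]) (BT.leaf [(nat_lit 9)])) (BT.node (nat_lit 55) (BT.leaf []) (BT.node (nat_lit 56) (BT.leaf [(nat_lit 10), (nat_lit 12), (nat_lit 15), (nat_lit 16), (nat_lit 17)]) (BT.leaf [(nat_lit 10)])))) (BT.node (nat_lit 60) (BT.node (nat_lit 58) (BT.leaf [(nat_lit 10)]) (BT.node (nat_lit 59) (BT.leaf [(nat_lit 10), (nat_lit 15), (nat_lit 17)]) (BT.leaf [(nat_lit 10)]))) (BT.node (nat_lit 61) (BT.leaf [(nat_lit 10)]) (BT.node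 (nat_lit 62) (BT.leaf [(nat_lit 10)]) (BT.leaf [(nat_lit 10)])))))) (BT.node (nat_lit 74) (BT.node (nat_lit 68) (BT.node (nat_lit 65) (BT.node (nat_lit 64) (BT.leaf [(nat_lit 10)]) (BT.leaf [(nat_lit 10)])) (BT.node (nat_lit 66) (BT.leaf []) (BT.node (nat_lit 67) (BT.leaf [(nat_lit 11), (nat_lit 17)]) (BT.leaf [(nat_lit 11), (nat_lit 13), (nat_lit 17)])))) (BT.node (nat_lit 71) (BT.node (nat_lit 69) (BT.leaf [(nat_lit 11), (nat_lit 12), (nat_lit 14), (nat_lit 15)]) (BT.node (nat_lit 70) (BT.leaf [(nat_lit 11), (nat_lit 17)]) (BT.leaf [(nat_lit 11), (nat_lit 14), (nat_lit 15)]))) (BT.node (nat_lit 72) (BT.leaf [(nat_lit 11)]) (BT.node (nat_lit 73) (BT.leaf [(nat_lit 11), (nat_lit 17)]) (BT.leaf [(nat_lit 11)]))))) (BT.node (nat_lit 79) (BT.node (nat_lit 76) (BT.node (nat_lit 75) (BT.leaf [(nat_lit 11)]) (BT.leaf [(nat_lit 11)])) (BT.node (nat_lit 77) (BT.leaf [(nat_lit 11)]) (BT.node (nat_lit 78) (BT.leaf []) (BT.leaf [(nat_lit 12)])))) (BT.node (nat_lit 82) (BT.node (nat_lit 80) (BT.leaf [(nat_lit 12), (nat_lit 15)]) (BT.node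 (nat_lit 81) (BT.leaf [(nat_lit 12)]) (BT.leaf [(nat_lit 12), (nat_lit 17)]))) (BT.node (nat_lit 83) (BT.leaf [(nat_lit 12)]) (BT.node (nat_lit 84) (BT.leaf [(nat_lit 12)]) (BT.leaf [(nat_lit 12)])))))))) (BT.node (nat_lit 128) (BT.node (nat_lit 106) (BT.node (nat_lit 95) (BT.node (nat_lit 90) (BT.node (nat_lit 87) (BT.node (nat_lit 86) (BT.leaf [(nat_lit 12)]) (BT.leaf [(nat_lit 12)])) (BT.node (nat_lit 88) (BT.leaf [(nat_lit 12)]) (BT.node (nat_lit 89) (BT.leaf [(nat_lit 12)]) (BT.leaf [(nat_lit 12)])))) (BT.node (nat_lit 92) (BT.node (nat_lit 91) (BT.leaf []) (BT.leaf [(nat_lit 13), (nat_lit 17)])) (BT.node (nat_lit 93) (BT.leaf [(nat_lit 13)]) (BT.node (nat_lit 94) (BT.leaf [(nat_lit 13), (nat_lit 14)]) (BT.leaf [(nat_lit 13)]))))) (BT.node (nat_lit 100) (BT.node (nat_lit 97) (BT.node (nat_lit 96) (BT.leaf [(nat_lit 13), (nat_lit 16)]) (BT.leaf [(nat_lit 13), (nat_lit 17)])) (BT.node (nat_lit 98) (BT.leaf [(nat_lit 13)]) (BT.node (nat_lit 99) (BT.leaf [(nat_lit 13)]) (BT.leaf [(nat_lit 13)])))) (BT.node (nat_lit 103)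 (BT.node (nat_lit 101) (BT.leaf [(nat_lit 13)]) (BT.node (nat_lit 102) (BT.leaf [(nat_lit 13)]) (BT.leaf [(nat_lit 13)]))) (BT.node (nat_lit 104) (BT.leaf [(nat_lit 13)]) (BT.node (nat_lit 105) (BT.leaf []) (BT.leaf [(nat_lit 14)])))))) (BT.node (nat_lit 117) (BT.node (nat_lit 111) (BT.node (nat_lit 108) (BT.node (nat_lit 107) (BT.leaf [(nat_lit 14), (nat_lit 16)]) (BT.leaf [(nat_lit 14)])) (BT.node (nat_lit 109) (BT.leaf [(nat_lit 14), (nat_lit 17)]) (BT.node (nat_lit 110) (BT.leaf [(nat_lit 14)]) (BT.leaf [(nat_lit 14)])))) (BT.node (nat_lit 114) (BT.node (nat_lit 112) (BT.leaf [(nat_lit 14)]) (BT.node (nat_lit 113) (BT.leaf [(nat_lit 14)]) (BT.leaf [(nat_lit 14)]))) (BT.node (nat_lit 115) (BT.leaf [(nat_lit 14)]) (BT.node (nat_lit 116) (BT.leaf [(nat_lit 14)]) (BT.leaf [(nat_lit 14)]))))) (BT.node (nat_lit 122) (BT.node (nat_lit 119) (BT.node (nat_lit 118) (BT.leaf [(nat_lit 14)]) (BT.leaf [(nat_lit 14)])) (BT.node (nat_lit 120) (BT.leaf []) (BT.node (nat_lit 121) (BT.leaf [(nat_lit 15), (nat_lit 17)]) (BT.leaf [(nat_lit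 15)])))) (BT.node (nat_lit 125) (BT.node (nat_lit 123) (BT.leaf [(nat_lit 15)]) (BT.node (nat_lit 124) (BT.leaf [(nat_lit 15)]) (BT.leaf [(nat_lit 15)]))) (BT.node (nat_lit 126) (BT.leaf [(nat_lit 15)]) (BT.node (nat_lit 127) (BT.leaf [(nat_lit 15)]) (BT.leaf [(nat_lit 15)]))))))) (BT.node (nat_lit 149) (BT.node (nat_lit 138) (BT.node (nat_lit 133) (BT.node (nat_lit 130) (BT.node (nat_lit 129) (BT.leaf [(nat_lit 15)]) (BT.leaf [(nat_lit 15)])) (BT.node (nat_lit 131) (BT.leaf [(nat_lit 15)]) (BT.node (nat_lit 132) (BT.leaf [(nat_lit 15)]) (BT.leaf [(nat_lit 15)])))) (BT.node (nat_lit 135) (BT.node (nat_lit 134) (BT.leaf [(nat_lit 15)]) (BT.leaf [(nat_lit 15)])) (BT.node (nat_lit 136) (BT.leaf []) (BT.node (nat_lit 137) (BT.leaf [(nat_lit 16), (nat_lit 17)]) (BT.leaf [(nat_lit 16)]))))) (BT.node (nat_lit 143) (BT.node (nat_lit 140) (BT.node (nat_lit 139) (BT.leaf [(nat_lit 16)]) (BT.leaf [(nat_lit 16)])) (BT.node (nat_lit 141) (BT.leaf [(nat_lit 16)]) (BT.node (nat_lit 142) (BT.leaf [(nat_lit 16)]) (BT.leaf [(nat_lit 16)]))))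 (BT.node (nat_lit 146) (BT.node (nat_lit 144) (BT.leaf [(nat_lit 16)]) (BT.node (nat_lit 145) (BT.leaf [(nat_lit 16)]) (BT.leaf [(nat_lit 16)]))) (BT.node (nat_lit 147) (BT.leaf [(nat_lit 16)]) (BT.node (nat_lit 148) (BT.leaf [(nat_lit 16)]) (BT.leaf [(nat_lit 16)])))))) (BT.node (nat_lit 160) (BT.node (nat_lit 154) (BT.node (nat_lit 151) (BT.node (nat_lit 150) (BT.leaf [(nat_lit 16)]) (BT.leaf [(nat_lit 16)])) (BT.node (nat_lit 152) (BT.leaf [(nat_lit 16)]) (BT.node (nat_lit 153) (BT.leaf []) (BT.leaf [(nat_lit 17)])))) (BT.node (nat_lit 157) (BT.node (nat_lit 155) (BT.leaf [(nat_lit 17)]) (BT.node (nat_lit 156) (BT.leaf [(nat_lit 17)]) (BT.leaf [(nat_lit 17)]))) (BT.node (nat_lit 158) (BT.leaf [(nat_lit 17)]) (BT.node (nat_lit 159) (BT.leaf [(nat_lit 17)]) (BT.leaf [(nat_lit 17)]))))) (BT.node (nat_lit 165) (BT.node (nat_lit 162) (BT.node (nat_lit 161) (BT.leaf [(nat_lit 17)]) (BT.leaf [(nat_lit 17)])) (BT.node (nat_lit 163) (BT.leaf [(nat_lit 17)]) (BT.node (nat_lit 164) (BT.leaf [(nat_lit 17)]) (BT.leaf [(nat_lit 17)]))))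 (BT.node (nat_lit 168) (BT.node (nat_lit 166) (BT.leaf [(nat_lit 17)]) (BT.node (nat_lit 167) (BT.leaf [(nat_lit 17)]) (BT.leaf [(nat_lit 17)]))) (BT.node (nat_lit 169) (BT.leaf [(nat_lit 17)]) (BT.node (nat_lit 170) (BT.leaf [(nat_lit 17)]) (BT.leaf []))))))))), []⟩

noncomputable def Y : List Nat := [(nat_lit 0), (nat_lit 2), (nat_lit 3), (nat_lit 4), (nat_lit 5), (nat_lit 7), (nat_lit 11), (nat_lit 1), (nat_lit 6), (nat_lit 8), (nat_lit 9), (nat_lit 10), (nat_lit 12), (nat_lit 13), (nat_lit 14), (nat_lit 15), (nat_lit 16), (nat_lit 17)]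

noncomputable def U : List Nat := [(nat_lit 0), (nat_lit 7), (nat_lit 1), (nat_lit 2), (nat_lit 3), (nat_lit 4), (nat_lit 8), (nat_lit 5), (nat_lit 9), (nat_lit 10), (nat_lit 11), (nat_lit 6), (nat_lit 12), (nat_lit 13), (nat_lit 14), (nat_lit 15), (nat_lit 16), (nat_lit 17)]

noncomputable def Ns : BT Nat := (BT.node (nat_lit 64) (BT.node (nat_lit 32) (BT.node (nat_lit 16) (BT.node (nat_lit 8) (BT.node (nat_lit 4) (BT.node (nat_lit 2) (BT.node (nat_lit 1) (BT.leaf (nat_lit 0xf0f0000c33300ff0fff)) (BT.leaf (nat_lit 0xf0f0000c33300ff0fff))) (BT.node (nat_lit 3) (BT.leaf (nat_lit 0xf0f0000000000ff0fff)) (BT.leaf (nat_lit 0xf0f0000000000ff0fff)))) (BT.node (nat_lit 6) (BT.node (nat_lit 5) (BT.leaf (nat_lit 0x3300ff00ff)) (BT.leaf (nat_lit 0x3300ff00ff))) (BT.node (nat_lit 7) (BT.leaf (nat_lit 0xc30000ff00ff)) (BT.leaf (nat_lit 0xc30000ff00ff))))) (BT.node (nat_lit 12) (BT.node (nat_lit 10) (BT.node (nat_lit 9) (BT.leaf (nat_lit 0xf0f0000030300000f0f)) (BT.leaf (nat_lit 0xf0f0000030300000f0f))) (BT.node (nat_lit 11) (BT.leaf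 (nat_lit 0xf0f0000c03000000f0f)) (BT.leaf (nat_lit 0xf0f0000c03000000f0f)))) (BT.node (nat_lit 14) (BT.node (nat_lit 13) (BT.leaf (nat_lit 0)) (BT.leaf (nat_lit 0))) (BT.node (nat_lit 15) (BT.leaf (nat_lit 0)) (BT.leaf (nat_lit 0)))))) (BT.node (nat_lit 24) (BT.node (nat_lit 20) (BT.node (nat_lit 18) (BT.node (nat_lit 17) (BT.leaf (nat_lit 0xff00ff)) (BT.leaf (nat_lit 0xff00ff))) (BT.node (nat_lit 19) (BT.leaf (nat_lit 0xff00ff)) (BT.leaf (nat_lit 0xff00ff)))) (BT.node (nat_lit 22) (BT.node (nat_lit 21) (BT.leaf (nat_lit 0xff00ff)) (BT.leaf (nat_lit 0xff00ff))) (BT.node (nat_lit 23) (BT.leaf (nat_lit 0xff00ff)) (BT.leaf (nat_lit 0xff00ff))))) (BT.node (nat_lit 28) (BT.node (nat_lit 26) (BT.node (nat_lit 25) (BT.leaf (nat_lit 0)) (BT.leaf (nat_lit 0))) (BT.node (nat_lit 27) (BT.leaf (nat_lit 0)) (BT.leaf (nat_lit 0)))) (BT.node (nat_lit 30) (BT.node (nat_lit 29) (BT.leaf (nat_lit 0)) (BT.leaf (nat_lit 0))) (BT.node (nat_lit 31) (BT.leaf (nat_lit 0)) (BT.leaf (nat_lit 0))))))) (BT.node (nat_lit 48) (BT.node (nat_lit 40)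 (BT.node (nat_lit 36) (BT.node (nat_lit 34) (BT.node (nat_lit 33) (BT.leaf (nat_lit 0x33300000333)) (BT.leaf (nat_lit 0x33300000333))) (BT.node (nat_lit 35) (BT.leaf (nat_lit 0)) (BT.leaf (nat_lit 0)))) (BT.node (nat_lit 38) (BT.node (nat_lit 37) (BT.leaf (nat_lit 0xc03300000c33)) (BT.leaf (nat_lit 0xc03300000c33))) (BT.node (nat_lit 39) (BT.leaf (nat_lit 0)) (BT.leaf (nat_lit 0))))) (BT.node (nat_lit 44) (BT.node (nat_lit 42) (BT.node (nat_lit 41) (BT.leaf (nat_lit 0xc303000003c3)) (BT.leaf (nat_lit 0xc303000003c3))) (BT.node (nat_lit 43) (BT.leaf (nat_lit 0)) (BT.leaf (nat_lit 0)))) (BT.node (nat_lit 46) (BT.node (nat_lit 45) (BT.leaf (nat_lit 0)) (BT.leaf (nat_lit 0))) (BT.node (nat_lit 47) (BT.leaf (nat_lit 0xc33000000cc3)) (BT.leaf (nat_lit 0xc33000000cc3)))))) (BT.node (nat_lit 56) (BT.node (nat_lit 52) (BT.node (nat_lit 50) (BT.node (nat_lit 49) (BT.leaf (nat_lit 0)) (BT.leaf (nat_lit 0))) (BT.node (nat_lit 51) (BT.leaf (nat_lit 0)) (BT.leaf (nat_lit 0)))) (BT.node (nat_lit 54) (BT.node (nat_lit 53) (BT.leaf (nat_lit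 0)) (BT.leaf (nat_lit 0))) (BT.node (nat_lit 55) (BT.leaf (nat_lit 0)) (BT.leaf (nat_lit 0))))) (BT.node (nat_lit 60) (BT.node (nat_lit 58) (BT.node (nat_lit 57) (BT.leaf (nat_lit 0)) (BT.leaf (nat_lit 0))) (BT.node (nat_lit 59) (BT.leaf (nat_lit 0)) (BT.leaf (nat_lit 0)))) (BT.node (nat_lit 62) (BT.node (nat_lit 61) (BT.leaf (nat_lit 0)) (BT.leaf (nat_lit 0))) (BT.node (nat_lit 63) (BT.leaf (nat_lit 0)) (BT.leaf (nat_lit 0)))))))) (BT.node (nat_lit 96) (BT.node (nat_lit 80) (BT.node (nat_lit 72) (BT.node (nat_lit 68) (BT.node (nat_lit 66) (BT.node (nat_lit 65) (BT.leaf (nat_lit 0xf0f0000000000000f0f)) (BT.leaf (nat_lit 0xf0f0000000000000f0f))) (BT.node (nat_lit 67) (BT.leaf (nat_lit 0xf0f0000000000000f0f)) (BT.leaf (nat_lit 0xf0f0000000000000f0f)))) (BT.node (nat_lit 70) (BT.node (nat_lit 69) (BT.leaf (nat_lit 0)) (BT.leaf (nat_lit 0))) (BT.node (nat_lit 71) (BT.leaf (nat_lit 0)) (BT.leaf (nat_lit 0))))) (BT.node (nat_lit 76) (BT.node (nat_lit 74) (BT.node (nat_lit 73) (BT.leaf (nat_lit 0xf0f0000000000000f0f)) (BT.leaf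 (nat_lit 0xf0f0000000000000f0f))) (BT.node (nat_lit 75) (BT.leaf (nat_lit 0xf0f0000000000000f0f)) (BT.leaf (nat_lit 0xf0f0000000000000f0f)))) (BT.node (nat_lit 78) (BT.node (nat_lit 77) (BT.leaf (nat_lit 0)) (BT.leaf (nat_lit 0))) (BT.node (nat_lit 79) (BT.leaf (nat_lit 0)) (BT.leaf (nat_lit 0)))))) (BT.node (nat_lit 88) (BT.node (nat_lit 84) (BT.node (nat_lit 82) (BT.node (nat_lit 81) (BT.leaf (nat_lit 0)) (BT.leaf (nat_lit 0))) (BT.node (nat_lit 83) (BT.leaf (nat_lit 0)) (BT.leaf (nat_lit 0)))) (BT.node (nat_lit 86) (BT.node (nat_lit 85) (BT.leaf (nat_lit 0)) (BT.leaf (nat_lit 0))) (BT.node (nat_lit 87) (BT.leaf (nat_lit 0)) (BT.leaf (nat_lit 0))))) (BT.node (nat_lit 92) (BT.node (nat_lit 90) (BT.node (nat_lit 89) (BT.leaf (nat_lit 0)) (BT.leaf (nat_lit 0))) (BT.node (nat_lit 91) (BT.leaf (nat_lit 0)) (BT.leaf (nat_lit 0)))) (BT.node (nat_lit 94) (BT.node (nat_lit 93) (BT.leaf (nat_lit 0)) (BT.leaf (nat_lit 0))) (BT.node (nat_lit 95) (BT.leaf (nat_lit 0)) (BT.leaf (nat_lit 0))))))) (BT.node (nat_lit 112) (BT.node (nat_lit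 104) (BT.node (nat_lit 100) (BT.node (nat_lit 98) (BT.node (nat_lit 97) (BT.leaf (nat_lit 0)) (BT.leaf (nat_lit 0))) (BT.node (nat_lit 99) (BT.leaf (nat_lit 0)) (BT.leaf (nat_lit 0)))) (BT.node (nat_lit 102) (BT.node (nat_lit 101) (BT.leaf (nat_lit 0)) (BT.leaf (nat_lit 0))) (BT.node (nat_lit 103) (BT.leaf (nat_lit 0)) (BT.leaf (nat_lit 0))))) (BT.node (nat_lit 108) (BT.node (nat_lit 106) (BT.node (nat_lit 105) (BT.leaf (nat_lit 0)) (BT.leaf (nat_lit 0))) (BT.node (nat_lit 107) (BT.leaf (nat_lit 0)) (BT.leaf (nat_lit 0)))) (BT.node (nat_lit 110) (BT.node (nat_lit 109) (BT.leaf (nat_lit 0)) (BT.leaf (nat_lit 0))) (BT.node (nat_lit 111) (BT.leaf (nat_lit 0)) (BT.leaf (nat_lit 0)))))) (BT.node (nat_lit 120) (BT.node (nat_lit 116) (BT.node (nat_lit 114) (BT.node (nat_lit 113) (BT.leaf (nat_lit 0)) (BT.leaf (nat_lit 0))) (BT.node (nat_lit 115) (BT.leaf (nat_lit 0)) (BT.leaf (nat_lit 0)))) (BT.node (nat_lit 118) (BT.node (nat_lit 117) (BT.leaf (nat_lit 0)) (BT.leaf (nat_lit 0))) (BT.node (nat_lit 119) (BT.leaf (nat_lit 0)) (BT.leaf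 (nat_lit 0))))) (BT.node (nat_lit 124) (BT.node (nat_lit 122) (BT.node (nat_lit 121) (BT.leaf (nat_lit 0)) (BT.leaf (nat_lit 0))) (BT.node (nat_lit 123) (BT.leaf (nat_lit 0)) (BT.leaf (nat_lit 0)))) (BT.node (nat_lit 126) (BT.node (nat_lit 125) (BT.leaf (nat_lit 0)) (BT.leaf (nat_lit 0))) (BT.node (nat_lit 127) (BT.leaf (nat_lit 0)) (BT.leaf (nat_lit 0)))))))))

noncomputable def Cs : BT Nat := (BT.node (nat_lit 64) (BT.node (nat_lit 32) (BT.node (nat_lit 16) (BT.node (nat_lit 8) (BT.node (nat_lit 4) (BT.node (nat_lit 2) (BT.node (nat_lit 1) (BT.leaf (nat_lit 0xffffffffffffffffffffffffffffffffffffffffffffffffffffffffffffffffffffffffffffffffffffffffffffffffffffffffffffffffffffffffffffffffffffffffffffffffffffffffffffffffffffffffffffffffffffffffffffffffffffffffffffffffffffffffffffffffffffffffffffffffffffffffffffffffffffffffffffffffffffffffffffffffffffffffffffffffffffffffffffffffffffffffffffffffffffffffffffffffffffffffffffffffffffffffffffffffffffffffffffffffffffffffffffffffffffffffffffffffffffffffffffffffffffffffffffffffffffffffffffffffffffffffffffffffffffffffffffffff))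 (BT.leaf (nat_lit 0x101000001010000010100000101000001010000010100000101000001010000010100000101000001010000010100000101000001010000010100000101000001010000010100000101000001010000010100000101000001010000010100000101000001010000010100000101000001010000010100000101000001010000010100000101000001010000010100000101000001010000010100000101000001010000010100000101000001010000010100000101000001010000010100000101000001010000010100000101000001010000010100000101000001010000010100000101000001010000010100000101000001010000010100000101))) (BT.node (nat_lit 3) (BT.leaf (nat_lit 0x101010101010101000000000000000001010101010101010000000000000000010101010101010100000000000000000101010101010101000000000000000001010101010101010000000000000000010101010101010100000000000000000101010101010101000000000000000001010101010101010000000000000000010101010101010100000000000000000101010101010101000000000000000001010101010101010000000000000000010101010101010100000000000000000101010101010101000000000000000001010101010101010000000000000000010101010101010100000000000000000101010101010101))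 (BT.leaf (nat_lit 0x1010000010100000000010100000101010100000101000000000101000001010101000001010000000001010000010101010000010100000000010100000101010100000101000000000101000001010101000001010000000001010000010101010000010100000000010100000101010100000101000000000101000001010101000001010000000001010000010101010000010100000000010100000101010100000101000000000101000001010101000001010000000001010000010101010000010100000000010100000101010100000101000000000101000001010101000001010000000001010000010101010000010100000000010100000101)))) (BT.node (nat_lit 6) (BT.node (nat_lit 5) (BT.leaf (nat_lit 0x111100001111000000000000000000001111000011110000000000000000000011110000111100000000000000000000111100001111000000000000000000001111000011110000000000000000000011110000111100000000000000000000111100001111000000000000000000001111000011110000000000000000000011110000111100000000000000000000111100001111000000000000000000001111000011110000000000000000000011110000111100000000000000000000111100001111000000000000000000001111000011110000000000000000000011110000111100000000000000000000111100001111))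 (BT.leaf (nat_lit 0x1010000010100000010100000101000010100000101000000101000001010000101000001010000001010000010100001010000010100000010100000101000010100000101000000101000001010000101000001010000001010000010100001010000010100000010100000101000010100000101000000101000001010000101000001010000001010000010100001010000010100000010100000101000010100000101000000101000001010000101000001010000001010000010100001010000010100000010100000101000010100000101000000101000001010000101000001010000001010000010100001010000010100000010100000101))) (BT.node (nat_lit 7) (BT.leaf (nat_lit 0x1010010110100101000000000000000010100101101001010000000000000000101001011010010100000000000000001010010110100101000000000000000010100101101001010000000000000000101001011010010100000000000000001010010110100101000000000000000010100101101001010000000000000000101001011010010100000000000000001010010110100101000000000000000010100101101001010000000000000000101001011010010100000000000000001010010110100101000000000000000010100101101001010000000000000000101001011010010100000000000000001010010110100101))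 (BT.leaf (nat_lit 0x10100000101000000000010100000101101000001010000000000101000001011010000010100000000001010000010110100000101000000000010100000101101000001010000000000101000001011010000010100000000001010000010110100000101000000000010100000101101000001010000000000101000001011010000010100000000001010000010110100000101000000000010100000101101000001010000000000101000001011010000010100000000001010000010110100000101000000000010100000101101000001010000000000101000001011010000010100000000001010000010110100000101000000000010100000101))))) (BT.node (nat_lit 12) (BT.node (nat_lit 10) (BT.node (nat_lit 9) (BT.leaf (nat_lit 0x3000300000000000300030000000300000000000300030000000000030000000300030000000000030003000000030000000000030003000000000003000000030003000000000003000300000003000000000003000300000000000300000003000300000000000300030000000300000000000300030000000000030000000300030000000000030003000000030000000000030003000000000003000000030003000000000003000300000003000000000003000300000000000300000003000300000000000300030000000300000000000300030000000000030000000300030000000000030003000000030000000000030003000000000003))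 (BT.leaf (nat_lit 0x210021000000000021002100000000000000000021002100000000002100210021002100000000002100210000000000000000002100210000000000210021002100210000000000210021000000000000000000210021000000000021002100210021000000000021002100000000000000000021002100000000002100210021002100000000002100210000000000000000002100210000000000210021002100210000000000210021000000000000000000210021000000000021002100210021000000000021002100000000000000000021002100000000002100210021002100000000002100210000000000000000002100210000000000210021))) (BT.node (nat_lit 11) (BT.leaf (nat_lit 0x810000000000810000008100810000000000810081000000810000000000810081000000000081000000810081000000000081008100000081000000000081008100000000008100000081008100000000008100810000008100000000008100810000000000810000008100810000000000810081000000810000000000810081000000000081000000810081000000000081008100000081000000000081008100000000008100000081008100000000008100810000008100000000008100810000000000810000008100810000000000810081000000810000000000810081000000000081000000810081000000000081008100000081000000000081))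 (BT.leaf (nat_lit 0x80108010801080100000000080108010000000000000000080108010000000008010801080108010000000008010801000000000000000008010801000000000801080108010801000000000801080100000000000000000801080100000000080108010801080100000000080108010000000000000000080108010000000008010801080108010000000008010801000000000000000008010801000000000801080108010801000000000801080100000000000000000801080100000000080108010801080100000000080108010000000000000000080108010000000008010801080108010000000008010801000000000000000008010801)))) (BT.node (nat_lit 14) (BT.node (nat_lit 13) (BT.leaf (nat_lit 0)) (BT.leaf (nat_lit 0))) (BT.node (nat_lit 15) (BT.leaf (nat_lit 0)) (BT.leaf (nat_lit 0)))))) (BT.node (nat_lit 24) (BT.node (nat_lit 20) (BT.node (nat_lit 18) (BT.node (nat_lit 17) (BT.leaf (nat_lit 0x414100004141000000000000000000004141000041410000000000000000000041410000414100000000000000000000414100004141000000000000000000004141000041410000000000000000000041410000414100000000000000000000414100004141000000000000000000004141000041410000000000000000000041410000414100000000000000000000414100004141000000000000000000004141000041410000000000000000000041410000414100000000000000000000414100004141000000000000000000004141000041410000000000000000000041410000414100000000000000000000414100004141))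 (BT.leaf (nat_lit 0x4040000040400000010100000101000040400000404000000101000001010000404000004040000001010000010100004040000040400000010100000101000040400000404000000101000001010000404000004040000001010000010100004040000040400000010100000101000040400000404000000101000001010000404000004040000001010000010100004040000040400000010100000101000040400000404000000101000001010000404000004040000001010000010100004040000040400000010100000101000040400000404000000101000001010000404000004040000001010000010100004040000040400000010100000101))) (BT.node (nat_lit 19) (BT.leaf (nat_lit 0x4040010140400101000000000000000040400101404001010000000000000000404001014040010100000000000000004040010140400101000000000000000040400101404001010000000000000000404001014040010100000000000000004040010140400101000000000000000040400101404001010000000000000000404001014040010100000000000000004040010140400101000000000000000040400101404001010000000000000000404001014040010100000000000000004040010140400101000000000000000040400101404001010000000000000000404001014040010100000000000000004040010140400101))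 (BT.leaf (nat_lit 0x40400000404000000000010100000101404000004040000000000101000001014040000040400000000001010000010140400000404000000000010100000101404000004040000000000101000001014040000040400000000001010000010140400000404000000000010100000101404000004040000000000101000001014040000040400000000001010000010140400000404000000000010100000101404000004040000000000101000001014040000040400000000001010000010140400000404000000000010100000101404000004040000000000101000001014040000040400000000001010000010140400000404000000000010100000101)))) (BT.node (nat_lit 22) (BT.node (nat_lit 21) (BT.leaf (nat_lit 0x50500000505000000000000000000000505000005050000000000000000000005050000050500000000000000000000050500000505000000000000000000000505000005050000000000000000000005050000050500000000000000000000050500000505000000000000000000000505000005050000000000000000000005050000050500000000000000000000050500000505000000000000000000000505000005050000000000000000000005050000050500000000000000000000050500000505000000000000000000000505000005050000000000000000000005050000050500000000000000000000050500000505))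 (BT.leaf (nat_lit 0x404000004040000010100000101000004040000040400000101000001010000040400000404000001010000010100000404000004040000010100000101000004040000040400000101000001010000040400000404000001010000010100000404000004040000010100000101000004040000040400000101000001010000040400000404000001010000010100000404000004040000010100000101000004040000040400000101000001010000040400000404000001010000010100000404000004040000010100000101000004040000040400000101000001010000040400000404000001010000010100000404000004040000010100000101))) (BT.node (nat_lit 23) (BT.leaf (nat_lit 0x404010104040101000000000000000004040101040401010000000000000000040401010404010100000000000000000404010104040101000000000000000004040101040401010000000000000000040401010404010100000000000000000404010104040101000000000000000004040101040401010000000000000000040401010404010100000000000000000404010104040101000000000000000004040101040401010000000000000000040401010404010100000000000000000404010104040101000000000000000004040101040401010000000000000000040401010404010100000000000000000404010104040101))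 (BT.leaf (nat_lit 0x4040000040400000000010100000101040400000404000000000101000001010404000004040000000001010000010104040000040400000000010100000101040400000404000000000101000001010404000004040000000001010000010104040000040400000000010100000101040400000404000000000101000001010404000004040000000001010000010104040000040400000000010100000101040400000404000000000101000001010404000004040000000001010000010104040000040400000000010100000101040400000404000000000101000001010404000004040000000001010000010104040000040400000000010100000101))))) (BT.node (nat_lit 28) (BT.node (nat_lit 26) (BT.node (nat_lit 25) (BT.leaf (nat_lit 0)) (BT.leaf (nat_lit 0))) (BT.node (nat_lit 27) (BT.leaf (nat_lit 0)) (BT.leaf (nat_lit 0)))) (BT.node (nat_lit 30) (BT.node (nat_lit 29) (BT.leaf (nat_lit 0)) (BT.leaf (nat_lit 0))) (BT.node (nat_lit 31) (BT.leaf (nat_lit 0)) (BT.leaf (nat_lit 0))))))) (BT.node (nat_lit 48) (BT.node (nat_lit 40) (BT.node (nat_lit 36) (BT.node (nat_lit 34) (BT.node (nat_lit 33) (BT.leaf (nat_lit 0x333300000000000033330000000000000000000000000000000000000000000033330000000000003333000000000000000000000000000000000000000000003333000000000000333300000000000000000000000000000000000000000000333300000000000033330000000000000000000000000000000000000000000033330000000000003333000000000000000000000000000000000000000000003333000000000000333300000000000000000000000000000000000000000000333300000000000033330000000000000000000000000000000000000000000033330000000000003333))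 (BT.leaf (nat_lit 0x20210100000000002021010000000002020010100000000202001010000000002021010000000000202101000000000202001010000000020200101000000000202101000000000020210100000000020200101000000002020010100000000020210100000000002021010000000002020010100000000202001010000000002021010000000000202101000000000202001010000000020200101000000000202101000000000020210100000000020200101000000002020010100000000020210100000000002021010000000002020010100000000202001010000000002021010000000000202101000000000202001010000000020200101))) (BT.node (nat_lit 35) (BT.leaf (nat_lit 0)) (BT.leaf (nat_lit 0)))) (BT.node (nat_lit 38) (BT.node (nat_lit 37) (BT.leaf (nat_lit 0x99990000000000000000000000000000000000000000000099990000000000009999000000000000000000000000000000000000000000009999000000000000999900000000000000000000000000000000000000000000999900000000000099990000000000000000000000000000000000000000000099990000000000009999000000000000000000000000000000000000000000009999000000000000999900000000000000000000000000000000000000000000999900000000000099990000000000000000000000000000000000000000000099990000000000009999000000000000000000000000000000000000000000009999))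 (BT.leaf (nat_lit 0x80800000000001010808000000001010080800000000101080800000000001018080000000000101080800000000101008080000000010108080000000000101808000000000010108080000000010100808000000001010808000000000010180800000000001010808000000001010080800000000101080800000000001018080000000000101080800000000101008080000000010108080000000000101808000000000010108080000000010100808000000001010808000000000010180800000000001010808000000001010080800000000101080800000000001018080000000000101080800000000101008080000000010108080000000000101))) (BT.node (nat_lit 39) (BT.leaf (nat_lit 0)) (BT.leaf (nat_lit 0))))) (BT.node (nat_lit 44) (BT.node (nat_lit 42) (BT.node (nat_lit 41) (BT.leaf (nat_lit 0x300003000030000330000300003000030000000000000000000000000000000030000300003000033000030000300003000000000000000000000000000000003000030000300003300003000030000300000000000000000000000000000000300003000030000330000300003000030000000000000000000000000000000030000300003000033000030000300003000000000000000000000000000000003000030000300003300003000030000300000000000000000000000000000000300003000030000330000300003000030000000000000000000000000000000030000300003000033000030000300003))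 (BT.leaf (nat_lit 0x12000000001200001200000000120000000021000000002100002100000000211200000000120000120000000012000000002100000000210000210000000021120000000012000012000000001200000000210000000021000021000000002112000000001200001200000000120000000021000000002100002100000000211200000000120000120000000012000000002100000000210000210000000021120000000012000012000000001200000000210000000021000021000000002112000000001200001200000000120000000021000000002100002100000000211200000000120000120000000012000000002100000000210000210000000021))) (BT.node (nat_lit 43) (BT.leaf (nat_lit 0)) (BT.leaf (nat_lit 0)))) (BT.node (nat_lit 46) (BT.node (nat_lit 45) (BT.leaf (nat_lit 0)) (BT.leaf (nat_lit 0))) (BT.node (nat_lit 47) (BT.leaf (nat_lit 0x10800108801008010000000000000000000000000000000010800108801008011080010880100801000000000000000000000000000000001080010880100801108001088010080100000000000000000000000000000000108001088010080110800108801008010000000000000000000000000000000010800108801008011080010880100801000000000000000000000000000000001080010880100801108001088010080100000000000000000000000000000000108001088010080110800108801008010000000000000000000000000000000010800108801008011080010880100801000000000000000000000000000000001080010880100801))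 (BT.leaf (nat_lit 0x8100000000811800000000180000180000000018000000008100000000810000810000000081180000000018000018000000001800000000810000000081000081000000008118000000001800001800000000180000000081000000008100008100000000811800000000180000180000000018000000008100000000810000810000000081180000000018000018000000001800000000810000000081000081000000008118000000001800001800000000180000000081000000008100008100000000811800000000180000180000000018000000008100000000810000810000000081180000000018000018000000001800000000810000000081)))))) (BT.node (nat_lit 56) (BT.node (nat_lit 52) (BT.node (nat_lit 50) (BT.node (nat_lit 49) (BT.leaf (nat_lit 0)) (BT.leaf (nat_lit 0))) (BT.node (nat_lit 51) (BT.leaf (nat_lit 0)) (BT.leaf (nat_lit 0)))) (BT.node (nat_lit 54) (BT.node (nat_lit 53) (BT.leaf (nat_lit 0)) (BT.leaf (nat_lit 0))) (BT.node (nat_lit 55) (BT.leaf (nat_lit 0)) (BT.leaf (nat_lit 0))))) (BT.node (nat_lit 60) (BT.node (nat_lit 58) (BT.node (nat_lit 57) (BT.leaf (nat_lit 0)) (BT.leaf (nat_lit 0))) (BT.node (nat_lit 59) (BT.leaf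 (nat_lit 0)) (BT.leaf (nat_lit 0)))) (BT.node (nat_lit 62) (BT.node (nat_lit 61) (BT.leaf (nat_lit 0)) (BT.leaf (nat_lit 0))) (BT.node (nat_lit 63) (BT.leaf (nat_lit 0)) (BT.leaf (nat_lit 0)))))))) (BT.node (nat_lit 96) (BT.node (nat_lit 80) (BT.node (nat_lit 72) (BT.node (nat_lit 68) (BT.node (nat_lit 66) (BT.node (nat_lit 65) (BT.leaf (nat_lit 0x30000000300000000000300000003000300000003000000000003000000030000000300000003000300000003000000000003000000030003000000030000000000030000000300030000000300000000000300000003000300000003000000030000000300000000000300000003000300000003000000000003000000030003000000030000000000030000000300030000000300000000000300000003000000030000000300030000000300000000000300000003000300000003000000000003000000030003000000030000000000030000000300030000000300000003000000030000000000030000000300030000000300000000000300000003)) (BT.leaf (nat_lit 0x81008100810081000000000000000000810081008100810081008100810081000000000000000000810081008100810000000000000000008100810081008100000000000000000081008100810081000000000000000000000000000000000081008100810081000000000000000000810081008100810000000000000000008100810081008100000000000000000081008100810081008100810081008100000000000000000081008100810081000000000000000000810081008100810000000000000000008100810081008100000000000000000000000000000000008100810081008100000000000000000081008100810081)))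 (BT.node (nat_lit 67) (BT.leaf (nat_lit 0x801000008010000080100000801000008010000080100000801000008010801000008010000080100000801000008010000080100000801000008010000080100000801000008010000080100000801000008010000080100000801000000000801000008010000080100000801000008010000080100000801000008010000080100000801000008010000080100000801000008010000080100000801080100000801000008010000080100000801000008010000080100000801000008010000080100000801000008010000080100000801000008010000080100000000080100000801000008010000080100000801000008010000080100000801)) (BT.leaf (nat_lit 0x210021002100210021002100210021002100210021002100210021002100210000000000000000000000000000000000000000000000000000000000000000000000000000000000000000000000000000000000000000000000000000000000210021002100210021002100210021002100210021002100210021002100210021002100210021002100210021002100210021002100210021002100210021000000000000000000000000000000000000000000000000000000000000000000000000000000000000000000000000000000000000000000000000000000000021002100210021002100210021002100210021002100210021002100210021))))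 (BT.node (nat_lit 70) (BT.node (nat_lit 69) (BT.leaf (nat_lit 0)) (BT.leaf (nat_lit 0))) (BT.node (nat_lit 71) (BT.leaf (nat_lit 0)) (BT.leaf (nat_lit 0))))) (BT.node (nat_lit 76) (BT.node (nat_lit 74) (BT.node (nat_lit 73) (BT.leaf (nat_lit 0x300030003000300000000000300030000000000000000000300030003000300000000000000000003000300000000000300030003000300000000000300030000000000000000000300030000000000030003000300030000000000000000000300030003000300000000000300030000000000000000000300030000000000030003000300030000000000030003000000000000000000030003000300030000000000000000000300030000000000030003000300030000000000030003000000000000000000030003000000000003000300030003000000000000000000030003000300030000000000030003000000000000000000030003)) (BT.leaf (nat_lit 0x8010000000008010000080108010000000008010801000008010000000008010000080108010000080100000000080108010000000008010000080108010000000008010801000008010000000008010801000000000801000008010801000008010000000008010000080108010000000008010801000008010000000008010801000000000801000008010801000000000801080100000801000000000801000008010801000008010000000008010801000000000801000008010801000000000801080100000801000000000801080100000000080100000801080100000801000000000801000008010801000000000801080100000801000000000801)))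 (BT.node (nat_lit 75) (BT.leaf (nat_lit 0x210021000000000021002100000000000000000021002100000000002100210000000000210021000000000021002100210021000000000021002100000000000000000021002100000000002100210021002100000000002100210000000000210021000000000021002100000000000000000021002100000000002100210021002100000000002100210000000000000000002100210000000000210021000000000021002100000000002100210021002100000000002100210000000000000000002100210000000000210021002100210000000000210021000000000021002100000000002100210000000000000000002100210000000000210021)) (BT.leaf (nat_lit 0x81008100000000008100810000008100000000008100810000000000810081000000000081008100000000008100000081008100000000008100810000008100000000008100810000000000810000008100810000000000810081000000000081008100000000008100810000008100000000008100810000000000810000008100810000000000810081000000810000000000810081000000000081008100000000008100810000000000810000008100810000000000810081000000810000000000810081000000000081000000810081000000000081008100000000008100810000000000810081000000810000000000810081000000000081))))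 (BT.node (nat_lit 78) (BT.node (nat_lit 77) (BT.leaf (nat_lit 0)) (BT.leaf (nat_lit 0))) (BT.node (nat_lit 79) (BT.leaf (nat_lit 0)) (BT.leaf (nat_lit 0)))))) (BT.node (nat_lit 88) (BT.node (nat_lit 84) (BT.node (nat_lit 82) (BT.node (nat_lit 81) (BT.leaf (nat_lit 0)) (BT.leaf (nat_lit 0))) (BT.node (nat_lit 83) (BT.leaf (nat_lit 0)) (BT.leaf (nat_lit 0)))) (BT.node (nat_lit 86) (BT.node (nat_lit 85) (BT.leaf (nat_lit 0)) (BT.leaf (nat_lit 0))) (BT.node (nat_lit 87) (BT.leaf (nat_lit 0)) (BT.leaf (nat_lit 0))))) (BT.node (nat_lit 92) (BT.node (nat_lit 90) (BT.node (nat_lit 89) (BT.leaf (nat_lit 0)) (BT.leaf (nat_lit 0))) (BT.node (nat_lit 91) (BT.leaf (nat_lit 0)) (BT.leaf (nat_lit 0)))) (BT.node (nat_lit 94) (BT.node (nat_lit 93) (BT.leaf (nat_lit 0)) (BT.leaf (nat_lit 0))) (BT.node (nat_lit 95) (BT.leaf (nat_lit 0)) (BT.leaf (nat_lit 0))))))) (BT.node (nat_lit 112) (BT.node (nat_lit 104) (BT.node (nat_lit 100) (BT.node (nat_lit 98) (BT.node (nat_lit 97) (BT.leaf (nat_lit 0)) (BT.leaf (nat_lit 0))) (BT.node (nat_lit 99)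 (BT.leaf (nat_lit 0)) (BT.leaf (nat_lit 0)))) (BT.node (nat_lit 102) (BT.node (nat_lit 101) (BT.leaf (nat_lit 0)) (BT.leaf (nat_lit 0))) (BT.node (nat_lit 103) (BT.leaf (nat_lit 0)) (BT.leaf (nat_lit 0))))) (BT.node (nat_lit 108) (BT.node (nat_lit 106) (BT.node (nat_lit 105) (BT.leaf (nat_lit 0)) (BT.leaf (nat_lit 0))) (BT.node (nat_lit 107) (BT.leaf (nat_lit 0)) (BT.leaf (nat_lit 0)))) (BT.node (nat_lit 110) (BT.node (nat_lit 109) (BT.leaf (nat_lit 0)) (BT.leaf (nat_lit 0))) (BT.node (nat_lit 111) (BT.leaf (nat_lit 0)) (BT.leaf (nat_lit 0)))))) (BT.node (nat_lit 120) (BT.node (nat_lit 116) (BT.node (nat_lit 114) (BT.node (nat_lit 113) (BT.leaf (nat_lit 0)) (BT.leaf (nat_lit 0))) (BT.node (nat_lit 115) (BT.leaf (nat_lit 0)) (BT.leaf (nat_lit 0)))) (BT.node (nat_lit 118) (BT.node (nat_lit 117) (BT.leaf (nat_lit 0)) (BT.leaf (nat_lit 0))) (BT.node (nat_lit 119) (BT.leaf (nat_lit 0)) (BT.leaf (nat_lit 0))))) (BT.node (nat_lit 124) (BT.node (nat_lit 122) (BT.node (nat_lit 121) (BT.leaf (nat_lit 0)) (BT.leaf (nat_lit 0))) (BT.node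 (nat_lit 123) (BT.leaf (nat_lit 0)) (BT.leaf (nat_lit 0)))) (BT.node (nat_lit 126) (BT.node (nat_lit 125) (BT.leaf (nat_lit 0)) (BT.leaf (nat_lit 0))) (BT.node (nat_lit 127) (BT.leaf (nat_lit 0)) (BT.leaf (nat_lit 0)))))))))

noncomputable def Bs : BT Nat := (BT.node (nat_lit 64) (BT.node (nat_lit 32) (BT.node (nat_lit 16) (BT.node (nat_lit 8) (BT.node (nat_lit 4) (BT.node (nat_lit 2) (BT.node (nat_lit 1) (BT.leaf (nat_lit 0xf0f0000000000ff0fff)) (BT.leaf (nat_lit 3))) (BT.node (nat_lit 3) (BT.leaf (nat_lit 5)) (BT.leaf (nat_lit 9)))) (BT.node (nat_lit 6) (BT.node (nat_lit 5) (BT.leaf (nat_lit 17)) (BT.leaf (nat_lit 33))) (BT.node (nat_lit 7) (BT.leaf (nat_lit 65)) (BT.leaf (nat_lit 129))))) (BT.node (nat_lit 12) (BT.node (nat_lit 10) (BT.node (nat_lit 9) (BT.leaf (nat_lit 257)) (BT.leaf (nat_lit 513))) (BT.node (nat_lit 11) (BT.leaf (nat_lit 1025)) (BT.leaf (nat_lit 2049)))) (BT.node (nat_lit 14) (BT.node (nat_lit 13) (BT.leaf (nat_lit 0)) (BT.leaf (nat_lit 0))) (BT.node (nat_lit 15) (BT.leaf (nat_lit 0)) (BT.leaf (nat_lit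 0)))))) (BT.node (nat_lit 24) (BT.node (nat_lit 20) (BT.node (nat_lit 18) (BT.node (nat_lit 17) (BT.leaf (nat_lit 65537)) (BT.leaf (nat_lit 131073))) (BT.node (nat_lit 19) (BT.leaf (nat_lit 262145)) (BT.leaf (nat_lit 524289)))) (BT.node (nat_lit 22) (BT.node (nat_lit 21) (BT.leaf (nat_lit 0x100001)) (BT.leaf (nat_lit 0x200001))) (BT.node (nat_lit 23) (BT.leaf (nat_lit 0x400001)) (BT.leaf (nat_lit 0x800001))))) (BT.node (nat_lit 28) (BT.node (nat_lit 26) (BT.node (nat_lit 25) (BT.leaf (nat_lit 0)) (BT.leaf (nat_lit 0))) (BT.node (nat_lit 27) (BT.leaf (nat_lit 0)) (BT.leaf (nat_lit 0)))) (BT.node (nat_lit 30) (BT.node (nat_lit 29) (BT.leaf (nat_lit 0)) (BT.leaf (nat_lit 0))) (BT.node (nat_lit 31) (BT.leaf (nat_lit 0)) (BT.leaf (nat_lit 0))))))) (BT.node (nat_lit 48) (BT.node (nat_lit 40) (BT.node (nat_lit 36) (BT.node (nat_lit 34) (BT.node (nat_lit 33) (BT.leaf (nat_lit 0)) (BT.leaf (nat_lit 0))) (BT.node (nat_lit 35) (BT.leaf (nat_lit 0)) (BT.leaf (nat_lit 0)))) (BT.node (nat_lit 38) (BT.node (nat_lit 37) (BT.leaf (nat_lit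 0)) (BT.leaf (nat_lit 0))) (BT.node (nat_lit 39) (BT.leaf (nat_lit 0)) (BT.leaf (nat_lit 0))))) (BT.node (nat_lit 44) (BT.node (nat_lit 42) (BT.node (nat_lit 41) (BT.leaf (nat_lit 0)) (BT.leaf (nat_lit 0))) (BT.node (nat_lit 43) (BT.leaf (nat_lit 0)) (BT.leaf (nat_lit 0)))) (BT.node (nat_lit 46) (BT.node (nat_lit 45) (BT.leaf (nat_lit 0)) (BT.leaf (nat_lit 0))) (BT.node (nat_lit 47) (BT.leaf (nat_lit 0)) (BT.leaf (nat_lit 0)))))) (BT.node (nat_lit 56) (BT.node (nat_lit 52) (BT.node (nat_lit 50) (BT.node (nat_lit 49) (BT.leaf (nat_lit 0)) (BT.leaf (nat_lit 0))) (BT.node (nat_lit 51) (BT.leaf (nat_lit 0)) (BT.leaf (nat_lit 0)))) (BT.node (nat_lit 54) (BT.node (nat_lit 53) (BT.leaf (nat_lit 0)) (BT.leaf (nat_lit 0))) (BT.node (nat_lit 55) (BT.leaf (nat_lit 0)) (BT.leaf (nat_lit 0))))) (BT.node (nat_lit 60) (BT.node (nat_lit 58) (BT.node (nat_lit 57) (BT.leaf (nat_lit 0)) (BT.leaf (nat_lit 0))) (BT.node (nat_lit 59) (BT.leaf (nat_lit 0)) (BT.leaf (nat_lit 0)))) (BT.node (nat_lit 62) (BT.node (nat_lit 61) (BT.leaf (nat_lit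 0)) (BT.leaf (nat_lit 0))) (BT.node (nat_lit 63) (BT.leaf (nat_lit 0)) (BT.leaf (nat_lit 0)))))))) (BT.node (nat_lit 96) (BT.node (nat_lit 80) (BT.node (nat_lit 72) (BT.node (nat_lit 68) (BT.node (nat_lit 66) (BT.node (nat_lit 65) (BT.leaf (nat_lit 0x10000000000000001)) (BT.leaf (nat_lit 0x20000000000000001))) (BT.node (nat_lit 67) (BT.leaf (nat_lit 0x40000000000000001)) (BT.leaf (nat_lit 0x80000000000000001)))) (BT.node (nat_lit 70) (BT.node (nat_lit 69) (BT.leaf (nat_lit 0)) (BT.leaf (nat_lit 0))) (BT.node (nat_lit 71) (BT.leaf (nat_lit 0)) (BT.leaf (nat_lit 0))))) (BT.node (nat_lit 76) (BT.node (nat_lit 74) (BT.node (nat_lit 73) (BT.leaf (nat_lit 0x1000000000000000001)) (BT.leaf (nat_lit 0x2000000000000000001))) (BT.node (nat_lit 75) (BT.leaf (nat_lit 0x4000000000000000001)) (BT.leaf (nat_lit 0x8000000000000000001)))) (BT.node (nat_lit 78) (BT.node (nat_lit 77) (BT.leaf (nat_lit 0)) (BT.leaf (nat_lit 0))) (BT.node (nat_lit 79) (BT.leaf (nat_lit 0)) (BT.leaf (nat_lit 0)))))) (BT.node (nat_lit 88) (BT.node (nat_lit 84)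 (BT.node (nat_lit 82) (BT.node (nat_lit 81) (BT.leaf (nat_lit 0)) (BT.leaf (nat_lit 0))) (BT.node (nat_lit 83) (BT.leaf (nat_lit 0)) (BT.leaf (nat_lit 0)))) (BT.node (nat_lit 86) (BT.node (nat_lit 85) (BT.leaf (nat_lit 0)) (BT.leaf (nat_lit 0))) (BT.node (nat_lit 87) (BT.leaf (nat_lit 0)) (BT.leaf (nat_lit 0))))) (BT.node (nat_lit 92) (BT.node (nat_lit 90) (BT.node (nat_lit 89) (BT.leaf (nat_lit 0)) (BT.leaf (nat_lit 0))) (BT.node (nat_lit 91) (BT.leaf (nat_lit 0)) (BT.leaf (nat_lit 0)))) (BT.node (nat_lit 94) (BT.node (nat_lit 93) (BT.leaf (nat_lit 0)) (BT.leaf (nat_lit 0))) (BT.node (nat_lit 95) (BT.leaf (nat_lit 0)) (BT.leaf (nat_lit 0))))))) (BT.node (nat_lit 112) (BT.node (nat_lit 104) (BT.node (nat_lit 100) (BT.node (nat_lit 98) (BT.node (nat_lit 97) (BT.leaf (nat_lit 0)) (BT.leaf (nat_lit 0))) (BT.node (nat_lit 99) (BT.leaf (nat_lit 0)) (BT.leaf (nat_lit 0)))) (BT.node (nat_lit 102) (BT.node (nat_lit 101) (BT.leaf (nat_lit 0)) (BT.leaf (nat_lit 0))) (BT.node (nat_lit 103) (BT.leaf (nat_lit 0)) (BT.leaf (nat_lit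 0))))) (BT.node (nat_lit 108) (BT.node (nat_lit 106) (BT.node (nat_lit 105) (BT.leaf (nat_lit 0)) (BT.leaf (nat_lit 0))) (BT.node (nat_lit 107) (BT.leaf (nat_lit 0)) (BT.leaf (nat_lit 0)))) (BT.node (nat_lit 110) (BT.node (nat_lit 109) (BT.leaf (nat_lit 0)) (BT.leaf (nat_lit 0))) (BT.node (nat_lit 111) (BT.leaf (nat_lit 0)) (BT.leaf (nat_lit 0)))))) (BT.node (nat_lit 120) (BT.node (nat_lit 116) (BT.node (nat_lit 114) (BT.node (nat_lit 113) (BT.leaf (nat_lit 0)) (BT.leaf (nat_lit 0))) (BT.node (nat_lit 115) (BT.leaf (nat_lit 0)) (BT.leaf (nat_lit 0)))) (BT.node (nat_lit 118) (BT.node (nat_lit 117) (BT.leaf (nat_lit 0)) (BT.leaf (nat_lit 0))) (BT.node (nat_lit 119) (BT.leaf (nat_lit 0)) (BT.leaf (nat_lit 0))))) (BT.node (nat_lit 124) (BT.node (nat_lit 122) (BT.node (nat_lit 121) (BT.leaf (nat_lit 0)) (BT.leaf (nat_lit 0))) (BT.node (nat_lit 123) (BT.leaf (nat_lit 0)) (BT.leaf (nat_lit 0)))) (BT.node (nat_lit 126) (BT.node (nat_lit 125) (BT.leaf (nat_lit 0)) (BT.leaf (nat_lit 0))) (BT.node (nat_lit 127) (BT.leaf (nat_lit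 0)) (BT.leaf (nat_lit 0)))))))))

noncomputable def Ms : BT (List Nat) := (BT.node (nat_lit 64) (BT.node (nat_lit 32) (BT.node (nat_lit 16) (BT.node (nat_lit 8) (BT.node (nat_lit 4) (BT.node (nat_lit 2) (BT.node (nat_lit 1) (BT.leaf [(nat_lit 1), (nat_lit 2), (nat_lit 4), (nat_lit 8), (nat_lit 16), (nat_lit 32), (nat_lit 64), (nat_lit 128), (nat_lit 256), (nat_lit 512), (nat_lit 1024)]) (BT.leaf [(nat_lit 577), (nat_lit 642), (nat_lit 516), (nat_lit 8), (nat_lit 1040), (nat_lit 32), (nat_lit 64), (nat_lit 128), (nat_lit 256), (nat_lit 512), (nat_lit 1024)])) (BT.node (nat_lit 3) (BT.leaf [(nat_lit 401), (nat_lit 34), (nat_lit 388), (nat_lit 8), (nat_lit 16), (nat_lit 32), (nat_lit 1088), (nat_lit 128), (nat_lit 256), (nat_lit 512), (nat_lit 1024)]) (BT.leaf [(nat_lit 2001), (nat_lit 674), (nat_lit 900), (nat_lit 8), (nat_lit 1040), (nat_lit 32), (nat_lit 1088), (nat_lit 128), (nat_lit 256), (nat_lit 512), (nat_lit 1024)]))) (BT.node (nat_lit 6) (BT.node (nat_lit 5) (BT.leaf [(nat_lit 5), (nat_lit 10), (nat_lit 4), (nat_lit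 8), (nat_lit 400), (nat_lit 32), (nat_lit 576), (nat_lit 128), (nat_lit 256), (nat_lit 512), (nat_lit 1024)]) (BT.leaf [(nat_lit 69), (nat_lit 650), (nat_lit 516), (nat_lit 8), (nat_lit 1424), (nat_lit 32), (nat_lit 576), (nat_lit 128), (nat_lit 256), (nat_lit 512), (nat_lit 1024)])) (BT.node (nat_lit 7) (BT.leaf [(nat_lit 21), (nat_lit 42), (nat_lit 388), (nat_lit 8), (nat_lit 400), (nat_lit 32), (nat_lit 1600), (nat_lit 128), (nat_lit 256), (nat_lit 512), (nat_lit 1024)]) (BT.leaf [(nat_lit 1109), (nat_lit 682), (nat_lit 900), (nat_lit 8), (nat_lit 1424), (nat_lit 32), (nat_lit 1600), (nat_lit 128), (nat_lit 256), (nat_lit 512), (nat_lit 1024)])))) (BT.node (nat_lit 12) (BT.node (nat_lit 10) (BT.node (nat_lit 9) (BT.leaf [(nat_lit 1), (nat_lit 114), (nat_lit 68), (nat_lit 1288), (nat_lit 1040), (nat_lit 1056), (nat_lit 64), (nat_lit 1152), (nat_lit 256), (nat_lit 512), (nat_lit 1024)]) (BT.leaf [(nat_lit 577), (nat_lit 1778), (nat_lit 580), (nat_lit 1288), (nat_lit 16), (nat_lit 1056), (nat_lit 64), (nat_lit 1152), (nat_lit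 256), (nat_lit 512), (nat_lit 1024)])) (BT.node (nat_lit 11) (BT.leaf [(nat_lit 401), (nat_lit 1106), (nat_lit 1476), (nat_lit 1288), (nat_lit 1040), (nat_lit 1056), (nat_lit 1088), (nat_lit 1152), (nat_lit 256), (nat_lit 512), (nat_lit 1024)]) (BT.leaf [(nat_lit 2001), (nat_lit 722), (nat_lit 1988), (nat_lit 1288), (nat_lit 16), (nat_lit 1056), (nat_lit 1088), (nat_lit 1152), (nat_lit 256), (nat_lit 512), (nat_lit 1024)]))) (BT.node (nat_lit 14) (BT.node (nat_lit 13) (BT.leaf [(nat_lit 5), (nat_lit 1018), (nat_lit 580), (nat_lit 1288), (nat_lit 1424), (nat_lit 1056), (nat_lit 576), (nat_lit 1152), (nat_lit 256), (nat_lit 512), (nat_lit 1024)]) (BT.leaf [(nat_lit 69), (nat_lit 1402), (nat_lit 68), (nat_lit 1288), (nat_lit 400), (nat_lit 1056), (nat_lit 576), (nat_lit 1152), (nat_lit 256), (nat_lit 512), (nat_lit 1024)])) (BT.node (nat_lit 15) (BT.leaf [(nat_lit 21), (nat_lit 2010), (nat_lit 1988), (nat_lit 1288), (nat_lit 1424), (nat_lit 1056), (nat_lit 1600), (nat_lit 1152), (nat_lit 256), (nat_lit 512), (nat_lit 1024)])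 (BT.leaf [(nat_lit 1109), (nat_lit 346), (nat_lit 1476), (nat_lit 1288), (nat_lit 400), (nat_lit 1056), (nat_lit 1600), (nat_lit 1152), (nat_lit 256), (nat_lit 512), (nat_lit 1024)]))))) (BT.node (nat_lit 24) (BT.node (nat_lit 20) (BT.node (nat_lit 18) (BT.node (nat_lit 17) (BT.leaf [(nat_lit 7), (nat_lit 10), (nat_lit 12), (nat_lit 8), (nat_lit 432), (nat_lit 32), (nat_lit 192), (nat_lit 128), (nat_lit 256), (nat_lit 512), (nat_lit 1024)]) (BT.leaf [(nat_lit 711), (nat_lit 650), (nat_lit 524), (nat_lit 8), (nat_lit 1456), (nat_lit 32), (nat_lit 192), (nat_lit 128), (nat_lit 256), (nat_lit 512), (nat_lit 1024)])) (BT.node (nat_lit 19) (BT.leaf [(nat_lit 55), (nat_lit 42), (nat_lit 396), (nat_lit 8), (nat_lit 432), (nat_lit 32), (nat_lit 1216), (nat_lit 128), (nat_lit 256), (nat_lit 512), (nat_lit 1024)]) (BT.leaf [(nat_lit 1783), (nat_lit 682), (nat_lit 908), (nat_lit 8), (nat_lit 1456), (nat_lit 32), (nat_lit 1216), (nat_lit 128), (nat_lit 256), (nat_lit 512), (nat_lit 1024)]))) (BT.node (nat_lit 22) (BT.node (nat_lit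 21) (BT.leaf [(nat_lit 11), (nat_lit 2), (nat_lit 12), (nat_lit 8), (nat_lit 48), (nat_lit 32), (nat_lit 704), (nat_lit 128), (nat_lit 256), (nat_lit 512), (nat_lit 1024)]) (BT.leaf [(nat_lit 203), (nat_lit 642), (nat_lit 524), (nat_lit 8), (nat_lit 1072), (nat_lit 32), (nat_lit 704), (nat_lit 128), (nat_lit 256), (nat_lit 512), (nat_lit 1024)])) (BT.node (nat_lit 23) (BT.leaf [(nat_lit 443), (nat_lit 34), (nat_lit 396), (nat_lit 8), (nat_lit 48), (nat_lit 32), (nat_lit 1728), (nat_lit 128), (nat_lit 256), (nat_lit 512), (nat_lit 1024)]) (BT.leaf [(nat_lit 1403), (nat_lit 674), (nat_lit 908), (nat_lit 8), (nat_lit 1072), (nat_lit 32), (nat_lit 1728), (nat_lit 128), (nat_lit 256), (nat_lit 512), (nat_lit 1024)])))) (BT.node (nat_lit 28) (BT.node (nat_lit 26) (BT.node (nat_lit 25) (BT.leaf [(nat_lit 55), (nat_lit 1402), (nat_lit 1356), (nat_lit 1288), (nat_lit 1456), (nat_lit 1056), (nat_lit 1216), (nat_lit 1152), (nat_lit 256), (nat_lit 512), (nat_lit 1024)]) (BT.leaf [(nat_lit 1783), (nat_lit 1018), (nat_lit 1868), (nat_lit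 1288), (nat_lit 432), (nat_lit 1056), (nat_lit 1216), (nat_lit 1152), (nat_lit 256), (nat_lit 512), (nat_lit 1024)])) (BT.node (nat_lit 27) (BT.leaf [(nat_lit 7), (nat_lit 346), (nat_lit 204), (nat_lit 1288), (nat_lit 1456), (nat_lit 1056), (nat_lit 192), (nat_lit 1152), (nat_lit 256), (nat_lit 512), (nat_lit 1024)]) (BT.leaf [(nat_lit 711), (nat_lit 2010), (nat_lit 716), (nat_lit 1288), (nat_lit 432), (nat_lit 1056), (nat_lit 192), (nat_lit 1152), (nat_lit 256), (nat_lit 512), (nat_lit 1024)]))) (BT.node (nat_lit 30) (BT.node (nat_lit 29) (BT.leaf [(nat_lit 443), (nat_lit 1778), (nat_lit 1868), (nat_lit 1288), (nat_lit 1072), (nat_lit 1056), (nat_lit 1728), (nat_lit 1152), (nat_lit 256), (nat_lit 512), (nat_lit 1024)]) (BT.leaf [(nat_lit 1403), (nat_lit 114), (nat_lit 1356), (nat_lit 1288), (nat_lit 48), (nat_lit 1056), (nat_lit 1728), (nat_lit 1152), (nat_lit 256), (nat_lit 512), (nat_lit 1024)])) (BT.node (nat_lit 31) (BT.leaf [(nat_lit 11), (nat_lit 722), (nat_lit 716), (nat_lit 1288), (nat_lit 1072), (nat_lit 1056),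 (nat_lit 704), (nat_lit 1152), (nat_lit 256), (nat_lit 512), (nat_lit 1024)]) (BT.leaf [(nat_lit 203), (nat_lit 1106), (nat_lit 204), (nat_lit 1288), (nat_lit 48), (nat_lit 1056), (nat_lit 704), (nat_lit 1152), (nat_lit 256), (nat_lit 512), (nat_lit 1024)])))))) (BT.node (nat_lit 48) (BT.node (nat_lit 40) (BT.node (nat_lit 36) (BT.node (nat_lit 34) (BT.node (nat_lit 33) (BT.leaf [(nat_lit 1), (nat_lit 14), (nat_lit 4), (nat_lit 8), (nat_lit 1104), (nat_lit 288), (nat_lit 64), (nat_lit 640), (nat_lit 256), (nat_lit 512), (nat_lit 1024)]) (BT.leaf [(nat_lit 577), (nat_lit 142), (nat_lit 516), (nat_lit 8), (nat_lit 80), (nat_lit 288), (nat_lit 64), (nat_lit 640), (nat_lit 256), (nat_lit 512), (nat_lit 1024)])) (BT.node (nat_lit 35) (BT.leaf [(nat_lit 401), (nat_lit 430), (nat_lit 388), (nat_lit 8), (nat_lit 80), (nat_lit 288), (nat_lit 1088), (nat_lit 640), (nat_lit 256), (nat_lit 512), (nat_lit 1024)]) (BT.leaf [(nat_lit 2001), (nat_lit 302), (nat_lit 900), (nat_lit 8), (nat_lit 1104), (nat_lit 288), (nat_lit 1088), (nat_lit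 640), (nat_lit 256), (nat_lit 512), (nat_lit 1024)]))) (BT.node (nat_lit 38) (BT.node (nat_lit 37) (BT.leaf [(nat_lit 5), (nat_lit 6), (nat_lit 4), (nat_lit 8), (nat_lit 2000), (nat_lit 288), (nat_lit 576), (nat_lit 640), (nat_lit 256), (nat_lit 512), (nat_lit 1024)]) (BT.leaf [(nat_lit 69), (nat_lit 134), (nat_lit 516), (nat_lit 8), (nat_lit 976), (nat_lit 288), (nat_lit 576), (nat_lit 640), (nat_lit 256), (nat_lit 512), (nat_lit 1024)])) (BT.node (nat_lit 39) (BT.leaf [(nat_lit 21), (nat_lit 422), (nat_lit 388), (nat_lit 8), (nat_lit 976), (nat_lit 288), (nat_lit 1600), (nat_lit 640), (nat_lit 256), (nat_lit 512), (nat_lit 1024)]) (BT.leaf [(nat_lit 1109), (nat_lit 294), (nat_lit 900), (nat_lit 8), (nat_lit 2000), (nat_lit 288), (nat_lit 1600), (nat_lit 640), (nat_lit 256), (nat_lit 512), (nat_lit 1024)])))) (BT.node (nat_lit 44) (BT.node (nat_lit 42) (BT.node (nat_lit 41) (BT.leaf [(nat_lit 1), (nat_lit 1342), (nat_lit 68), (nat_lit 1288), (nat_lit 80), (nat_lit 1312), (nat_lit 64), (nat_lit 1664), (nat_lit 256), (nat_lit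 512), (nat_lit 1024)]) (BT.leaf [(nat_lit 577), (nat_lit 446), (nat_lit 580), (nat_lit 1288), (nat_lit 1104), (nat_lit 1312), (nat_lit 64), (nat_lit 1664), (nat_lit 256), (nat_lit 512), (nat_lit 1024)])) (BT.node (nat_lit 43) (BT.leaf [(nat_lit 401), (nat_lit 1182), (nat_lit 1476), (nat_lit 1288), (nat_lit 1104), (nat_lit 1312), (nat_lit 1088), (nat_lit 1664), (nat_lit 256), (nat_lit 512), (nat_lit 1024)]) (BT.leaf [(nat_lit 2001), (nat_lit 30), (nat_lit 1988), (nat_lit 1288), (nat_lit 80), (nat_lit 1312), (nat_lit 1088), (nat_lit 1664), (nat_lit 256), (nat_lit 512), (nat_lit 1024)]))) (BT.node (nat_lit 46) (BT.node (nat_lit 45) (BT.leaf [(nat_lit 5), (nat_lit 1206), (nat_lit 580), (nat_lit 1288), (nat_lit 976), (nat_lit 1312), (nat_lit 576), (nat_lit 1664), (nat_lit 256), (nat_lit 512), (nat_lit 1024)]) (BT.leaf [(nat_lit 69), (nat_lit 54), (nat_lit 68), (nat_lit 1288), (nat_lit 2000), (nat_lit 1312), (nat_lit 576), (nat_lit 1664), (nat_lit 256), (nat_lit 512), (nat_lit 1024)])) (BT.node (nat_lit 47) (BT.leaf [(nat_lit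 21), (nat_lit 1302), (nat_lit 1988), (nat_lit 1288), (nat_lit 2000), (nat_lit 1312), (nat_lit 1600), (nat_lit 1664), (nat_lit 256), (nat_lit 512), (nat_lit 1024)]) (BT.leaf [(nat_lit 1109), (nat_lit 406), (nat_lit 1476), (nat_lit 1288), (nat_lit 976), (nat_lit 1312), (nat_lit 1600), (nat_lit 1664), (nat_lit 256), (nat_lit 512), (nat_lit 1024)]))))) (BT.node (nat_lit 56) (BT.node (nat_lit 52) (BT.node (nat_lit 50) (BT.node (nat_lit 49) (BT.leaf [(nat_lit 7), (nat_lit 14), (nat_lit 12), (nat_lit 8), (nat_lit 1392), (nat_lit 288), (nat_lit 192), (nat_lit 640), (nat_lit 256), (nat_lit 512), (nat_lit 1024)]) (BT.leaf [(nat_lit 711), (nat_lit 142), (nat_lit 524), (nat_lit 8), (nat_lit 368), (nat_lit 288), (nat_lit 192), (nat_lit 640), (nat_lit 256), (nat_lit 512), (nat_lit 1024)])) (BT.node (nat_lit 51) (BT.leaf [(nat_lit 55), (nat_lit 430), (nat_lit 396), (nat_lit 8), (nat_lit 368), (nat_lit 288), (nat_lit 1216), (nat_lit 640), (nat_lit 256), (nat_lit 512), (nat_lit 1024)]) (BT.leaf [(nat_lit 1783), (nat_lit 302), (nat_lit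 908), (nat_lit 8), (nat_lit 1392), (nat_lit 288), (nat_lit 1216), (nat_lit 640), (nat_lit 256), (nat_lit 512), (nat_lit 1024)]))) (BT.node (nat_lit 54) (BT.node (nat_lit 53) (BT.leaf [(nat_lit 11), (nat_lit 6), (nat_lit 12), (nat_lit 8), (nat_lit 1776), (nat_lit 288), (nat_lit 704), (nat_lit 640), (nat_lit 256), (nat_lit 512), (nat_lit 1024)]) (BT.leaf [(nat_lit 203), (nat_lit 134), (nat_lit 524), (nat_lit 8), (nat_lit 752), (nat_lit 288), (nat_lit 704), (nat_lit 640), (nat_lit 256), (nat_lit 512), (nat_lit 1024)])) (BT.node (nat_lit 55) (BT.leaf [(nat_lit 443), (nat_lit 422), (nat_lit 396), (nat_lit 8), (nat_lit 752), (nat_lit 288), (nat_lit 1728), (nat_lit 640), (nat_lit 256), (nat_lit 512), (nat_lit 1024)]) (BT.leaf [(nat_lit 1403), (nat_lit 294), (nat_lit 908), (nat_lit 8), (nat_lit 1776), (nat_lit 288), (nat_lit 1728), (nat_lit 640), (nat_lit 256), (nat_lit 512), (nat_lit 1024)])))) (BT.node (nat_lit 60) (BT.node (nat_lit 58) (BT.node (nat_lit 57) (BT.leaf [(nat_lit 55), (nat_lit 1342), (nat_lit 1356), (nat_lit 1288),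 (nat_lit 1392), (nat_lit 1312), (nat_lit 1216), (nat_lit 1664), (nat_lit 256), (nat_lit 512), (nat_lit 1024)]) (BT.leaf [(nat_lit 1783), (nat_lit 446), (nat_lit 1868), (nat_lit 1288), (nat_lit 368), (nat_lit 1312), (nat_lit 1216), (nat_lit 1664), (nat_lit 256), (nat_lit 512), (nat_lit 1024)])) (BT.node (nat_lit 59) (BT.leaf [(nat_lit 7), (nat_lit 1182), (nat_lit 204), (nat_lit 1288), (nat_lit 368), (nat_lit 1312), (nat_lit 192), (nat_lit 1664), (nat_lit 256), (nat_lit 512), (nat_lit 1024)]) (BT.leaf [(nat_lit 711), (nat_lit 30), (nat_lit 716), (nat_lit 1288), (nat_lit 1392), (nat_lit 1312), (nat_lit 192), (nat_lit 1664), (nat_lit 256), (nat_lit 512), (nat_lit 1024)]))) (BT.node (nat_lit 62) (BT.node (nat_lit 61) (BT.leaf [(nat_lit 443), (nat_lit 1206), (nat_lit 1868), (nat_lit 1288), (nat_lit 1776), (nat_lit 1312), (nat_lit 1728), (nat_lit 1664), (nat_lit 256), (nat_lit 512), (nat_lit 1024)]) (BT.leaf [(nat_lit 1403), (nat_lit 54), (nat_lit 1356), (nat_lit 1288), (nat_lit 752), (nat_lit 1312), (nat_lit 1728), (nat_lit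 1664), (nat_lit 256), (nat_lit 512), (nat_lit 1024)])) (BT.node (nat_lit 63) (BT.leaf [(nat_lit 11), (nat_lit 1302), (nat_lit 716), (nat_lit 1288), (nat_lit 752), (nat_lit 1312), (nat_lit 704), (nat_lit 1664), (nat_lit 256), (nat_lit 512), (nat_lit 1024)]) (BT.leaf [(nat_lit 203), (nat_lit 406), (nat_lit 204), (nat_lit 1288), (nat_lit 1776), (nat_lit 1312), (nat_lit 704), (nat_lit 1664), (nat_lit 256), (nat_lit 512), (nat_lit 1024)]))))))) (BT.node (nat_lit 96) (BT.node (nat_lit 80) (BT.node (nat_lit 72) (BT.node (nat_lit 68) (BT.node (nat_lit 66) (BT.node (nat_lit 65) (BT.leaf [(nat_lit 1), (nat_lit 1682), (nat_lit 1108), (nat_lit 1832), (nat_lit 1040), (nat_lit 32), (nat_lit 1088), (nat_lit 128), (nat_lit 1280), (nat_lit 1536), (nat_lit 1024)]) (BT.leaf [(nat_lit 577), (nat_lit 18), (nat_lit 596), (nat_lit 1832), (nat_lit 16), (nat_lit 32), (nat_lit 1088), (nat_lit 128), (nat_lit 1280), (nat_lit 1536), (nat_lit 1024)])) (BT.node (nat_lit 67) (BT.leaf [(nat_lit 401), (nat_lit 1714), (nat_lit 468), (nat_lit 1832), (nat_lit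 1040), (nat_lit 32), (nat_lit 64), (nat_lit 128), (nat_lit 1280), (nat_lit 1536), (nat_lit 1024)]) (BT.leaf [(nat_lit 2001), (nat_lit 50), (nat_lit 2004), (nat_lit 1832), (nat_lit 16), (nat_lit 32), (nat_lit 64), (nat_lit 128), (nat_lit 1280), (nat_lit 1536), (nat_lit 1024)]))) (BT.node (nat_lit 70) (BT.node (nat_lit 69) (BT.leaf [(nat_lit 5), (nat_lit 1818), (nat_lit 2004), (nat_lit 1832), (nat_lit 1424), (nat_lit 32), (nat_lit 1600), (nat_lit 128), (nat_lit 1280), (nat_lit 1536), (nat_lit 1024)]) (BT.leaf [(nat_lit 69), (nat_lit 410), (nat_lit 468), (nat_lit 1832), (nat_lit 400), (nat_lit 32), (nat_lit 1600), (nat_lit 128), (nat_lit 1280), (nat_lit 1536), (nat_lit 1024)])) (BT.node (nat_lit 71) (BT.leaf [(nat_lit 21), (nat_lit 1850), (nat_lit 596), (nat_lit 1832), (nat_lit 1424), (nat_lit 32), (nat_lit 576), (nat_lit 128), (nat_lit 1280), (nat_lit 1536), (nat_lit 1024)]) (BT.leaf [(nat_lit 1109), (nat_lit 442), (nat_lit 1108), (nat_lit 1832), (nat_lit 400), (nat_lit 32), (nat_lit 576), (nat_lit 128), (nat_lit 1280),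 (nat_lit 1536), (nat_lit 1024)])))) (BT.node (nat_lit 76) (BT.node (nat_lit 74) (BT.node (nat_lit 73) (BT.leaf [(nat_lit 1), (nat_lit 1762), (nat_lit 20), (nat_lit 1576), (nat_lit 16), (nat_lit 1056), (nat_lit 1088), (nat_lit 1152), (nat_lit 1280), (nat_lit 1536), (nat_lit 1024)]) (BT.leaf [(nat_lit 577), (nat_lit 1122), (nat_lit 1556), (nat_lit 1576), (nat_lit 1040), (nat_lit 1056), (nat_lit 1088), (nat_lit 1152), (nat_lit 1280), (nat_lit 1536), (nat_lit 1024)])) (BT.node (nat_lit 75) (BT.leaf [(nat_lit 401), (nat_lit 706), (nat_lit 404), (nat_lit 1576), (nat_lit 16), (nat_lit 1056), (nat_lit 64), (nat_lit 1152), (nat_lit 1280), (nat_lit 1536), (nat_lit 1024)]) (BT.leaf [(nat_lit 2001), (nat_lit 66), (nat_lit 1940), (nat_lit 1576), (nat_lit 1040), (nat_lit 1056), (nat_lit 64), (nat_lit 1152), (nat_lit 1280), (nat_lit 1536), (nat_lit 1024)]))) (BT.node (nat_lit 78) (BT.node (nat_lit 77) (BT.leaf [(nat_lit 5), (nat_lit 1258), (nat_lit 404), (nat_lit 1576), (nat_lit 400), (nat_lit 1056), (nat_lit 1600), (nat_lit 1152), (nat_lit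 1280), (nat_lit 1536), (nat_lit 1024)]) (BT.leaf [(nat_lit 69), (nat_lit 1642), (nat_lit 1940), (nat_lit 1576), (nat_lit 1424), (nat_lit 1056), (nat_lit 1600), (nat_lit 1152), (nat_lit 1280), (nat_lit 1536), (nat_lit 1024)])) (BT.node (nat_lit 79) (BT.leaf [(nat_lit 21), (nat_lit 202), (nat_lit 20), (nat_lit 1576), (nat_lit 400), (nat_lit 1056), (nat_lit 576), (nat_lit 1152), (nat_lit 1280), (nat_lit 1536), (nat_lit 1024)]) (BT.leaf [(nat_lit 1109), (nat_lit 586), (nat_lit 1556), (nat_lit 1576), (nat_lit 1424), (nat_lit 1056), (nat_lit 576), (nat_lit 1152), (nat_lit 1280), (nat_lit 1536), (nat_lit 1024)]))))) (BT.node (nat_lit 88) (BT.node (nat_lit 84) (BT.node (nat_lit 82) (BT.node (nat_lit 81) (BT.leaf [(nat_lit 7), (nat_lit 1850), (nat_lit 1404), (nat_lit 1832), (nat_lit 1456), (nat_lit 32), (nat_lit 1216), (nat_lit 128), (nat_lit 1280), (nat_lit 1536), (nat_lit 1024)]) (BT.leaf [(nat_lit 711), (nat_lit 442), (nat_lit 892), (nat_lit 1832), (nat_lit 432), (nat_lit 32), (nat_lit 1216), (nat_lit 128), (nat_lit 1280), (nat_lit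 1536), (nat_lit 1024)])) (BT.node (nat_lit 83) (BT.leaf [(nat_lit 55), (nat_lit 1818), (nat_lit 252), (nat_lit 1832), (nat_lit 1456), (nat_lit 32), (nat_lit 192), (nat_lit 128), (nat_lit 1280), (nat_lit 1536), (nat_lit 1024)]) (BT.leaf [(nat_lit 1783), (nat_lit 410), (nat_lit 1788), (nat_lit 1832), (nat_lit 432), (nat_lit 32), (nat_lit 192), (nat_lit 128), (nat_lit 1280), (nat_lit 1536), (nat_lit 1024)]))) (BT.node (nat_lit 86) (BT.node (nat_lit 85) (BT.leaf [(nat_lit 11), (nat_lit 1714), (nat_lit 1788), (nat_lit 1832), (nat_lit 1072), (nat_lit 32), (nat_lit 1728), (nat_lit 128), (nat_lit 1280), (nat_lit 1536), (nat_lit 1024)]) (BT.leaf [(nat_lit 203), (nat_lit 50), (nat_lit 252), (nat_lit 1832), (nat_lit 48), (nat_lit 32), (nat_lit 1728), (nat_lit 128), (nat_lit 1280), (nat_lit 1536), (nat_lit 1024)])) (BT.node (nat_lit 87) (BT.leaf [(nat_lit 443), (nat_lit 1682), (nat_lit 892), (nat_lit 1832), (nat_lit 1072), (nat_lit 32), (nat_lit 704), (nat_lit 128), (nat_lit 1280), (nat_lit 1536), (nat_lit 1024)]) (BT.leaf [(nat_lit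 1403), (nat_lit 18), (nat_lit 1404), (nat_lit 1832), (nat_lit 48), (nat_lit 32), (nat_lit 704), (nat_lit 128), (nat_lit 1280), (nat_lit 1536), (nat_lit 1024)])))) (BT.node (nat_lit 92) (BT.node (nat_lit 90) (BT.node (nat_lit 89) (BT.leaf [(nat_lit 55), (nat_lit 586), (nat_lit 60), (nat_lit 1576), (nat_lit 432), (nat_lit 1056), (nat_lit 192), (nat_lit 1152), (nat_lit 1280), (nat_lit 1536), (nat_lit 1024)]) (BT.leaf [(nat_lit 1783), (nat_lit 202), (nat_lit 1596), (nat_lit 1576), (nat_lit 1456), (nat_lit 1056), (nat_lit 192), (nat_lit 1152), (nat_lit 1280), (nat_lit 1536), (nat_lit 1024)])) (BT.node (nat_lit 91) (BT.leaf [(nat_lit 7), (nat_lit 1642), (nat_lit 444), (nat_lit 1576), (nat_lit 432), (nat_lit 1056), (nat_lit 1216), (nat_lit 1152), (nat_lit 1280), (nat_lit 1536), (nat_lit 1024)]) (BT.leaf [(nat_lit 711), (nat_lit 1258), (nat_lit 1980), (nat_lit 1576), (nat_lit 1456), (nat_lit 1056), (nat_lit 1216), (nat_lit 1152), (nat_lit 1280), (nat_lit 1536), (nat_lit 1024)]))) (BT.node (nat_lit 94) (BT.node (nat_lit 93) (BT.leaf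 [(nat_lit 443), (nat_lit 66), (nat_lit 444), (nat_lit 1576), (nat_lit 48), (nat_lit 1056), (nat_lit 704), (nat_lit 1152), (nat_lit 1280), (nat_lit 1536), (nat_lit 1024)]) (BT.leaf [(nat_lit 1403), (nat_lit 706), (nat_lit 1980), (nat_lit 1576), (nat_lit 1072), (nat_lit 1056), (nat_lit 704), (nat_lit 1152), (nat_lit 1280), (nat_lit 1536), (nat_lit 1024)])) (BT.node (nat_lit 95) (BT.leaf [(nat_lit 11), (nat_lit 1122), (nat_lit 60), (nat_lit 1576), (nat_lit 48), (nat_lit 1056), (nat_lit 1728), (nat_lit 1152), (nat_lit 1280), (nat_lit 1536), (nat_lit 1024)]) (BT.leaf [(nat_lit 203), (nat_lit 1762), (nat_lit 1596), (nat_lit 1576), (nat_lit 1072), (nat_lit 1056), (nat_lit 1728), (nat_lit 1152), (nat_lit 1280), (nat_lit 1536), (nat_lit 1024)])))))) (BT.node (nat_lit 112) (BT.node (nat_lit 104) (BT.node (nat_lit 100) (BT.node (nat_lit 98) (BT.node (nat_lit 97) (BT.leaf [(nat_lit 1), (nat_lit 222), (nat_lit 20), (nat_lit 1576), (nat_lit 80), (nat_lit 288), (nat_lit 1088), (nat_lit 640), (nat_lit 1280), (nat_lit 1536), (nat_lit 1024)])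 (BT.leaf [(nat_lit 577), (nat_lit 1118), (nat_lit 1556), (nat_lit 1576), (nat_lit 1104), (nat_lit 288), (nat_lit 1088), (nat_lit 640), (nat_lit 1280), (nat_lit 1536), (nat_lit 1024)])) (BT.node (nat_lit 99) (BT.leaf [(nat_lit 401), (nat_lit 1406), (nat_lit 404), (nat_lit 1576), (nat_lit 1104), (nat_lit 288), (nat_lit 64), (nat_lit 640), (nat_lit 1280), (nat_lit 1536), (nat_lit 1024)]) (BT.leaf [(nat_lit 2001), (nat_lit 510), (nat_lit 1940), (nat_lit 1576), (nat_lit 80), (nat_lit 288), (nat_lit 64), (nat_lit 640), (nat_lit 1280), (nat_lit 1536), (nat_lit 1024)]))) (BT.node (nat_lit 102) (BT.node (nat_lit 101) (BT.leaf [(nat_lit 5), (nat_lit 854), (nat_lit 404), (nat_lit 1576), (nat_lit 976), (nat_lit 288), (nat_lit 1600), (nat_lit 640), (nat_lit 1280), (nat_lit 1536), (nat_lit 1024)]) (BT.leaf [(nat_lit 69), (nat_lit 2006), (nat_lit 1940), (nat_lit 1576), (nat_lit 2000), (nat_lit 288), (nat_lit 1600), (nat_lit 640), (nat_lit 1280), (nat_lit 1536), (nat_lit 1024)])) (BT.node (nat_lit 103) (BT.leaf [(nat_lit 21), (nat_lit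 1782), (nat_lit 20), (nat_lit 1576), (nat_lit 2000), (nat_lit 288), (nat_lit 576), (nat_lit 640), (nat_lit 1280), (nat_lit 1536), (nat_lit 1024)]) (BT.leaf [(nat_lit 1109), (nat_lit 630), (nat_lit 1556), (nat_lit 1576), (nat_lit 976), (nat_lit 288), (nat_lit 576), (nat_lit 640), (nat_lit 1280), (nat_lit 1536), (nat_lit 1024)])))) (BT.node (nat_lit 108) (BT.node (nat_lit 106) (BT.node (nat_lit 105) (BT.leaf [(nat_lit 1), (nat_lit 1518), (nat_lit 1108), (nat_lit 1832), (nat_lit 1104), (nat_lit 1312), (nat_lit 1088), (nat_lit 1664), (nat_lit 1280), (nat_lit 1536), (nat_lit 1024)]) (BT.leaf [(nat_lit 577), (nat_lit 1390), (nat_lit 596), (nat_lit 1832), (nat_lit 80), (nat_lit 1312), (nat_lit 1088), (nat_lit 1664), (nat_lit 1280), (nat_lit 1536), (nat_lit 1024)])) (BT.node (nat_lit 107) (BT.leaf [(nat_lit 401), (nat_lit 78), (nat_lit 468), (nat_lit 1832), (nat_lit 80), (nat_lit 1312), (nat_lit 64), (nat_lit 1664), (nat_lit 1280), (nat_lit 1536), (nat_lit 1024)]) (BT.leaf [(nat_lit 2001), (nat_lit 206), (nat_lit 2004), (nat_lit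 1832), (nat_lit 1104), (nat_lit 1312), (nat_lit 64), (nat_lit 1664), (nat_lit 1280), (nat_lit 1536), (nat_lit 1024)]))) (BT.node (nat_lit 110) (BT.node (nat_lit 109) (BT.leaf [(nat_lit 5), (nat_lit 2022), (nat_lit 2004), (nat_lit 1832), (nat_lit 2000), (nat_lit 1312), (nat_lit 1600), (nat_lit 1664), (nat_lit 1280), (nat_lit 1536), (nat_lit 1024)]) (BT.leaf [(nat_lit 69), (nat_lit 1894), (nat_lit 468), (nat_lit 1832), (nat_lit 976), (nat_lit 1312), (nat_lit 1600), (nat_lit 1664), (nat_lit 1280), (nat_lit 1536), (nat_lit 1024)])) (BT.node (nat_lit 111) (BT.leaf [(nat_lit 21), (nat_lit 582), (nat_lit 596), (nat_lit 1832), (nat_lit 976), (nat_lit 1312), (nat_lit 576), (nat_lit 1664), (nat_lit 1280), (nat_lit 1536), (nat_lit 1024)]) (BT.leaf [(nat_lit 1109), (nat_lit 710), (nat_lit 1108), (nat_lit 1832), (nat_lit 2000), (nat_lit 1312), (nat_lit 576), (nat_lit 1664), (nat_lit 1280), (nat_lit 1536), (nat_lit 1024)]))))) (BT.node (nat_lit 120) (BT.node (nat_lit 116) (BT.node (nat_lit 114) (BT.node (nat_lit 113) (BT.leaf [(nat_lit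 7), (nat_lit 510), (nat_lit 444), (nat_lit 1576), (nat_lit 368), (nat_lit 288), (nat_lit 1216), (nat_lit 640), (nat_lit 1280), (nat_lit 1536), (nat_lit 1024)]) (BT.leaf [(nat_lit 711), (nat_lit 1406), (nat_lit 1980), (nat_lit 1576), (nat_lit 1392), (nat_lit 288), (nat_lit 1216), (nat_lit 640), (nat_lit 1280), (nat_lit 1536), (nat_lit 1024)])) (BT.node (nat_lit 115) (BT.leaf [(nat_lit 55), (nat_lit 1118), (nat_lit 60), (nat_lit 1576), (nat_lit 1392), (nat_lit 288), (nat_lit 192), (nat_lit 640), (nat_lit 1280), (nat_lit 1536), (nat_lit 1024)]) (BT.leaf [(nat_lit 1783), (nat_lit 222), (nat_lit 1596), (nat_lit 1576), (nat_lit 368), (nat_lit 288), (nat_lit 192), (nat_lit 640), (nat_lit 1280), (nat_lit 1536), (nat_lit 1024)]))) (BT.node (nat_lit 118) (BT.node (nat_lit 117) (BT.leaf [(nat_lit 11), (nat_lit 630), (nat_lit 60), (nat_lit 1576), (nat_lit 752), (nat_lit 288), (nat_lit 1728), (nat_lit 640), (nat_lit 1280), (nat_lit 1536), (nat_lit 1024)]) (BT.leaf [(nat_lit 203), (nat_lit 1782), (nat_lit 1596), (nat_lit 1576), (nat_lit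 1776), (nat_lit 288), (nat_lit 1728), (nat_lit 640), (nat_lit 1280), (nat_lit 1536), (nat_lit 1024)])) (BT.node (nat_lit 119) (BT.leaf [(nat_lit 443), (nat_lit 2006), (nat_lit 444), (nat_lit 1576), (nat_lit 1776), (nat_lit 288), (nat_lit 704), (nat_lit 640), (nat_lit 1280), (nat_lit 1536), (nat_lit 1024)]) (BT.leaf [(nat_lit 1403), (nat_lit 854), (nat_lit 1980), (nat_lit 1576), (nat_lit 752), (nat_lit 288), (nat_lit 704), (nat_lit 640), (nat_lit 1280), (nat_lit 1536), (nat_lit 1024)])))) (BT.node (nat_lit 124) (BT.node (nat_lit 122) (BT.node (nat_lit 121) (BT.leaf [(nat_lit 55), (nat_lit 206), (nat_lit 252), (nat_lit 1832), (nat_lit 368), (nat_lit 1312), (nat_lit 192), (nat_lit 1664), (nat_lit 1280), (nat_lit 1536), (nat_lit 1024)]) (BT.leaf [(nat_lit 1783), (nat_lit 78), (nat_lit 1788), (nat_lit 1832), (nat_lit 1392), (nat_lit 1312), (nat_lit 192), (nat_lit 1664), (nat_lit 1280), (nat_lit 1536), (nat_lit 1024)])) (BT.node (nat_lit 123) (BT.leaf [(nat_lit 7), (nat_lit 1390), (nat_lit 1404), (nat_lit 1832), (nat_lit 1392),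 (nat_lit 1312), (nat_lit 1216), (nat_lit 1664), (nat_lit 1280), (nat_lit 1536), (nat_lit 1024)]) (BT.leaf [(nat_lit 711), (nat_lit 1518), (nat_lit 892), (nat_lit 1832), (nat_lit 368), (nat_lit 1312), (nat_lit 1216), (nat_lit 1664), (nat_lit 1280), (nat_lit 1536), (nat_lit 1024)]))) (BT.node (nat_lit 126) (BT.node (nat_lit 125) (BT.leaf [(nat_lit 443), (nat_lit 710), (nat_lit 892), (nat_lit 1832), (nat_lit 752), (nat_lit 1312), (nat_lit 704), (nat_lit 1664), (nat_lit 1280), (nat_lit 1536), (nat_lit 1024)]) (BT.leaf [(nat_lit 1403), (nat_lit 582), (nat_lit 1404), (nat_lit 1832), (nat_lit 1776), (nat_lit 1312), (nat_lit 704), (nat_lit 1664), (nat_lit 1280), (nat_lit 1536), (nat_lit 1024)])) (BT.node (nat_lit 127) (BT.leaf [(nat_lit 11), (nat_lit 1894), (nat_lit 1788), (nat_lit 1832), (nat_lit 1776), (nat_lit 1312), (nat_lit 1728), (nat_lit 1664), (nat_lit 1280), (nat_lit 1536), (nat_lit 1024)]) (BT.leaf [(nat_lit 203), (nat_lit 2022), (nat_lit 252), (nat_lit 1832), (nat_lit 752), (nat_lit 1312), (nat_lit 1728), (nat_lit 1664),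 (nat_lit 1280), (nat_lit 1536), (nat_lit 1024)]))))))))


end CF.Schur.F23J
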