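import Cfsg.Agent.Schur.JT
import Cfsg.Agent.Schur.F23JD
import Cfsg.Agent.Schur.Fi23P2

/-! The Thompson subgroup of a Sylow 2-subgroup of `Fi₂₃`. -/

set_option autoImplicit false
set_option maxRecDepth 1000000
set_option maxHeartbeats 400000
set_option Elab.async false

namespace CF.Schur.F23J

open CF.Comp CF.Schur.Pc CF.Schur.JT CF.Schur.Fi23 Cfsg

theorem exists_sylow {G : Type*} [Group G] [Finite G] {p : ℕ} [Fact p.Prime] {P : Dat} {y : ℕ → G} (h : Rel P y)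
    (hm : ∀ i, y i ∈ gen P.n y 0) (hc : Nat.card (gen P.n y 0) = p ^ (Nat.card G).factorization p) (T : Sylow p G) :
    ∃ z : ℕ → T, Rel P z ∧ gen P.n z 0 = ⊤ := by
  let e : gen P.n y 0 ≃* T := (Sylow.ofCard _ hc).equiv T
  let y' : ℕ → gen P.n y 0 := fun i => ⟨y i, hm i⟩
  have h1 : ∀ w, pv (fun i => e (y' i)) w = e ⟨pv y w, pv_mem fun a _ => hm a⟩ := fun w =>
    (map_pv e.toMonoidHom y' w).symm.trans (congrArg e (Subtype.ext (map_pv (gen P.n y 0).subtype y' w)))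
  refine ⟨fun i => e (y' i), ⟨fun i j hij hj => ?_, fun i hi => ?_⟩, ?_⟩
  · rw [h1, ← map_mul, ← map_mul]
    exact congrArg e (Subtype.ext (h.conj i j hij hj))
  · rw [h1, ← map_pow]
    exact congrArg e (Subtype.ext (h.pow i hi))
  · have : gen P.n y' 0 = ⊤ := Subgroup.map_injective (gen P.n y 0).subtype_injective (by
      rw [map_gen, ← MonoidHom.range_eq_map, Subgroup.range_subtype]
      rfl)
    exact (map_gen e.toMonoidHom _ y' 0).symm.trans (by rw [this]; exact Subgroup.map_top_of_surjective _ e.surjective)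

theorem change {G : Type*} [Group G] {x : ℕ → G} (h : Rel Px2 x) :
    Rel Q (fun i => x (nth 0 Y i)) ∧ gen 18 (fun i => x (nth 0 Y i)) 0 = gen 18 x 0 ∧ ∀ i, x (nth 0 Y i) ∈ gen 18 x 0 := by
  have h1 : ∀ i, x (nth 0 Y i) ∈ gen 18 x 0 := fun i => mem_gen x (Nat.zero_le _)
    ((nth_mem_or 0 Y i).elim ((by decide +kernel : ∀ a ∈ Y, a < 18) _) fun e => by omega)
  refine ⟨rel_of_pv (same := fun u w => csame (bare Px2) (lmap (nth 0 Y) u) (lmap (nth 0 Y) w)) (fun u w e => ?_)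
    (by decide +kernel), le_antisymm ((Subgroup.closure_le _).2 ?_) ((Subgroup.closure_le _).2 ?_), h1⟩
  · simpa [pv, lmap_eq, Function.comp_def] using Rel.csame h (wf_of okx2.wf) two_pos _ _ e
  · rintro _ ⟨i, -, rfl⟩
    exact h1 i
  · rintro _ ⟨i, hi, rfl⟩
    have := (by decide +kernel : ∀ i < 18, nth 0 U i < 18 ∧ nth 0 Y (nth 0 U i) = i) i hi.2
    exact this.2 ▸ mem_gen (fun i => x (nth 0 Y i)) (Nat.zero_le _) this.1

theorem exists_V {E : Type*} [Group E] [Finite E] {y : ℕ → E} (h : Rel Q y) (ht : gen 18 y 0 = ⊤)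
    (hc : Nat.card E = 2 ^ 18) : ∃ V : Subgroup E, V.Normal ∧ IsElementaryAbelian 2 V ∧ Nat.card V = 2 ^ 11 ∧
      ∀ A : Subgroup E, IsElementaryAbelian 2 A → 2 ^ 11 ≤ Nat.card A → A = V :=
  main (s := 7) (M := Ms) (N := Ns) (C := Cs) (B := Bs) h (wf_of (by decide +kernel)) rfl rfl ht hc (by decide)
    (by decide) (by decide +kernel) (by decide +kernel) (by decide +kernel) (by decide +kernel)

theorem exists_gens : ∃ x : ℕ → Spor.Fi23, Rel Px2 x ∧ Nat.card (gen 18 x 0) = 2 ^ 18 :=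
  have h := mdl.app (mdl.new (k := 15) (l := 18) (by decide) wx2 (by decide +kernel) (by decide +kernel) qx2)
  have h1 := rel_of_relRow h.sameB hx2
  ⟨_, h1, le_antisymm (h1.card_le (wf_of okx2.wf) two_pos) (low_of_lowOK h.reps h.lt lx2)⟩

theorem elem_iff {G : Type*} [Group G] {T A : Subgroup G} (h : A ≤ T) :
    IsElementaryAbelian 2 (A.subgroupOf T) ↔ IsElementaryAbelian 2 A :=
  ⟨fun h' => ⟨⟨⟨fun a b => Subtype.ext (congrArg (·.1.1) (h'.1.is_comm.comm ⟨⟨a, h a.2⟩, a.2⟩ ⟨⟨b, h b.2⟩, b.2⟩))⟩⟩,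
    fun a ha => congrArg Subtype.val (h'.2 ⟨a, h ha⟩ ha)⟩,
    fun h' => ⟨⟨⟨fun a b => Subtype.ext (Subtype.ext (congrArg (·.1) (h'.1.is_comm.comm ⟨a.1, a.2⟩ ⟨b.1, b.2⟩)))⟩⟩,
    fun a ha => Subtype.ext (h'.2 a ha)⟩⟩

theorem thompson (T : Sylow 2 Spor.Fi23) : ∃ V : Subgroup Spor.Fi23, V ≤ T ∧ (V.subgroupOf T).Normal ∧
    IsElementaryAbelian 2 V ∧ Nat.card V = 2 ^ 11 ∧
      ∀ A : Subgroup Spor.Fi23, A ≤ T → IsElementaryAbelian 2 A → 2 ^ 11 ≤ Nat.card A → A = V := by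
  obtain ⟨x, h, hc⟩ := exists_gens
  obtain ⟨h1, h2, h3⟩ := change h
  have e : (Nat.card Spor.Fi23).factorization 2 = 18 := by
    rw [CF.Comp.Fi23.card]
    rw [Nat.factorization_def _ Nat.prime_two]
    decide +kernel
  obtain ⟨z, h4, h5⟩ := exists_sylow h1 (fun i => h2.ge (h3 i)) (by rw [e]; exact h2 ▸ hc) T
  obtain ⟨V, v1, v2, v3, v4⟩ := exists_V h4 h5 (e ▸ T.card_eq_multiplicity)
  have e' : (V.map T.1.subtype).subgroupOf T = V := Subgroup.comap_map_eq_self_of_injective T.1.subtype_injective V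
  refine ⟨V.map T.1.subtype, Subgroup.map_subtype_le V, e'.symm ▸ v1, (elem_iff (Subgroup.map_subtype_le V)).1
    (e'.symm ▸ v2), (Subgroup.card_map_of_injective T.1.subtype_injective).trans v3, fun A hA h6 h7 => ?_⟩
  rw [← v4 _ ((elem_iff hA).2 h6) (h7.trans (Nat.card_congr (Subgroup.subgroupOfEquivOfLe hA).toEquiv).ge),
    Subgroup.subgroupOf_map_subtype, inf_eq_left.2 hA]

end CF.Schur.F23J
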