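import Cfsg.Agent.Schur.ThM
import Cfsg.Agent.Schur.ThD3

set_option autoImplicit false
set_option maxRecDepth 1000000
set_option maxHeartbeats 0
set_option Elab.async false

namespace CF.Schur.Th

open CF.Comp CF.Schur.Pc Cfsg CF.Dce CF.Dce.Th

noncomputable def Px3 : Dat := ⟨(nat_lit 3), (nat_lit 10), (nat_lit 10), (nat_lit 19), (nat_lit 74),
  (BT.node (nat_lit 27) (BT.node (nat_lit 13) (BT.node (nat_lit 6) (BT.node (nat_lit 3) (BT.node (nat_lit 1) (BT.leaf [(nat_lit 9), (nat_lit 9)]) (BT.node (nat_lit 2) (BT.leaf [(nat_lit 1), (nat_lit 3), (nat_lit 5), (nat_lit 6), (nat_lit 8), (nat_lit 8), (nat_lit 9), (nat_lit 9)]) (BT.leaf [(nat_lit 7), (nat_lit 7), (nat_lit 8), (nat_lit 8), (nat_lit 9)]))) (BT.node (nat_lit 4) (BT.leaf [(nat_lit 2), (nat_lit 4), (nat_lit 4), (nat_lit 7), (nat_lit 8)]) (BT.node (nat_lit 5) (BT.leaf [(nat_lit 2), (nat_lit 6), (nat_lit 6), (nat_lit 7), (nat_lit 8), (nat_lit 9)]) (BT.leaf [])))) (BT.node (nat_lit 9) (BT.node (nat_lit 7) (BT.leaf [(nat_lit 3), (nat_lit 4), (nat_lit 4), (nat_lit 6), (nat_lit 7), (nat_lit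 7), (nat_lit 9), (nat_lit 9)]) (BT.node (nat_lit 8) (BT.leaf [(nat_lit 3), (nat_lit 4), (nat_lit 4), (nat_lit 5), (nat_lit 7), (nat_lit 9), (nat_lit 9)]) (BT.leaf [(nat_lit 3), (nat_lit 6), (nat_lit 7), (nat_lit 8), (nat_lit 8), (nat_lit 9), (nat_lit 9)]))) (BT.node (nat_lit 11) (BT.node (nat_lit 10) (BT.leaf [(nat_lit 8), (nat_lit 8)]) (BT.leaf [(nat_lit 4), (nat_lit 8), (nat_lit 9), (nat_lit 9)])) (BT.node (nat_lit 12) (BT.leaf [(nat_lit 4), (nat_lit 6), (nat_lit 6), (nat_lit 7), (nat_lit 8)]) (BT.leaf [(nat_lit 4), (nat_lit 9)]))))) (BT.node (nat_lit 20) (BT.node (nat_lit 16) (BT.node (nat_lit 14) (BT.leaf [(nat_lit 4), (nat_lit 8), (nat_lit 9)]) (BT.node (nat_lit 15) (BT.leaf []) (BT.leaf [(nat_lit 5), (nat_lit 6), (nat_lit 8)]))) (BT.node (nat_lit 18) (BT.node (nat_lit 17) (BT.leaf [(nat_lit 5), (nat_lit 6), (nat_lit 6), (nat_lit 7), (nat_lit 8), (nat_lit 8)]) (BT.leaf [(nat_lit 5), (nat_lit 7), (nat_lit 9)])) (BT.node (nat_lit 19) (BT.leaf [(nat_lit 5), (nat_lit 7), (nat_lit 7), (nat_lit 9)]) (BT.leaf [(nat_lit 5), (nat_lit 8), (nat_lit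 8), (nat_lit 9)])))) (BT.node (nat_lit 23) (BT.node (nat_lit 21) (BT.leaf [(nat_lit 9)]) (BT.node (nat_lit 22) (BT.leaf [(nat_lit 6), (nat_lit 9), (nat_lit 9)]) (BT.leaf [(nat_lit 6), (nat_lit 7), (nat_lit 8), (nat_lit 9), (nat_lit 9)]))) (BT.node (nat_lit 25) (BT.node (nat_lit 24) (BT.leaf [(nat_lit 6)]) (BT.leaf [(nat_lit 6), (nat_lit 8), (nat_lit 9)])) (BT.node (nat_lit 26) (BT.leaf [(nat_lit 6)]) (BT.leaf [(nat_lit 6), (nat_lit 9), (nat_lit 9)])))))) (BT.node (nat_lit 41) (BT.node (nat_lit 34) (BT.node (nat_lit 30) (BT.node (nat_lit 28) (BT.leaf []) (BT.node (nat_lit 29) (BT.leaf [(nat_lit 7), (nat_lit 8), (nat_lit 9), (nat_lit 9)]) (BT.leaf [(nat_lit 7), (nat_lit 9), (nat_lit 9)]))) (BT.node (nat_lit 32) (BT.node (nat_lit 31) (BT.leaf [(nat_lit 7)]) (BT.leaf [(nat_lit 7), (nat_lit 9), (nat_lit 9)])) (BT.node (nat_lit 33) (BT.leaf [(nat_lit 7)]) (BT.leaf [(nat_lit 7)])))) (BT.node (nat_lit 37) (BT.node (nat_lit 35) (BT.leaf [(nat_lit 7)]) (BT.node (nat_lit 36) (BT.leaf []) (BT.leaf [(nat_lit 8)]))) (BT.node (nat_lit 39) (BT.node (nat_lit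 38) (BT.leaf [(nat_lit 8), (nat_lit 9)]) (BT.leaf [(nat_lit 8)])) (BT.node (nat_lit 40) (BT.leaf [(nat_lit 8)]) (BT.leaf [(nat_lit 8)]))))) (BT.node (nat_lit 48) (BT.node (nat_lit 44) (BT.node (nat_lit 42) (BT.leaf [(nat_lit 8)]) (BT.node (nat_lit 43) (BT.leaf [(nat_lit 8)]) (BT.leaf [(nat_lit 8)]))) (BT.node (nat_lit 46) (BT.node (nat_lit 45) (BT.leaf []) (BT.leaf [(nat_lit 9)])) (BT.node (nat_lit 47) (BT.leaf [(nat_lit 9)]) (BT.leaf [(nat_lit 9)])))) (BT.node (nat_lit 51) (BT.node (nat_lit 49) (BT.leaf [(nat_lit 9)]) (BT.node (nat_lit 50) (BT.leaf [(nat_lit 9)]) (BT.leaf [(nat_lit 9)]))) (BT.node (nat_lit 53) (BT.node (nat_lit 52) (BT.leaf [(nat_lit 9)]) (BT.leaf [(nat_lit 9)])) (BT.node (nat_lit 54) (BT.leaf [(nat_lit 9)]) (BT.leaf []))))))),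
  [⟨(nat_lit 0), [(nat_lit 2)], [(nat_lit 2), (nat_lit 2)]⟩,
  ⟨(nat_lit 0), [(nat_lit 0)], [(nat_lit 0)]⟩,
  ⟨(nat_lit 0), [(nat_lit 9)], [(nat_lit 9)]⟩,
  ⟨(nat_lit 0), [(nat_lit 4)], [(nat_lit 4), (nat_lit 4)]⟩,
  ⟨(nat_lit 0), [(nat_lit 8)], [(nat_lit 8), (nat_lit 8), (nat_lit 9), (nat_lit 9)]⟩,
  ⟨(nat_lit 0), [(nat_lit 7)], [(nat_lit 7), (nat_lit 7)]⟩,
  ⟨(nat_lit 1), [(nat_lit 6)], [(nat_lit 6)]⟩,
  ⟨(nat_lit 1), [(nat_lit 0)], [(nat_lit 0), (nat_lit 0), (nat_lit 6), (nat_lit 6), (nat_lit 9), (nat_lit 9)]⟩,
  ⟨(nat_lit 1), [(nat_lit 9)], [(nat_lit 9), (nat_lit 9)]⟩,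
  ⟨(nat_lit 1), [(nat_lit 5)], [(nat_lit 4), (nat_lit 4), (nat_lit 5), (nat_lit 5), (nat_lit 6), (nat_lit 9)]⟩,
  ⟨(nat_lit 1), [(nat_lit 3)], [(nat_lit 3), (nat_lit 3), (nat_lit 6), (nat_lit 8), (nat_lit 8), (nat_lit 9)]⟩,
  ⟨(nat_lit 1), [(nat_lit 8)], [(nat_lit 8), (nat_lit 8)]⟩,
  ⟨(nat_lit 0), [(nat_lit 5)], [(nat_lit 4), (nat_lit 5), (nat_lit 8), (nat_lit 8), (nat_lit 9)]⟩,
  ⟨(nat_lit 0), [(nat_lit 6)], [(nat_lit 6)]⟩,
  ⟨(nat_lit 1), [(nat_lit 2)], [(nat_lit 2), (nat_lit 2), (nat_lit 7)]⟩,
  ⟨(nat_lit 1), [(nat_lit 7)], [(nat_lit 7)]⟩,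
  ⟨(nat_lit 0), [(nat_lit 1)], [(nat_lit 1), (nat_lit 1), (nat_lit 6), (nat_lit 7), (nat_lit 7), (nat_lit 8), (nat_lit 8), (nat_lit 9)]⟩,
  ⟨(nat_lit 1), [(nat_lit 1)], [(nat_lit 1), (nat_lit 2), (nat_lit 2), (nat_lit 3), (nat_lit 4), (nat_lit 4), (nat_lit 5), (nat_lit 7), (nat_lit 7), (nat_lit 8), (nat_lit 9), (nat_lit 9)]⟩,
  ⟨(nat_lit 0), [(nat_lit 3)], [(nat_lit 3), (nat_lit 3), (nat_lit 4), (nat_lit 5), (nat_lit 5), (nat_lit 7), (nat_lit 8), (nat_lit 8), (nat_lit 9)]⟩]⟩

noncomputable def Xx3_0 : List Test := [⟨(nat_lit 1), [(nat_lit 0), (nat_lit 0), (nat_lit 0)], [], (nat_lit 0x100000000000000000000000000000000000000000000000000000000000000000000000000000000000000000000000000000000000000000000000000001000000000000000000000000000000000000000000000000000000000000)⟩,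
  ⟨(nat_lit 0), [(nat_lit 5)], [(nat_lit 5), (nat_lit 5), (nat_lit 5)], (nat_lit 0x100000000000040000000000000000000000000000000000000000000000000000000000000000000000000000000000000000000000000000000000000000000000000000000000000000000000000000000000000000000000000000)⟩,
  ⟨(nat_lit 1), [(nat_lit 1), (nat_lit 1), (nat_lit 1)], [(nat_lit 2), (nat_lit 2)], (nat_lit 0x100000000000000000000000000000000000000000000000000000000000000000000000000000000000000000000000000000000000000000000000000000000000000000000000000000000000000000000000000000000000100000)⟩,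
  ⟨(nat_lit 0), [(nat_lit 0)], [(nat_lit 0), (nat_lit 0), (nat_lit 0)], (nat_lit 0x200000000000000000000000020000000000000000000000000000000000000000000000000000000000000000000000000000000000000000000000000000000000000000000000000000000000000000000000000000000000000000)⟩,
  ⟨(nat_lit 0), [(nat_lit 3)], [(nat_lit 3), (nat_lit 3), (nat_lit 3)], (nat_lit 0x200000000000000000000000000000000000000020000000000000000000000000000000000000000000000000000000000000000000000000000000000000000000000000000000000000000000000000000000000000000000000000)⟩,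
  ⟨(nat_lit 0), [(nat_lit 7)], [(nat_lit 5), (nat_lit 5), (nat_lit 5)], (nat_lit 0x100000004000000000000000000000000000000000000000000000000000000000000000000000000000000000000000000000000000000000000000000000000000000000000000000000000000000000000000000000000000000000)⟩,
  ⟨(nat_lit 0), [(nat_lit 8)], [(nat_lit 5), (nat_lit 5), (nat_lit 5)], (nat_lit 0x100001000000000000000000000000000000000000000000000000000000000000000000000000000000000000000000000000000000000000000000000000000000000000000000000000000000000000000000000000000000000000)⟩,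
  ⟨(nat_lit 0), [(nat_lit 4)], [(nat_lit 2), (nat_lit 2), (nat_lit 2)], (nat_lit 0x100400000000000000000000000000000000000000000000000000000000000000000000000000000000000000000000000000000000000000000000000000000000000000000000000000000000000000000000000000000000000000)⟩,
  ⟨(nat_lit 0), [(nat_lit 6)], [(nat_lit 4), (nat_lit 2)], (nat_lit 0x100000000010000000000000000000000000000000000000000000000000000000000000000000000000000000000000000000000000000000000000000000000000000000000000000000000000000000000000000000000000000000)⟩,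
  ⟨(nat_lit 0), [(nat_lit 8)], [(nat_lit 5), (nat_lit 0)], (nat_lit 0x200000000000000000000000000000000800000000000000000000000000000000000000000000000000000000000000000000000000000000000000000000000000000000000000000000000000000000000000000000000000000000)⟩,
  ⟨(nat_lit 0), [(nat_lit 8)], [(nat_lit 5), (nat_lit 2)], (nat_lit 0x200001000000000000000000000000200000000000000000000000000000000000000000000000000000000000000000000000000000000000000000000000000000000000000000000000000000000000000000000000000000000000)⟩,
  ⟨(nat_lit 0), [(nat_lit 8)], [(nat_lit 2), (nat_lit 0)], (nat_lit 0x200000000000000000000000000000200000004000000000000000000000000000000000000000000000000000000000000000000000000000000000000000000000000000000000000000000000000000000000000000000000000000)⟩,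
  ⟨(nat_lit 0), [(nat_lit 5)], [(nat_lit 2), (nat_lit 2), (nat_lit 2)], (nat_lit 0x100400000000000000000000000000000000000000000000001000000000000000000000000000000000000000000000000000000000000000000000000000000000000000000000000000000000000000000000000000000000000000)⟩,
  ⟨(nat_lit 0), [(nat_lit 9)], [(nat_lit 2), (nat_lit 0)], (nat_lit 0x200002008000000100000000000000000000000000000000000000000000000000000000000000000000000000000000000000000000000000000000000000000000000000000000000000000000000000000000000000000000000000)⟩,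
  ⟨(nat_lit 0), [(nat_lit 5)], [(nat_lit 4), (nat_lit 4), (nat_lit 4)], (nat_lit 0x200400000000000000000000000080000000000000000000000000000000000000000000000000000000000000000000000000000000000000000000000000000000000000000000000000000000000000000000000000000000000000)⟩,
  ⟨(nat_lit 0), [(nat_lit 6)], [(nat_lit 5), (nat_lit 2)], (nat_lit 0x200000004010000000002000000000000000000000000000000004000000000000000000000000000000000000000000000000000000000000000000000000000000000000000000000000000000000000000000000000000000000000)⟩,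
  ⟨(nat_lit 1), [(nat_lit 3), (nat_lit 1)], [(nat_lit 1), (nat_lit 3), (nat_lit 4), (nat_lit 2), (nat_lit 2)], (nat_lit 0x200002000000000200000000000000000000004000000000000000000000000000000000000000000000000000000000000000000000000004000000000000000000000000000000000000000000000000000000000000020000100000)⟩,
  ⟨(nat_lit 1), [(nat_lit 5), (nat_lit 1)], [(nat_lit 1), (nat_lit 5), (nat_lit 4), (nat_lit 2), (nat_lit 2)], (nat_lit 0x200002008000000000000000000000100000000000000000000000000000000000004000000000000000000000000000000000000000000000000000000000000000000000000000000000000000000000000000000000020000100000)⟩,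
  ⟨(nat_lit 0), [(nat_lit 5), (nat_lit 5)], [(nat_lit 5), (nat_lit 2)], (nat_lit 0x200800000000000000001000000000000000000000000000002000000000000000000000000000000000000000000000000000000000000000000000000000000000000000000000000000000000000000000000000000000000000000)⟩,
  ⟨(nat_lit 2), [(nat_lit 6), (nat_lit 7)], [(nat_lit 7), (nat_lit 6), (nat_lit 8), (nat_lit 8)], (nat_lit 0x200000000000000000000000020000000000000000000000000000000000000000000000000000000000010000000000000000000000000000000000000000000000000000000000000000000000000000000100000000000000000000)⟩,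
  ⟨(nat_lit 2), [(nat_lit 6), (nat_lit 9)], [(nat_lit 9), (nat_lit 6), (nat_lit 8), (nat_lit 8)], (nat_lit 0x200000000000080000000000000000000000000000000000000000000000000000000000040200000000000000000000000000000000000000000000000000000000000000000000000000000000000000000100000000000000000000)⟩,
  ⟨(nat_lit 0), [(nat_lit 1)], [(nat_lit 1), (nat_lit 1), (nat_lit 1)], (nat_lit 0x200800008000000000000004000000000000000000000200000000000000000002000000000000000000000000000000000000000000000000000000000000000000000000000000000000000000000000000000000000000000000000)⟩,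
  ⟨(nat_lit 0), [(nat_lit 5), (nat_lit 5)], [(nat_lit 5), (nat_lit 3)], (nat_lit 0x200800000000000000400000000000000000000000000000001000000000000000000000000000000000000000000000000000000000000000000000000000000000000000000000000000000000000000000000000000000000000000)⟩,
  ⟨(nat_lit 0), [(nat_lit 7)], [(nat_lit 5), (nat_lit 0)], (nat_lit 0x200001000010040000000000000000100802000000000000000008000000000000000000000000000000000000000000000000000000000000000000000000000000000000000000000000000000000000000000000000000000000000)⟩,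
  ⟨(nat_lit 0), [(nat_lit 4)], [(nat_lit 2), (nat_lit 0)], (nat_lit 0x200002000000000000001000010000200000008000080000000000000040000000000000000000000000000000000000000000000000000000000000000000000000000000000000000000000000000000000000000000000000000000)⟩,
  ⟨(nat_lit 0), [(nat_lit 5)], [(nat_lit 4), (nat_lit 2)], (nat_lit 0x200001000000040200001000000000100000000000080000000000000080000000000000000000000000000000000000000000000000000000000000000000000000000000000000000000000000000000000000000000000000000000)⟩,
  ⟨(nat_lit 0), [(nat_lit 6)], [(nat_lit 2), (nat_lit 0)], (nat_lit 0x200001004000000200001000000000000400000000000000000004000000000000000000000100000000000000000000000000000000000000000000000000000000000000000000000000000000000000000000000000000000000000)⟩,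
  ⟨(nat_lit 2), [(nat_lit 6), (nat_lit 10)], [(nat_lit 10), (nat_lit 6), (nat_lit 11), (nat_lit 8)], (nat_lit 0x200000000010000000400000000000000000000010000000000000000000000000000000000000400000000000000000000000000000000000000000000000000000000000000000000000000000008000000200000000000000000000)⟩,
  ⟨(nat_lit 0), [(nat_lit 7)], [(nat_lit 3), (nat_lit 1)], (nat_lit 0x200000004000080100400008000000000000000000000000000000020040000000000000000000000000000000000000000000000000000000000000000000000000000000000000000000000000000000000000000000000000000000)⟩,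
  ⟨(nat_lit 0), [(nat_lit 5)], [(nat_lit 0), (nat_lit 0), (nat_lit 0)], (nat_lit 0x200801000020080000000000020040000000000000000000000000000000000000000010000000000000000000000000000000000000000000000000000000000000000000000000000000000000000000000000000000000000000000)⟩,
  ⟨(nat_lit 1), [(nat_lit 12), (nat_lit 1)], [(nat_lit 1), (nat_lit 12), (nat_lit 13), (nat_lit 4)], (nat_lit 0x200001000010080000000000010000000801000000000000800000000000000000000000000000000000000000000000000000000000000004000000000000000000000000000000000000000800000000000000000000020000000000)⟩,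
  ⟨(nat_lit 0), [(nat_lit 6)], [(nat_lit 3), (nat_lit 0)], (nat_lit 0x200001000020000000400000010000100800004000000000400008000000000000000000000100000000000000000000000000000000000000000000000000000000000000000000000000000000000000000000000000000000000000)⟩,
  ⟨(nat_lit 1), [(nat_lit 0), (nat_lit 1)], [(nat_lit 1), (nat_lit 0), (nat_lit 3), (nat_lit 3), (nat_lit 5), (nat_lit 4)], (nat_lit 0x200001004000000200000000000000100000008000040000000000000080000400000000000000000000000000000000000000000000800000000000000000000010000000000000000000000000000000000000000008020040000000)⟩,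
  ⟨(nat_lit 0), [(nat_lit 6)], [(nat_lit 2), (nat_lit 1)], (nat_lit 0x200002008000000000001000000000000800000000080000000008000000000800000000000000000000000000000000000000000000000000000000000000000000000000000000000000000000000000000000000000000000000000)⟩,
  ⟨(nat_lit 1), [(nat_lit 12), (nat_lit 0)], [(nat_lit 0), (nat_lit 12), (nat_lit 5), (nat_lit 2)], (nat_lit 0x200402008000080000001000000000200000000000040000000000000000000400000000000000000000000000000001000000000000800000000000000000000000000000000000000000000000000000000000000008000000200000)⟩,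
  ⟨(nat_lit 2), [(nat_lit 7), (nat_lit 7), (nat_lit 7)], [(nat_lit 8), (nat_lit 8)], (nat_lit 0x200000000020000000000000010000000000000000000000000000000000000000000020000000000000000000000000000000000000000000000000000000000000000000400000000000000000000000000100000000000000000000)⟩,
  ⟨(nat_lit 0), [(nat_lit 7)], [(nat_lit 1), (nat_lit 0)], (nat_lit 0x200802008020080000400004020000200802000020000200000008020000200000000000000000000000000000000000000000000000000000000000000000000000000000000000000000000000000000000000000000000000000000)⟩,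
  ⟨(nat_lit 0), [(nat_lit 4)], [(nat_lit 2), (nat_lit 1)], (nat_lit 0x200002008010000100000004000000000000004000080000000000000040000800000000000200001000000000000000000000000000000000000000000000000000000000000000000000000000000000000000000000000000000000)⟩,
  ⟨(nat_lit 0), [(nat_lit 5)], [(nat_lit 3), (nat_lit 2)], (nat_lit 0x200002008020080000801000000000000002000000000000000000010000200800000000040000000000000000000000000000000000000000000000000000000000000000000000000000000000000000000000000000000000000000)⟩,
  ⟨(nat_lit 0), [(nat_lit 2), (nat_lit 2)], [(nat_lit 2), (nat_lit 0)], (nat_lit 0x200800000000000100001000000080000000000000000000002000000000000000000000000000000000000000000000000000040000000000000000000000000000000000000000000000000000000000000000000000000000000000)⟩,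
  ⟨(nat_lit 0), [(nat_lit 5)], [(nat_lit 2), (nat_lit 0)], (nat_lit 0x200001004000000000000000010080200001008000080000000000010040000000004000000100002000000000100000000000000000000000000000000000000000000000000000000000000000000000000000000000000000000000)⟩,
  ⟨(nat_lit 2), [(nat_lit 9), (nat_lit 14)], [(nat_lit 14), (nat_lit 9), (nat_lit 15), (nat_lit 8)], (nat_lit 0x200800008020040200000000000000000000000000000000001000000040000800000000000000002000000000000000000000000000400000000000000000000000000000000000000080000000000000000200000000000000000000)⟩,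
  ⟨(nat_lit 0), [(nat_lit 5), (nat_lit 5)], [(nat_lit 5), (nat_lit 1)], (nat_lit 0x200400000020080000000004000040000000000000000000002000000000000000000010000000000000000000000000000000000000000000000000000000000000000000000000000000000000000000000000000000000000000000)⟩,
  ⟨(nat_lit 0), [(nat_lit 6)], [(nat_lit 1), (nat_lit 0)], (nat_lit 0x200800004020080000800004020000100001000020000000400008020000200000004000080000800000000000000000000000000000000000000000000000000000000000000000000000000000000000000000000000000000000000)⟩,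
  ⟨(nat_lit 0), [(nat_lit 5)], [(nat_lit 1), (nat_lit 0)], (nat_lit 0x200001004000000000000000000000100801000020000200802004020000100000004000040000000008020000000800000000000000000000000000000000000000000000000000000000000000000000000000000000000000000000)⟩,
  ⟨(nat_lit 0), [(nat_lit 4)], [(nat_lit 1), (nat_lit 0)], (nat_lit 0x200801008020040200000004000000200401008010000200400008020000200000004000040100400000020000100000000000000200000000000000000000000000000000000000000000000000000000000000000000000000000000)⟩,
  ⟨(nat_lit 0), [(nat_lit 3)], [(nat_lit 2), (nat_lit 0)], (nat_lit 0x200800004000000100001000020040200400008010000000800000000000100400004000000000002000010000000000000000000200400000000000000000000000000000000000000000000000000000000000000000000000000000)⟩,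
  ⟨(nat_lit 2), [(nat_lit 9), (nat_lit 7)], [(nat_lit 7), (nat_lit 9), (nat_lit 6), (nat_lit 11)], (nat_lit 0x200802000010080000000000010080000001008000000000400000000000000000000010040200000000010000000000000000000000000004000000000000000000000000000000000000000000008000000000002000000000000000)⟩,
  ⟨(nat_lit 0), [(nat_lit 3)], [(nat_lit 2), (nat_lit 1)], (nat_lit 0x200001000020040200401008000040000001008010000200000008000000100801000000040200800004000000000002000000000000400000000000000000000000000000000000000000000000000000000000000000000000000000)⟩,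
  ⟨(nat_lit 1), [(nat_lit 16), (nat_lit 16), (nat_lit 16)], [(nat_lit 5), (nat_lit 5), (nat_lit 4), (nat_lit 4), (nat_lit 2)], (nat_lit 0x200800008020000000000008000040100400000000000100001004000000000001000010000000000000000000000000000000000000000000000000000000000000040000000000000000000000000000000000000004010000200000)⟩,
  ⟨(nat_lit 0), [(nat_lit 3), (nat_lit 3)], [(nat_lit 3), (nat_lit 1)], (nat_lit 0x200801004000000100800000000040000001008000000200000000020080100000000000000000000000000080000000000000040000000000000000000000000000000000000000000000000000000000000000000000000000000000)⟩,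
  ⟨(nat_lit 2), [(nat_lit 14), (nat_lit 17)], [(nat_lit 17), (nat_lit 14), (nat_lit 6), (nat_lit 6), (nat_lit 15), (nat_lit 11), (nat_lit 8)], (nat_lit 0x200002008020000000401000000080100802004020040000002004010080000401000000080100400000000000000001000000000000800000000040000000004000000000000000000080000000008000000200001000000000000000)⟩,
  ⟨(nat_lit 0), [(nat_lit 2)], [(nat_lit 1), (nat_lit 0)], (nat_lit 0x200802000020000000802000010040100402000020080200400004000040200002004020040100001000020000200001000000000100001000000040000000000000000000000000000000000000000000000000000000000000000000)⟩,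
  ⟨(nat_lit 1), [(nat_lit 18), (nat_lit 1)], [(nat_lit 1), (nat_lit 18), (nat_lit 3), (nat_lit 3), (nat_lit 13), (nat_lit 5), (nat_lit 5), (nat_lit 2), (nat_lit 2)], (nat_lit 0x200002000020080200800000010000200801008000000000800000020040200000004010080100400000000000100000000020000200000004000000000400000000000000000000000000000800000000000000000004000040100000)⟩,
  ⟨(nat_lit 0), [(nat_lit 3)], [(nat_lit 1), (nat_lit 0)], (nat_lit 0x200000008010000200800004020040200402004010000000002008020000000001004020000100800008000000200000000010000200001008000000000000000000000000000000000000000000000000000000000000000000000000)⟩,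
  ⟨(nat_lit 0), [(nat_lit 1)], [(nat_lit 0), (nat_lit 0), (nat_lit 0)], (nat_lit 0x200400000010000100000008000000200801008020000000001008020000100000004000000200400000020040200000000000080200000008010000000000000000000000000000000000000000000000000000000000000000000000)⟩,
  ⟨(nat_lit 0), [(nat_lit 1), (nat_lit 1)], [(nat_lit 1), (nat_lit 0)], (nat_lit 0x200001008020000000400004010080100800008020000100800008000000000002008000040100400004000040000400008000040200001000020000000000000000000000000000000000000000000000000000000000000000000000)⟩]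

noncomputable def cx3 : Cert := ⟨Px3, (nat_lit 0), Xx3_0,
  [],
  [(nat_lit 0),
  (nat_lit 0),
  (nat_lit 0),
  (nat_lit 0x200000000000000000000000000000000000000000000000000000000000000000000000000000000000000000000000000000000000000000000000200000004010040100800000000000000000000000000000000000000000000000),
  (nat_lit 0x200000000000000000000000000000000000000000000000000000000000000000000000000000000000000000000000000000000000000000000000000000000020080000800000000000000000000000000000000000000000000000),
  (nat_lit 0x200000000000000000000000000000000000000000000000000000000000000000000000000000000000000000000000000000000000000000000000100400004010080000400000000000000000000000000000000000000000000000),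
  (nat_lit 0x200000000000000000000000000000000000000000000000000000000000000000000000000000000000000000000000000000000000000000000000000000008000080000400000000000000000000000000000000000000000000000),
  (nat_lit 0x200000000000000000000000000000000000000000000000000000000000000000000000000000000000000000000000000000000000000000000000000800008010000000000000000000000000000000000000000000000000000000),
  (nat_lit 0x200000000000000000000000000000000000000000000000000000000000000000000000000000000000000000000000000000000000000000000000000400004020080000800000000000000000000000000000000000000000000000),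
  (nat_lit 0x200000000000000000000000000000000000000000000000000000000000000000000000000000000000000000000000000000000000000000000000000000000000000000800000000000000000000000000000000000000000000000)],
  (BT.node (nat_lit 27) (BT.node (nat_lit 13) (BT.node (nat_lit 6) (BT.node (nat_lit 3) (BT.node (nat_lit 1) (BT.leaf (nat_lit 0)) (BT.node (nat_lit 2) (BT.leaf (nat_lit 0)) (BT.leaf (nat_lit 0)))) (BT.node (nat_lit 4) (BT.leaf (nat_lit 0)) (BT.node (nat_lit 5) (BT.leaf (nat_lit 0)) (BT.leaf (nat_lit 2))))) (BT.node (nat_lit 9) (BT.node (nat_lit 7) (BT.leaf (nat_lit 0)) (BT.node (nat_lit 8) (BT.leaf (nat_lit 0)) (BT.leaf (nat_lit 0x4ae3ae7352fcc8d4737e46)))) (BT.node (nat_lit 11) (BT.node (nat_lit 10) (BT.leaf (nat_lit 0x1ab5bb220ebdecdd7f46b84)) (BT.leaf (nat_lit 0x4d19be5343715288be2e5f))) (BT.node (nat_lit 12) (BT.leaf (nat_lit 0xc81fb3e0bd025d8499849)) (BT.leaf (nat_lit 0x4744ec021caf5c5390d)))))) (BT.node (nat_lit 20) (BT.node (nat_lit 16) (BT.node (nat_lit 14) (BT.leaf (nat_lit 0x4d1891458c872e6fab4e1e)) (BT.node (nat_lit 15) (BT.leaf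 (nat_lit 0x707b22e18838e58d)) (BT.leaf (nat_lit 0x103f164965bb2d8365110f)))) (BT.node (nat_lit 18) (BT.node (nat_lit 17) (BT.leaf (nat_lit 0x28bf0b11c22fd502acfb57b)) (BT.leaf (nat_lit 0x895d15b094339eb2ce1ce5))) (BT.node (nat_lit 19) (BT.leaf (nat_lit 0x4cc596b46f4323f47d5415)) (BT.leaf (nat_lit 0x8990f09329dba70a9d9e20))))) (BT.node (nat_lit 23) (BT.node (nat_lit 21) (BT.leaf (nat_lit 0x9805ef8cc3b3a05cf266)) (BT.node (nat_lit 22) (BT.leaf (nat_lit 0xb1fdd8a54ab16f)) (BT.leaf (nat_lit 0x873f00db4776dc5b2a2e)))) (BT.node (nat_lit 25) (BT.node (nat_lit 24) (BT.leaf (nat_lit 0x5fb120f3980ffd359)) (BT.leaf (nat_lit 0x4d19d045007872257ea6f9))) (BT.node (nat_lit 26) (BT.leaf (nat_lit 0x49fd550c345)) (BT.leaf (nat_lit 0xb202798fb5f71f))))))) (BT.node (nat_lit 41) (BT.node (nat_lit 34) (BT.node (nat_lit 30) (BT.node (nat_lit 28) (BT.leaf (nat_lit 0x7cd683192854)) (BT.node (nat_lit 29) (BT.leaf (nat_lit 0x4d19be534371527bb698c7)) (BT.leaf (nat_lit 0xbf4c04574099d1572)))) (BT.node (nat_lit 32) (BT.node (nat_lit 31) (BT.leaf (nat_lit 0x13c0f6c6e5e1e8))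 (BT.leaf (nat_lit 0x60216e10b7e5c114e))) (BT.node (nat_lit 33) (BT.leaf (nat_lit 0x1cc4efc6ea5)) (BT.leaf (nat_lit 0x5ee7eea634b9aed29))))) (BT.node (nat_lit 37) (BT.node (nat_lit 35) (BT.leaf (nat_lit 804608478)) (BT.node (nat_lit 36) (BT.leaf (nat_lit 1065069)) (BT.leaf (nat_lit 0x465e1b93e2bb5)))) (BT.node (nat_lit 39) (BT.node (nat_lit 38) (BT.leaf (nat_lit 0x290b727ee1cec2bb)) (BT.leaf (nat_lit 0x20e3f5c1cb9))) (BT.node (nat_lit 40) (BT.leaf (nat_lit 81)) (BT.leaf (nat_lit 414801)))))) (BT.node (nat_lit 48) (BT.node (nat_lit 44) (BT.node (nat_lit 42) (BT.leaf (nat_lit 0x16035b26c5)) (BT.node (nat_lit 43) (BT.leaf (nat_lit 19683)) (BT.leaf (nat_lit 60507)))) (BT.node (nat_lit 46) (BT.node (nat_lit 45) (BT.leaf (nat_lit 4787343)) (BT.leaf (nat_lit 27))) (BT.node (nat_lit 47) (BT.leaf (nat_lit 0xbdcfcec3225920daf)) (BT.leaf (nat_lit 775903860))))) (BT.node (nat_lit 51) (BT.node (nat_lit 49) (BT.leaf (nat_lit 0xe9cf214ae)) (BT.node (nat_lit 50) (BT.leaf (nat_lit 3190590)) (BT.leaf (nat_lit 6)))) (BT.node (nat_lit 53) (BT.node (nat_lit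 52) (BT.leaf (nat_lit 13122)) (BT.leaf (nat_lit 486))) (BT.node (nat_lit 54) (BT.leaf (nat_lit 1458)) (BT.leaf (nat_lit 4374))))))))⟩

theorem okx3 : cx3.OK := Cert.ok_of_check (by decide) (by decide +kernel)

theorem lx3_0 : allFrom (lay Y3 W3x) 0 4 = true := by decide +kernel

theorem lx3_4 : allFrom (lay Y3 W3x) 4 2 = true := by decide +kernel

theorem lx3_6 : allFrom (lay Y3 W3x) 6 2 = true := by decide +kernel

theorem lx3_8 : allFrom (lay Y3 W3x) 8 1 = true := by decide +kernel

theorem lx3_9 : allFrom (lay Y3 W3x) 9 1 = true := by decide +kernel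

theorem lx3_10 : allFrom (lay Y3 W3x) 10 10 = true := by decide +kernel

theorem lx3 : ∀ j < 20, lay Y3 W3x j = true := by
  have h : ∀ j < 0, lay Y3 W3x j = true := by simp
  have h := forall_lt_add h (allFrom_iff.1 lx3_0)
  have h := forall_lt_add h (allFrom_iff.1 lx3_4)
  have h := forall_lt_add h (allFrom_iff.1 lx3_6)
  have h := forall_lt_add h (allFrom_iff.1 lx3_8)
  have h := forall_lt_add h (allFrom_iff.1 lx3_9)
  have h := forall_lt_add h (allFrom_iff.1 lx3_10)
  exact h

theorem T3 : Tbl 3 5 248 P.mulR P.one (full 307520) ι (slp b W3x 8) (tb Y3) :=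
  tbl_lay (by decide +kernel) (by decide +kernel) (by decide +kernel) lx3

theorem hx3_0 : allFrom (relRow (eq' (tb Y3)) 18 Px3) 0 3 = true := by decide +kernel

theorem hx3_3 : allFrom (relRow (eq' (tb Y3)) 18 Px3) 3 2 = true := by decide +kernel

theorem hx3_5 : allFrom (relRow (eq' (tb Y3)) 18 Px3) 5 2 = true := by decide +kernel

theorem hx3_7 : allFrom (relRow (eq' (tb Y3)) 18 Px3) 7 2 = true := by decide +kernel

theorem hx3_9 : allFrom (relRow (eq' (tb Y3)) 18 Px3) 9 1 = true := by decide +kernel

theorem hx3 : ∀ j < 10, relRow (eq' (tb Y3)) 18 Px3 j = true := by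
  have h : ∀ j < 0, relRow (eq' (tb Y3)) 18 Px3 j = true := by simp
  have h := forall_lt_add h (allFrom_iff.1 hx3_0)
  have h := forall_lt_add h (allFrom_iff.1 hx3_3)
  have h := forall_lt_add h (allFrom_iff.1 hx3_5)
  have h := forall_lt_add h (allFrom_iff.1 hx3_7)
  have h := forall_lt_add h (allFrom_iff.1 hx3_9)
  exact h

theorem px3_0 : allFrom (atNo (prAt (eq' (tb Y3)) 18 g3) Px3.prs) 0 6 = true := by decide +kernel

theorem px3_6 : allFrom (atNo (prAt (eq' (tb Y3)) 18 g3) Px3.prs) 6 5 = true := by decide +kernel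

theorem px3_11 : allFrom (atNo (prAt (eq' (tb Y3)) 18 g3) Px3.prs) 11 6 = true := by decide +kernel

theorem px3_17 : allFrom (atNo (prAt (eq' (tb Y3)) 18 g3) Px3.prs) 17 2 = true := by decide +kernel

theorem px3 : ∀ j < 19, atNo (prAt (eq' (tb Y3)) 18 g3) Px3.prs j = true := by
  have h : ∀ j < 0, atNo (prAt (eq' (tb Y3)) 18 g3) Px3.prs j = true := by simp
  have h := forall_lt_add h (allFrom_iff.1 px3_0)
  have h := forall_lt_add h (allFrom_iff.1 px3_6)
  have h := forall_lt_add h (allFrom_iff.1 px3_11)
  have h := forall_lt_add h (allFrom_iff.1 px3_17)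
  exact h

theorem holdsx3 : Holds Px3 fun i => slp b W3x 8 (18 + i) :=
  holds_top T3.eqv hx3 (lall_of_atNo (by decide +kernel) px3)

theorem u3 : echOK 5 248 (evW P.mulR P.one (tb Y3)) ech3 = true := by decide +kernel

theorem pbd3 : PBd L 3 1 := by
  refine okx3.pbd holdsx3 ((Nat.le_of_dvd Nat.card_pos (T3.ech Nat.prime_three u3)).trans
    (Subgroup.card_le_of_le (clo_le.2 fun w hw => ?_))) card_L (by decide) rfl rfl
  obtain ⟨i, hi, rfl⟩ := (by decide +kernel : ∀ w ∈ ech3.map Prod.fst, ∃ i < 10, w = [2 * (18 + i) + 1]) w hw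
  rw [ev_single]
  exact mem_gen (fun i => slp b W3x 8 (18 + i)) (Nat.zero_le i) hi

noncomputable def Px5 : Dat := ⟨(nat_lit 5), (nat_lit 3), (nat_lit 8), (nat_lit 3), (nat_lit 9),
  (BT.node (nat_lit 3) (BT.node (nat_lit 1) (BT.leaf []) (BT.node (nat_lit 2) (BT.leaf [(nat_lit 1), (nat_lit 2), (nat_lit 2), (nat_lit 2), (nat_lit 2)]) (BT.leaf []))) (BT.node (nat_lit 4) (BT.leaf [(nat_lit 2)]) (BT.node (nat_lit 5) (BT.leaf [(nat_lit 2)]) (BT.leaf [])))),
  [⟨(nat_lit 0), [(nat_lit 2)], [(nat_lit 2)]⟩,
  ⟨(nat_lit 0), [(nat_lit 0)], [(nat_lit 0), (nat_lit 0), (nat_lit 0), (nat_lit 0)]⟩,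
  ⟨(nat_lit 0), [(nat_lit 1)], [(nat_lit 1), (nat_lit 1), (nat_lit 1), (nat_lit 1)]⟩]⟩

noncomputable def Xx5_0 : List Test := [⟨(nat_lit 1), [(nat_lit 0), (nat_lit 1)], [(nat_lit 1), (nat_lit 0)], (nat_lit 0x3000003000000000000)⟩,
  ⟨(nat_lit 1), [(nat_lit 0), (nat_lit 2)], [(nat_lit 2), (nat_lit 0)], (nat_lit 0x3000300000000000000)⟩,
  ⟨(nat_lit 1), [(nat_lit 1), (nat_lit 1), (nat_lit 1), (nat_lit 1), (nat_lit 1)], [], (nat_lit 0x3000000000003000000)⟩,
  ⟨(nat_lit 1), [(nat_lit 2), (nat_lit 2), (nat_lit 2), (nat_lit 2), (nat_lit 2)], [], (nat_lit 0x3000000030000000000)⟩,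
  ⟨(nat_lit 0), [(nat_lit 1)], [(nat_lit 0), (nat_lit 0), (nat_lit 0), (nat_lit 0), (nat_lit 0)], (nat_lit 0x4040000000000000000)⟩]

noncomputable def cx5 : Cert := ⟨Px5, (nat_lit 0), Xx5_0,
  [],
  [(nat_lit 0),
  (nat_lit 0),
  (nat_lit 0x4000000000400000000)],
  (BT.node (nat_lit 3) (BT.node (nat_lit 1) (BT.leaf (nat_lit 75)) (BT.node (nat_lit 2) (BT.leaf (nat_lit 0)) (BT.leaf (nat_lit 375)))) (BT.node (nat_lit 4) (BT.leaf (nat_lit 3)) (BT.node (nat_lit 5) (BT.leaf (nat_lit 15)) (BT.leaf (nat_lit 625)))))⟩

theorem okx5 : cx5.OK := Cert.ok_of_check (by decide) (by decide +kernel)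

theorem lx5_0 : allFrom (lay Y5 W5) 0 2 = true := by decide +kernel

theorem lx5_2 : allFrom (lay Y5 W5) 2 3 = true := by decide +kernel

theorem lx5_5 : allFrom (lay Y5 W5) 5 2 = true := by decide +kernel

theorem lx5 : ∀ j < 7, lay Y5 W5 j = true := by
  have h : ∀ j < 0, lay Y5 W5 j = true := by simp
  have h := forall_lt_add h (allFrom_iff.1 lx5_0)
  have h := forall_lt_add h (allFrom_iff.1 lx5_2)
  have h := forall_lt_add h (allFrom_iff.1 lx5_5)
  exact h

theorem T5 : Tbl 3 5 248 P.mulR P.one (full 307520) ι (slp b W5 8) (tb Y5) :=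
  tbl_lay (by decide +kernel) (by decide +kernel) (by decide +kernel) lx5

theorem hx5_0 : allFrom (relRow (eq' (tb Y5)) 12 Px5) 0 3 = true := by decide +kernel

theorem hx5 : ∀ j < 3, relRow (eq' (tb Y5)) 12 Px5 j = true := by
  have h : ∀ j < 0, relRow (eq' (tb Y5)) 12 Px5 j = true := by simp
  have h := forall_lt_add h (allFrom_iff.1 hx5_0)
  exact h

theorem px5_0 : allFrom (atNo (prAt (eq' (tb Y5)) 12 g5) Px5.prs) 0 3 = true := by decide +kernel

theorem px5 : ∀ j < 3, atNo (prAt (eq' (tb Y5)) 12 g5) Px5.prs j = true := by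
  have h : ∀ j < 0, atNo (prAt (eq' (tb Y5)) 12 g5) Px5.prs j = true := by simp
  have h := forall_lt_add h (allFrom_iff.1 px5_0)
  exact h

theorem holdsx5 : Holds Px5 fun i => slp b W5 8 (12 + i) :=
  holds_top T5.eqv hx5 (lall_of_atNo (by decide +kernel) px5)

theorem u5 : lall (fun p : List ℕ × List ℕ => eq' (tb Y5) p.1 p.2) [([25, 25, 25, 25, 25], []), ([27, 27, 27, 27, 27], []),
    ([29, 29, 29, 29, 29], []), ([27, 29], [29, 27]), ([25, 29], [29, 25]), ([25, 27], [29, 27, 25])] = true := by
  decide +kernel

theorem pbd5 : PBd L 5 1 := by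
  have m : ∀ i < 3, slp b W5 8 (12 + i) ∈ gen 3 (fun i => slp b W5 8 (12 + i)) 0 :=
    fun i hi => mem_gen _ (Nat.zero_le i) hi
  have h := fun p hp => T5.eqv _ _ (lall_iff.1 u5 p hp)
  simp only [List.forall_mem_cons, ev_cons, ev_nil, mul_one, ← mul_assoc] at h
  obtain ⟨h1, h2, h3, h4, h5, h6, -⟩ := h
  have e : ∀ x : L, x ^ 5 = x * x * x * x * x := fun x => by simp only [pow_succ, pow_zero, one_mul]
  exact okx5.pbd holdsx5 (Nat.le_of_dvd Nat.card_pos
    (cube_dvd_card (p := 5) (by norm_num) (a := ⟨_, m 1 (by decide)⟩) (b := ⟨_, m 0 (by decide)⟩) (z := ⟨_, m 2 (by decide)⟩)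
      (Subtype.ext ((e _).trans h2)) (Subtype.ext ((e _).trans h1)) (Subtype.ext ((e _).trans h3))
      (Subtype.ext h4) (Subtype.ext h5) (Subtype.ext h6) fun h => T5.nev [29] [] (by decide +kernel)
        ((ev_single (slp b W5 8) 14).trans (congrArg Subtype.val h)))) card_L (by decide) rfl rfl

end CF.Schur.Th
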