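import Cfsg.Agent.Schur.Mdl
import Cfsg.Agent.Schur.Co3D
import Cfsg.Agent.Leech.Co1

/-! The Schur multiplier of Co3. -/

set_option autoImplicit false
set_option maxRecDepth 1000000
set_option maxHeartbeats 0

namespace CF.Schur.Co3

open CF.Comp CF.Schur.Pc Cfsg CF.Leech CF.Leech.Dat Pointwise

theorem mdl : type_of% (mdl_of_exact dExact (slp_mem dMem _ _)) := mdl_of_exact dExact (slp_mem dMem _ _)

noncomputable def Wx2 : List (List Nat) := [[(nat_lit 1), (nat_lit 20), (nat_lit 1), (nat_lit 5), (nat_lit 25), (nat_lit 5), (nat_lit 18), (nat_lit 13), (nat_lit 12), (nat_lit 9), (nat_lit 18), (nat_lit 20), (nat_lit 13), (nat_lit 17), (nat_lit 19), (nat_lit 22), (nat_lit 25)],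
  [(nat_lit 3), (nat_lit 3), (nat_lit 1), (nat_lit 24), (nat_lit 10), (nat_lit 5), (nat_lit 24), (nat_lit 12), (nat_lit 16), (nat_lit 13), (nat_lit 19), (nat_lit 22)],
  [(nat_lit 8), (nat_lit 20), (nat_lit 5), (nat_lit 22), (nat_lit 10), (nat_lit 14), (nat_lit 14), (nat_lit 21), (nat_lit 20), (nat_lit 23)],
  [(nat_lit 16), (nat_lit 1), (nat_lit 10), (nat_lit 5), (nat_lit 5), (nat_lit 16), (nat_lit 12), (nat_lit 9), (nat_lit 22), (nat_lit 13), (nat_lit 13), (nat_lit 17), (nat_lit 17), (nat_lit 21), (nat_lit 21), (nat_lit 25)],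
  [(nat_lit 3), (nat_lit 8), (nat_lit 1), (nat_lit 11), (nat_lit 8), (nat_lit 5), (nat_lit 15), (nat_lit 12), (nat_lit 9), (nat_lit 16), (nat_lit 14), (nat_lit 19), (nat_lit 19), (nat_lit 17), (nat_lit 21)],
  [(nat_lit 6), (nat_lit 13), (nat_lit 1), (nat_lit 21), (nat_lit 5), (nat_lit 5), (nat_lit 14), (nat_lit 15), (nat_lit 24), (nat_lit 18), (nat_lit 24), (nat_lit 21)],
  [(nat_lit 1), (nat_lit 8), (nat_lit 1), (nat_lit 6), (nat_lit 7), (nat_lit 13), (nat_lit 25), (nat_lit 9), (nat_lit 15), (nat_lit 19), (nat_lit 13), (nat_lit 22), (nat_lit 18), (nat_lit 22), (nat_lit 25)],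
  [(nat_lit 10), (nat_lit 3), (nat_lit 1), (nat_lit 18), (nat_lit 5), (nat_lit 5), (nat_lit 15), (nat_lit 11), (nat_lit 10), (nat_lit 23), (nat_lit 13), (nat_lit 22), (nat_lit 18), (nat_lit 24), (nat_lit 21), (nat_lit 25)],
  [(nat_lit 3), (nat_lit 8), (nat_lit 1), (nat_lit 11), (nat_lit 8), (nat_lit 5), (nat_lit 18), (nat_lit 11), (nat_lit 21), (nat_lit 16), (nat_lit 17), (nat_lit 19), (nat_lit 23), (nat_lit 22)],
  [(nat_lit 17), (nat_lit 16), (nat_lit 1), (nat_lit 6), (nat_lit 17), (nat_lit 5), (nat_lit 11), (nat_lit 20), (nat_lit 9), (nat_lit 20), (nat_lit 22), (nat_lit 13), (nat_lit 25), (nat_lit 17), (nat_lit 25)],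
  [(nat_lit 2), (nat_lit 3), (nat_lit 1), (nat_lit 17), (nat_lit 15), (nat_lit 5), (nat_lit 14), (nat_lit 16), (nat_lit 9), (nat_lit 15), (nat_lit 21), (nat_lit 13), (nat_lit 21), (nat_lit 21), (nat_lit 17), (nat_lit 24), (nat_lit 25)],
  [(nat_lit 25), (nat_lit 4), (nat_lit 2), (nat_lit 12), (nat_lit 15), (nat_lit 7), (nat_lit 22), (nat_lit 14), (nat_lit 10), (nat_lit 20), (nat_lit 15), (nat_lit 23), (nat_lit 23), (nat_lit 25)],
  [(nat_lit 3), (nat_lit 3), (nat_lit 1), (nat_lit 23), (nat_lit 8), (nat_lit 24), (nat_lit 13), (nat_lit 10), (nat_lit 14), (nat_lit 15), (nat_lit 24), (nat_lit 19), (nat_lit 21), (nat_lit 21)]]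

theorem qx2_0 : allFrom (preRow dN Nx2 Wx2 276 9) 0 13 = true := by decide +kernel

theorem qx2 : ∀ j < 13, preRow dN Nx2 Wx2 276 9 j = true := by
  have h : ∀ j < 0, preRow dN Nx2 Wx2 276 9 j = true := by simp
  have h := forall_lt_add h (allFrom_iff.1 qx2_0)
  exact h

theorem wx2 : wfAll Nx2 276 = true := by decide +kernel

noncomputable def Px2 : Dat := ⟨(nat_lit 2), (nat_lit 10), (nat_lit 8), (nat_lit 13), (nat_lit 68),
  (BT.node (nat_lit 27) (BT.node (nat_lit 13) (BT.node (nat_lit 6) (BT.node (nat_lit 3) (BT.node (nat_lit 1) (BT.leaf []) (BT.node (nat_lit 2) (BT.leaf [(nat_lit 1)]) (BT.leaf []))) (BT.node (nat_lit 4) (BT.leaf [(nat_lit 2)]) (BT.node (nat_lit 5) (BT.leaf [(nat_lit 2), (nat_lit 6)]) (BT.leaf [])))) (BT.node (nat_lit 9) (BT.node (nat_lit 7) (BT.leaf [(nat_lit 3), (nat_lit 5)]) (BT.node (nat_lit 8) (BT.leaf [(nat_lit 3), (nat_lit 5)]) (BT.leaf [(nat_lit 3), (nat_lit 4)]))) (BT.node (nat_lit 11) (BT.node (nat_lit 10) (BT.leaf []) (BT.leaf [(nat_lit 4), (nat_lit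 8)])) (BT.node (nat_lit 12) (BT.leaf [(nat_lit 4), (nat_lit 7)]) (BT.leaf [(nat_lit 4)]))))) (BT.node (nat_lit 20) (BT.node (nat_lit 16) (BT.node (nat_lit 14) (BT.leaf [(nat_lit 4)]) (BT.node (nat_lit 15) (BT.leaf []) (BT.leaf [(nat_lit 5)]))) (BT.node (nat_lit 18) (BT.node (nat_lit 17) (BT.leaf [(nat_lit 5)]) (BT.leaf [(nat_lit 5), (nat_lit 8), (nat_lit 9)])) (BT.node (nat_lit 19) (BT.leaf [(nat_lit 5)]) (BT.leaf [(nat_lit 5), (nat_lit 9)])))) (BT.node (nat_lit 23) (BT.node (nat_lit 21) (BT.leaf []) (BT.node (nat_lit 22) (BT.leaf [(nat_lit 6)]) (BT.leaf [(nat_lit 6), (nat_lit 9)]))) (BT.node (nat_lit 25) (BT.node (nat_lit 24) (BT.leaf [(nat_lit 6), (nat_lit 9)]) (BT.leaf [(nat_lit 6), (nat_lit 7)])) (BT.node (nat_lit 26) (BT.leaf [(nat_lit 6), (nat_lit 8), (nat_lit 9)]) (BT.leaf [(nat_lit 6), (nat_lit 9)])))))) (BT.node (nat_lit 41) (BT.node (nat_lit 34) (BT.node (nat_lit 30) (BT.node (nat_lit 28) (BT.leaf [(nat_lit 9)]) (BT.node (nat_lit 29) (BT.leaf [(nat_lit 7), (nat_lit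 9)]) (BT.leaf [(nat_lit 7), (nat_lit 9)]))) (BT.node (nat_lit 32) (BT.node (nat_lit 31) (BT.leaf [(nat_lit 7), (nat_lit 8)]) (BT.leaf [(nat_lit 7), (nat_lit 9)])) (BT.node (nat_lit 33) (BT.leaf [(nat_lit 7), (nat_lit 9)]) (BT.leaf [(nat_lit 7)])))) (BT.node (nat_lit 37) (BT.node (nat_lit 35) (BT.leaf [(nat_lit 7), (nat_lit 9)]) (BT.node (nat_lit 36) (BT.leaf [(nat_lit 9)]) (BT.leaf [(nat_lit 8)]))) (BT.node (nat_lit 39) (BT.node (nat_lit 38) (BT.leaf [(nat_lit 8), (nat_lit 9)]) (BT.leaf [(nat_lit 8)])) (BT.node (nat_lit 40) (BT.leaf [(nat_lit 8), (nat_lit 9)]) (BT.leaf [(nat_lit 8)]))))) (BT.node (nat_lit 48) (BT.node (nat_lit 44) (BT.node (nat_lit 42) (BT.leaf [(nat_lit 8)]) (BT.node (nat_lit 43) (BT.leaf [(nat_lit 8)]) (BT.leaf [(nat_lit 8)]))) (BT.node (nat_lit 46) (BT.node (nat_lit 45) (BT.leaf []) (BT.leaf [(nat_lit 9)])) (BT.node (nat_lit 47) (BT.leaf [(nat_lit 9)]) (BT.leaf [(nat_lit 9)])))) (BT.node (nat_lit 51) (BT.node (nat_lit 49) (BT.leaf [(nat_lit 9)]) (BT.node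 (nat_lit 50) (BT.leaf [(nat_lit 9)]) (BT.leaf [(nat_lit 9)]))) (BT.node (nat_lit 53) (BT.node (nat_lit 52) (BT.leaf [(nat_lit 9)]) (BT.leaf [(nat_lit 9)])) (BT.node (nat_lit 54) (BT.leaf [(nat_lit 9)]) (BT.leaf []))))))),
  [⟨(nat_lit 0), [(nat_lit 5)], [(nat_lit 8)]⟩,
  ⟨(nat_lit 1), [(nat_lit 2)], [(nat_lit 4)]⟩,
  ⟨(nat_lit 0), [(nat_lit 3)], [(nat_lit 4), (nat_lit 7), (nat_lit 9)]⟩,
  ⟨(nat_lit 2), [(nat_lit 4)], [(nat_lit 5), (nat_lit 8), (nat_lit 9)]⟩,
  ⟨(nat_lit 1), [(nat_lit 0)], [(nat_lit 0), (nat_lit 5), (nat_lit 6)]⟩,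
  ⟨(nat_lit 1), [(nat_lit 5)], [(nat_lit 0), (nat_lit 7), (nat_lit 8)]⟩,
  ⟨(nat_lit 2), [(nat_lit 7)], [(nat_lit 4), (nat_lit 5), (nat_lit 8), (nat_lit 9)]⟩,
  ⟨(nat_lit 2), [(nat_lit 9)], [(nat_lit 9)]⟩,
  ⟨(nat_lit 0), [(nat_lit 1)], [(nat_lit 5), (nat_lit 6), (nat_lit 7), (nat_lit 8), (nat_lit 9)]⟩,
  ⟨(nat_lit 0), [(nat_lit 0)], [(nat_lit 0), (nat_lit 5), (nat_lit 9)]⟩,
  ⟨(nat_lit 2), [(nat_lit 6)], [(nat_lit 0), (nat_lit 2), (nat_lit 5), (nat_lit 7), (nat_lit 8)]⟩,
  ⟨(nat_lit 2), [(nat_lit 8)], [(nat_lit 8)]⟩,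
  ⟨(nat_lit 2), [(nat_lit 0)], [(nat_lit 2), (nat_lit 5), (nat_lit 6), (nat_lit 7), (nat_lit 8), (nat_lit 9)]⟩]⟩

noncomputable def Xx2_0 : List Test := [⟨(nat_lit 1), [(nat_lit 0), (nat_lit 0)], [], (nat_lit 0x10000000000000000000001000000000000000000000000000000000000000000000001000000000000000000000000000000000000000000000000000000000000000000)⟩,
  ⟨(nat_lit 2), [(nat_lit 1), (nat_lit 1)], [], (nat_lit 0x10000000000000000000000000000000000000000000000000000000000000000000000000000000001000000000000000001000000000000000000000000000000000000)⟩,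
  ⟨(nat_lit 0), [(nat_lit 6)], [(nat_lit 6), (nat_lit 6)], (nat_lit 0x10000000100000000000000000000000000000000000000000000000000000000000000000000000000000000000000000000000000000000000000000000000000000000)⟩,
  ⟨(nat_lit 0), [(nat_lit 7)], [(nat_lit 7), (nat_lit 7)], (nat_lit 0x10000010000000000000000000000000000000000000000000000000000000000000000000000000000000000000000000000000000000000000000000000000000000000)⟩,
  ⟨(nat_lit 0), [(nat_lit 3)], [(nat_lit 0), (nat_lit 0)], (nat_lit 0x10000000000000000000000000000000000000000000000000000000000000000000001000000000100000000000000000000000000000000000000000000000000000000)⟩,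
  ⟨(nat_lit 0), [(nat_lit 3)], [(nat_lit 1), (nat_lit 1)], (nat_lit 0x10000000000000000000000000000000000000000000000000000000000000000000001000000010000000000000000000000000000000000000000000000000000000000)⟩,
  ⟨(nat_lit 0), [(nat_lit 3)], [(nat_lit 2), (nat_lit 2)], (nat_lit 0x10000000000000000000000000000000000000000000000000000000000000000000000000000000001000100000000000000000000000000000000000000000000000000)⟩,
  ⟨(nat_lit 0), [(nat_lit 4)], [(nat_lit 0), (nat_lit 0)], (nat_lit 0x10000000000000000000001000000000000000100000000000000000000000000000000000000000000000000000000000000000000000000000000000000000000000000)⟩,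
  ⟨(nat_lit 0), [(nat_lit 5)], [(nat_lit 4), (nat_lit 4)], (nat_lit 0x10100000000010000000000000000000000000000000000000000000000000000000000000000000000000000000000000000000000000000000000000000000000000000)⟩,
  ⟨(nat_lit 0), [(nat_lit 6)], [(nat_lit 1), (nat_lit 1)], (nat_lit 0x10100000000000000010000000000000000000000000000000000000000000000000000000000000000000000000000000000000000000000000000000000000000000000)⟩,
  ⟨(nat_lit 0), [(nat_lit 6)], [(nat_lit 2), (nat_lit 2)], (nat_lit 0x10100000000000001000000000000000000000000000000000000000000000000000000000000000000000000000000000000000000000000000000000000000000000000)⟩,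
  ⟨(nat_lit 0), [(nat_lit 6)], [(nat_lit 5), (nat_lit 5)], (nat_lit 0x10100000001000000000000000000000000000000000000000000000000000000000000000000000000000000000000000000000000000000000000000000000000000000)⟩,
  ⟨(nat_lit 0), [(nat_lit 7)], [(nat_lit 0), (nat_lit 0)], (nat_lit 0x10100000000000000000100000000000000000000000000000000000000000000000000000000000000000000000000000000000000000000000000000000000000000000)⟩,
  ⟨(nat_lit 0), [(nat_lit 7)], [(nat_lit 2), (nat_lit 2)], (nat_lit 0x10000000000000000000001000000000001000000000000000000000000000000000000000000000000000000000000000000000000000000000000000000000000000000)⟩,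
  ⟨(nat_lit 0), [(nat_lit 7)], [(nat_lit 3), (nat_lit 3)], (nat_lit 0x10100000000000100000000000000000000000000000000000000000000000000000000000000000000000000000000000000000000000000000000000000000000000000)⟩,
  ⟨(nat_lit 1), [(nat_lit 2), (nat_lit 2)], [], (nat_lit 0x10000000000010000000000000000000000000001000001000000000000000000000000000000000001000000000100000000000000000000000000000000000000000000)⟩,
  ⟨(nat_lit 3), [(nat_lit 3), (nat_lit 3)], [], (nat_lit 0x10101000001000000000001000001000000000000000000000000000000000000000001000000000001000000000000000000000000000000000000000000000000000000)⟩,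
  ⟨(nat_lit 0), [(nat_lit 8)], [(nat_lit 6), (nat_lit 6)], (nat_lit 0x10001000000000000000000000000000000000000000000000000000000000000000000000000000000000000000000000000000000000000000000000000000000000000)⟩,
  ⟨(nat_lit 0), [(nat_lit 2)], [(nat_lit 1), (nat_lit 1)], (nat_lit 0x10100000000000000000000000000000000000000000000000000000100000000010000000000000000000000000000000000000000000000000000000000000000000000)⟩,
  ⟨(nat_lit 0), [(nat_lit 4)], [(nat_lit 1), (nat_lit 1)], (nat_lit 0x10100000000000000000000000000000000000001000000000001000000000000000000000000000000000000000000000000000000000000000000000000000000000000)⟩,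
  ⟨(nat_lit 0), [(nat_lit 6)], [(nat_lit 6), (nat_lit 0)], (nat_lit 0x10000000000000000000100000000000000000000000000000000000000000000000000000000000000000000000000000000000000000000000000000000000000000000)⟩,
  ⟨(nat_lit 0), [(nat_lit 6)], [(nat_lit 3), (nat_lit 3)], (nat_lit 0x10100000000000000000000000000000000000001000000010000000000000000000000000000000000000000000000000000000000000000000000000000000000000000)⟩,
  ⟨(nat_lit 0), [(nat_lit 3)], [(nat_lit 3), (nat_lit 0)], (nat_lit 0x10000000000000000000000000000000000000000000000000000000000000000000001000100000000000000000000000000000000000000000000000000000000000000)⟩,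
  ⟨(nat_lit 0), [(nat_lit 3)], [(nat_lit 3), (nat_lit 2)], (nat_lit 0x10000000000000000000000000000000000000000000000000000000000000000000000000000000001010000000000000000000000000000000000000000000000000000)⟩,
  ⟨(nat_lit 0), [(nat_lit 4)], [(nat_lit 4), (nat_lit 0)], (nat_lit 0x10000000000000000000001000000010000000000000000000000000000000000000000000000000000000000000000000000000000000000000000000000000000000000)⟩,
  ⟨(nat_lit 2), [(nat_lit 4), (nat_lit 4)], [], (nat_lit 0x10100000100000000000000000000000000000000000000000000000101000000000101000000000100000000000000000000000000000000000000000000000000000000)⟩,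
  ⟨(nat_lit 0), [(nat_lit 2)], [(nat_lit 2), (nat_lit 1)], (nat_lit 0x10100000100000000000000000000000000000000000000000000000100000001000000000000000000000000000000000000000000000000000000000000000000000000)⟩,
  ⟨(nat_lit 0), [(nat_lit 4)], [(nat_lit 4), (nat_lit 1)], (nat_lit 0x10100010000000000000000000000000000000001000001000000000000000000000000000000000000000000000000000000000000000000000000000000000000000000)⟩,
  ⟨(nat_lit 2), [(nat_lit 5), (nat_lit 5)], [], (nat_lit 0x10100010000000000000001010000000000000101000000000000010000000000000001000000000000000000000000000000000000000100000000000000000000000000)⟩,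
  ⟨(nat_lit 0), [(nat_lit 2)], [(nat_lit 1), (nat_lit 0)], (nat_lit 0x10000000000000000000000000000000000000000000000000000000000000000000100000000000000000000000000000000000000000000000000000000000000000000)⟩,
  ⟨(nat_lit 0), [(nat_lit 4)], [(nat_lit 2), (nat_lit 0)], (nat_lit 0x10000000000000000000000000000000001000000000000000000000000000000000000000000000000000000000000000000000000000000000000000000000000000000)⟩,
  ⟨(nat_lit 0), [(nat_lit 5)], [(nat_lit 5), (nat_lit 2)], (nat_lit 0x10101000001000000000001000001000000000000000000000000000000000000000000000000000000000000000000000000000000000000000000000000000000000000)⟩,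
  ⟨(nat_lit 3), [(nat_lit 6), (nat_lit 6)], [(nat_lit 7)], (nat_lit 0x10101000000010000000001000001010000000001000000000000000000000000000001010000000001000000000000000000000000000000000000000100000000000000)⟩,
  ⟨(nat_lit 0), [(nat_lit 6)], [(nat_lit 6), (nat_lit 3)], (nat_lit 0x10100010000000100000000000000000000000001010000000000000000000000000000000000000000000000000000000000000000000000000000000000000000000000)⟩,
  ⟨(nat_lit 0), [(nat_lit 7)], [(nat_lit 7), (nat_lit 2)], (nat_lit 0x10000000000000001000001010000000000000000000000000000000000000000000000000000000000000000000000000000000000000000000000000000000000000000)⟩,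
  ⟨(nat_lit 0), [(nat_lit 6)], [(nat_lit 6), (nat_lit 4)], (nat_lit 0x10101000100010000000001000100000000000000000000000000000000000000000000000000000000000000000000000000000000000000000000000000000000000000)⟩,
  ⟨(nat_lit 0), [(nat_lit 6)], [(nat_lit 5), (nat_lit 3)], (nat_lit 0x10000010000000100000000000000000000000000000100000000000000000000000000000000000000000000000000000000000000000000000000000000000000000000)⟩,
  ⟨(nat_lit 0), [(nat_lit 4)], [(nat_lit 1), (nat_lit 0)], (nat_lit 0x10000000000000000000000010000000000010000000000000000010000000000000000000000000000000000000000000000000000000000000000000000000000000000)⟩,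
  ⟨(nat_lit 2), [(nat_lit 1), (nat_lit 4)], [(nat_lit 4), (nat_lit 1)], (nat_lit 0x10101000100000000000000000101000000000000000000000000000000010000000000010000000000000000010000000000000100000000000000000000000000000000)⟩,
  ⟨(nat_lit 0), [(nat_lit 6)], [(nat_lit 3), (nat_lit 0)], (nat_lit 0x10000010000000000000000000000000000000000000100000000010001000000000000000000000000000000000000000000000000000000000000000000000000000000)⟩,
  ⟨(nat_lit 0), [(nat_lit 3)], [(nat_lit 2), (nat_lit 0)], (nat_lit 0x10001000000000000000000000000000000000000000000000000000000000000000000010001000000000000010000000000000000000000000000000000000000000000)⟩,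
  ⟨(nat_lit 0), [(nat_lit 4)], [(nat_lit 3), (nat_lit 0)], (nat_lit 0x10001000001000000000000000001000100000000000000000000000000000000000000010000000000000000000000000000000000000000000000000000000000000000)⟩,
  ⟨(nat_lit 0), [(nat_lit 4)], [(nat_lit 3), (nat_lit 1)], (nat_lit 0x10000010001000000000000000000000000000000000100010000000000000000000000010000000000000000000000000000000000000000000000000000000000000000)⟩,
  ⟨(nat_lit 1), [(nat_lit 8), (nat_lit 8)], [], (nat_lit 0x10101000001000000000001010101000000000001010100000000000101000000000001000000000000000000000000000000000001000000000000000000000000000000)⟩,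
  ⟨(nat_lit 0), [(nat_lit 6)], [(nat_lit 4), (nat_lit 1)], (nat_lit 0x10100000000010000010000010000000000010000010000000000000000000000000000000000000000000000000000000000000000000000000000000000000000000000)⟩,
  ⟨(nat_lit 1), [(nat_lit 2), (nat_lit 9)], [(nat_lit 9), (nat_lit 2), (nat_lit 0)], (nat_lit 0x10001000000010000000100010001000000000000000100000000010000000000000000010000000000000000010000000100000000000000000000000000000000000001)⟩,
  ⟨(nat_lit 0), [(nat_lit 4)], [(nat_lit 2), (nat_lit 1)], (nat_lit 0x10001010000000000000000010100000000000000010000000100000000010000000000000000000000000000000000000000000000000000000000000000000000000000)⟩,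
  ⟨(nat_lit 3), [(nat_lit 10), (nat_lit 3)], [(nat_lit 3), (nat_lit 10), (nat_lit 11), (nat_lit 7)], (nat_lit 0x10101000000000001000101000001000001000100000100000000000000010000000000000001000100000000000000000000000000000000010000000100000000000000)⟩,
  ⟨(nat_lit 3), [(nat_lit 3), (nat_lit 12)], [(nat_lit 12), (nat_lit 3), (nat_lit 11)], (nat_lit 0x10001010001000001000000000001000001000000000100000000000001000000000000000001000000000000010000000000000000000000010000000000000000000000)⟩,
  ⟨(nat_lit 1), [(nat_lit 8), (nat_lit 9)], [(nat_lit 9), (nat_lit 8)], (nat_lit 0x10101000101000000000100000001000000000100000100000000010001000000000100000000000100000000000000000000000000010000000000000000000000000000)⟩,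
  ⟨(nat_lit 1), [(nat_lit 2), (nat_lit 8)], [(nat_lit 8), (nat_lit 2), (nat_lit 0)], (nat_lit 0x10101000001010000000001010000010000000000010101000000000000010000000000010000000000000000000000010000000000000000000000000000000000000001)⟩,
  ⟨(nat_lit 0), [(nat_lit 3)], [(nat_lit 2), (nat_lit 1)], (nat_lit 0x10000010000010000000000000100000000000001000101000000000001010100000000010001000000000001000000000000000000000000000000000000000000000000)⟩]

noncomputable def cx2 : Cert := ⟨Px2, (nat_lit 0), Xx2_0,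
  [],
  [(nat_lit 0),
  (nat_lit 0),
  (nat_lit 0),
  (nat_lit 0),
  (nat_lit 0x10000000000000000000000000000000000000000000000000000000000000000000000000000000000000000000001000000000000000000000000000000000000000000),
  (nat_lit 0x10000000000000000000000000000000000000000000000000000000000000000000000000000000000000000000000000100000000000000000000000000000000000000),
  (nat_lit 0x10000000000000000000000000000000000000000000000000000000000000000000000000000000000000000000000000000010000000000000000000000000000000000),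
  (nat_lit 0x10000000000000000000000000000000000000000000000000000000000000000000000000000000000000001000000000000000000000000000000000000000000000000),
  (nat_lit 0x10000000000000000000000000000000000000000000000000000000000000000000000000000000000000000010000000000000000000000000000000000000000000000),
  (nat_lit 0x10000000000000000000000000000000000000000000000000000000000000000000000000001000000000000010000000000000000000000000000000000000000000000)],
  (BT.node (nat_lit 27) (BT.node (nat_lit 13) (BT.node (nat_lit 6) (BT.node (nat_lit 3) (BT.node (nat_lit 1) (BT.leaf (nat_lit 0x102610105781)) (BT.node (nat_lit 2) (BT.leaf (nat_lit 0x20080e010209d)) (BT.leaf (nat_lit 0x81ee2123511)))) (BT.node (nat_lit 4) (BT.leaf (nat_lit 0x190fb81031b91)) (BT.node (nat_lit 5) (BT.leaf (nat_lit 0)) (BT.leaf (nat_lit 3221299203))))) (BT.node (nat_lit 9) (BT.node (nat_lit 7) (BT.leaf (nat_lit 0)) (BT.node (nat_lit 8) (BT.leaf (nat_lit 0x5a483c8337999)) (BT.leaf (nat_lit 0)))) (BT.node (nat_lit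 11) (BT.node (nat_lit 10) (BT.leaf (nat_lit 3355549961)) (BT.leaf (nat_lit 0))) (BT.node (nat_lit 12) (BT.leaf (nat_lit 0)) (BT.leaf (nat_lit 3221299265)))))) (BT.node (nat_lit 20) (BT.node (nat_lit 16) (BT.node (nat_lit 14) (BT.leaf (nat_lit 3229687809)) (BT.node (nat_lit 15) (BT.leaf (nat_lit 3221299201)) (BT.leaf (nat_lit 1073750033)))) (BT.node (nat_lit 18) (BT.node (nat_lit 17) (BT.leaf (nat_lit 1073750049)) (BT.leaf (nat_lit 0))) (BT.node (nat_lit 19) (BT.leaf (nat_lit 1077944321)) (BT.leaf (nat_lit 0x10000020000))))) (BT.node (nat_lit 23) (BT.node (nat_lit 21) (BT.leaf (nat_lit 1073750017)) (BT.node (nat_lit 22) (BT.leaf (nat_lit 536870912)) (BT.leaf (nat_lit 0x15a222365b1c)))) (BT.node (nat_lit 25) (BT.node (nat_lit 24) (BT.leaf (nat_lit 0x15a226325b18)) (BT.leaf (nat_lit 0x9850949312995))) (BT.node (nat_lit 26) (BT.leaf (nat_lit 0x191b301130291)) (BT.leaf (nat_lit 0x15a200325b08))))))) (BT.node (nat_lit 41) (BT.node (nat_lit 34) (BT.node (nat_lit 30) (BT.node (nat_lit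 28) (BT.leaf (nat_lit 0x15a222224b1c)) (BT.node (nat_lit 29) (BT.leaf (nat_lit 0x153200220b08)) (BT.leaf (nat_lit 0x510002a4800)))) (BT.node (nat_lit 32) (BT.node (nat_lit 31) (BT.leaf (nat_lit 0x1d4ad01310f95)) (BT.leaf (nat_lit 0x51000024800))) (BT.node (nat_lit 33) (BT.leaf (nat_lit 0x51008224808)) (BT.leaf (nat_lit 0x1000105008))))) (BT.node (nat_lit 37) (BT.node (nat_lit 35) (BT.leaf (nat_lit 0x51200321808)) (BT.node (nat_lit 36) (BT.leaf (nat_lit 0x51000325800)) (BT.leaf (nat_lit 1073750144)))) (BT.node (nat_lit 39) (BT.node (nat_lit 38) (BT.leaf (nat_lit 0x151640323f08)) (BT.leaf (nat_lit 1073741824))) (BT.node (nat_lit 40) (BT.leaf (nat_lit 0x300c0123000)) (BT.leaf (nat_lit 1090527232)))))) (BT.node (nat_lit 48) (BT.node (nat_lit 44) (BT.node (nat_lit 42) (BT.leaf (nat_lit 3221366784)) (BT.node (nat_lit 43) (BT.leaf (nat_lit 0x840022104)) (BT.leaf (nat_lit 0x440103400)))) (BT.node (nat_lit 46) (BT.node (nat_lit 45) (BT.leaf (nat_lit 1073750016)) (BT.leaf (nat_lit 1048576)))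 (BT.node (nat_lit 47) (BT.leaf (nat_lit 1053184)) (BT.leaf (nat_lit 1053696))))) (BT.node (nat_lit 51) (BT.node (nat_lit 49) (BT.leaf (nat_lit 1069056)) (BT.node (nat_lit 50) (BT.leaf (nat_lit 1052928)) (BT.leaf (nat_lit 1054720)))) (BT.node (nat_lit 53) (BT.node (nat_lit 52) (BT.leaf (nat_lit 4)) (BT.leaf (nat_lit 8))) (BT.node (nat_lit 54) (BT.leaf (nat_lit 131072)) (BT.leaf (nat_lit 1052672))))))))⟩

theorem okx2 : cx2.OK := Cert.ok_of_check (by decide) (by decide +kernel)


noncomputable def Lx2 : List Lvl := [⟨(nat_lit 1), [[(nat_lit 5), (nat_lit 19)],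
  [(nat_lit 9)],
  [(nat_lit 13), (nat_lit 19)],
  [(nat_lit 15)],
  [(nat_lit 17)],
  [(nat_lit 19)]], (nat_lit 1)⟩,
  ⟨(nat_lit 0), [[(nat_lit 1), (nat_lit 15), (nat_lit 17), (nat_lit 19)],
  [(nat_lit 3)],
  [(nat_lit 7), (nat_lit 15)],
  [(nat_lit 11), (nat_lit 19)]], (nat_lit 1)⟩]


noncomputable def gx2 : List (List Nat) := [[(nat_lit 21)],
  [(nat_lit 23)],
  [(nat_lit 25)]]

theorem hx2_0 : allFrom (relRow (sameW Nx2 276 9) 0 Px2) 0 10 = true := by decide +kernel

theorem hx2 : ∀ j < 10, relRow (sameW Nx2 276 9) 0 Px2 j = true := by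
  have h : ∀ j < 0, relRow (sameW Nx2 276 9) 0 Px2 j = true := by simp
  have h := forall_lt_add h (allFrom_iff.1 hx2_0)
  exact h

theorem px2 : lall (prAt (sameW Nx2 276 9) 0 gx2) Px2.prs = true := by decide +kernel

theorem lx2 : lowOK Nx2 276 0 Px2 Lx2 = true := by decide +kernel

theorem pbdx2 : PBd (MulAction.stabilizer Co0 Spor.leechV) 2 1 :=
  have h := (mdl.new (k := 9) (l := 13) (by decide) wx2 (by decide +kernel) (by decide +kernel) qx2)
  h.pbd (h.sameW (k := 9) (by decide)) okx2 (gs := gx2) hx2 px2 lx2 (card_stab_48 nm_V) (by decide) rfl rfl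

noncomputable def Wx3 : List (List Nat) := [[(nat_lit 19), (nat_lit 3), (nat_lit 7), (nat_lit 7), (nat_lit 5), (nat_lit 14), (nat_lit 9), (nat_lit 12), (nat_lit 21), (nat_lit 15), (nat_lit 24)],
  [(nat_lit 7), (nat_lit 24), (nat_lit 1), (nat_lit 5), (nat_lit 23), (nat_lit 5), (nat_lit 24), (nat_lit 13), (nat_lit 9), (nat_lit 19), (nat_lit 14), (nat_lit 23), (nat_lit 17), (nat_lit 17), (nat_lit 24), (nat_lit 21), (nat_lit 25)],
  [(nat_lit 12), (nat_lit 1), (nat_lit 13), (nat_lit 6), (nat_lit 10), (nat_lit 13), (nat_lit 9), (nat_lit 23), (nat_lit 23), (nat_lit 13), (nat_lit 17), (nat_lit 25), (nat_lit 17), (nat_lit 25)],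
  [(nat_lit 20), (nat_lit 1), (nat_lit 1), (nat_lit 18), (nat_lit 7), (nat_lit 17), (nat_lit 9), (nat_lit 22), (nat_lit 13), (nat_lit 13), (nat_lit 24), (nat_lit 17), (nat_lit 17), (nat_lit 23), (nat_lit 22)],
  [(nat_lit 23), (nat_lit 2), (nat_lit 18), (nat_lit 13), (nat_lit 5), (nat_lit 25), (nat_lit 16), (nat_lit 9), (nat_lit 23), (nat_lit 14), (nat_lit 19), (nat_lit 19), (nat_lit 17), (nat_lit 24), (nat_lit 21), (nat_lit 25)],
  [(nat_lit 21), (nat_lit 13), (nat_lit 1), (nat_lit 7), (nat_lit 5), (nat_lit 7), (nat_lit 16), (nat_lit 11), (nat_lit 10), (nat_lit 24), (nat_lit 15), (nat_lit 19), (nat_lit 18), (nat_lit 23), (nat_lit 25)],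
  [(nat_lit 1), (nat_lit 3), (nat_lit 18), (nat_lit 8), (nat_lit 11), (nat_lit 11), (nat_lit 9), (nat_lit 20), (nat_lit 13), (nat_lit 25), (nat_lit 17), (nat_lit 25), (nat_lit 21)],
  [(nat_lit 17), (nat_lit 9), (nat_lit 1), (nat_lit 9), (nat_lit 8), (nat_lit 5), (nat_lit 9), (nat_lit 19), (nat_lit 9), (nat_lit 16), (nat_lit 13), (nat_lit 21), (nat_lit 20), (nat_lit 22), (nat_lit 25)],
  [(nat_lit 20), (nat_lit 11), (nat_lit 1), (nat_lit 5), (nat_lit 19), (nat_lit 12), (nat_lit 21), (nat_lit 13), (nat_lit 21), (nat_lit 20), (nat_lit 23)],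
  [(nat_lit 1), (nat_lit 5), (nat_lit 1), (nat_lit 12), (nat_lit 15), (nat_lit 7), (nat_lit 10), (nat_lit 20), (nat_lit 10), (nat_lit 16), (nat_lit 19), (nat_lit 13), (nat_lit 25), (nat_lit 20), (nat_lit 25), (nat_lit 21)]]

theorem qx3_0 : allFrom (preRow dN Nx3 Wx3 276 9) 0 10 = true := by decide +kernel

theorem qx3 : ∀ j < 10, preRow dN Nx3 Wx3 276 9 j = true := by
  have h : ∀ j < 0, preRow dN Nx3 Wx3 276 9 j = true := by simp
  have h := forall_lt_add h (allFrom_iff.1 qx3_0)
  exact h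

theorem wx3 : wfAll Nx3 276 = true := by decide +kernel

noncomputable def Px3 : Dat := ⟨(nat_lit 3), (nat_lit 7), (nat_lit 9), (nat_lit 10), (nat_lit 38),
  (BT.node (nat_lit 14) (BT.node (nat_lit 7) (BT.node (nat_lit 3) (BT.node (nat_lit 1) (BT.leaf []) (BT.node (nat_lit 2) (BT.leaf [(nat_lit 1), (nat_lit 4)]) (BT.leaf [(nat_lit 6)]))) (BT.node (nat_lit 5) (BT.node (nat_lit 4) (BT.leaf [(nat_lit 2), (nat_lit 5)]) (BT.leaf [(nat_lit 2)])) (BT.node (nat_lit 6) (BT.leaf []) (BT.leaf [(nat_lit 3)])))) (BT.node (nat_lit 10) (BT.node (nat_lit 8) (BT.leaf [(nat_lit 3), (nat_lit 5), (nat_lit 5)]) (BT.node (nat_lit 9) (BT.leaf [(nat_lit 3), (nat_lit 4)]) (BT.leaf []))) (BT.node (nat_lit 12) (BT.node (nat_lit 11) (BT.leaf [(nat_lit 4)]) (BT.leaf [(nat_lit 4)])) (BT.node (nat_lit 13) (BT.leaf [(nat_lit 4), (nat_lit 6)]) (BT.leaf [(nat_lit 4)]))))) (BT.node (nat_lit 21) (BT.node (nat_lit 17) (BT.node (nat_lit 15) (BT.leaf []) (BT.node (nat_lit 16) (BT.leaf [(nat_lit 5)]) (BT.leaf [(nat_lit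 5), (nat_lit 6)]))) (BT.node (nat_lit 19) (BT.node (nat_lit 18) (BT.leaf [(nat_lit 5)]) (BT.leaf [(nat_lit 5)])) (BT.node (nat_lit 20) (BT.leaf [(nat_lit 5)]) (BT.leaf [])))) (BT.node (nat_lit 24) (BT.node (nat_lit 22) (BT.leaf [(nat_lit 6)]) (BT.node (nat_lit 23) (BT.leaf [(nat_lit 6)]) (BT.leaf [(nat_lit 6)]))) (BT.node (nat_lit 26) (BT.node (nat_lit 25) (BT.leaf [(nat_lit 6)]) (BT.leaf [(nat_lit 6)])) (BT.node (nat_lit 27) (BT.leaf [(nat_lit 6)]) (BT.leaf [])))))),
  [⟨(nat_lit 0), [(nat_lit 0)], [(nat_lit 0), (nat_lit 0), (nat_lit 5), (nat_lit 5)]⟩,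
  ⟨(nat_lit 1), [(nat_lit 5)], [(nat_lit 4), (nat_lit 5), (nat_lit 6)]⟩,
  ⟨(nat_lit 1), [(nat_lit 0)], [(nat_lit 3), (nat_lit 3), (nat_lit 4), (nat_lit 6)]⟩,
  ⟨(nat_lit 1), [(nat_lit 4)], [(nat_lit 4), (nat_lit 4), (nat_lit 5), (nat_lit 6)]⟩,
  ⟨(nat_lit 2), [(nat_lit 2)], [(nat_lit 2), (nat_lit 2), (nat_lit 5), (nat_lit 5)]⟩,
  ⟨(nat_lit 2), [(nat_lit 1)], [(nat_lit 1), (nat_lit 4), (nat_lit 6), (nat_lit 6)]⟩,
  ⟨(nat_lit 1), [(nat_lit 3)], [(nat_lit 0), (nat_lit 0), (nat_lit 4), (nat_lit 4), (nat_lit 6), (nat_lit 6)]⟩,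
  ⟨(nat_lit 1), [(nat_lit 2)], [(nat_lit 0), (nat_lit 0), (nat_lit 1), (nat_lit 1), (nat_lit 2), (nat_lit 3), (nat_lit 4), (nat_lit 4), (nat_lit 5), (nat_lit 5), (nat_lit 6), (nat_lit 6)]⟩,
  ⟨(nat_lit 1), [(nat_lit 1)], [(nat_lit 0), (nat_lit 0), (nat_lit 1), (nat_lit 1), (nat_lit 2), (nat_lit 2), (nat_lit 3), (nat_lit 3), (nat_lit 4), (nat_lit 5), (nat_lit 6), (nat_lit 6)]⟩,
  ⟨(nat_lit 1), [(nat_lit 6)], [(nat_lit 6)]⟩]⟩

noncomputable def Xx3_0 : List Test := [⟨(nat_lit 0), [(nat_lit 1)], [(nat_lit 1), (nat_lit 1), (nat_lit 1)], (nat_lit 0x40000000000001000000000000000000000000000000000000000000000000000000000000000000000000)⟩,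
  ⟨(nat_lit 0), [(nat_lit 2)], [(nat_lit 1), (nat_lit 1), (nat_lit 1)], (nat_lit 0x40000000000200000000000000000000000000000000000000000000000000000000000000000000000000)⟩,
  ⟨(nat_lit 0), [(nat_lit 4)], [(nat_lit 1), (nat_lit 1), (nat_lit 1)], (nat_lit 0x40000008000000000000000000000000000000000000000000000000000000000000000000000000000000)⟩,
  ⟨(nat_lit 0), [(nat_lit 1)], [(nat_lit 0), (nat_lit 0), (nat_lit 0)], (nat_lit 0x40000000000000000000000000000001000000000000000000000000000000000000000000000000000000)⟩,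
  ⟨(nat_lit 0), [(nat_lit 2)], [(nat_lit 0), (nat_lit 0), (nat_lit 0)], (nat_lit 0x40000000000000000040000000000000000000000000000000000000000000000000000000000000000000)⟩,
  ⟨(nat_lit 0), [(nat_lit 4)], [(nat_lit 2), (nat_lit 2), (nat_lit 2)], (nat_lit 0x40200000000000000000000000000000000000000000000000000000000000000000000000000000000000)⟩,
  ⟨(nat_lit 0), [(nat_lit 5)], [(nat_lit 3), (nat_lit 2)], (nat_lit 0x80000000000000000000400000000000000000000000000000000000000000000000000000000000000000)⟩,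
  ⟨(nat_lit 0), [(nat_lit 5)], [(nat_lit 4), (nat_lit 2)], (nat_lit 0x40001000000000000000000000000000000000000000000000000000000000000000000000000000000000)⟩,
  ⟨(nat_lit 1), [(nat_lit 0), (nat_lit 0), (nat_lit 0)], [], (nat_lit 0x80000000000000000080000000000000000000000000000000000000000000040000000000000000000000)⟩,
  ⟨(nat_lit 0), [(nat_lit 4)], [(nat_lit 3), (nat_lit 2)], (nat_lit 0x80000010080000000000000000000000000000000000000000000000000000000000000000000000000000)⟩,
  ⟨(nat_lit 0), [(nat_lit 3)], [(nat_lit 2), (nat_lit 0)], (nat_lit 0x40000000000000000000201000000000000000001000000000000000000000000000000000000000000000)⟩,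
  ⟨(nat_lit 0), [(nat_lit 4)], [(nat_lit 2), (nat_lit 0)], (nat_lit 0x80002000000000008000200000000000000000000000000000000000000000000000000000000000000000)⟩,
  ⟨(nat_lit 0), [(nat_lit 3)], [(nat_lit 2), (nat_lit 1)], (nat_lit 0x80000000000000000000400008000000000000200000000000000000000000000000000000000000000000)⟩,
  ⟨(nat_lit 0), [(nat_lit 2)], [(nat_lit 1), (nat_lit 0)], (nat_lit 0x80001010000000000000400000080000000040000000000000000000000000000000000000000000000000)⟩,
  ⟨(nat_lit 0), [(nat_lit 3)], [(nat_lit 1), (nat_lit 0)], (nat_lit 0x80000000000000000000200000000400008000000000000000000000000000000000000000000000000000)⟩,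
  ⟨(nat_lit 2), [(nat_lit 1), (nat_lit 2)], [(nat_lit 2), (nat_lit 1)], (nat_lit 0x80002000080000000000202000000400010000000000000000000000000000000000000000000000000000)⟩,
  ⟨(nat_lit 2), [(nat_lit 2), (nat_lit 2), (nat_lit 2)], [], (nat_lit 0x80200000000000000000000000000001000000000010000000000000000000080000000000000000000000)⟩,
  ⟨(nat_lit 2), [(nat_lit 3), (nat_lit 2)], [(nat_lit 2), (nat_lit 3)], (nat_lit 0x80002010080000000000202000000000008000002000000000000000000000000000000000000000000000)⟩,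
  ⟨(nat_lit 3), [(nat_lit 4), (nat_lit 5)], [(nat_lit 5), (nat_lit 4)], (nat_lit 0x80002010000200000000400000080000000040000000000000000040000000000000000000000000000000)⟩,
  ⟨(nat_lit 2), [(nat_lit 6), (nat_lit 2)], [(nat_lit 2), (nat_lit 6)], (nat_lit 0x40000000040000008000000000000000008000001000000001000000000000000000000000000000000000)⟩,
  ⟨(nat_lit 2), [(nat_lit 1), (nat_lit 7)], [(nat_lit 7), (nat_lit 1)], (nat_lit 0x80201000040000010000001000080400008040402000000000000000000000000000000000000000000000)⟩,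
  ⟨(nat_lit 2), [(nat_lit 1), (nat_lit 8)], [(nat_lit 8), (nat_lit 1), (nat_lit 9)], (nat_lit 0x80202000040200010000002010040400010080402000000000000000000000000400000000000000000000)⟩,
  ⟨(nat_lit 2), [(nat_lit 7), (nat_lit 2)], [(nat_lit 2), (nat_lit 7), (nat_lit 1)], (nat_lit 0x80402000040201008000201008080002000080201000040402000000400000000000000000000000000400)⟩,
  ⟨(nat_lit 2), [(nat_lit 8), (nat_lit 2)], [(nat_lit 2), (nat_lit 8), (nat_lit 3)], (nat_lit 0x80402008040201008000000010080001010080201000080402000000000010000000000000000010000000)⟩,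
  ⟨(nat_lit 2), [(nat_lit 6), (nat_lit 7)], [(nat_lit 7), (nat_lit 6), (nat_lit 3)], (nat_lit 0x80401000000401008080401000000201008040401000080001000000200010000000000000000010000000)⟩,
  ⟨(nat_lit 2), [(nat_lit 6), (nat_lit 8)], [(nat_lit 8), (nat_lit 6), (nat_lit 1), (nat_lit 1)], (nat_lit 0x80200000080401010040201008000401010080400000000402000000400010000000000000000000000200)⟩,
  ⟨(nat_lit 2), [(nat_lit 7), (nat_lit 7), (nat_lit 7)], [], (nat_lit 0x80201008000002008080002010000002010040001008000000000000002000080000000000000000000000)⟩,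
  ⟨(nat_lit 2), [(nat_lit 8), (nat_lit 8), (nat_lit 8)], [(nat_lit 9)], (nat_lit 0x80402010000201000040002010000002008080001010000000010000001000080400000000000000000000)⟩]

noncomputable def cx3 : Cert := ⟨Px3, (nat_lit 0), Xx3_0,
  [],
  [(nat_lit 0),
  (nat_lit 0),
  (nat_lit 0),
  (nat_lit 0),
  (nat_lit 0x40000000000000000000000000000000000000000000000000000000000008000000000000000000000000),
  (nat_lit 0x40000000000000000000000000000000000000000000000000000000200000000000000000000000000000),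
  (nat_lit 0x40000000000000000000000000000000000000000000000000000000001000000000000000000000000000)],
  (BT.node (nat_lit 14) (BT.node (nat_lit 7) (BT.node (nat_lit 3) (BT.node (nat_lit 1) (BT.leaf (nat_lit 13284)) (BT.node (nat_lit 2) (BT.leaf (nat_lit 0)) (BT.leaf (nat_lit 0)))) (BT.node (nat_lit 5) (BT.node (nat_lit 4) (BT.leaf (nat_lit 0)) (BT.leaf (nat_lit 776437491))) (BT.node (nat_lit 6) (BT.leaf (nat_lit 0x945d2f7b918)) (BT.leaf (nat_lit 2348699499))))) (BT.node (nat_lit 10) (BT.node (nat_lit 8) (BT.leaf (nat_lit 0x9a02a831bf)) (BT.node (nat_lit 9) (BT.leaf (nat_lit 0x208eeae9f42)) (BT.leaf (nat_lit 43053903)))) (BT.node (nat_lit 12) (BT.node (nat_lit 11) (BT.leaf (nat_lit 162621684)) (BT.leaf (nat_lit 3648129363))) (BT.node (nat_lit 13) (BT.leaf (nat_lit 0x4a15aa764da)) (BT.leaf (nat_lit 258423210)))))) (BT.node (nat_lit 21) (BT.node (nat_lit 17) (BT.node (nat_lit 15) (BT.leaf (nat_lit 54)) (BT.node (nat_lit 16) (BT.leaf (nat_lit 263206908)) (BT.leaf (nat_lit 0x4a15abfc6f3))))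 (BT.node (nat_lit 19) (BT.node (nat_lit 18) (BT.leaf (nat_lit 0x1b017bb48)) (BT.leaf (nat_lit 282314016))) (BT.node (nat_lit 20) (BT.leaf (nat_lit 729)) (BT.leaf (nat_lit 162))))) (BT.node (nat_lit 24) (BT.node (nat_lit 22) (BT.leaf (nat_lit 360126)) (BT.node (nat_lit 23) (BT.leaf (nat_lit 2)) (BT.leaf (nat_lit 6)))) (BT.node (nat_lit 26) (BT.node (nat_lit 25) (BT.leaf (nat_lit 19692)) (BT.leaf (nat_lit 18))) (BT.node (nat_lit 27) (BT.leaf (nat_lit 4374)) (BT.leaf (nat_lit 486)))))))⟩

theorem okx3 : cx3.OK := Cert.ok_of_check (by decide) (by decide +kernel)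


noncomputable def Lx3 : List Lvl := [⟨(nat_lit 0), [[(nat_lit 5), (nat_lit 9), (nat_lit 9), (nat_lit 13), (nat_lit 13)],
  [(nat_lit 5), (nat_lit 9), (nat_lit 9), (nat_lit 13), (nat_lit 13)],
  [(nat_lit 7)],
  [(nat_lit 7)],
  [(nat_lit 9)],
  [(nat_lit 9)],
  [(nat_lit 11)],
  [(nat_lit 11)],
  [(nat_lit 13)],
  [(nat_lit 13)]], (nat_lit 1)⟩,
  ⟨(nat_lit 1), [[(nat_lit 1), (nat_lit 3), (nat_lit 5), (nat_lit 5), (nat_lit 7), (nat_lit 9), (nat_lit 11), (nat_lit 11)],
  [(nat_lit 1), (nat_lit 3), (nat_lit 5), (nat_lit 5), (nat_lit 7), (nat_lit 9), (nat_lit 11), (nat_lit 11)],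
  [(nat_lit 3), (nat_lit 7), (nat_lit 9), (nat_lit 9), (nat_lit 11), (nat_lit 13), (nat_lit 13)],
  [(nat_lit 3), (nat_lit 7), (nat_lit 9), (nat_lit 9), (nat_lit 11), (nat_lit 13), (nat_lit 13)]], (nat_lit 1)⟩]


noncomputable def gx3 : List (List Nat) := [[(nat_lit 15)],
  [(nat_lit 17)],
  [(nat_lit 19)]]

theorem hx3_0 : allFrom (relRow (sameW Nx3 276 9) 0 Px3) 0 7 = true := by decide +kernel

theorem hx3 : ∀ j < 7, relRow (sameW Nx3 276 9) 0 Px3 j = true := by
  have h : ∀ j < 0, relRow (sameW Nx3 276 9) 0 Px3 j = true := by simp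
  have h := forall_lt_add h (allFrom_iff.1 hx3_0)
  exact h

theorem px3 : lall (prAt (sameW Nx3 276 9) 0 gx3) Px3.prs = true := by decide +kernel

theorem lx3 : lowOK Nx3 276 0 Px3 Lx3 = true := by decide +kernel

theorem pbdx3 : PBd (MulAction.stabilizer Co0 Spor.leechV) 3 1 :=
  have h := (mdl.new (k := 9) (l := 10) (by decide) wx3 (by decide +kernel) (by decide +kernel) qx3)
  h.pbd (h.sameW (k := 9) (by decide)) okx3 (gs := gx3) hx3 px3 lx3 (card_stab_48 nm_V) (by decide) rfl rfl

noncomputable def Wx5 : List (List Nat) := [[(nat_lit 13), (nat_lit 2), (nat_lit 14), (nat_lit 14), (nat_lit 5), (nat_lit 10), (nat_lit 21), (nat_lit 15), (nat_lit 19), (nat_lit 18), (nat_lit 25), (nat_lit 21), (nat_lit 25)],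
  [(nat_lit 1), (nat_lit 15), (nat_lit 1), (nat_lit 14), (nat_lit 14), (nat_lit 5), (nat_lit 21), (nat_lit 13), (nat_lit 10), (nat_lit 14), (nat_lit 23), (nat_lit 20), (nat_lit 18), (nat_lit 23)],
  [(nat_lit 10), (nat_lit 11), (nat_lit 2), (nat_lit 7), (nat_lit 5), (nat_lit 5), (nat_lit 15), (nat_lit 9), (nat_lit 9), (nat_lit 22), (nat_lit 14), (nat_lit 25), (nat_lit 17), (nat_lit 17), (nat_lit 21), (nat_lit 25)],
  [(nat_lit 25), (nat_lit 9), (nat_lit 1), (nat_lit 20), (nat_lit 5), (nat_lit 7), (nat_lit 15), (nat_lit 13), (nat_lit 9), (nat_lit 22), (nat_lit 14), (nat_lit 21), (nat_lit 25)]]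

theorem qx5_0 : allFrom (preRow dN Nx5 Wx5 276 9) 0 4 = true := by decide +kernel

theorem qx5 : ∀ j < 4, preRow dN Nx5 Wx5 276 9 j = true := by
  have h : ∀ j < 0, preRow dN Nx5 Wx5 276 9 j = true := by simp
  have h := forall_lt_add h (allFrom_iff.1 qx5_0)
  exact h

theorem wx5 : wfAll Nx5 276 = true := by decide +kernel

noncomputable def Px5 : Dat := ⟨(nat_lit 5), (nat_lit 3), (nat_lit 8), (nat_lit 3), (nat_lit 9),
  (BT.node (nat_lit 3) (BT.node (nat_lit 1) (BT.leaf []) (BT.node (nat_lit 2) (BT.leaf [(nat_lit 1), (nat_lit 2)]) (BT.leaf []))) (BT.node (nat_lit 4) (BT.leaf [(nat_lit 2)]) (BT.node (nat_lit 5) (BT.leaf [(nat_lit 2)]) (BT.leaf [])))),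
  [⟨(nat_lit 0), [(nat_lit 2)], [(nat_lit 2), (nat_lit 2)]⟩,
  ⟨(nat_lit 0), [(nat_lit 0)], [(nat_lit 1), (nat_lit 2)]⟩,
  ⟨(nat_lit 0), [(nat_lit 1)], [(nat_lit 0), (nat_lit 0), (nat_lit 0), (nat_lit 2), (nat_lit 2), (nat_lit 2)]⟩]⟩

noncomputable def Xx5_0 : List Test := [⟨(nat_lit 1), [(nat_lit 0), (nat_lit 1)], [(nat_lit 1), (nat_lit 0)], (nat_lit 0x4000204000000000000)⟩,
  ⟨(nat_lit 1), [(nat_lit 0), (nat_lit 2)], [(nat_lit 2), (nat_lit 0)], (nat_lit 0x4000401000000000000)⟩,
  ⟨(nat_lit 1), [(nat_lit 1), (nat_lit 1), (nat_lit 1), (nat_lit 1), (nat_lit 1)], [], (nat_lit 0x4010000010004000000)⟩,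
  ⟨(nat_lit 0), [(nat_lit 1)], [(nat_lit 0), (nat_lit 0), (nat_lit 0), (nat_lit 0), (nat_lit 0)], (nat_lit 0x1010000000000000000)⟩,
  ⟨(nat_lit 1), [(nat_lit 2), (nat_lit 2), (nat_lit 2), (nat_lit 2), (nat_lit 2)], [], (nat_lit 0x4030000040003000000)⟩]

noncomputable def cx5 : Cert := ⟨Px5, (nat_lit 0), Xx5_0,
  [],
  [(nat_lit 0),
  (nat_lit 0),
  (nat_lit 0x1000000000100000000)],
  (BT.node (nat_lit 3) (BT.node (nat_lit 1) (BT.leaf (nat_lit 1550)) (BT.node (nat_lit 2) (BT.leaf (nat_lit 0)) (BT.leaf (nat_lit 1650)))) (BT.node (nat_lit 4) (BT.leaf (nat_lit 19)) (BT.node (nat_lit 5) (BT.leaf (nat_lit 24)) (BT.leaf (nat_lit 500)))))⟩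

theorem okx5 : cx5.OK := Cert.ok_of_check (by decide) (by decide +kernel)


noncomputable def Lx5 : List Lvl := [⟨(nat_lit 0), [[(nat_lit 1), (nat_lit 5), (nat_lit 5), (nat_lit 5)],
  [(nat_lit 1), (nat_lit 5), (nat_lit 5), (nat_lit 5)],
  [(nat_lit 1), (nat_lit 5), (nat_lit 5), (nat_lit 5)],
  [(nat_lit 1), (nat_lit 5), (nat_lit 5), (nat_lit 5)],
  [(nat_lit 3), (nat_lit 5)],
  [(nat_lit 3), (nat_lit 5)],
  [(nat_lit 3), (nat_lit 5)],
  [(nat_lit 3), (nat_lit 5)],
  [(nat_lit 5)],
  [(nat_lit 5)],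
  [(nat_lit 5)],
  [(nat_lit 5)]], (nat_lit 1)⟩]


noncomputable def gx5 : List (List Nat) := [[(nat_lit 7)]]

theorem hx5_0 : allFrom (relRow (sameW Nx5 276 9) 0 Px5) 0 3 = true := by decide +kernel

theorem hx5 : ∀ j < 3, relRow (sameW Nx5 276 9) 0 Px5 j = true := by
  have h : ∀ j < 0, relRow (sameW Nx5 276 9) 0 Px5 j = true := by simp
  have h := forall_lt_add h (allFrom_iff.1 hx5_0)
  exact h

theorem px5 : lall (prAt (sameW Nx5 276 9) 0 gx5) Px5.prs = true := by decide +kernel

theorem lx5 : lowOK Nx5 276 0 Px5 Lx5 = true := by decide +kernel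

theorem pbdx5 : PBd (MulAction.stabilizer Co0 Spor.leechV) 5 1 :=
  have h := (mdl.new (k := 9) (l := 4) (by decide) wx5 (by decide +kernel) (by decide +kernel) qx5)
  h.pbd (h.sameW (k := 9) (by decide)) okx5 (gs := gx5) hx5 px5 lx5 (card_stab_48 nm_V) (by decide) rfl rfl

theorem mult : Nat.card (Mult (MulAction.stabilizer Co0 Spor.leechV)) ≤ 1 :=
  card_mult_le (b := 23) (k := 10) (card_stab_48 nm_V) [(2, 1), (3, 1), (5, 1)] (by decide +kernel) (by
    simp only [List.mem_cons, List.not_mem_nil, or_false, forall_eq_or_imp, forall_eq]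
    exact ⟨⟨by decide, pbdx2⟩, ⟨by decide, pbdx3⟩, ⟨by decide, pbdx5⟩⟩)

theorem schur : HasCyclicSchurMultiplier Spor.Co3 1 := HasSchur.congr_left (trivial_of_mult_le mult) Co3Equiv

end CF.Schur.Co3
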