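import Cfsg.Agent.Schur.Mdl

/-! Extensions of a presented group by a quotient of a permutation module over `𝔽₂`. -/

set_option autoImplicit false

namespace CF.Schur

open CF.Comp CF.Schur.Pc Function

theorem exists_ext {G : Type} [Group G] {rels : List (List ℕ)} {m : ℕ} {f : ℕ → G} (hP : Presents rels m f) {Γ : Type}
    [Group Γ] (y : ℕ → Γ) (N : Subgroup Γ) (hn : ∀ i < m, y i ∈ Subgroup.normalizer (N : Set Γ))
    (hr : ∀ r ∈ rels, ev y r ∈ N) :
    ∃ (E : Type) (_ : Group E) (ξ : E →* G) (ρ : E →* Γ) (y' : ℕ → E), Surjective ξ ∧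
      (∀ i < m, ξ (y' i) = f i ∧ ρ (y' i) = y i) ∧ ξ.ker.map ρ = N ∧ ∀ e, ξ e = 1 → ρ e = 1 → e = 1 := by
  let Y := Subgroup.normalizer (N : Set Γ)
  let y' : ℕ → Y := fun i => if h : i < m then ⟨y i, hn i h⟩ else 1
  let π := QuotientGroup.mk' (N.subgroupOf Y)
  obtain ⟨φ, hφ⟩ := hP.2.2 _ (fun i => π (y' i)) fun r hr' => by
    rw [← map_ev, QuotientGroup.mk'_apply, QuotientGroup.eq_one_iff, Subgroup.mem_subgroupOf, ← Y.subtype_apply, map_ev,
      ev_congr (g := y) (fun i hi => by simp [y', hi]) (lettersLe_iff.1 hP.2.1 r hr')]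
    exact hr r hr'
  refine ⟨pull π φ, inferInstance, pullSnd π φ, Y.subtype.comp (pullFst π φ),
    fun i => if h : i < m then ⟨(y' i, f i), mem_pull.2 (hφ i h).symm⟩ else 1, fun g => ?_,
    fun i hi => by simp [hi, y'], le_antisymm ?_ fun n hn => ?_, fun e h1 h2 => ?_⟩
  · obtain ⟨x, hx⟩ := QuotientGroup.mk'_surjective _ (φ g)
    exact ⟨⟨(x, g), hx⟩, rfl⟩
  · rintro _ ⟨e, he, rfl⟩
    have h1 : π e.1.1 = φ e.1.2 := e.2
    rw [show e.1.2 = 1 from he, map_one] at h1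
    exact (QuotientGroup.eq_one_iff (N := N.subgroupOf Y) e.1.1).1 h1
  · exact ⟨⟨(⟨n, Subgroup.le_normalizer hn⟩, 1), ((QuotientGroup.eq_one_iff (N := N.subgroupOf Y)
      ⟨n, Subgroup.le_normalizer hn⟩).2 hn).trans φ.map_one.symm⟩, rfl, rfl⟩
  · exact pullFst_injOn_ker π φ h1 (Subtype.ext h2)

section fox

variable {E : Type*} [Group E] {N : Subgroup E} [hN : N.Normal]

/-- the change of a word when its letters are changed by elements of `N` -/
def fox (y n : ℕ → E) (w : List ℕ) : E := (ev y w)⁻¹ * ev (fun i => y i * n i) w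

theorem fox_cons (y n : ℕ → E) (x : ℕ) (w : List ℕ) :
    fox y n (x :: w) = (ev y w)⁻¹ * fox y n [x] * ev y w * fox y n w := by
  simp [fox, mul_assoc]

theorem fox_spec (hc : ∀ a ∈ N, ∀ b ∈ N, a * b = b * a) (y : ℕ → E) (w : List ℕ) :
    (∀ n, (∀ i, n i ∈ N) → fox y n w ∈ N) ∧ ∀ n n', (∀ i, n i ∈ N) → (∀ i, n' i ∈ N) →
      fox y (n * n') w = fox y n w * fox y n' w := by
  induction w with
  | nil => simp [fox]
  | cons x w ih =>
    have h1 : ∃ g, ∃ s : ℤ, ∃ i, (s = 0 ∨ s = 1 ∨ s = -1) ∧ ∀ n, fox y n [x] = g * n i ^ s * g⁻¹ := by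
      rcases letter_cases x with rfl | ⟨i, rfl⟩ | ⟨i, rfl⟩
      · exact ⟨1, 0, 0, by simp, fun n => by simp [fox]⟩
      · exact ⟨1, 1, i, by simp, fun n => by simp [fox, evL_odd]⟩
      · exact ⟨y i, -1, i, by simp, fun n => by simp [fox, mul_assoc, evL_even]⟩
    obtain ⟨g, s, i, hs, h1⟩ := h1
    have h2 : ∀ n, (∀ i, n i ∈ N) → (ev y w)⁻¹ * fox y n [x] * ev y w ∈ N := fun n h => by
      rw [h1]
      exact hN.conj_mem' _ (hN.conj_mem _ (N.zpow_mem (h i) s) g) _
    refine ⟨fun n h => fox_cons y n x w ▸ N.mul_mem (h2 n h) (ih.1 n h), fun n n' h h' => ?_⟩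
    have h3 : (ev y w)⁻¹ * fox y (n * n') [x] * ev y w =
        (ev y w)⁻¹ * fox y n [x] * ev y w * ((ev y w)⁻¹ * fox y n' [x] * ev y w) := by
      rw [h1, h1, h1, Pi.mul_apply, Commute.mul_zpow (hc _ (h i) _ (h' i))]
      group
    rw [fox_cons, fox_cons y n, fox_cons y n', ih.2 n n' h h', h3, mul_assoc, mul_assoc _ (fox y n w),
      ← mul_assoc (fox y n w), hc _ (ih.1 n h) _ (h2 n' h'), mul_assoc _ (fox y n w)]

theorem not_split {G ι : Type*} [Group G] {ξ : E →* G} (hc : ∀ a ∈ ξ.ker, ∀ b ∈ ξ.ker, a * b = b * a) {t : ι → E}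
    (ht : ξ.ker = Subgroup.closure (Set.range t)) {y : ℕ → E} {m : ℕ} {w : List ℕ} (hw : ∀ x ∈ w, x ≤ 2 * m)
    (h1 : ξ (ev y w) = 1) {S : Subgroup E} (h2 : ev y w ∉ S)
    (h3 : ∀ i < m, ∀ p, fox y (Pi.mulSingle i (t p)) w ∈ S) (H : Subgroup E) (hH : H ⊓ ξ.ker = ⊥) : H ⊔ ξ.ker ≠ ⊤ := by
  intro e
  have hs := fox_spec hc y w
  have a1 : fox y 1 w = 1 := by simp [fox]
  have a2 : ∀ i a, a ∈ ξ.ker → ∀ j, (Pi.mulSingle i a : ℕ → E) j ∈ ξ.ker := fun i a ha j => by
    rw [Pi.mulSingle_apply]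
    split_ifs
    exacts [ha, one_mem _]
  have a3 : ∀ i < m, ∀ a ∈ ξ.ker, fox y (Pi.mulSingle i a) w ∈ S := fun i hi a ha => by
    rw [ht] at ha
    induction ha using Subgroup.closure_induction with
    | mem a ha =>
      obtain ⟨p, rfl⟩ := ha
      exact h3 i hi p
    | one => rw [Pi.mulSingle_one, a1]; exact one_mem _
    | mul a b ha hb h h' =>
      rw [Pi.mulSingle_mul, hs.2 _ _ (a2 i a (ht ▸ ha)) (a2 i b (ht ▸ hb))]
      exact mul_mem h h'
    | inv a ha h =>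
      have := hs.2 _ _ (a2 i a (ht ▸ ha)) (a2 i a⁻¹ (ht ▸ inv_mem ha))
      rw [← Pi.mulSingle_mul, mul_inv_cancel, Pi.mulSingle_one, a1] at this
      rw [eq_inv_of_mul_eq_one_right this.symm]
      exact inv_mem h
  have a4 : ∀ i, ∃ n ∈ ξ.ker, y i * n ∈ H := fun i => by
    obtain ⟨h, hh, n, hn, e'⟩ := Subgroup.mem_sup_of_normal_right.1 (e ▸ Subgroup.mem_top (y i))
    exact ⟨n⁻¹, inv_mem hn, by rwa [← e', mul_inv_cancel_right]⟩
  choose n hn hn' using a4
  have a5 : ∀ k ≤ m, fox y (fun i => if i < k then n i else 1) w ∈ S := fun k hk => by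
    induction k with
    | zero => exact S.mem_carrier.1 (Set.mem_of_eq_of_mem a1 (one_mem S))
    | succ k ih =>
      have : (fun i => if i < k + 1 then n i else 1) = (fun i => if i < k then n i else 1) * Pi.mulSingle k (n k) := by
        ext i
        rcases lt_trichotomy i k with h | rfl | h
        · simp [h, h.ne, Nat.lt_succ_of_lt h]
        · simp
        · simp [h.ne', h.le.not_gt, show ¬ i < k + 1 by omega]
      rw [this, hs.2 _ _ (fun i => by split_ifs; exacts [hn i, one_mem _]) (a2 k _ (hn k))]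
      exact mul_mem (ih (by omega)) (a3 k hk _ (hn k))
  have a6 : ev (fun i => y i * n i) w ∈ H ⊓ ξ.ker := ⟨ev_mem hn' w, by
    have := mul_mem (show ev y w ∈ ξ.ker from h1) (hs.1 n hn)
    rwa [fox, mul_inv_cancel_left] at this⟩
  have a7 := a5 m le_rfl
  rw [fox, ev_congr (f := fun i => y i * if i < m then n i else 1) (g := fun i => y i * n i) (fun i hi => by simp [hi]) hw,
    Subgroup.mem_bot.1 (hH.le a6), mul_one] at a7
  exact h2 (inv_mem_iff.1 a7)

/-- the word for the change of letter `i` by the element `a` -/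
noncomputable def foxW (m i a : ℕ) (w : List ℕ) : List ℕ :=
  lapp (winv w) (subst ((List.range m).map fun j => if j = i then [2 * j + 1, 2 * a + 1] else [2 * j + 1]) w)

theorem fox_eq (y : ℕ → E) {m : ℕ} (i a : ℕ) {w : List ℕ} (hw : ∀ x ∈ w, x ≤ 2 * m) :
    fox y (Pi.mulSingle i (y a)) w = ev y (foxW m i a w) := by
  rw [foxW, ev_lapp, ev_winv, ← ev_evs, fox]
  refine congrArg _ (ev_congr (fun j hj => ?_) hw)
  rw [evs, nth_eq_getD, List.getD_eq_getElem _ _ (by simpa using hj), List.getElem_map, List.getElem_range,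
    Pi.mulSingle_apply]
  split_ifs <;> simp [evL_odd]

end fox

theorem zmod_two_ext {ι A : Type*} [Finite ι] [DecidableEq ι] [AddCommGroup A] {φ ψ : (ι → ZMod 2) →+ A}
    (h : ∀ p, φ (Pi.single p 1) = ψ (Pi.single p 1)) : φ = ψ :=
  AddMonoidHom.functions_ext A φ ψ fun p x => by
    rcases (by decide : ∀ x : ZMod 2, x = 0 ∨ x = 1) x with rfl | rfl
    exacts [by simp, h p]

theorem exists_zmod_two {ι A : Type*} [Fintype ι] [DecidableEq ι] [AddCommGroup A] {t : ι → A} (h : ∀ p, t p + t p = 0) :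
    ∃ θ : (ι → ZMod 2) →+ A, ∀ p, θ (Pi.single p 1) = t p := by
  refine ⟨∑ p, (ZMod.lift 2 ⟨zmultiplesHom A (t p), by simpa [two_zsmul] using h p⟩).comp
    (Pi.evalAddMonoidHom (fun _ => ZMod 2) p), fun p => ?_⟩
  rw [AddMonoidHom.finsetSum_apply, Finset.sum_eq_single p (fun q _ hq => by simp [hq]) (by simp)]
  simpa using ZMod.lift_coe 2 ⟨zmultiplesHom A (t p), by simpa [two_zsmul] using h p⟩ 1

theorem of_mem_gensW {m : ℕ} {u : List ℕ} (h : u ∈ gensW m) : ∃ i < m, u = [2 * i + 1] := by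
  induction m with
  | zero => exact absurd h List.not_mem_nil
  | succ m ih =>
    rcases List.mem_cons.1 (show u ∈ [2 * m + 1] :: gensW m from h) with h | h
    · exact ⟨m, by omega, h⟩
    · obtain ⟨i, hi, e⟩ := ih h
      exact ⟨i, by omega, e⟩

theorem exists_perm_ext {G : Type} [Group G] [Finite G] {ι : Type} [Fintype ι] [DecidableEq ι] (α : G →* Equiv.Perm ι)
    {rels : List (List ℕ)} {m : ℕ} {f : ℕ → G} (hP : Presents rels m f) (hf : clo f (gensW m) = ⊤) {Γ : Type} [Group Γ]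
    {y : ℕ → Γ} {t : ι → Γ} (h2 : ∀ p, t p * t p = 1) (hc : ∀ p q, t p * t q = t q * t p)
    (hy : ∀ i < m, ∀ p, y i * t p = t (α (f i) p) * y i) (hr : ∀ r ∈ rels, ev y r ∈ Subgroup.closure (Set.range t))
    {w : List ℕ} (hw : ∀ x ∈ w, x ≤ 2 * m) (h1 : ev f w = 1) {S : Subgroup Γ} (hS : ev y w ∉ S)
    (h3 : ∀ i < m, ∀ p, fox y (Pi.mulSingle i (t p)) w ∈ S) :
    ∃ (E : Type) (_ : Group E) (_ : Finite E) (N : Subgroup E) (_ : N.Normal) (φ : E ⧸ N ≃* G)
      (θ : (ι → ZMod 2) →+ Additive N), Surjective θ ∧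
      (∀ l : List ι, (l.map t).prod = 1 → θ (l.map (Pi.single · 1)).sum = 0) ∧
      (∃ _ : Finite (Subgroup.closure (Set.range t)), Nat.card N = Nat.card (Subgroup.closure (Set.range t))) ∧
      (∀ (g : E) (v : ι → ZMod 2), ((θ (v ∘ ⇑(α (φ (QuotientGroup.mk g)))⁻¹)).toMul : E) = g * ((θ v).toMul : E) * g⁻¹) ∧
      ∀ H : Subgroup E, H ⊓ N = ⊥ → H ⊔ N ≠ ⊤ := by
  obtain ⟨E, _, ξ, ρ, y', hξ, hy', hk, hi⟩ := exists_ext hP y _ (fun i hi => Subgroup.normalizer_le_normalizer_closure _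
    (Subgroup.mem_normalizer_fintype (by
      rintro _ ⟨p, rfl⟩
      exact ⟨_, by rw [hy i hi, mul_inv_cancel_right]⟩))) hr
  have hi' : ∀ a b, ξ a = ξ b → ρ a = ρ b → a = b := fun a b e e' =>
    inv_mul_eq_one.1 (hi _ (by simp [e]) (by simp [e']))
  have : ∀ p, ∃ a ∈ ξ.ker, ρ a = t p := fun p => hk.ge (Subgroup.subset_closure ⟨p, rfl⟩)
  choose t' ht0 ht using this
  have ht1 : ∀ p, ξ (t' p) = 1 := ht0
  have hker : ξ.ker = Subgroup.closure (Set.range t') := by
    have hle : Subgroup.closure (Set.range t') ≤ ξ.ker := (Subgroup.closure_le _).2 (Set.range_subset_iff.2 ht0)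
    refine le_antisymm (fun a ha => ?_) hle
    have : ρ a ∈ (Subgroup.closure (Set.range t')).map ρ := by
      rw [MonoidHom.map_closure, ← Set.range_comp, show ρ ∘ t' = t from funext ht, ← hk]
      exact ⟨a, ha, rfl⟩
    obtain ⟨b, hb, e⟩ := this
    rwa [← hi' b a ((hle hb).trans ha.symm) e]
  have hcm : IsMulCommutative ξ.ker := by
    rw [hker]
    refine Subgroup.isMulCommutative_closure ?_
    rintro _ ⟨p, rfl⟩ _ ⟨q, rfl⟩
    exact hi' _ _ (by simp [ht1]) (by simp [ht, hc p q])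
  have hc' : ∀ a ∈ ξ.ker, ∀ b ∈ ξ.ker, a * b = b * a := fun a ha b hb =>
    congrArg Subtype.val (hcm.is_comm.comm ⟨a, ha⟩ ⟨b, hb⟩)
  let _ : CommGroup ξ.ker := { (inferInstance : Group ξ.ker) with mul_comm := hcm.is_comm.comm }
  obtain ⟨θ, hθ⟩ := exists_zmod_two (t := fun p => Additive.ofMul (⟨t' p, ht0 p⟩ : ξ.ker)) fun p =>
    Subtype.ext (hi (t' p * t' p) (by simp [ht1]) (by simp [ht, h2]))
  have hs : Surjective θ := by
    have : ξ.ker ≤ θ.range.toSubgroup'.map ξ.ker.subtype := by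
      conv_lhs => rw [hker]
      rw [Subgroup.closure_le]
      rintro _ ⟨p, rfl⟩
      exact ⟨_, ⟨_, hθ p⟩, rfl⟩
    rintro ⟨a, ha⟩
    obtain ⟨b, hb, rfl⟩ := this ha
    exact hb
  have : Finite ξ.ker := Finite.of_surjective _ hs
  have e0 : ξ.ker ≃ Subgroup.closure (Set.range t) := Equiv.ofBijective (fun a => ⟨ρ a, hk.le ⟨a, a.2, rfl⟩⟩)
    ⟨fun a b e => Subtype.ext (hi' _ _ (a.2.trans b.2.symm) (congrArg Subtype.val e)), fun b => by
      obtain ⟨a, ha, e⟩ := hk.ge b.2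
      exact ⟨⟨a, ha⟩, Subtype.ext e⟩⟩
  have hf' : ∀ v : List ℕ, (∀ x ∈ v, x ≤ 2 * m) → ξ (ev y' v) = ev f v := fun v hv =>
    (map_ev ..).trans (ev_congr (fun i hi => (hy' i hi).1) hv)
  refine ⟨E, inferInstance, finite_of_ker ξ, ξ.ker, inferInstance, QuotientGroup.quotientKerEquivOfSurjective ξ hξ, θ,
    hs, fun l hl => ?_, ⟨Finite.of_equiv _ e0, Nat.card_congr e0⟩, fun g v => ?_,
    not_split hc' hker hw ((hf' w hw).trans h1) (S := S.comap ρ) ?_ fun i hi p => ?_⟩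
  · have : ρ (θ (l.map (Pi.single · 1)).sum).toMul = (l.map t).prod := by
      clear hl
      induction l with
      | nil => simp
      | cons p l ih => simp [ih, hθ, ht]
    exact Subtype.ext (hi _ (θ _).toMul.2 (this.trans hl))
  · let K : Subgroup E :=
      { carrier := {g | ∀ p, g * t' p * g⁻¹ = t' (α (ξ g) p)}
        one_mem' := by simp
        mul_mem' := fun {a b} ha hb p => by
          rw [map_mul, map_mul, Equiv.Perm.mul_apply, ← ha, ← hb]
          group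
        inv_mem' := fun {a} ha p => by
          have := ha (α (ξ a⁻¹) p)
          rw [← Equiv.Perm.mul_apply, ← map_mul, ← map_mul, mul_inv_cancel, map_one, map_one, Equiv.Perm.one_apply] at this
          rw [← this]
          group }
    have k1 : ξ.ker ≤ K := fun a ha p => by
      rw [hc' _ ha _ (ht0 p), mul_inv_cancel_right, show ξ a = 1 from ha, map_one, Equiv.Perm.one_apply]
    have k2 : K.map ξ = ⊤ := by
      rw [eq_top_iff, ← hf, clo_le]
      intro u hu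
      obtain ⟨i, hi, rfl⟩ := of_mem_gensW hu
      refine ⟨y' i, fun p => hi' _ _ (by simp [ht1]) ?_, by rw [ev_single, (hy' i hi).1]⟩
      rw [map_mul, map_mul, map_inv, ht, ht, (hy' i hi).1, (hy' i hi).2, hy i hi, mul_inv_cancel_right]
    have k3 : g ∈ K := by
      rw [← Subgroup.comap_map_eq_self k1, k2]
      trivial
    have := zmod_two_ext (φ := θ.comp (AddMonoidHom.mk' (· ∘ ⇑(α (ξ g))⁻¹) fun _ _ => rfl))
      (ψ := (MulAut.conjNormal g).toMonoidHom.toAdditive.comp θ) fun p => by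
        have e : (Pi.single p 1 : ι → ZMod 2) ∘ ⇑(α (ξ g))⁻¹ = Pi.single (α (ξ g) p) 1 := by
          ext q
          simp [Pi.single_apply, Equiv.symm_apply_eq]
        refine (congrArg θ e).trans ((hθ _).trans ?_)
        rw [AddMonoidHom.comp_apply, hθ]
        exact Subtype.ext (k3 p).symm
    exact congrArg Subtype.val (DFunLike.congr_fun this v)
  · rwa [Subgroup.mem_comap, map_ev, ev_congr (fun i hi => (hy' i hi).2) hw]
  · have := h3 i hi p
    rwa [Subgroup.mem_comap, fox, map_mul, map_inv, map_ev, map_ev, ev_congr (fun i hi => (hy' i hi).2) hw,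
      ev_congr (f := fun j => ρ (y' j * (Pi.mulSingle i (t' p) : ℕ → E) j))
        (g := fun j => y j * (Pi.mulSingle i (t p) : ℕ → Γ) j) (fun j hj => by
        rw [map_mul, (hy' j hj).2, Pi.apply_mulSingle (fun _ => ρ) (fun _ => ρ.map_one), ht]) hw]

end CF.Schur
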