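import Cfsg.Agent.Schur.Stein
import Cfsg.Agent.Schur.F42D

/-! A covering group of F4(2). -/

set_option autoImplicit false
set_option maxRecDepth 1000000
set_option maxHeartbeats 0
set_option Elab.async false

namespace CF.Schur.F42

open CF.Comp CF.Schur.Pc

noncomputable def Y : PK := ⟨3, 52, 16, 2, 171, 9⟩


theorem ic_0 : allFrom (Y.invAt Kc) 0 49 = true := by decide +kernel

theorem ic : ∀ j < 49, Y.invAt Kc j = true := by
  have h : ∀ j < 0, Y.invAt Kc j = true := by simp
  have h := forall_lt_add h (allFrom_iff.1 ic_0)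
  exact h

theorem rc_0 : allFrom (tailAt (Y.same Kc) (cat R) Tc) 0 36 = true := by decide +kernel

theorem rc_36 : allFrom (tailAt (Y.same Kc) (cat R) Tc) 36 34 = true := by decide +kernel

theorem rc_70 : allFrom (tailAt (Y.same Kc) (cat R) Tc) 70 33 = true := by decide +kernel

theorem rc_103 : allFrom (tailAt (Y.same Kc) (cat R) Tc) 103 33 = true := by decide +kernel

theorem rc_136 : allFrom (tailAt (Y.same Kc) (cat R) Tc) 136 36 = true := by decide +kernel

theorem rc_172 : allFrom (tailAt (Y.same Kc) (cat R) Tc) 172 32 = true := by decide +kernel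

theorem rc_204 : allFrom (tailAt (Y.same Kc) (cat R) Tc) 204 32 = true := by decide +kernel

theorem rc_236 : allFrom (tailAt (Y.same Kc) (cat R) Tc) 236 34 = true := by decide +kernel

theorem rc_270 : allFrom (tailAt (Y.same Kc) (cat R) Tc) 270 34 = true := by decide +kernel

theorem rc_304 : allFrom (tailAt (Y.same Kc) (cat R) Tc) 304 33 = true := by decide +kernel

theorem rc_337 : allFrom (tailAt (Y.same Kc) (cat R) Tc) 337 32 = true := by decide +kernel

theorem rc_369 : allFrom (tailAt (Y.same Kc) (cat R) Tc) 369 34 = true := by decide +kernel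

theorem rc_403 : allFrom (tailAt (Y.same Kc) (cat R) Tc) 403 33 = true := by decide +kernel

theorem rc_436 : allFrom (tailAt (Y.same Kc) (cat R) Tc) 436 32 = true := by decide +kernel

theorem rc_468 : allFrom (tailAt (Y.same Kc) (cat R) Tc) 468 34 = true := by decide +kernel

theorem rc_502 : allFrom (tailAt (Y.same Kc) (cat R) Tc) 502 33 = true := by decide +kernel

theorem rc_535 : allFrom (tailAt (Y.same Kc) (cat R) Tc) 535 32 = true := by decide +kernel

theorem rc_567 : allFrom (tailAt (Y.same Kc) (cat R) Tc) 567 33 = true := by decide +kernel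

theorem rc_600 : allFrom (tailAt (Y.same Kc) (cat R) Tc) 600 33 = true := by decide +kernel

theorem rc_633 : allFrom (tailAt (Y.same Kc) (cat R) Tc) 633 33 = true := by decide +kernel

theorem rc_666 : allFrom (tailAt (Y.same Kc) (cat R) Tc) 666 33 = true := by decide +kernel

theorem rc_699 : allFrom (tailAt (Y.same Kc) (cat R) Tc) 699 33 = true := by decide +kernel

theorem rc_732 : allFrom (tailAt (Y.same Kc) (cat R) Tc) 732 34 = true := by decide +kernel

theorem rc_766 : allFrom (tailAt (Y.same Kc) (cat R) Tc) 766 33 = true := by decide +kernel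

theorem rc_799 : allFrom (tailAt (Y.same Kc) (cat R) Tc) 799 34 = true := by decide +kernel

theorem rc_833 : allFrom (tailAt (Y.same Kc) (cat R) Tc) 833 34 = true := by decide +kernel

theorem rc_867 : allFrom (tailAt (Y.same Kc) (cat R) Tc) 867 33 = true := by decide +kernel

theorem rc_900 : allFrom (tailAt (Y.same Kc) (cat R) Tc) 900 33 = true := by decide +kernel

theorem rc_933 : allFrom (tailAt (Y.same Kc) (cat R) Tc) 933 34 = true := by decide +kernel

theorem rc_967 : allFrom (tailAt (Y.same Kc) (cat R) Tc) 967 34 = true := by decide +kernel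

theorem rc_1001 : allFrom (tailAt (Y.same Kc) (cat R) Tc) 1001 33 = true := by decide +kernel

theorem rc_1034 : allFrom (tailAt (Y.same Kc) (cat R) Tc) 1034 33 = true := by decide +kernel

theorem rc_1067 : allFrom (tailAt (Y.same Kc) (cat R) Tc) 1067 34 = true := by decide +kernel

theorem rc_1101 : allFrom (tailAt (Y.same Kc) (cat R) Tc) 1101 34 = true := by decide +kernel

theorem rc_1135 : allFrom (tailAt (Y.same Kc) (cat R) Tc) 1135 32 = true := by decide +kernel

theorem rc_1167 : allFrom (tailAt (Y.same Kc) (cat R) Tc) 1167 34 = true := by decide +kernel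

theorem rc_1201 : allFrom (tailAt (Y.same Kc) (cat R) Tc) 1201 34 = true := by decide +kernel

theorem rc_1235 : allFrom (tailAt (Y.same Kc) (cat R) Tc) 1235 33 = true := by decide +kernel

theorem rc_1268 : allFrom (tailAt (Y.same Kc) (cat R) Tc) 1268 34 = true := by decide +kernel

theorem rc_1302 : allFrom (tailAt (Y.same Kc) (cat R) Tc) 1302 33 = true := by decide +kernel

theorem rc_1335 : allFrom (tailAt (Y.same Kc) (cat R) Tc) 1335 34 = true := by decide +kernel

theorem rc_1369 : allFrom (tailAt (Y.same Kc) (cat R) Tc) 1369 32 = true := by decide +kernel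

theorem rc_1401 : allFrom (tailAt (Y.same Kc) (cat R) Tc) 1401 34 = true := by decide +kernel

theorem rc_1435 : allFrom (tailAt (Y.same Kc) (cat R) Tc) 1435 34 = true := by decide +kernel

theorem rc_1469 : allFrom (tailAt (Y.same Kc) (cat R) Tc) 1469 33 = true := by decide +kernel

theorem rc_1502 : allFrom (tailAt (Y.same Kc) (cat R) Tc) 1502 33 = true := by decide +kernel

theorem rc_1535 : allFrom (tailAt (Y.same Kc) (cat R) Tc) 1535 33 = true := by decide +kernel

theorem rc_1568 : allFrom (tailAt (Y.same Kc) (cat R) Tc) 1568 34 = true := by decide +kernel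

theorem rc_1602 : allFrom (tailAt (Y.same Kc) (cat R) Tc) 1602 31 = true := by decide +kernel

theorem rc_1633 : allFrom (tailAt (Y.same Kc) (cat R) Tc) 1633 33 = true := by decide +kernel

theorem rc_1666 : allFrom (tailAt (Y.same Kc) (cat R) Tc) 1666 33 = true := by decide +kernel

theorem rc_1699 : allFrom (tailAt (Y.same Kc) (cat R) Tc) 1699 32 = true := by decide +kernel

theorem rc_1731 : allFrom (tailAt (Y.same Kc) (cat R) Tc) 1731 33 = true := by decide +kernel

theorem rc_1764 : allFrom (tailAt (Y.same Kc) (cat R) Tc) 1764 34 = true := by decide +kernel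

theorem rc_1798 : allFrom (tailAt (Y.same Kc) (cat R) Tc) 1798 34 = true := by decide +kernel

theorem rc_1832 : allFrom (tailAt (Y.same Kc) (cat R) Tc) 1832 32 = true := by decide +kernel

theorem rc_1864 : allFrom (tailAt (Y.same Kc) (cat R) Tc) 1864 33 = true := by decide +kernel

theorem rc_1897 : allFrom (tailAt (Y.same Kc) (cat R) Tc) 1897 34 = true := by decide +kernel

theorem rc_1931 : allFrom (tailAt (Y.same Kc) (cat R) Tc) 1931 33 = true := by decide +kernel

theorem rc_1964 : allFrom (tailAt (Y.same Kc) (cat R) Tc) 1964 34 = true := by decide +kernel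

theorem rc_1998 : allFrom (tailAt (Y.same Kc) (cat R) Tc) 1998 34 = true := by decide +kernel

theorem rc_2032 : allFrom (tailAt (Y.same Kc) (cat R) Tc) 2032 34 = true := by decide +kernel

theorem rc_2066 : allFrom (tailAt (Y.same Kc) (cat R) Tc) 2066 32 = true := by decide +kernel

theorem rc_2098 : allFrom (tailAt (Y.same Kc) (cat R) Tc) 2098 34 = true := by decide +kernel

theorem rc_2132 : allFrom (tailAt (Y.same Kc) (cat R) Tc) 2132 35 = true := by decide +kernel

theorem rc_2167 : allFrom (tailAt (Y.same Kc) (cat R) Tc) 2167 33 = true := by decide +kernel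

theorem rc_2200 : allFrom (tailAt (Y.same Kc) (cat R) Tc) 2200 33 = true := by decide +kernel

theorem rc_2233 : allFrom (tailAt (Y.same Kc) (cat R) Tc) 2233 23 = true := by decide +kernel

theorem rc : ∀ j < 2256, tailAt (Y.same Kc) (cat R) Tc j = true := by
  have h : ∀ j < 0, tailAt (Y.same Kc) (cat R) Tc j = true := by simp
  have h := forall_lt_add h (allFrom_iff.1 rc_0)
  have h := forall_lt_add h (allFrom_iff.1 rc_36)
  have h := forall_lt_add h (allFrom_iff.1 rc_70)
  have h := forall_lt_add h (allFrom_iff.1 rc_103)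
  have h := forall_lt_add h (allFrom_iff.1 rc_136)
  have h := forall_lt_add h (allFrom_iff.1 rc_172)
  have h := forall_lt_add h (allFrom_iff.1 rc_204)
  have h := forall_lt_add h (allFrom_iff.1 rc_236)
  have h := forall_lt_add h (allFrom_iff.1 rc_270)
  have h := forall_lt_add h (allFrom_iff.1 rc_304)
  have h := forall_lt_add h (allFrom_iff.1 rc_337)
  have h := forall_lt_add h (allFrom_iff.1 rc_369)
  have h := forall_lt_add h (allFrom_iff.1 rc_403)
  have h := forall_lt_add h (allFrom_iff.1 rc_436)
  have h := forall_lt_add h (allFrom_iff.1 rc_468)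
  have h := forall_lt_add h (allFrom_iff.1 rc_502)
  have h := forall_lt_add h (allFrom_iff.1 rc_535)
  have h := forall_lt_add h (allFrom_iff.1 rc_567)
  have h := forall_lt_add h (allFrom_iff.1 rc_600)
  have h := forall_lt_add h (allFrom_iff.1 rc_633)
  have h := forall_lt_add h (allFrom_iff.1 rc_666)
  have h := forall_lt_add h (allFrom_iff.1 rc_699)
  have h := forall_lt_add h (allFrom_iff.1 rc_732)
  have h := forall_lt_add h (allFrom_iff.1 rc_766)
  have h := forall_lt_add h (allFrom_iff.1 rc_799)
  have h := forall_lt_add h (allFrom_iff.1 rc_833)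
  have h := forall_lt_add h (allFrom_iff.1 rc_867)
  have h := forall_lt_add h (allFrom_iff.1 rc_900)
  have h := forall_lt_add h (allFrom_iff.1 rc_933)
  have h := forall_lt_add h (allFrom_iff.1 rc_967)
  have h := forall_lt_add h (allFrom_iff.1 rc_1001)
  have h := forall_lt_add h (allFrom_iff.1 rc_1034)
  have h := forall_lt_add h (allFrom_iff.1 rc_1067)
  have h := forall_lt_add h (allFrom_iff.1 rc_1101)
  have h := forall_lt_add h (allFrom_iff.1 rc_1135)
  have h := forall_lt_add h (allFrom_iff.1 rc_1167)
  have h := forall_lt_add h (allFrom_iff.1 rc_1201)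
  have h := forall_lt_add h (allFrom_iff.1 rc_1235)
  have h := forall_lt_add h (allFrom_iff.1 rc_1268)
  have h := forall_lt_add h (allFrom_iff.1 rc_1302)
  have h := forall_lt_add h (allFrom_iff.1 rc_1335)
  have h := forall_lt_add h (allFrom_iff.1 rc_1369)
  have h := forall_lt_add h (allFrom_iff.1 rc_1401)
  have h := forall_lt_add h (allFrom_iff.1 rc_1435)
  have h := forall_lt_add h (allFrom_iff.1 rc_1469)
  have h := forall_lt_add h (allFrom_iff.1 rc_1502)
  have h := forall_lt_add h (allFrom_iff.1 rc_1535)
  have h := forall_lt_add h (allFrom_iff.1 rc_1568)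
  have h := forall_lt_add h (allFrom_iff.1 rc_1602)
  have h := forall_lt_add h (allFrom_iff.1 rc_1633)
  have h := forall_lt_add h (allFrom_iff.1 rc_1666)
  have h := forall_lt_add h (allFrom_iff.1 rc_1699)
  have h := forall_lt_add h (allFrom_iff.1 rc_1731)
  have h := forall_lt_add h (allFrom_iff.1 rc_1764)
  have h := forall_lt_add h (allFrom_iff.1 rc_1798)
  have h := forall_lt_add h (allFrom_iff.1 rc_1832)
  have h := forall_lt_add h (allFrom_iff.1 rc_1864)
  have h := forall_lt_add h (allFrom_iff.1 rc_1897)
  have h := forall_lt_add h (allFrom_iff.1 rc_1931)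
  have h := forall_lt_add h (allFrom_iff.1 rc_1964)
  have h := forall_lt_add h (allFrom_iff.1 rc_1998)
  have h := forall_lt_add h (allFrom_iff.1 rc_2032)
  have h := forall_lt_add h (allFrom_iff.1 rc_2066)
  have h := forall_lt_add h (allFrom_iff.1 rc_2098)
  have h := forall_lt_add h (allFrom_iff.1 rc_2132)
  have h := forall_lt_add h (allFrom_iff.1 rc_2167)
  have h := forall_lt_add h (allFrom_iff.1 rc_2200)
  have h := forall_lt_add h (allFrom_iff.1 rc_2233)
  exact h
end CF.Schur.F42
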