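import Cfsg.Agent.Schur.Fi24M

set_option autoImplicit false
set_option maxRecDepth 1000000
set_option maxHeartbeats 0
set_option Elab.async false

namespace CF.Schur.Fi24

open CF.Comp CF.Schur.Pc Cfsg CF.Comp.Fi24

noncomputable def Wx5 : List (List Nat) := [[(nat_lit 11), (nat_lit 7), (nat_lit 6), (nat_lit 5), (nat_lit 10), (nat_lit 4), (nat_lit 5), (nat_lit 6), (nat_lit 7), (nat_lit 3), (nat_lit 4), (nat_lit 5), (nat_lit 6), (nat_lit 2), (nat_lit 3), (nat_lit 4), (nat_lit 5), (nat_lit 10), (nat_lit 11), (nat_lit 6), (nat_lit 7), (nat_lit 5), (nat_lit 6), (nat_lit 2), (nat_lit 3), (nat_lit 4), (nat_lit 5), (nat_lit 10), (nat_lit 9), (nat_lit 8), (nat_lit 7), (nat_lit 6), (nat_lit 5), (nat_lit 4), (nat_lit 3), (nat_lit 2), (nat_lit 1), (nat_lit 7), (nat_lit 5), (nat_lit 6), (nat_lit 3), (nat_lit 4), (nat_lit 5), (nat_lit 10), (nat_lit 11), (nat_lit 10), (nat_lit 9), (nat_lit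 8), (nat_lit 6), (nat_lit 7), (nat_lit 5), (nat_lit 6), (nat_lit 4), (nat_lit 5), (nat_lit 10), (nat_lit 2), (nat_lit 3), (nat_lit 4), (nat_lit 5), (nat_lit 6), (nat_lit 7), (nat_lit 8), (nat_lit 9), (nat_lit 11), (nat_lit 10), (nat_lit 7), (nat_lit 8), (nat_lit 6), (nat_lit 7), (nat_lit 5), (nat_lit 6), (nat_lit 3), (nat_lit 4), (nat_lit 5), (nat_lit 10), (nat_lit 11), (nat_lit 10), (nat_lit 7), (nat_lit 4), (nat_lit 5), (nat_lit 6), (nat_lit 3), (nat_lit 4), (nat_lit 5), (nat_lit 10), (nat_lit 2), (nat_lit 3), (nat_lit 4), (nat_lit 5), (nat_lit 6), (nat_lit 7), (nat_lit 8), (nat_lit 4), (nat_lit 5), (nat_lit 6), (nat_lit 2), (nat_lit 3), (nat_lit 4), (nat_lit 5), (nat_lit 10), (nat_lit 11), (nat_lit 6), (nat_lit 2), (nat_lit 3), (nat_lit 4), (nat_lit 5), (nat_lit 10), (nat_lit 4), (nat_lit 5), (nat_lit 6), (nat_lit 7), (nat_lit 3), (nat_lit 4), (nat_lit 5), (nat_lit 6),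 (nat_lit 2), (nat_lit 3), (nat_lit 4), (nat_lit 5), (nat_lit 10), (nat_lit 11), (nat_lit 6), (nat_lit 5), (nat_lit 4), (nat_lit 3), (nat_lit 2), (nat_lit 5), (nat_lit 10), (nat_lit 4), (nat_lit 5), (nat_lit 6), (nat_lit 3), (nat_lit 4), (nat_lit 5), (nat_lit 10), (nat_lit 7), (nat_lit 6), (nat_lit 5), (nat_lit 4), (nat_lit 3), (nat_lit 7), (nat_lit 6), (nat_lit 5), (nat_lit 10), (nat_lit 4), (nat_lit 5), (nat_lit 6), (nat_lit 7), (nat_lit 5), (nat_lit 6), (nat_lit 0), (nat_lit 9), (nat_lit 8), (nat_lit 7), (nat_lit 6), (nat_lit 5), (nat_lit 10), (nat_lit 4), (nat_lit 5), (nat_lit 6), (nat_lit 3), (nat_lit 4), (nat_lit 5), (nat_lit 10), (nat_lit 7), (nat_lit 8), (nat_lit 6), (nat_lit 7), (nat_lit 5), (nat_lit 6), (nat_lit 4), (nat_lit 5), (nat_lit 10), (nat_lit 9), (nat_lit 8), (nat_lit 7), (nat_lit 6), (nat_lit 5), (nat_lit 4), (nat_lit 2), (nat_lit 3), (nat_lit 1), (nat_lit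 2), (nat_lit 0), (nat_lit 1), (nat_lit 0), (nat_lit 1), (nat_lit 0), (nat_lit 2), (nat_lit 1), (nat_lit 3), (nat_lit 2), (nat_lit 4), (nat_lit 5), (nat_lit 6), (nat_lit 7), (nat_lit 8), (nat_lit 9), (nat_lit 10), (nat_lit 5), (nat_lit 4), (nat_lit 6), (nat_lit 5), (nat_lit 7), (nat_lit 6), (nat_lit 8), (nat_lit 7), (nat_lit 10), (nat_lit 5), (nat_lit 4), (nat_lit 3), (nat_lit 6), (nat_lit 5), (nat_lit 4), (nat_lit 10), (nat_lit 5), (nat_lit 6), (nat_lit 7), (nat_lit 8), (nat_lit 9)],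
  [(nat_lit 6), (nat_lit 5), (nat_lit 10), (nat_lit 6), (nat_lit 7), (nat_lit 4), (nat_lit 5), (nat_lit 6), (nat_lit 2), (nat_lit 3), (nat_lit 4), (nat_lit 5), (nat_lit 10), (nat_lit 7), (nat_lit 8), (nat_lit 5), (nat_lit 6), (nat_lit 7), (nat_lit 3), (nat_lit 4), (nat_lit 5), (nat_lit 6), (nat_lit 2), (nat_lit 3), (nat_lit 4), (nat_lit 5), (nat_lit 10), (nat_lit 11), (nat_lit 7), (nat_lit 5), (nat_lit 6), (nat_lit 3), (nat_lit 4), (nat_lit 5), (nat_lit 10), (nat_lit 9), (nat_lit 8), (nat_lit 7), (nat_lit 6), (nat_lit 5), (nat_lit 4), (nat_lit 3), (nat_lit 2), (nat_lit 0), (nat_lit 1), (nat_lit 2), (nat_lit 3), (nat_lit 4), (nat_lit 5), (nat_lit 10), (nat_lit 11), (nat_lit 6), (nat_lit 3), (nat_lit 4), (nat_lit 5), (nat_lit 10), (nat_lit 7), (nat_lit 8), (nat_lit 5), (nat_lit 6), (nat_lit 7), (nat_lit 4), (nat_lit 5), (nat_lit 6), (nat_lit 3), (nat_lit 4), (nat_lit 5), (nat_lit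 10), (nat_lit 11), (nat_lit 7), (nat_lit 4), (nat_lit 5), (nat_lit 6), (nat_lit 3), (nat_lit 4), (nat_lit 5), (nat_lit 10), (nat_lit 2), (nat_lit 3), (nat_lit 4), (nat_lit 5), (nat_lit 6), (nat_lit 7), (nat_lit 8), (nat_lit 9), (nat_lit 10), (nat_lit 11), (nat_lit 6), (nat_lit 3), (nat_lit 4), (nat_lit 5), (nat_lit 10), (nat_lit 6), (nat_lit 7), (nat_lit 8), (nat_lit 5), (nat_lit 6), (nat_lit 7), (nat_lit 4), (nat_lit 5), (nat_lit 6), (nat_lit 3), (nat_lit 4), (nat_lit 5), (nat_lit 10), (nat_lit 11), (nat_lit 8), (nat_lit 7), (nat_lit 4), (nat_lit 5), (nat_lit 6), (nat_lit 3), (nat_lit 4), (nat_lit 5), (nat_lit 10), (nat_lit 2), (nat_lit 3), (nat_lit 4), (nat_lit 5), (nat_lit 6), (nat_lit 7), (nat_lit 8), (nat_lit 4), (nat_lit 5), (nat_lit 10), (nat_lit 11), (nat_lit 7), (nat_lit 6), (nat_lit 4), (nat_lit 5), (nat_lit 10), (nat_lit 5), (nat_lit 6), (nat_lit 7), (nat_lit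 4), (nat_lit 5), (nat_lit 6), (nat_lit 2), (nat_lit 3), (nat_lit 4), (nat_lit 5), (nat_lit 10), (nat_lit 11), (nat_lit 5), (nat_lit 6), (nat_lit 4), (nat_lit 5), (nat_lit 10), (nat_lit 7), (nat_lit 6), (nat_lit 5), (nat_lit 4), (nat_lit 3), (nat_lit 2), (nat_lit 10), (nat_lit 5), (nat_lit 6), (nat_lit 4), (nat_lit 5), (nat_lit 10), (nat_lit 7), (nat_lit 6), (nat_lit 5), (nat_lit 4), (nat_lit 3), (nat_lit 7), (nat_lit 5), (nat_lit 6), (nat_lit 4), (nat_lit 5), (nat_lit 10), (nat_lit 6), (nat_lit 7), (nat_lit 5), (nat_lit 6), (nat_lit 9), (nat_lit 8), (nat_lit 7), (nat_lit 6), (nat_lit 5), (nat_lit 10), (nat_lit 4), (nat_lit 5), (nat_lit 6), (nat_lit 3), (nat_lit 4), (nat_lit 5), (nat_lit 10), (nat_lit 7), (nat_lit 8), (nat_lit 6), (nat_lit 7), (nat_lit 5), (nat_lit 6), (nat_lit 4), (nat_lit 5), (nat_lit 10), (nat_lit 9), (nat_lit 8), (nat_lit 7), (nat_lit 6), (nat_lit 5),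 (nat_lit 4), (nat_lit 2), (nat_lit 3), (nat_lit 1), (nat_lit 2), (nat_lit 0), (nat_lit 1), (nat_lit 0), (nat_lit 1), (nat_lit 0), (nat_lit 2), (nat_lit 1), (nat_lit 3), (nat_lit 2), (nat_lit 4), (nat_lit 5), (nat_lit 6), (nat_lit 7), (nat_lit 8), (nat_lit 9), (nat_lit 10), (nat_lit 5), (nat_lit 4), (nat_lit 6), (nat_lit 5), (nat_lit 7), (nat_lit 6), (nat_lit 8), (nat_lit 7), (nat_lit 10), (nat_lit 5), (nat_lit 4), (nat_lit 3), (nat_lit 6), (nat_lit 5), (nat_lit 4), (nat_lit 10), (nat_lit 5), (nat_lit 6), (nat_lit 7), (nat_lit 8), (nat_lit 9)],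
  [(nat_lit 6), (nat_lit 7), (nat_lit 1), (nat_lit 2), (nat_lit 3), (nat_lit 4), (nat_lit 5), (nat_lit 6), (nat_lit 0), (nat_lit 1), (nat_lit 2), (nat_lit 3), (nat_lit 4), (nat_lit 5), (nat_lit 10), (nat_lit 11), (nat_lit 8), (nat_lit 7), (nat_lit 5), (nat_lit 6), (nat_lit 2), (nat_lit 3), (nat_lit 4), (nat_lit 5), (nat_lit 10), (nat_lit 9), (nat_lit 8), (nat_lit 7), (nat_lit 6), (nat_lit 5), (nat_lit 4), (nat_lit 3), (nat_lit 2), (nat_lit 1), (nat_lit 8), (nat_lit 9), (nat_lit 7), (nat_lit 8), (nat_lit 6), (nat_lit 7), (nat_lit 4), (nat_lit 5), (nat_lit 6), (nat_lit 3), (nat_lit 4), (nat_lit 5), (nat_lit 10), (nat_lit 11), (nat_lit 10), (nat_lit 6), (nat_lit 7), (nat_lit 4), (nat_lit 5), (nat_lit 6), (nat_lit 3), (nat_lit 4), (nat_lit 5), (nat_lit 10), (nat_lit 2), (nat_lit 3), (nat_lit 4), (nat_lit 5), (nat_lit 6), (nat_lit 7), (nat_lit 8), (nat_lit 9), (nat_lit 10), (nat_lit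 11), (nat_lit 7), (nat_lit 6), (nat_lit 3), (nat_lit 4), (nat_lit 5), (nat_lit 10), (nat_lit 6), (nat_lit 7), (nat_lit 4), (nat_lit 5), (nat_lit 6), (nat_lit 3), (nat_lit 4), (nat_lit 5), (nat_lit 10), (nat_lit 11), (nat_lit 7), (nat_lit 6), (nat_lit 3), (nat_lit 4), (nat_lit 5), (nat_lit 10), (nat_lit 2), (nat_lit 3), (nat_lit 4), (nat_lit 5), (nat_lit 6), (nat_lit 7), (nat_lit 8), (nat_lit 11), (nat_lit 6), (nat_lit 2), (nat_lit 3), (nat_lit 4), (nat_lit 5), (nat_lit 10), (nat_lit 6), (nat_lit 7), (nat_lit 3), (nat_lit 4), (nat_lit 5), (nat_lit 6), (nat_lit 2), (nat_lit 3), (nat_lit 4), (nat_lit 5), (nat_lit 10), (nat_lit 11), (nat_lit 5), (nat_lit 6), (nat_lit 2), (nat_lit 3), (nat_lit 4), (nat_lit 5), (nat_lit 10), (nat_lit 7), (nat_lit 6), (nat_lit 5), (nat_lit 4), (nat_lit 3), (nat_lit 2), (nat_lit 5), (nat_lit 6), (nat_lit 4), (nat_lit 5), (nat_lit 10), (nat_lit 7),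 (nat_lit 6), (nat_lit 5), (nat_lit 4), (nat_lit 3), (nat_lit 5), (nat_lit 6), (nat_lit 4), (nat_lit 5), (nat_lit 10), (nat_lit 5), (nat_lit 6), (nat_lit 7), (nat_lit 4), (nat_lit 5), (nat_lit 0)],
  [(nat_lit 9), (nat_lit 8), (nat_lit 7), (nat_lit 6), (nat_lit 3), (nat_lit 4), (nat_lit 5), (nat_lit 10), (nat_lit 11), (nat_lit 8), (nat_lit 7), (nat_lit 5), (nat_lit 6), (nat_lit 4), (nat_lit 5), (nat_lit 10), (nat_lit 9), (nat_lit 8), (nat_lit 7), (nat_lit 6), (nat_lit 5), (nat_lit 4), (nat_lit 3), (nat_lit 2), (nat_lit 1), (nat_lit 6), (nat_lit 7), (nat_lit 4), (nat_lit 5), (nat_lit 6), (nat_lit 3), (nat_lit 4), (nat_lit 5), (nat_lit 10), (nat_lit 11), (nat_lit 10), (nat_lit 4), (nat_lit 5), (nat_lit 6), (nat_lit 3), (nat_lit 4), (nat_lit 5), (nat_lit 10), (nat_lit 2), (nat_lit 3), (nat_lit 4), (nat_lit 5), (nat_lit 6), (nat_lit 7), (nat_lit 8), (nat_lit 9), (nat_lit 4),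 (nat_lit 5), (nat_lit 10), (nat_lit 6), (nat_lit 7), (nat_lit 3), (nat_lit 4), (nat_lit 5), (nat_lit 6), (nat_lit 2), (nat_lit 3), (nat_lit 4), (nat_lit 5), (nat_lit 10), (nat_lit 11), (nat_lit 7), (nat_lit 4), (nat_lit 5), (nat_lit 6), (nat_lit 3), (nat_lit 4), (nat_lit 5), (nat_lit 10), (nat_lit 2), (nat_lit 3), (nat_lit 4), (nat_lit 5), (nat_lit 6), (nat_lit 7), (nat_lit 8), (nat_lit 6), (nat_lit 5), (nat_lit 10), (nat_lit 11), (nat_lit 6), (nat_lit 3), (nat_lit 4), (nat_lit 5), (nat_lit 10), (nat_lit 5), (nat_lit 6), (nat_lit 7), (nat_lit 3), (nat_lit 4), (nat_lit 5), (nat_lit 6), (nat_lit 2), (nat_lit 3), (nat_lit 4), (nat_lit 5), (nat_lit 10), (nat_lit 11), (nat_lit 4), (nat_lit 3), (nat_lit 2), (nat_lit 10), (nat_lit 6), (nat_lit 5), (nat_lit 4), (nat_lit 3), (nat_lit 5), (nat_lit 10), (nat_lit 7), (nat_lit 5), (nat_lit 6), (nat_lit 4), (nat_lit 0)]]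

noncomputable def Px5 : Dat := ⟨(nat_lit 5), (nat_lit 2), (nat_lit 7), (nat_lit 4), (nat_lit 7),
  (BT.node (nat_lit 1) (BT.leaf []) (BT.node (nat_lit 2) (BT.leaf [(nat_lit 1)]) (BT.leaf []))),
  [⟨(nat_lit 0), [(nat_lit 0)], [(nat_lit 1), (nat_lit 1)]⟩,
  ⟨(nat_lit 1), [(nat_lit 1)], [(nat_lit 0), (nat_lit 0), (nat_lit 1), (nat_lit 1)]⟩,
  ⟨(nat_lit 1), [(nat_lit 0)], [(nat_lit 0), (nat_lit 0), (nat_lit 0), (nat_lit 1), (nat_lit 1)]⟩,
  ⟨(nat_lit 0), [(nat_lit 1)], [(nat_lit 0), (nat_lit 0), (nat_lit 1)]⟩]⟩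

noncomputable def Xx5_0 : List Test := [⟨(nat_lit 1), [(nat_lit 0), (nat_lit 0), (nat_lit 0), (nat_lit 0), (nat_lit 0)], [], (nat_lit 0x8080040000000)⟩,
  ⟨(nat_lit 2), [(nat_lit 1), (nat_lit 2)], [(nat_lit 2), (nat_lit 1)], (nat_lit 0x2000800000000)⟩,
  ⟨(nat_lit 1), [(nat_lit 3), (nat_lit 3), (nat_lit 3), (nat_lit 3), (nat_lit 3)], [], (nat_lit 0x4000020000000)⟩]

noncomputable def cx5 : Cert := ⟨Px5, (nat_lit 0), Xx5_0,
  [],
  [(nat_lit 0),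
  (nat_lit 0)],
  (BT.node (nat_lit 1) (BT.leaf (nat_lit 50)) (BT.node (nat_lit 2) (BT.leaf (nat_lit 20)) (BT.leaf (nat_lit 27))))⟩

theorem okx5 : cx5.OK := Cert.ok_of_check (by decide) (by decide +kernel)


noncomputable def Lx5 : List Lvl := [⟨(nat_lit 5917), [[(nat_lit 3)]], (nat_lit 5)⟩,
  ⟨(nat_lit 0), [[(nat_lit 1), (nat_lit 3), (nat_lit 3), (nat_lit 3)]], (nat_lit 5)⟩]

noncomputable def gx5 : List (List Nat) := [[(nat_lit 5)],
  [(nat_lit 7)]]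

theorem hx5_0 : allFrom (relRow (sameT (apW ap Wx5) bs1) 0 Px5) 0 2 = true := by decide +kernel

theorem hx5 : ∀ j < 2, relRow (sameT (apW ap Wx5) bs1) 0 Px5 j = true := by
  have h : ∀ j < 0, relRow (sameT (apW ap Wx5) bs1) 0 Px5 j = true := by simp
  have h := forall_lt_add h (allFrom_iff.1 hx5_0)
  exact h

theorem ppx5_0 : allFrom (atNo (prAt (sameT (apW ap Wx5) bs1) 0 gx5) Px5.prs) 0 4 = true := by decide +kernel

theorem ppx5 : ∀ j < 4, atNo (prAt (sameT (apW ap Wx5) bs1) 0 gx5) Px5.prs j = true := by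
  have h : ∀ j < 0, atNo (prAt (sameT (apW ap Wx5) bs1) 0 gx5) Px5.prs j = true := by simp
  have h := forall_lt_add h (allFrom_iff.1 ppx5_0)
  exact h

theorem px5 : lall (prAt (sameT (apW ap Wx5) bs1) 0 gx5) Px5.prs = true := lall_of_atNo (by decide +kernel) ppx5

theorem lx5_0 : allFrom (lvlT (apW ap Wx5) 4 306938 Lx5) 0 2 = true := by decide +kernel

theorem lx5 : ∀ j < 2, lvlT (apW ap Wx5) 4 306938 Lx5 j = true := by
  have h : ∀ j < 0, lvlT (apW ap Wx5) 4 306938 Lx5 j = true := by simp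
  have h := forall_lt_add h (allFrom_iff.1 lx5_0)
  exact h

theorem pbdx5 : PBd K 5 1 :=
  (mdl (W := Wx5) (by decide +kernel) (by decide +kernel)).pbd okx5 (gs := gx5) hx5 px5 (by decide +kernel) lx5 cardK
    (by decide) rfl rfl

end CF.Schur.Fi24
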