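import Cfsg.Agent.Schur.Fi24M

set_option autoImplicit false
set_option maxRecDepth 1000000
set_option maxHeartbeats 0
set_option Elab.async false

namespace CF.Schur.Fi24

open CF.Comp CF.Schur.Pc Cfsg CF.Comp.Fi24

noncomputable def Wx7 : List (List Nat) := [[(nat_lit 11), (nat_lit 5), (nat_lit 10), (nat_lit 7), (nat_lit 3), (nat_lit 4), (nat_lit 5), (nat_lit 6), (nat_lit 2), (nat_lit 3), (nat_lit 4), (nat_lit 5), (nat_lit 10), (nat_lit 11), (nat_lit 8), (nat_lit 6), (nat_lit 7), (nat_lit 4), (nat_lit 5), (nat_lit 6), (nat_lit 3), (nat_lit 4), (nat_lit 5), (nat_lit 10), (nat_lit 9), (nat_lit 8), (nat_lit 7), (nat_lit 6), (nat_lit 5), (nat_lit 4), (nat_lit 3), (nat_lit 2), (nat_lit 0), (nat_lit 1), (nat_lit 5), (nat_lit 10), (nat_lit 7), (nat_lit 4), (nat_lit 5), (nat_lit 6), (nat_lit 2), (nat_lit 3), (nat_lit 4), (nat_lit 5), (nat_lit 10), (nat_lit 11), (nat_lit 5), (nat_lit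 6), (nat_lit 7), (nat_lit 4), (nat_lit 5), (nat_lit 6), (nat_lit 3), (nat_lit 4), (nat_lit 5), (nat_lit 10), (nat_lit 2), (nat_lit 3), (nat_lit 4), (nat_lit 5), (nat_lit 6), (nat_lit 7), (nat_lit 8), (nat_lit 9), (nat_lit 10), (nat_lit 11), (nat_lit 8), (nat_lit 7), (nat_lit 6), (nat_lit 4), (nat_lit 5), (nat_lit 10), (nat_lit 6), (nat_lit 7), (nat_lit 4), (nat_lit 5), (nat_lit 6), (nat_lit 3), (nat_lit 4), (nat_lit 5), (nat_lit 10), (nat_lit 11), (nat_lit 7), (nat_lit 6), (nat_lit 3), (nat_lit 4), (nat_lit 5), (nat_lit 10), (nat_lit 2), (nat_lit 3), (nat_lit 4), (nat_lit 5), (nat_lit 6), (nat_lit 7), (nat_lit 8), (nat_lit 6), (nat_lit 7), (nat_lit 5), (nat_lit 6), (nat_lit 3), (nat_lit 4), (nat_lit 5), (nat_lit 10), (nat_lit 11), (nat_lit 5), (nat_lit 6), (nat_lit 2), (nat_lit 3), (nat_lit 4), (nat_lit 5), (nat_lit 10), (nat_lit 6), (nat_lit 7), (nat_lit 3), (nat_lit 4),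 (nat_lit 5), (nat_lit 6), (nat_lit 2), (nat_lit 3), (nat_lit 4), (nat_lit 5), (nat_lit 10), (nat_lit 11), (nat_lit 5), (nat_lit 4), (nat_lit 3), (nat_lit 2), (nat_lit 3), (nat_lit 4), (nat_lit 5), (nat_lit 10), (nat_lit 7), (nat_lit 6), (nat_lit 5), (nat_lit 4), (nat_lit 3), (nat_lit 7), (nat_lit 6), (nat_lit 5), (nat_lit 10), (nat_lit 7), (nat_lit 4), (nat_lit 5), (nat_lit 6), (nat_lit 4), (nat_lit 5)],
  [(nat_lit 7), (nat_lit 5), (nat_lit 6), (nat_lit 4), (nat_lit 5), (nat_lit 10), (nat_lit 11), (nat_lit 7), (nat_lit 5), (nat_lit 6), (nat_lit 4), (nat_lit 5), (nat_lit 10), (nat_lit 7), (nat_lit 8), (nat_lit 6), (nat_lit 7), (nat_lit 4), (nat_lit 5), (nat_lit 6), (nat_lit 2), (nat_lit 3), (nat_lit 4), (nat_lit 5), (nat_lit 10), (nat_lit 11), (nat_lit 8), (nat_lit 7), (nat_lit 4), (nat_lit 5), (nat_lit 6), (nat_lit 3), (nat_lit 4), (nat_lit 5), (nat_lit 10), (nat_lit 9),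 (nat_lit 8), (nat_lit 7), (nat_lit 6), (nat_lit 5), (nat_lit 4), (nat_lit 3), (nat_lit 1), (nat_lit 2), (nat_lit 0), (nat_lit 1), (nat_lit 5), (nat_lit 6), (nat_lit 4), (nat_lit 5), (nat_lit 10), (nat_lit 11), (nat_lit 6), (nat_lit 3), (nat_lit 4), (nat_lit 5), (nat_lit 10), (nat_lit 6), (nat_lit 7), (nat_lit 8), (nat_lit 5), (nat_lit 6), (nat_lit 7), (nat_lit 4), (nat_lit 5), (nat_lit 6), (nat_lit 3), (nat_lit 4), (nat_lit 5), (nat_lit 10), (nat_lit 11), (nat_lit 6), (nat_lit 7), (nat_lit 4), (nat_lit 5), (nat_lit 6), (nat_lit 3), (nat_lit 4), (nat_lit 5), (nat_lit 10), (nat_lit 2), (nat_lit 3), (nat_lit 4), (nat_lit 5), (nat_lit 6), (nat_lit 7), (nat_lit 8), (nat_lit 9), (nat_lit 11), (nat_lit 10), (nat_lit 5), (nat_lit 6), (nat_lit 3), (nat_lit 4), (nat_lit 5), (nat_lit 10), (nat_lit 11), (nat_lit 7), (nat_lit 6), (nat_lit 4), (nat_lit 5), (nat_lit 10), (nat_lit 7),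 (nat_lit 8), (nat_lit 6), (nat_lit 7), (nat_lit 4), (nat_lit 5), (nat_lit 6), (nat_lit 3), (nat_lit 4), (nat_lit 5), (nat_lit 10), (nat_lit 11), (nat_lit 8), (nat_lit 7), (nat_lit 4), (nat_lit 5), (nat_lit 6), (nat_lit 3), (nat_lit 4), (nat_lit 5), (nat_lit 10), (nat_lit 2), (nat_lit 3), (nat_lit 4), (nat_lit 5), (nat_lit 6), (nat_lit 7), (nat_lit 8), (nat_lit 5), (nat_lit 6), (nat_lit 4), (nat_lit 5), (nat_lit 10), (nat_lit 3), (nat_lit 4), (nat_lit 5), (nat_lit 6), (nat_lit 2), (nat_lit 3), (nat_lit 4), (nat_lit 5), (nat_lit 10), (nat_lit 11), (nat_lit 10), (nat_lit 7), (nat_lit 6), (nat_lit 5), (nat_lit 4), (nat_lit 3), (nat_lit 2), (nat_lit 10), (nat_lit 5), (nat_lit 4), (nat_lit 3), (nat_lit 4), (nat_lit 5), (nat_lit 10), (nat_lit 5), (nat_lit 6), (nat_lit 4), (nat_lit 5), (nat_lit 9), (nat_lit 8), (nat_lit 7), (nat_lit 6), (nat_lit 5), (nat_lit 10), (nat_lit 4), (nat_lit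 5), (nat_lit 6), (nat_lit 3), (nat_lit 4), (nat_lit 5), (nat_lit 10), (nat_lit 7), (nat_lit 8), (nat_lit 6), (nat_lit 7), (nat_lit 5), (nat_lit 6), (nat_lit 4), (nat_lit 5), (nat_lit 10), (nat_lit 9), (nat_lit 8), (nat_lit 7), (nat_lit 6), (nat_lit 5), (nat_lit 4), (nat_lit 2), (nat_lit 3), (nat_lit 1), (nat_lit 2), (nat_lit 0), (nat_lit 1), (nat_lit 0), (nat_lit 1), (nat_lit 0), (nat_lit 2), (nat_lit 1), (nat_lit 3), (nat_lit 2), (nat_lit 4), (nat_lit 5), (nat_lit 6), (nat_lit 7), (nat_lit 8), (nat_lit 9), (nat_lit 10), (nat_lit 5), (nat_lit 4), (nat_lit 6), (nat_lit 5), (nat_lit 7), (nat_lit 6), (nat_lit 8), (nat_lit 7), (nat_lit 10), (nat_lit 5), (nat_lit 4), (nat_lit 3), (nat_lit 6), (nat_lit 5), (nat_lit 4), (nat_lit 10), (nat_lit 5), (nat_lit 6), (nat_lit 7), (nat_lit 8), (nat_lit 9)],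
  [(nat_lit 11), (nat_lit 5), (nat_lit 10), (nat_lit 8), (nat_lit 9), (nat_lit 7), (nat_lit 8), (nat_lit 5), (nat_lit 6), (nat_lit 7), (nat_lit 4), (nat_lit 5), (nat_lit 6), (nat_lit 2), (nat_lit 3), (nat_lit 4), (nat_lit 5), (nat_lit 10), (nat_lit 11), (nat_lit 6), (nat_lit 7), (nat_lit 5), (nat_lit 6), (nat_lit 3), (nat_lit 4), (nat_lit 5), (nat_lit 10), (nat_lit 9), (nat_lit 8), (nat_lit 7), (nat_lit 6), (nat_lit 5), (nat_lit 4), (nat_lit 3), (nat_lit 2), (nat_lit 1), (nat_lit 5), (nat_lit 6), (nat_lit 7), (nat_lit 4), (nat_lit 5), (nat_lit 6), (nat_lit 3), (nat_lit 4), (nat_lit 5), (nat_lit 10), (nat_lit 11), (nat_lit 9), (nat_lit 8), (nat_lit 6), (nat_lit 7), (nat_lit 5), (nat_lit 6), (nat_lit 3), (nat_lit 4), (nat_lit 5), (nat_lit 10), (nat_lit 2), (nat_lit 3), (nat_lit 4), (nat_lit 5), (nat_lit 6), (nat_lit 7), (nat_lit 8), (nat_lit 9), (nat_lit 10), (nat_lit 7),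 (nat_lit 8), (nat_lit 6), (nat_lit 7), (nat_lit 5), (nat_lit 6), (nat_lit 2), (nat_lit 3), (nat_lit 4), (nat_lit 5), (nat_lit 10), (nat_lit 11), (nat_lit 7), (nat_lit 4), (nat_lit 5), (nat_lit 6), (nat_lit 3), (nat_lit 4), (nat_lit 5), (nat_lit 10), (nat_lit 2), (nat_lit 3), (nat_lit 4), (nat_lit 5), (nat_lit 6), (nat_lit 7), (nat_lit 8), (nat_lit 6), (nat_lit 3), (nat_lit 4), (nat_lit 5), (nat_lit 10), (nat_lit 11), (nat_lit 10), (nat_lit 5), (nat_lit 6), (nat_lit 2), (nat_lit 3), (nat_lit 4), (nat_lit 5), (nat_lit 10), (nat_lit 5), (nat_lit 6), (nat_lit 7), (nat_lit 3), (nat_lit 4), (nat_lit 5), (nat_lit 6), (nat_lit 2), (nat_lit 3), (nat_lit 4), (nat_lit 5), (nat_lit 10), (nat_lit 11), (nat_lit 7), (nat_lit 6), (nat_lit 5), (nat_lit 4), (nat_lit 3), (nat_lit 2), (nat_lit 4), (nat_lit 5), (nat_lit 10), (nat_lit 7), (nat_lit 6), (nat_lit 5), (nat_lit 4), (nat_lit 3), (nat_lit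 5), (nat_lit 10), (nat_lit 5), (nat_lit 6), (nat_lit 7), (nat_lit 5), (nat_lit 6), (nat_lit 9), (nat_lit 8), (nat_lit 7), (nat_lit 6), (nat_lit 5), (nat_lit 10), (nat_lit 4), (nat_lit 5), (nat_lit 6), (nat_lit 3), (nat_lit 4), (nat_lit 5), (nat_lit 10), (nat_lit 7), (nat_lit 8), (nat_lit 6), (nat_lit 7), (nat_lit 5), (nat_lit 6), (nat_lit 4), (nat_lit 5), (nat_lit 10), (nat_lit 9), (nat_lit 8), (nat_lit 7), (nat_lit 6), (nat_lit 5), (nat_lit 4), (nat_lit 2), (nat_lit 3), (nat_lit 1), (nat_lit 2), (nat_lit 0), (nat_lit 1), (nat_lit 0), (nat_lit 1), (nat_lit 0), (nat_lit 2), (nat_lit 1), (nat_lit 3), (nat_lit 2), (nat_lit 4), (nat_lit 5), (nat_lit 6), (nat_lit 7), (nat_lit 8), (nat_lit 9), (nat_lit 10), (nat_lit 5), (nat_lit 4), (nat_lit 6), (nat_lit 5), (nat_lit 7), (nat_lit 6), (nat_lit 8), (nat_lit 7), (nat_lit 10), (nat_lit 5), (nat_lit 4), (nat_lit 3), (nat_lit 6), (nat_lit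 5), (nat_lit 4), (nat_lit 10), (nat_lit 5), (nat_lit 6), (nat_lit 7), (nat_lit 8), (nat_lit 9)],
  [(nat_lit 6), (nat_lit 4), (nat_lit 5), (nat_lit 10), (nat_lit 7), (nat_lit 8), (nat_lit 5), (nat_lit 6), (nat_lit 7), (nat_lit 4), (nat_lit 5), (nat_lit 6), (nat_lit 3), (nat_lit 4), (nat_lit 5), (nat_lit 10), (nat_lit 11), (nat_lit 6), (nat_lit 7), (nat_lit 5), (nat_lit 6), (nat_lit 2), (nat_lit 3), (nat_lit 4), (nat_lit 5), (nat_lit 10), (nat_lit 9), (nat_lit 8), (nat_lit 7), (nat_lit 6), (nat_lit 5), (nat_lit 4), (nat_lit 3), (nat_lit 2), (nat_lit 1), (nat_lit 8), (nat_lit 6), (nat_lit 7), (nat_lit 5), (nat_lit 6), (nat_lit 4), (nat_lit 5), (nat_lit 10), (nat_lit 11), (nat_lit 8), (nat_lit 6), (nat_lit 7), (nat_lit 5), (nat_lit 6), (nat_lit 3), (nat_lit 4), (nat_lit 5), (nat_lit 10), (nat_lit 2), (nat_lit 3), (nat_lit 4), (nat_lit 5), (nat_lit 6), (nat_lit 7), (nat_lit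 8), (nat_lit 9), (nat_lit 6), (nat_lit 7), (nat_lit 4), (nat_lit 5), (nat_lit 6), (nat_lit 3), (nat_lit 4), (nat_lit 5), (nat_lit 10), (nat_lit 11), (nat_lit 5), (nat_lit 6), (nat_lit 4), (nat_lit 5), (nat_lit 10), (nat_lit 2), (nat_lit 3), (nat_lit 4), (nat_lit 5), (nat_lit 6), (nat_lit 7), (nat_lit 8), (nat_lit 5), (nat_lit 10), (nat_lit 11), (nat_lit 4), (nat_lit 5), (nat_lit 10), (nat_lit 6), (nat_lit 7), (nat_lit 4), (nat_lit 5), (nat_lit 6), (nat_lit 3), (nat_lit 4), (nat_lit 5), (nat_lit 10), (nat_lit 11), (nat_lit 2), (nat_lit 3), (nat_lit 4), (nat_lit 5), (nat_lit 10), (nat_lit 7), (nat_lit 6), (nat_lit 5), (nat_lit 4), (nat_lit 3), (nat_lit 4), (nat_lit 5), (nat_lit 10), (nat_lit 6), (nat_lit 7), (nat_lit 5), (nat_lit 6), (nat_lit 4), (nat_lit 5), (nat_lit 10), (nat_lit 7), (nat_lit 5), (nat_lit 9), (nat_lit 8), (nat_lit 7), (nat_lit 6), (nat_lit 5), (nat_lit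 10), (nat_lit 4), (nat_lit 5), (nat_lit 6), (nat_lit 3), (nat_lit 4), (nat_lit 5), (nat_lit 10), (nat_lit 7), (nat_lit 8), (nat_lit 6), (nat_lit 7), (nat_lit 5), (nat_lit 6), (nat_lit 4), (nat_lit 5), (nat_lit 10), (nat_lit 9), (nat_lit 8), (nat_lit 7), (nat_lit 6), (nat_lit 5), (nat_lit 4), (nat_lit 2), (nat_lit 3), (nat_lit 1), (nat_lit 2), (nat_lit 0), (nat_lit 1), (nat_lit 0), (nat_lit 1), (nat_lit 0), (nat_lit 2), (nat_lit 1), (nat_lit 3), (nat_lit 2), (nat_lit 4), (nat_lit 5), (nat_lit 6), (nat_lit 7), (nat_lit 8), (nat_lit 9), (nat_lit 10), (nat_lit 5), (nat_lit 4), (nat_lit 6), (nat_lit 5), (nat_lit 7), (nat_lit 6), (nat_lit 8), (nat_lit 7), (nat_lit 10), (nat_lit 5), (nat_lit 4), (nat_lit 3), (nat_lit 6), (nat_lit 5), (nat_lit 4), (nat_lit 10), (nat_lit 5), (nat_lit 6), (nat_lit 7), (nat_lit 8), (nat_lit 9)],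
  [(nat_lit 10), (nat_lit 5), (nat_lit 6), (nat_lit 3), (nat_lit 4), (nat_lit 5), (nat_lit 10), (nat_lit 6), (nat_lit 7), (nat_lit 8), (nat_lit 5), (nat_lit 6), (nat_lit 7), (nat_lit 3), (nat_lit 4), (nat_lit 5), (nat_lit 6), (nat_lit 2), (nat_lit 3), (nat_lit 4), (nat_lit 5), (nat_lit 10), (nat_lit 11), (nat_lit 7), (nat_lit 5), (nat_lit 6), (nat_lit 3), (nat_lit 4), (nat_lit 5), (nat_lit 10), (nat_lit 9), (nat_lit 8), (nat_lit 7), (nat_lit 6), (nat_lit 5), (nat_lit 4), (nat_lit 3), (nat_lit 2), (nat_lit 1), (nat_lit 10), (nat_lit 8), (nat_lit 5), (nat_lit 6), (nat_lit 7), (nat_lit 4), (nat_lit 5), (nat_lit 6), (nat_lit 2), (nat_lit 3), (nat_lit 4), (nat_lit 5), (nat_lit 10), (nat_lit 11), (nat_lit 10), (nat_lit 5), (nat_lit 6), (nat_lit 4), (nat_lit 5), (nat_lit 10), (nat_lit 2), (nat_lit 3), (nat_lit 4), (nat_lit 5), (nat_lit 6), (nat_lit 7), (nat_lit 8), (nat_lit 9),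 (nat_lit 10), (nat_lit 11), (nat_lit 2), (nat_lit 3), (nat_lit 4), (nat_lit 5), (nat_lit 10), (nat_lit 6), (nat_lit 7), (nat_lit 5), (nat_lit 6), (nat_lit 4), (nat_lit 5), (nat_lit 10), (nat_lit 11), (nat_lit 6), (nat_lit 7), (nat_lit 5), (nat_lit 6), (nat_lit 3), (nat_lit 4), (nat_lit 5), (nat_lit 10), (nat_lit 2), (nat_lit 3), (nat_lit 4), (nat_lit 5), (nat_lit 6), (nat_lit 7), (nat_lit 8), (nat_lit 5), (nat_lit 6), (nat_lit 7), (nat_lit 4), (nat_lit 5), (nat_lit 6), (nat_lit 3), (nat_lit 4), (nat_lit 5), (nat_lit 10), (nat_lit 11), (nat_lit 5), (nat_lit 6), (nat_lit 2), (nat_lit 3), (nat_lit 4), (nat_lit 5), (nat_lit 10), (nat_lit 4), (nat_lit 5), (nat_lit 6), (nat_lit 7), (nat_lit 3), (nat_lit 4), (nat_lit 5), (nat_lit 6), (nat_lit 2), (nat_lit 3), (nat_lit 4), (nat_lit 5), (nat_lit 10), (nat_lit 11), (nat_lit 5), (nat_lit 6), (nat_lit 2), (nat_lit 3), (nat_lit 4),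 (nat_lit 5), (nat_lit 10), (nat_lit 7), (nat_lit 6), (nat_lit 5), (nat_lit 4), (nat_lit 3), (nat_lit 2), (nat_lit 6), (nat_lit 4), (nat_lit 5), (nat_lit 10), (nat_lit 7), (nat_lit 6), (nat_lit 5), (nat_lit 4), (nat_lit 3), (nat_lit 4), (nat_lit 5), (nat_lit 10), (nat_lit 6), (nat_lit 7), (nat_lit 5), (nat_lit 6), (nat_lit 4), (nat_lit 5), (nat_lit 10), (nat_lit 4), (nat_lit 5), (nat_lit 6), (nat_lit 5), (nat_lit 0)]]

noncomputable def Px7 : Dat := ⟨(nat_lit 7), (nat_lit 3), (nat_lit 9), (nat_lit 5), (nat_lit 11),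
  (BT.node (nat_lit 3) (BT.node (nat_lit 1) (BT.leaf []) (BT.node (nat_lit 2) (BT.leaf [(nat_lit 1), (nat_lit 2)]) (BT.leaf []))) (BT.node (nat_lit 4) (BT.leaf [(nat_lit 2)]) (BT.node (nat_lit 5) (BT.leaf [(nat_lit 2)]) (BT.leaf [])))),
  [⟨(nat_lit 0), [(nat_lit 0)], [(nat_lit 0), (nat_lit 0)]⟩,
  ⟨(nat_lit 0), [(nat_lit 2)], [(nat_lit 2), (nat_lit 2)]⟩,
  ⟨(nat_lit 1), [(nat_lit 2)], [(nat_lit 2), (nat_lit 2), (nat_lit 2), (nat_lit 2), (nat_lit 2), (nat_lit 2)]⟩,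
  ⟨(nat_lit 1), [(nat_lit 1)], [(nat_lit 0), (nat_lit 0), (nat_lit 0), (nat_lit 1), (nat_lit 1), (nat_lit 1), (nat_lit 1), (nat_lit 1), (nat_lit 2)]⟩,
  ⟨(nat_lit 1), [(nat_lit 0)], [(nat_lit 0), (nat_lit 0), (nat_lit 1), (nat_lit 1), (nat_lit 1), (nat_lit 1), (nat_lit 1), (nat_lit 1), (nat_lit 2), (nat_lit 2), (nat_lit 2)]⟩]⟩

noncomputable def Xx7_0 : List Test := [⟨(nat_lit 1), [(nat_lit 0), (nat_lit 0), (nat_lit 0), (nat_lit 0), (nat_lit 0), (nat_lit 0), (nat_lit 0)], [], (nat_lit 0x8000000000000200000000000)⟩,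
  ⟨(nat_lit 1), [(nat_lit 1), (nat_lit 0)], [(nat_lit 0), (nat_lit 1)], (nat_lit 0x18000003000000000000000000)⟩,
  ⟨(nat_lit 0), [(nat_lit 1)], [(nat_lit 0), (nat_lit 0), (nat_lit 0), (nat_lit 0), (nat_lit 0), (nat_lit 0), (nat_lit 0)], (nat_lit 0x8040000000000000000000000)⟩,
  ⟨(nat_lit 2), [(nat_lit 2), (nat_lit 3)], [(nat_lit 3), (nat_lit 2)], (nat_lit 0x20000204000000000000000000)⟩,
  ⟨(nat_lit 2), [(nat_lit 4), (nat_lit 4), (nat_lit 4), (nat_lit 4), (nat_lit 4), (nat_lit 4), (nat_lit 4)], [], (nat_lit 0x30080000030000200000000000)⟩]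

noncomputable def cx7 : Cert := ⟨Px7, (nat_lit 0), Xx7_0,
  [],
  [(nat_lit 0),
  (nat_lit 0),
  (nat_lit 0x8000000000040000000000000)],
  (BT.node (nat_lit 3) (BT.node (nat_lit 1) (BT.leaf (nat_lit 6)) (BT.node (nat_lit 2) (BT.leaf (nat_lit 0)) (BT.leaf (nat_lit 2652)))) (BT.node (nat_lit 4) (BT.leaf (nat_lit 14)) (BT.node (nat_lit 5) (BT.leaf (nat_lit 2100)) (BT.leaf (nat_lit 294)))))⟩

theorem okx7 : cx7.OK := Cert.ok_of_check (by decide) (by decide +kernel)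


noncomputable def Lx7 : List Lvl := [⟨(nat_lit 743), [[(nat_lit 3)],
  [(nat_lit 5)]], (nat_lit 49)⟩,
  ⟨(nat_lit 0), [[(nat_lit 1), (nat_lit 3), (nat_lit 3), (nat_lit 3)]], (nat_lit 7)⟩]

noncomputable def gx7 : List (List Nat) := [[(nat_lit 7)],
  [(nat_lit 9)]]

theorem hx7_0 : allFrom (relRow (sameT (apW ap Wx7) bs1) 0 Px7) 0 3 = true := by decide +kernel

theorem hx7 : ∀ j < 3, relRow (sameT (apW ap Wx7) bs1) 0 Px7 j = true := by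
  have h : ∀ j < 0, relRow (sameT (apW ap Wx7) bs1) 0 Px7 j = true := by simp
  have h := forall_lt_add h (allFrom_iff.1 hx7_0)
  exact h

theorem ppx7_0 : allFrom (atNo (prAt (sameT (apW ap Wx7) bs1) 0 gx7) Px7.prs) 0 4 = true := by decide +kernel

theorem ppx7_4 : allFrom (atNo (prAt (sameT (apW ap Wx7) bs1) 0 gx7) Px7.prs) 4 1 = true := by decide +kernel

theorem ppx7 : ∀ j < 5, atNo (prAt (sameT (apW ap Wx7) bs1) 0 gx7) Px7.prs j = true := by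
  have h : ∀ j < 0, atNo (prAt (sameT (apW ap Wx7) bs1) 0 gx7) Px7.prs j = true := by simp
  have h := forall_lt_add h (allFrom_iff.1 ppx7_0)
  have h := forall_lt_add h (allFrom_iff.1 ppx7_4)
  exact h

theorem px7 : lall (prAt (sameT (apW ap Wx7) bs1) 0 gx7) Px7.prs = true := lall_of_atNo (by decide +kernel) ppx7

theorem lx7_0 : allFrom (lvlT (apW ap Wx7) 6 306938 Lx7) 0 2 = true := by decide +kernel

theorem lx7 : ∀ j < 2, lvlT (apW ap Wx7) 6 306938 Lx7 j = true := by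
  have h : ∀ j < 0, lvlT (apW ap Wx7) 6 306938 Lx7 j = true := by simp
  have h := forall_lt_add h (allFrom_iff.1 lx7_0)
  exact h

theorem pbdx7 : PBd K 7 1 :=
  (mdl (W := Wx7) (by decide +kernel) (by decide +kernel)).pbd okx7 (gs := gx7) hx7 px7 (by decide +kernel) lx7 cardK
    (by decide) rfl rfl

end CF.Schur.Fi24
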