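import Cfsg.Agent.Schur.Cov2
import Cfsg.Agent.Schur.Fi24L
import Cfsg.Agent.Schur.Fi24P2
import Cfsg.Agent.Schur.Fi24P3
import Cfsg.Agent.Schur.Fi24P5
import Cfsg.Agent.Schur.Fi24P7

/-! The Schur multiplier of Fi24'. -/

set_option autoImplicit false
set_option maxRecDepth 1000000
set_option maxHeartbeats 0
set_option Elab.async false

namespace CF.Schur.Fi24

open CF.Comp CF.Schur.Pc Cfsg CF.Comp.Fi24

noncomputable def Lc : LD := ⟨N0, (nat_lit 4095), Ac, Bc⟩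

noncomputable def Tc : List (List Nat) := [[],
  [],
  [],
  [],
  [],
  [],
  [],
  [],
  [],
  [],
  [],
  [],
  [],
  [],
  [],
  [],
  [],
  [],
  [],
  [],
  [],
  [],
  [],
  [],
  [(nat_lit 25)],
  [(nat_lit 25)],
  [(nat_lit 25)],
  [(nat_lit 25)],
  [(nat_lit 25)],
  [(nat_lit 25)],
  [(nat_lit 25)],
  [(nat_lit 25)],
  [(nat_lit 25)],
  [],
  [],
  [],
  [],
  [],
  [],
  [],
  [],
  [],
  [],
  [],
  [],
  [],
  [],
  [],
  [],
  [],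
  [],
  [],
  [],
  [],
  [],
  [],
  [],
  [],
  [],
  [],
  [],
  [],
  [],
  [],
  [],
  [],
  [],
  [],
  [],
  [],
  [],
  [],
  [],
  [],
  [],
  [],
  [],
  [],
  [],
  []]

noncomputable def Wc : List (List Nat) := [[(nat_lit 10), (nat_lit 9), (nat_lit 8), (nat_lit 5), (nat_lit 6), (nat_lit 7), (nat_lit 3), (nat_lit 4), (nat_lit 5), (nat_lit 6), (nat_lit 2), (nat_lit 3), (nat_lit 4), (nat_lit 5), (nat_lit 10), (nat_lit 11), (nat_lit 7), (nat_lit 5), (nat_lit 6), (nat_lit 4), (nat_lit 5), (nat_lit 10), (nat_lit 9), (nat_lit 8), (nat_lit 7), (nat_lit 6), (nat_lit 5), (nat_lit 4), (nat_lit 3), (nat_lit 2), (nat_lit 1), (nat_lit 2), (nat_lit 3), (nat_lit 4), (nat_lit 5), (nat_lit 10), (nat_lit 6), (nat_lit 7), (nat_lit 5), (nat_lit 6), (nat_lit 3), (nat_lit 4), (nat_lit 5), (nat_lit 10), (nat_lit 11), (nat_lit 10), (nat_lit 8), (nat_lit 7), (nat_lit 5), (nat_lit 6), (nat_lit 3), (nat_lit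 4), (nat_lit 5), (nat_lit 10), (nat_lit 2), (nat_lit 3), (nat_lit 4), (nat_lit 5), (nat_lit 6), (nat_lit 7), (nat_lit 8), (nat_lit 9), (nat_lit 11), (nat_lit 5), (nat_lit 6), (nat_lit 4), (nat_lit 5), (nat_lit 10), (nat_lit 7), (nat_lit 8), (nat_lit 6), (nat_lit 7), (nat_lit 3), (nat_lit 4), (nat_lit 5), (nat_lit 6), (nat_lit 2), (nat_lit 3), (nat_lit 4), (nat_lit 5), (nat_lit 10), (nat_lit 11), (nat_lit 6), (nat_lit 7), (nat_lit 4), (nat_lit 5), (nat_lit 6), (nat_lit 3), (nat_lit 4), (nat_lit 5), (nat_lit 10), (nat_lit 2), (nat_lit 3), (nat_lit 4), (nat_lit 5), (nat_lit 6), (nat_lit 7), (nat_lit 8), (nat_lit 2), (nat_lit 3), (nat_lit 4), (nat_lit 5), (nat_lit 10), (nat_lit 11), (nat_lit 6), (nat_lit 2), (nat_lit 3), (nat_lit 4), (nat_lit 5), (nat_lit 10), (nat_lit 6), (nat_lit 7), (nat_lit 3), (nat_lit 4), (nat_lit 5), (nat_lit 6), (nat_lit 2), (nat_lit 3), (nat_lit 4), (nat_lit 5), (nat_lit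 10), (nat_lit 11), (nat_lit 5), (nat_lit 6), (nat_lit 3), (nat_lit 4), (nat_lit 5), (nat_lit 10), (nat_lit 7), (nat_lit 6), (nat_lit 5), (nat_lit 4), (nat_lit 3), (nat_lit 2), (nat_lit 6), (nat_lit 3), (nat_lit 4), (nat_lit 5), (nat_lit 10), (nat_lit 7), (nat_lit 6), (nat_lit 5), (nat_lit 4), (nat_lit 3), (nat_lit 10), (nat_lit 5), (nat_lit 6), (nat_lit 4), (nat_lit 5), (nat_lit 10), (nat_lit 4), (nat_lit 5), (nat_lit 6), (nat_lit 4), (nat_lit 0), (nat_lit 9), (nat_lit 8), (nat_lit 7), (nat_lit 6), (nat_lit 5), (nat_lit 10), (nat_lit 4), (nat_lit 5), (nat_lit 6), (nat_lit 3), (nat_lit 4), (nat_lit 5), (nat_lit 10), (nat_lit 7), (nat_lit 8), (nat_lit 6), (nat_lit 7), (nat_lit 5), (nat_lit 6), (nat_lit 4), (nat_lit 5), (nat_lit 10), (nat_lit 9), (nat_lit 8), (nat_lit 7), (nat_lit 6), (nat_lit 5), (nat_lit 4), (nat_lit 2), (nat_lit 3), (nat_lit 1), (nat_lit 2), (nat_lit 0), (nat_lit 1), (nat_lit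 0), (nat_lit 1), (nat_lit 0), (nat_lit 2), (nat_lit 1), (nat_lit 3), (nat_lit 2), (nat_lit 4), (nat_lit 5), (nat_lit 6), (nat_lit 7), (nat_lit 8), (nat_lit 9), (nat_lit 10), (nat_lit 5), (nat_lit 4), (nat_lit 6), (nat_lit 5), (nat_lit 7), (nat_lit 6), (nat_lit 8), (nat_lit 7), (nat_lit 10), (nat_lit 5), (nat_lit 4), (nat_lit 3), (nat_lit 6), (nat_lit 5), (nat_lit 4), (nat_lit 10), (nat_lit 5), (nat_lit 6), (nat_lit 7), (nat_lit 8), (nat_lit 9), (nat_lit 10), (nat_lit 11), (nat_lit 5), (nat_lit 10), (nat_lit 8), (nat_lit 6), (nat_lit 7), (nat_lit 5), (nat_lit 6), (nat_lit 4), (nat_lit 5), (nat_lit 10), (nat_lit 11), (nat_lit 10), (nat_lit 7), (nat_lit 8), (nat_lit 6), (nat_lit 7), (nat_lit 5), (nat_lit 6), (nat_lit 3), (nat_lit 4), (nat_lit 5), (nat_lit 10), (nat_lit 9), (nat_lit 8), (nat_lit 7), (nat_lit 6), (nat_lit 5), (nat_lit 4), (nat_lit 3), (nat_lit 1), (nat_lit 2), (nat_lit 0), (nat_lit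 1), (nat_lit 3), (nat_lit 4), (nat_lit 5), (nat_lit 10), (nat_lit 7), (nat_lit 8), (nat_lit 6), (nat_lit 7), (nat_lit 4), (nat_lit 5), (nat_lit 6), (nat_lit 3), (nat_lit 4), (nat_lit 5), (nat_lit 10), (nat_lit 11), (nat_lit 4), (nat_lit 5), (nat_lit 6), (nat_lit 3), (nat_lit 4), (nat_lit 5), (nat_lit 10), (nat_lit 2), (nat_lit 3), (nat_lit 4), (nat_lit 5), (nat_lit 6), (nat_lit 7), (nat_lit 8), (nat_lit 9), (nat_lit 6), (nat_lit 5), (nat_lit 10), (nat_lit 11), (nat_lit 10), (nat_lit 5), (nat_lit 6), (nat_lit 4), (nat_lit 5), (nat_lit 10), (nat_lit 7), (nat_lit 8), (nat_lit 6), (nat_lit 7), (nat_lit 5), (nat_lit 6), (nat_lit 3), (nat_lit 4), (nat_lit 5), (nat_lit 10), (nat_lit 11), (nat_lit 6), (nat_lit 7), (nat_lit 4), (nat_lit 5), (nat_lit 6), (nat_lit 3), (nat_lit 4), (nat_lit 5), (nat_lit 10), (nat_lit 2), (nat_lit 3), (nat_lit 4), (nat_lit 5), (nat_lit 6), (nat_lit 7), (nat_lit 8),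 (nat_lit 5), (nat_lit 6), (nat_lit 3), (nat_lit 4), (nat_lit 5), (nat_lit 10), (nat_lit 11), (nat_lit 6), (nat_lit 3), (nat_lit 4), (nat_lit 5), (nat_lit 10), (nat_lit 4), (nat_lit 5), (nat_lit 6), (nat_lit 7), (nat_lit 3), (nat_lit 4), (nat_lit 5), (nat_lit 6), (nat_lit 2), (nat_lit 3), (nat_lit 4), (nat_lit 5), (nat_lit 10), (nat_lit 11), (nat_lit 6), (nat_lit 5), (nat_lit 4), (nat_lit 3), (nat_lit 2), (nat_lit 7), (nat_lit 6), (nat_lit 5), (nat_lit 4), (nat_lit 3), (nat_lit 10), (nat_lit 5), (nat_lit 6), (nat_lit 7), (nat_lit 4), (nat_lit 10), (nat_lit 11), (nat_lit 5), (nat_lit 10), (nat_lit 8), (nat_lit 6), (nat_lit 7), (nat_lit 5), (nat_lit 6), (nat_lit 4), (nat_lit 5), (nat_lit 10), (nat_lit 11), (nat_lit 10), (nat_lit 7), (nat_lit 8), (nat_lit 6), (nat_lit 7), (nat_lit 5), (nat_lit 6), (nat_lit 3), (nat_lit 4), (nat_lit 5), (nat_lit 10), (nat_lit 9), (nat_lit 8), (nat_lit 7), (nat_lit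 6), (nat_lit 5), (nat_lit 4), (nat_lit 3), (nat_lit 1), (nat_lit 2), (nat_lit 0), (nat_lit 1), (nat_lit 3), (nat_lit 4), (nat_lit 5), (nat_lit 10), (nat_lit 7), (nat_lit 8), (nat_lit 6), (nat_lit 7), (nat_lit 4), (nat_lit 5), (nat_lit 6), (nat_lit 3), (nat_lit 4), (nat_lit 5), (nat_lit 10), (nat_lit 11), (nat_lit 4), (nat_lit 5), (nat_lit 6), (nat_lit 3), (nat_lit 4), (nat_lit 5), (nat_lit 10), (nat_lit 2), (nat_lit 3), (nat_lit 4), (nat_lit 5), (nat_lit 6), (nat_lit 7), (nat_lit 8), (nat_lit 9), (nat_lit 6), (nat_lit 5), (nat_lit 10), (nat_lit 11), (nat_lit 10), (nat_lit 5), (nat_lit 6), (nat_lit 4), (nat_lit 5), (nat_lit 10), (nat_lit 7), (nat_lit 8), (nat_lit 6), (nat_lit 7), (nat_lit 5), (nat_lit 6), (nat_lit 3), (nat_lit 4), (nat_lit 5), (nat_lit 10), (nat_lit 11), (nat_lit 6), (nat_lit 7), (nat_lit 4), (nat_lit 5), (nat_lit 6), (nat_lit 3), (nat_lit 4), (nat_lit 5), (nat_lit 10),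 (nat_lit 2), (nat_lit 3), (nat_lit 4), (nat_lit 5), (nat_lit 6), (nat_lit 7), (nat_lit 8), (nat_lit 5), (nat_lit 6), (nat_lit 3), (nat_lit 4), (nat_lit 5), (nat_lit 10), (nat_lit 11), (nat_lit 6), (nat_lit 3), (nat_lit 4), (nat_lit 5), (nat_lit 10), (nat_lit 4), (nat_lit 5), (nat_lit 6), (nat_lit 7), (nat_lit 3), (nat_lit 4), (nat_lit 5), (nat_lit 6), (nat_lit 2), (nat_lit 3), (nat_lit 4), (nat_lit 5), (nat_lit 10), (nat_lit 11), (nat_lit 6), (nat_lit 5), (nat_lit 4), (nat_lit 3), (nat_lit 2), (nat_lit 7), (nat_lit 6), (nat_lit 5), (nat_lit 4), (nat_lit 3), (nat_lit 10), (nat_lit 5), (nat_lit 6), (nat_lit 7), (nat_lit 4)],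
  [(nat_lit 10), (nat_lit 4), (nat_lit 5), (nat_lit 6), (nat_lit 3), (nat_lit 4), (nat_lit 5), (nat_lit 10), (nat_lit 7), (nat_lit 8), (nat_lit 6), (nat_lit 7), (nat_lit 5), (nat_lit 6), (nat_lit 4), (nat_lit 5), (nat_lit 10), (nat_lit 11), (nat_lit 6), (nat_lit 7), (nat_lit 5), (nat_lit 6), (nat_lit 3), (nat_lit 4), (nat_lit 5), (nat_lit 10), (nat_lit 9), (nat_lit 8), (nat_lit 7), (nat_lit 6), (nat_lit 5), (nat_lit 4), (nat_lit 3), (nat_lit 1), (nat_lit 2), (nat_lit 0), (nat_lit 1), (nat_lit 11), (nat_lit 4), (nat_lit 5), (nat_lit 10), (nat_lit 6), (nat_lit 7), (nat_lit 5), (nat_lit 6), (nat_lit 4), (nat_lit 5), (nat_lit 10), (nat_lit 11), (nat_lit 3), (nat_lit 4), (nat_lit 5), (nat_lit 10), (nat_lit 2), (nat_lit 3), (nat_lit 4), (nat_lit 5), (nat_lit 6), (nat_lit 7), (nat_lit 8), (nat_lit 9), (nat_lit 10), (nat_lit 7), (nat_lit 5), (nat_lit 6), (nat_lit 2), (nat_lit 3), (nat_lit 4), (nat_lit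 5), (nat_lit 10), (nat_lit 11), (nat_lit 10), (nat_lit 7), (nat_lit 5), (nat_lit 6), (nat_lit 4), (nat_lit 5), (nat_lit 10), (nat_lit 7), (nat_lit 8), (nat_lit 6), (nat_lit 7), (nat_lit 4), (nat_lit 5), (nat_lit 6), (nat_lit 3), (nat_lit 4), (nat_lit 5), (nat_lit 10), (nat_lit 11), (nat_lit 8), (nat_lit 7), (nat_lit 4), (nat_lit 5), (nat_lit 6), (nat_lit 3), (nat_lit 4), (nat_lit 5), (nat_lit 10), (nat_lit 2), (nat_lit 3), (nat_lit 4), (nat_lit 5), (nat_lit 6), (nat_lit 7), (nat_lit 8), (nat_lit 5), (nat_lit 10), (nat_lit 11), (nat_lit 10), (nat_lit 7), (nat_lit 5), (nat_lit 6), (nat_lit 4), (nat_lit 5), (nat_lit 10), (nat_lit 6), (nat_lit 7), (nat_lit 3), (nat_lit 4), (nat_lit 5), (nat_lit 6), (nat_lit 2), (nat_lit 3), (nat_lit 4), (nat_lit 5), (nat_lit 10), (nat_lit 11), (nat_lit 5), (nat_lit 10), (nat_lit 7), (nat_lit 6), (nat_lit 5), (nat_lit 4), (nat_lit 3), (nat_lit 2), (nat_lit 5),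 (nat_lit 6), (nat_lit 4), (nat_lit 5), (nat_lit 10), (nat_lit 7), (nat_lit 6), (nat_lit 5), (nat_lit 4), (nat_lit 3), (nat_lit 10), (nat_lit 7), (nat_lit 5), (nat_lit 6), (nat_lit 4), (nat_lit 5), (nat_lit 6), (nat_lit 7), (nat_lit 11), (nat_lit 4), (nat_lit 5), (nat_lit 6), (nat_lit 3), (nat_lit 4), (nat_lit 5), (nat_lit 10), (nat_lit 8), (nat_lit 7), (nat_lit 6), (nat_lit 5), (nat_lit 4), (nat_lit 3), (nat_lit 1), (nat_lit 2), (nat_lit 0), (nat_lit 1), (nat_lit 11), (nat_lit 3), (nat_lit 4), (nat_lit 5), (nat_lit 10), (nat_lit 6), (nat_lit 7), (nat_lit 5), (nat_lit 6), (nat_lit 4), (nat_lit 5), (nat_lit 10), (nat_lit 11), (nat_lit 9), (nat_lit 8), (nat_lit 7), (nat_lit 6), (nat_lit 3), (nat_lit 4), (nat_lit 5), (nat_lit 10), (nat_lit 2), (nat_lit 3), (nat_lit 4), (nat_lit 5), (nat_lit 6), (nat_lit 7), (nat_lit 8), (nat_lit 9), (nat_lit 11), (nat_lit 10), (nat_lit 4), (nat_lit 5), (nat_lit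 6), (nat_lit 3), (nat_lit 4), (nat_lit 5), (nat_lit 10), (nat_lit 2), (nat_lit 3), (nat_lit 4), (nat_lit 5), (nat_lit 6), (nat_lit 7), (nat_lit 8), (nat_lit 6), (nat_lit 7), (nat_lit 4), (nat_lit 5), (nat_lit 6), (nat_lit 3), (nat_lit 4), (nat_lit 5), (nat_lit 10), (nat_lit 11), (nat_lit 5), (nat_lit 6), (nat_lit 4), (nat_lit 5), (nat_lit 10), (nat_lit 5), (nat_lit 6), (nat_lit 7), (nat_lit 3), (nat_lit 4), (nat_lit 5), (nat_lit 6), (nat_lit 2), (nat_lit 3), (nat_lit 4), (nat_lit 5), (nat_lit 10), (nat_lit 11), (nat_lit 4), (nat_lit 3), (nat_lit 2), (nat_lit 10), (nat_lit 5), (nat_lit 6), (nat_lit 3), (nat_lit 4), (nat_lit 5), (nat_lit 10), (nat_lit 7), (nat_lit 6), (nat_lit 5), (nat_lit 4), (nat_lit 3), (nat_lit 6), (nat_lit 7), (nat_lit 5), (nat_lit 6), (nat_lit 4), (nat_lit 5), (nat_lit 10), (nat_lit 5), (nat_lit 6), (nat_lit 7), (nat_lit 4), (nat_lit 5), (nat_lit 0), (nat_lit 6), (nat_lit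 5), (nat_lit 10), (nat_lit 11), (nat_lit 4), (nat_lit 5), (nat_lit 6), (nat_lit 3), (nat_lit 4), (nat_lit 5), (nat_lit 10), (nat_lit 8), (nat_lit 7), (nat_lit 6), (nat_lit 5), (nat_lit 4), (nat_lit 3), (nat_lit 1), (nat_lit 2), (nat_lit 0), (nat_lit 1), (nat_lit 11), (nat_lit 3), (nat_lit 4), (nat_lit 5), (nat_lit 10), (nat_lit 6), (nat_lit 7), (nat_lit 5), (nat_lit 6), (nat_lit 4), (nat_lit 5), (nat_lit 10), (nat_lit 11), (nat_lit 9), (nat_lit 8), (nat_lit 7), (nat_lit 6), (nat_lit 3), (nat_lit 4), (nat_lit 5), (nat_lit 10), (nat_lit 2), (nat_lit 3), (nat_lit 4), (nat_lit 5), (nat_lit 6), (nat_lit 7), (nat_lit 8), (nat_lit 9), (nat_lit 11), (nat_lit 10), (nat_lit 4), (nat_lit 5), (nat_lit 6), (nat_lit 3), (nat_lit 4), (nat_lit 5), (nat_lit 10), (nat_lit 2), (nat_lit 3), (nat_lit 4), (nat_lit 5), (nat_lit 6), (nat_lit 7), (nat_lit 8), (nat_lit 6), (nat_lit 7), (nat_lit 4), (nat_lit 5),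 (nat_lit 6), (nat_lit 3), (nat_lit 4), (nat_lit 5), (nat_lit 10), (nat_lit 11), (nat_lit 5), (nat_lit 6), (nat_lit 4), (nat_lit 5), (nat_lit 10), (nat_lit 5), (nat_lit 6), (nat_lit 7), (nat_lit 3), (nat_lit 4), (nat_lit 5), (nat_lit 6), (nat_lit 2), (nat_lit 3), (nat_lit 4), (nat_lit 5), (nat_lit 10), (nat_lit 11), (nat_lit 4), (nat_lit 3), (nat_lit 2), (nat_lit 10), (nat_lit 5), (nat_lit 6), (nat_lit 3), (nat_lit 4), (nat_lit 5), (nat_lit 10), (nat_lit 7), (nat_lit 6), (nat_lit 5), (nat_lit 4), (nat_lit 3), (nat_lit 6), (nat_lit 7), (nat_lit 5), (nat_lit 6), (nat_lit 4), (nat_lit 5), (nat_lit 10), (nat_lit 5), (nat_lit 6), (nat_lit 7), (nat_lit 4), (nat_lit 5), (nat_lit 4), (nat_lit 0)]]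

theorem rc_0 : allFrom (tailAt (lsame ar3 Lc (sameB N0 bs)) rels Tc) 0 21 = true := by decide +kernel

theorem rc_21 : allFrom (tailAt (lsame ar3 Lc (sameB N0 bs)) rels Tc) 21 14 = true := by decide +kernel

theorem rc_35 : allFrom (tailAt (lsame ar3 Lc (sameB N0 bs)) rels Tc) 35 15 = true := by decide +kernel

theorem rc_50 : allFrom (tailAt (lsame ar3 Lc (sameB N0 bs)) rels Tc) 50 14 = true := by decide +kernel

theorem rc_64 : allFrom (tailAt (lsame ar3 Lc (sameB N0 bs)) rels Tc) 64 13 = true := by decide +kernel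

theorem rc_77 : allFrom (tailAt (lsame ar3 Lc (sameB N0 bs)) rels Tc) 77 2 = true := by decide +kernel

theorem rc_79 : allFrom (tailAt (lsame ar3 Lc (sameB N0 bs)) rels Tc) 79 1 = true := by decide +kernel

theorem rc : ∀ j < 80, tailAt (lsame ar3 Lc (sameB N0 bs)) rels Tc j = true := by
  have h : ∀ j < 0, tailAt (lsame ar3 Lc (sameB N0 bs)) rels Tc j = true := by simp
  have h := forall_lt_add h (allFrom_iff.1 rc_0)
  have h := forall_lt_add h (allFrom_iff.1 rc_21)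
  have h := forall_lt_add h (allFrom_iff.1 rc_35)
  have h := forall_lt_add h (allFrom_iff.1 rc_50)
  have h := forall_lt_add h (allFrom_iff.1 rc_64)
  have h := forall_lt_add h (allFrom_iff.1 rc_77)
  have h := forall_lt_add h (allFrom_iff.1 rc_79)
  exact h

theorem cc : cov3OK (lsame ar3 Lc (sameB N0 bs)) 12 rels Tc = true := by decide +kernel

theorem mdl0 : Mdl D N0 f0 ⊤ bs := ⟨reps0, by decide, fun _ => trivial, by decide +kernel, fun _ _ h => eq_one h⟩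

theorem pres : Presents rels 12 f0 := presents_cox cox (by decide +kernel)

theorem mc : PMdl D (apW ap Wc) (pvs f0 Wc) K bs1 := mdl (by decide +kernel) (by decide +kernel)

theorem dom : Dom (commutator Spor.Fi24) (Multiplicative (ZMod 3)) := by
  have h := mc.sameT [1, 3] [3, 1] (by decide +kernel)
  refine dom_lab_comm (L := Lc) pres (wf_of_wfAll wf0) mdl0.pf cc rc
    (ap := ap) (ptOK_of_tab (k := 19) (reps_nat (wf_of_wfAll wf0)) (by decide +kernel) tr) (u := nth [] Wc 0) (v := nth [] Wc 1)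
    (by decide +kernel) (commutator_eq ▸ mc.mem 0) (commutator_eq ▸ mc.mem 1) ?_ (x := 0) (by decide)
    (by decide +kernel)
  simpa [ev, evL, pvs] using h


theorem mult : Nat.card (Mult K) ≤ 3 :=
  card_mult_le (b := 29) (k := 21) cardK [(2, 1), (3, 3), (5, 1), (7, 1)] (by decide +kernel) (by
    simp only [List.mem_cons, List.not_mem_nil, or_false, forall_eq_or_imp, forall_eq]
    exact ⟨⟨by decide, pbdx2⟩, ⟨by decide, pbdx3⟩, ⟨by decide, pbdx5⟩, ⟨by decide, pbdx7⟩⟩)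


theorem schur : HasCyclicSchurMultiplier Spor.Fi24' 3 :=
  dom.hasCyclic (by rw [commutator_eq]; exact mult)

end CF.Schur.Fi24
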