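import Cfsg.Agent.Comp.TCDefs

set_option autoImplicit false
set_option maxRecDepth 1000000
set_option maxHeartbeats 0
set_option Elab.async false

namespace CF.Schur.G24

open CF.Comp

noncomputable def R0 : List (List Nat) := [[(nat_lit 1), (nat_lit 1)],
  [(nat_lit 7), (nat_lit 1), (nat_lit 8), (nat_lit 2)],
  [(nat_lit 13), (nat_lit 1), (nat_lit 14), (nat_lit 2)],
  [(nat_lit 19), (nat_lit 1), (nat_lit 20), (nat_lit 2)],
  [(nat_lit 25), (nat_lit 1), (nat_lit 26), (nat_lit 2)],
  [(nat_lit 31), (nat_lit 1), (nat_lit 32), (nat_lit 2)],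
  [(nat_lit 37), (nat_lit 1), (nat_lit 8), (nat_lit 38), (nat_lit 2)],
  [(nat_lit 43), (nat_lit 1), (nat_lit 44), (nat_lit 2)],
  [(nat_lit 49), (nat_lit 1), (nat_lit 38), (nat_lit 26), (nat_lit 14), (nat_lit 50), (nat_lit 2)],
  [(nat_lit 55), (nat_lit 1), (nat_lit 62), (nat_lit 44), (nat_lit 20), (nat_lit 56), (nat_lit 2)],
  [(nat_lit 61), (nat_lit 1), (nat_lit 32), (nat_lit 62), (nat_lit 2)],
  [(nat_lit 1), (nat_lit 3), (nat_lit 6)],
  [(nat_lit 9), (nat_lit 1), (nat_lit 10), (nat_lit 2)],
  [(nat_lit 15), (nat_lit 1), (nat_lit 16), (nat_lit 2)],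
  [(nat_lit 21), (nat_lit 1), (nat_lit 22), (nat_lit 2)],
  [(nat_lit 27), (nat_lit 1), (nat_lit 28), (nat_lit 2)],
  [(nat_lit 33), (nat_lit 1), (nat_lit 34), (nat_lit 2)],
  [(nat_lit 39), (nat_lit 1), (nat_lit 10), (nat_lit 40), (nat_lit 2)],
  [(nat_lit 45), (nat_lit 1), (nat_lit 46), (nat_lit 2)],
  [(nat_lit 51), (nat_lit 1), (nat_lit 38), (nat_lit 30), (nat_lit 16), (nat_lit 52), (nat_lit 2)],
  [(nat_lit 57), (nat_lit 1), (nat_lit 62), (nat_lit 48), (nat_lit 22), (nat_lit 58), (nat_lit 2)],
  [(nat_lit 63), (nat_lit 1), (nat_lit 34), (nat_lit 64), (nat_lit 2)],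
  [(nat_lit 1), (nat_lit 5), (nat_lit 4)],
  [(nat_lit 11), (nat_lit 1), (nat_lit 12), (nat_lit 2)],
  [(nat_lit 17), (nat_lit 1), (nat_lit 18), (nat_lit 2)],
  [(nat_lit 23), (nat_lit 1), (nat_lit 24), (nat_lit 2)],
  [(nat_lit 29), (nat_lit 1), (nat_lit 30), (nat_lit 2)],
  [(nat_lit 35), (nat_lit 1), (nat_lit 36), (nat_lit 2)],
  [(nat_lit 41), (nat_lit 1), (nat_lit 12), (nat_lit 42), (nat_lit 2)],
  [(nat_lit 47), (nat_lit 1), (nat_lit 48), (nat_lit 2)],
  [(nat_lit 53), (nat_lit 1), (nat_lit 38), (nat_lit 28), (nat_lit 18), (nat_lit 54), (nat_lit 2)],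
  [(nat_lit 59), (nat_lit 1), (nat_lit 62), (nat_lit 46), (nat_lit 24), (nat_lit 60), (nat_lit 2)],
  [(nat_lit 65), (nat_lit 1), (nat_lit 36), (nat_lit 66), (nat_lit 2)],
  [(nat_lit 3), (nat_lit 1), (nat_lit 6)],
  [(nat_lit 7), (nat_lit 3), (nat_lit 8), (nat_lit 4)],
  [(nat_lit 13), (nat_lit 3), (nat_lit 14), (nat_lit 4)],
  [(nat_lit 19), (nat_lit 3), (nat_lit 20), (nat_lit 4)],
  [(nat_lit 25), (nat_lit 3), (nat_lit 26), (nat_lit 4)],
  [(nat_lit 31), (nat_lit 3), (nat_lit 32), (nat_lit 4)],
  [(nat_lit 37), (nat_lit 3), (nat_lit 10), (nat_lit 38), (nat_lit 4)],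
  [(nat_lit 43), (nat_lit 3), (nat_lit 44), (nat_lit 4)],
  [(nat_lit 49), (nat_lit 3), (nat_lit 40), (nat_lit 28), (nat_lit 16), (nat_lit 50), (nat_lit 4)],
  [(nat_lit 55), (nat_lit 3), (nat_lit 64), (nat_lit 46), (nat_lit 22), (nat_lit 56), (nat_lit 4)],
  [(nat_lit 61), (nat_lit 3), (nat_lit 34), (nat_lit 62), (nat_lit 4)],
  [(nat_lit 3), (nat_lit 3)],
  [(nat_lit 9), (nat_lit 3), (nat_lit 10), (nat_lit 4)],
  [(nat_lit 15), (nat_lit 3), (nat_lit 16), (nat_lit 4)],
  [(nat_lit 21), (nat_lit 3), (nat_lit 22), (nat_lit 4)],
  [(nat_lit 27), (nat_lit 3), (nat_lit 28), (nat_lit 4)],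
  [(nat_lit 33), (nat_lit 3), (nat_lit 34), (nat_lit 4)],
  [(nat_lit 39), (nat_lit 3), (nat_lit 12), (nat_lit 40), (nat_lit 4)],
  [(nat_lit 45), (nat_lit 3), (nat_lit 46), (nat_lit 4)],
  [(nat_lit 51), (nat_lit 3), (nat_lit 40), (nat_lit 26), (nat_lit 18), (nat_lit 52), (nat_lit 4)],
  [(nat_lit 57), (nat_lit 3), (nat_lit 64), (nat_lit 44), (nat_lit 24), (nat_lit 58), (nat_lit 4)],
  [(nat_lit 63), (nat_lit 3), (nat_lit 36), (nat_lit 64), (nat_lit 4)],
  [(nat_lit 3), (nat_lit 5), (nat_lit 2)],
  [(nat_lit 11), (nat_lit 3), (nat_lit 12), (nat_lit 4)],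
  [(nat_lit 17), (nat_lit 3), (nat_lit 18), (nat_lit 4)],
  [(nat_lit 23), (nat_lit 3), (nat_lit 24), (nat_lit 4)],
  [(nat_lit 29), (nat_lit 3), (nat_lit 30), (nat_lit 4)],
  [(nat_lit 35), (nat_lit 3), (nat_lit 36), (nat_lit 4)],
  [(nat_lit 41), (nat_lit 3), (nat_lit 8), (nat_lit 42), (nat_lit 4)],
  [(nat_lit 47), (nat_lit 3), (nat_lit 48), (nat_lit 4)],
  [(nat_lit 53), (nat_lit 3), (nat_lit 40), (nat_lit 30), (nat_lit 14), (nat_lit 54), (nat_lit 4)],
  [(nat_lit 59), (nat_lit 3), (nat_lit 64), (nat_lit 48), (nat_lit 20), (nat_lit 60), (nat_lit 4)],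
  [(nat_lit 65), (nat_lit 3), (nat_lit 32), (nat_lit 66), (nat_lit 4)],
  [(nat_lit 5), (nat_lit 1), (nat_lit 4)],
  [(nat_lit 7), (nat_lit 5), (nat_lit 8), (nat_lit 6)],
  [(nat_lit 13), (nat_lit 5), (nat_lit 14), (nat_lit 6)],
  [(nat_lit 19), (nat_lit 5), (nat_lit 20), (nat_lit 6)],
  [(nat_lit 25), (nat_lit 5), (nat_lit 26), (nat_lit 6)],
  [(nat_lit 31), (nat_lit 5), (nat_lit 32), (nat_lit 6)],
  [(nat_lit 37), (nat_lit 5), (nat_lit 12), (nat_lit 38), (nat_lit 6)],
  [(nat_lit 43), (nat_lit 5), (nat_lit 44), (nat_lit 6)],
  [(nat_lit 49), (nat_lit 5), (nat_lit 42), (nat_lit 30), (nat_lit 18), (nat_lit 50), (nat_lit 6)],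
  [(nat_lit 55), (nat_lit 5), (nat_lit 66), (nat_lit 48), (nat_lit 24), (nat_lit 56), (nat_lit 6)],
  [(nat_lit 61), (nat_lit 5), (nat_lit 36), (nat_lit 62), (nat_lit 6)],
  [(nat_lit 5), (nat_lit 3), (nat_lit 2)],
  [(nat_lit 9), (nat_lit 5), (nat_lit 10), (nat_lit 6)],
  [(nat_lit 15), (nat_lit 5), (nat_lit 16), (nat_lit 6)],
  [(nat_lit 21), (nat_lit 5), (nat_lit 22), (nat_lit 6)],
  [(nat_lit 27), (nat_lit 5), (nat_lit 28), (nat_lit 6)],
  [(nat_lit 33), (nat_lit 5), (nat_lit 34), (nat_lit 6)],
  [(nat_lit 39), (nat_lit 5), (nat_lit 8), (nat_lit 40), (nat_lit 6)],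
  [(nat_lit 45), (nat_lit 5), (nat_lit 46), (nat_lit 6)],
  [(nat_lit 51), (nat_lit 5), (nat_lit 42), (nat_lit 28), (nat_lit 14), (nat_lit 52), (nat_lit 6)],
  [(nat_lit 57), (nat_lit 5), (nat_lit 66), (nat_lit 46), (nat_lit 20), (nat_lit 58), (nat_lit 6)],
  [(nat_lit 63), (nat_lit 5), (nat_lit 32), (nat_lit 64), (nat_lit 6)],
  [(nat_lit 5), (nat_lit 5)],
  [(nat_lit 11), (nat_lit 5), (nat_lit 12), (nat_lit 6)],
  [(nat_lit 17), (nat_lit 5), (nat_lit 18), (nat_lit 6)],
  [(nat_lit 23), (nat_lit 5), (nat_lit 24), (nat_lit 6)],
  [(nat_lit 29), (nat_lit 5), (nat_lit 30), (nat_lit 6)],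
  [(nat_lit 35), (nat_lit 5), (nat_lit 36), (nat_lit 6)],
  [(nat_lit 41), (nat_lit 5), (nat_lit 10), (nat_lit 42), (nat_lit 6)],
  [(nat_lit 47), (nat_lit 5), (nat_lit 48), (nat_lit 6)],
  [(nat_lit 53), (nat_lit 5), (nat_lit 42), (nat_lit 26), (nat_lit 16), (nat_lit 54), (nat_lit 6)],
  [(nat_lit 59), (nat_lit 5), (nat_lit 66), (nat_lit 44), (nat_lit 22), (nat_lit 60), (nat_lit 6)],
  [(nat_lit 65), (nat_lit 5), (nat_lit 34), (nat_lit 66), (nat_lit 6)]]
noncomputable def R1 : List (List Nat) := [[(nat_lit 7), (nat_lit 7)],
  [(nat_lit 1), (nat_lit 7), (nat_lit 2), (nat_lit 8)],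
  [(nat_lit 13), (nat_lit 7), (nat_lit 14), (nat_lit 8)],
  [(nat_lit 19), (nat_lit 7), (nat_lit 20), (nat_lit 8)],
  [(nat_lit 25), (nat_lit 7), (nat_lit 26), (nat_lit 8)],
  [(nat_lit 31), (nat_lit 7), (nat_lit 2), (nat_lit 32), (nat_lit 8)],
  [(nat_lit 37), (nat_lit 7), (nat_lit 38), (nat_lit 8)],
  [(nat_lit 43), (nat_lit 7), (nat_lit 32), (nat_lit 20), (nat_lit 14), (nat_lit 44), (nat_lit 8)],
  [(nat_lit 49), (nat_lit 7), (nat_lit 50), (nat_lit 8)],
  [(nat_lit 55), (nat_lit 7), (nat_lit 68), (nat_lit 50), (nat_lit 26), (nat_lit 56), (nat_lit 8)],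
  [(nat_lit 67), (nat_lit 7), (nat_lit 38), (nat_lit 68), (nat_lit 8)],
  [(nat_lit 7), (nat_lit 9), (nat_lit 12)],
  [(nat_lit 3), (nat_lit 7), (nat_lit 4), (nat_lit 8)],
  [(nat_lit 15), (nat_lit 7), (nat_lit 16), (nat_lit 8)],
  [(nat_lit 21), (nat_lit 7), (nat_lit 22), (nat_lit 8)],
  [(nat_lit 27), (nat_lit 7), (nat_lit 28), (nat_lit 8)],
  [(nat_lit 33), (nat_lit 7), (nat_lit 4), (nat_lit 34), (nat_lit 8)],
  [(nat_lit 39), (nat_lit 7), (nat_lit 40), (nat_lit 8)],
  [(nat_lit 45), (nat_lit 7), (nat_lit 32), (nat_lit 24), (nat_lit 16), (nat_lit 46), (nat_lit 8)],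
  [(nat_lit 51), (nat_lit 7), (nat_lit 52), (nat_lit 8)],
  [(nat_lit 57), (nat_lit 7), (nat_lit 68), (nat_lit 54), (nat_lit 28), (nat_lit 58), (nat_lit 8)],
  [(nat_lit 69), (nat_lit 7), (nat_lit 40), (nat_lit 70), (nat_lit 8)],
  [(nat_lit 7), (nat_lit 11), (nat_lit 10)],
  [(nat_lit 5), (nat_lit 7), (nat_lit 6), (nat_lit 8)],
  [(nat_lit 17), (nat_lit 7), (nat_lit 18), (nat_lit 8)],
  [(nat_lit 23), (nat_lit 7), (nat_lit 24), (nat_lit 8)],
  [(nat_lit 29), (nat_lit 7), (nat_lit 30), (nat_lit 8)],
  [(nat_lit 35), (nat_lit 7), (nat_lit 6), (nat_lit 36), (nat_lit 8)],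
  [(nat_lit 41), (nat_lit 7), (nat_lit 42), (nat_lit 8)],
  [(nat_lit 47), (nat_lit 7), (nat_lit 32), (nat_lit 22), (nat_lit 18), (nat_lit 48), (nat_lit 8)],
  [(nat_lit 53), (nat_lit 7), (nat_lit 54), (nat_lit 8)],
  [(nat_lit 59), (nat_lit 7), (nat_lit 68), (nat_lit 52), (nat_lit 30), (nat_lit 60), (nat_lit 8)],
  [(nat_lit 71), (nat_lit 7), (nat_lit 42), (nat_lit 72), (nat_lit 8)],
  [(nat_lit 9), (nat_lit 7), (nat_lit 12)],
  [(nat_lit 1), (nat_lit 9), (nat_lit 2), (nat_lit 10)],
  [(nat_lit 13), (nat_lit 9), (nat_lit 14), (nat_lit 10)],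
  [(nat_lit 19), (nat_lit 9), (nat_lit 20), (nat_lit 10)],
  [(nat_lit 25), (nat_lit 9), (nat_lit 26), (nat_lit 10)],
  [(nat_lit 31), (nat_lit 9), (nat_lit 4), (nat_lit 32), (nat_lit 10)],
  [(nat_lit 37), (nat_lit 9), (nat_lit 38), (nat_lit 10)],
  [(nat_lit 43), (nat_lit 9), (nat_lit 34), (nat_lit 22), (nat_lit 16), (nat_lit 44), (nat_lit 10)],
  [(nat_lit 49), (nat_lit 9), (nat_lit 50), (nat_lit 10)],
  [(nat_lit 55), (nat_lit 9), (nat_lit 70), (nat_lit 52), (nat_lit 28), (nat_lit 56), (nat_lit 10)],
  [(nat_lit 67), (nat_lit 9), (nat_lit 40), (nat_lit 68), (nat_lit 10)],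
  [(nat_lit 9), (nat_lit 9)],
  [(nat_lit 3), (nat_lit 9), (nat_lit 4), (nat_lit 10)],
  [(nat_lit 15), (nat_lit 9), (nat_lit 16), (nat_lit 10)],
  [(nat_lit 21), (nat_lit 9), (nat_lit 22), (nat_lit 10)],
  [(nat_lit 27), (nat_lit 9), (nat_lit 28), (nat_lit 10)],
  [(nat_lit 33), (nat_lit 9), (nat_lit 6), (nat_lit 34), (nat_lit 10)],
  [(nat_lit 39), (nat_lit 9), (nat_lit 40), (nat_lit 10)],
  [(nat_lit 45), (nat_lit 9), (nat_lit 34), (nat_lit 20), (nat_lit 18), (nat_lit 46), (nat_lit 10)],
  [(nat_lit 51), (nat_lit 9), (nat_lit 52), (nat_lit 10)],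
  [(nat_lit 57), (nat_lit 9), (nat_lit 70), (nat_lit 50), (nat_lit 30), (nat_lit 58), (nat_lit 10)],
  [(nat_lit 69), (nat_lit 9), (nat_lit 42), (nat_lit 70), (nat_lit 10)],
  [(nat_lit 9), (nat_lit 11), (nat_lit 8)],
  [(nat_lit 5), (nat_lit 9), (nat_lit 6), (nat_lit 10)],
  [(nat_lit 17), (nat_lit 9), (nat_lit 18), (nat_lit 10)],
  [(nat_lit 23), (nat_lit 9), (nat_lit 24), (nat_lit 10)],
  [(nat_lit 29), (nat_lit 9), (nat_lit 30), (nat_lit 10)],
  [(nat_lit 35), (nat_lit 9), (nat_lit 2), (nat_lit 36), (nat_lit 10)],
  [(nat_lit 41), (nat_lit 9), (nat_lit 42), (nat_lit 10)],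
  [(nat_lit 47), (nat_lit 9), (nat_lit 34), (nat_lit 24), (nat_lit 14), (nat_lit 48), (nat_lit 10)],
  [(nat_lit 53), (nat_lit 9), (nat_lit 54), (nat_lit 10)],
  [(nat_lit 59), (nat_lit 9), (nat_lit 70), (nat_lit 54), (nat_lit 26), (nat_lit 60), (nat_lit 10)],
  [(nat_lit 71), (nat_lit 9), (nat_lit 38), (nat_lit 72), (nat_lit 10)],
  [(nat_lit 11), (nat_lit 7), (nat_lit 10)],
  [(nat_lit 1), (nat_lit 11), (nat_lit 2), (nat_lit 12)],
  [(nat_lit 13), (nat_lit 11), (nat_lit 14), (nat_lit 12)],
  [(nat_lit 19), (nat_lit 11), (nat_lit 20), (nat_lit 12)],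
  [(nat_lit 25), (nat_lit 11), (nat_lit 26), (nat_lit 12)],
  [(nat_lit 31), (nat_lit 11), (nat_lit 6), (nat_lit 32), (nat_lit 12)],
  [(nat_lit 37), (nat_lit 11), (nat_lit 38), (nat_lit 12)],
  [(nat_lit 43), (nat_lit 11), (nat_lit 36), (nat_lit 24), (nat_lit 18), (nat_lit 44), (nat_lit 12)],
  [(nat_lit 49), (nat_lit 11), (nat_lit 50), (nat_lit 12)],
  [(nat_lit 55), (nat_lit 11), (nat_lit 72), (nat_lit 54), (nat_lit 30), (nat_lit 56), (nat_lit 12)],
  [(nat_lit 67), (nat_lit 11), (nat_lit 42), (nat_lit 68), (nat_lit 12)],
  [(nat_lit 11), (nat_lit 9), (nat_lit 8)],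
  [(nat_lit 3), (nat_lit 11), (nat_lit 4), (nat_lit 12)],
  [(nat_lit 15), (nat_lit 11), (nat_lit 16), (nat_lit 12)],
  [(nat_lit 21), (nat_lit 11), (nat_lit 22), (nat_lit 12)],
  [(nat_lit 27), (nat_lit 11), (nat_lit 28), (nat_lit 12)],
  [(nat_lit 33), (nat_lit 11), (nat_lit 2), (nat_lit 34), (nat_lit 12)],
  [(nat_lit 39), (nat_lit 11), (nat_lit 40), (nat_lit 12)],
  [(nat_lit 45), (nat_lit 11), (nat_lit 36), (nat_lit 22), (nat_lit 14), (nat_lit 46), (nat_lit 12)],
  [(nat_lit 51), (nat_lit 11), (nat_lit 52), (nat_lit 12)],
  [(nat_lit 57), (nat_lit 11), (nat_lit 72), (nat_lit 52), (nat_lit 26), (nat_lit 58), (nat_lit 12)],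
  [(nat_lit 69), (nat_lit 11), (nat_lit 38), (nat_lit 70), (nat_lit 12)],
  [(nat_lit 11), (nat_lit 11)],
  [(nat_lit 5), (nat_lit 11), (nat_lit 6), (nat_lit 12)],
  [(nat_lit 17), (nat_lit 11), (nat_lit 18), (nat_lit 12)],
  [(nat_lit 23), (nat_lit 11), (nat_lit 24), (nat_lit 12)],
  [(nat_lit 29), (nat_lit 11), (nat_lit 30), (nat_lit 12)],
  [(nat_lit 35), (nat_lit 11), (nat_lit 4), (nat_lit 36), (nat_lit 12)],
  [(nat_lit 41), (nat_lit 11), (nat_lit 42), (nat_lit 12)],
  [(nat_lit 47), (nat_lit 11), (nat_lit 36), (nat_lit 20), (nat_lit 16), (nat_lit 48), (nat_lit 12)],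
  [(nat_lit 53), (nat_lit 11), (nat_lit 54), (nat_lit 12)],
  [(nat_lit 59), (nat_lit 11), (nat_lit 72), (nat_lit 50), (nat_lit 28), (nat_lit 60), (nat_lit 12)],
  [(nat_lit 71), (nat_lit 11), (nat_lit 40), (nat_lit 72), (nat_lit 12)]]
noncomputable def R2 : List (List Nat) := [[(nat_lit 13), (nat_lit 13)],
  [(nat_lit 1), (nat_lit 13), (nat_lit 2), (nat_lit 14)],
  [(nat_lit 7), (nat_lit 13), (nat_lit 8), (nat_lit 14)],
  [(nat_lit 19), (nat_lit 13), (nat_lit 2), (nat_lit 20), (nat_lit 14)],
  [(nat_lit 25), (nat_lit 13), (nat_lit 8), (nat_lit 26), (nat_lit 14)],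
  [(nat_lit 31), (nat_lit 13), (nat_lit 32), (nat_lit 14)],
  [(nat_lit 37), (nat_lit 13), (nat_lit 38), (nat_lit 14)],
  [(nat_lit 43), (nat_lit 13), (nat_lit 32), (nat_lit 2), (nat_lit 44), (nat_lit 14)],
  [(nat_lit 49), (nat_lit 13), (nat_lit 38), (nat_lit 8), (nat_lit 50), (nat_lit 14)],
  [(nat_lit 61), (nat_lit 13), (nat_lit 32), (nat_lit 2), (nat_lit 20), (nat_lit 44), (nat_lit 62), (nat_lit 14)],
  [(nat_lit 67), (nat_lit 13), (nat_lit 38), (nat_lit 8), (nat_lit 26), (nat_lit 50), (nat_lit 68), (nat_lit 14)],
  [(nat_lit 13), (nat_lit 15), (nat_lit 18)],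
  [(nat_lit 3), (nat_lit 13), (nat_lit 4), (nat_lit 14)],
  [(nat_lit 9), (nat_lit 13), (nat_lit 10), (nat_lit 14)],
  [(nat_lit 21), (nat_lit 13), (nat_lit 4), (nat_lit 22), (nat_lit 14)],
  [(nat_lit 27), (nat_lit 13), (nat_lit 10), (nat_lit 28), (nat_lit 14)],
  [(nat_lit 33), (nat_lit 13), (nat_lit 34), (nat_lit 14)],
  [(nat_lit 39), (nat_lit 13), (nat_lit 40), (nat_lit 14)],
  [(nat_lit 45), (nat_lit 13), (nat_lit 36), (nat_lit 4), (nat_lit 46), (nat_lit 14)],
  [(nat_lit 51), (nat_lit 13), (nat_lit 42), (nat_lit 10), (nat_lit 52), (nat_lit 14)],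
  [(nat_lit 63), (nat_lit 13), (nat_lit 36), (nat_lit 4), (nat_lit 22), (nat_lit 46), (nat_lit 64), (nat_lit 14)],
  [(nat_lit 69), (nat_lit 13), (nat_lit 42), (nat_lit 10), (nat_lit 28), (nat_lit 52), (nat_lit 70), (nat_lit 14)],
  [(nat_lit 13), (nat_lit 17), (nat_lit 16)],
  [(nat_lit 5), (nat_lit 13), (nat_lit 6), (nat_lit 14)],
  [(nat_lit 11), (nat_lit 13), (nat_lit 12), (nat_lit 14)],
  [(nat_lit 23), (nat_lit 13), (nat_lit 6), (nat_lit 24), (nat_lit 14)],
  [(nat_lit 29), (nat_lit 13), (nat_lit 12), (nat_lit 30), (nat_lit 14)],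
  [(nat_lit 35), (nat_lit 13), (nat_lit 36), (nat_lit 14)],
  [(nat_lit 41), (nat_lit 13), (nat_lit 42), (nat_lit 14)],
  [(nat_lit 47), (nat_lit 13), (nat_lit 34), (nat_lit 6), (nat_lit 48), (nat_lit 14)],
  [(nat_lit 53), (nat_lit 13), (nat_lit 40), (nat_lit 12), (nat_lit 54), (nat_lit 14)],
  [(nat_lit 65), (nat_lit 13), (nat_lit 34), (nat_lit 6), (nat_lit 24), (nat_lit 48), (nat_lit 66), (nat_lit 14)],
  [(nat_lit 71), (nat_lit 13), (nat_lit 40), (nat_lit 12), (nat_lit 30), (nat_lit 54), (nat_lit 72), (nat_lit 14)],
  [(nat_lit 15), (nat_lit 13), (nat_lit 18)],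
  [(nat_lit 1), (nat_lit 15), (nat_lit 2), (nat_lit 16)],
  [(nat_lit 7), (nat_lit 15), (nat_lit 8), (nat_lit 16)],
  [(nat_lit 19), (nat_lit 15), (nat_lit 4), (nat_lit 20), (nat_lit 16)],
  [(nat_lit 25), (nat_lit 15), (nat_lit 10), (nat_lit 26), (nat_lit 16)],
  [(nat_lit 31), (nat_lit 15), (nat_lit 32), (nat_lit 16)],
  [(nat_lit 37), (nat_lit 15), (nat_lit 38), (nat_lit 16)],
  [(nat_lit 43), (nat_lit 15), (nat_lit 34), (nat_lit 6), (nat_lit 44), (nat_lit 16)],
  [(nat_lit 49), (nat_lit 15), (nat_lit 40), (nat_lit 12), (nat_lit 50), (nat_lit 16)],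
  [(nat_lit 61), (nat_lit 15), (nat_lit 32), (nat_lit 2), (nat_lit 24), (nat_lit 46), (nat_lit 62), (nat_lit 16)],
  [(nat_lit 67), (nat_lit 15), (nat_lit 38), (nat_lit 8), (nat_lit 30), (nat_lit 52), (nat_lit 68), (nat_lit 16)],
  [(nat_lit 15), (nat_lit 15)],
  [(nat_lit 3), (nat_lit 15), (nat_lit 4), (nat_lit 16)],
  [(nat_lit 9), (nat_lit 15), (nat_lit 10), (nat_lit 16)],
  [(nat_lit 21), (nat_lit 15), (nat_lit 6), (nat_lit 22), (nat_lit 16)],
  [(nat_lit 27), (nat_lit 15), (nat_lit 12), (nat_lit 28), (nat_lit 16)],
  [(nat_lit 33), (nat_lit 15), (nat_lit 34), (nat_lit 16)],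
  [(nat_lit 39), (nat_lit 15), (nat_lit 40), (nat_lit 16)],
  [(nat_lit 45), (nat_lit 15), (nat_lit 32), (nat_lit 2), (nat_lit 46), (nat_lit 16)],
  [(nat_lit 51), (nat_lit 15), (nat_lit 38), (nat_lit 8), (nat_lit 52), (nat_lit 16)],
  [(nat_lit 63), (nat_lit 15), (nat_lit 36), (nat_lit 4), (nat_lit 20), (nat_lit 48), (nat_lit 64), (nat_lit 16)],
  [(nat_lit 69), (nat_lit 15), (nat_lit 42), (nat_lit 10), (nat_lit 26), (nat_lit 54), (nat_lit 70), (nat_lit 16)],
  [(nat_lit 15), (nat_lit 17), (nat_lit 14)],
  [(nat_lit 5), (nat_lit 15), (nat_lit 6), (nat_lit 16)],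
  [(nat_lit 11), (nat_lit 15), (nat_lit 12), (nat_lit 16)],
  [(nat_lit 23), (nat_lit 15), (nat_lit 2), (nat_lit 24), (nat_lit 16)],
  [(nat_lit 29), (nat_lit 15), (nat_lit 8), (nat_lit 30), (nat_lit 16)],
  [(nat_lit 35), (nat_lit 15), (nat_lit 36), (nat_lit 16)],
  [(nat_lit 41), (nat_lit 15), (nat_lit 42), (nat_lit 16)],
  [(nat_lit 47), (nat_lit 15), (nat_lit 36), (nat_lit 4), (nat_lit 48), (nat_lit 16)],
  [(nat_lit 53), (nat_lit 15), (nat_lit 42), (nat_lit 10), (nat_lit 54), (nat_lit 16)],
  [(nat_lit 65), (nat_lit 15), (nat_lit 34), (nat_lit 6), (nat_lit 22), (nat_lit 44), (nat_lit 66), (nat_lit 16)],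
  [(nat_lit 71), (nat_lit 15), (nat_lit 40), (nat_lit 12), (nat_lit 28), (nat_lit 50), (nat_lit 72), (nat_lit 16)],
  [(nat_lit 17), (nat_lit 13), (nat_lit 16)],
  [(nat_lit 1), (nat_lit 17), (nat_lit 2), (nat_lit 18)],
  [(nat_lit 7), (nat_lit 17), (nat_lit 8), (nat_lit 18)],
  [(nat_lit 19), (nat_lit 17), (nat_lit 6), (nat_lit 20), (nat_lit 18)],
  [(nat_lit 25), (nat_lit 17), (nat_lit 12), (nat_lit 26), (nat_lit 18)],
  [(nat_lit 31), (nat_lit 17), (nat_lit 32), (nat_lit 18)],
  [(nat_lit 37), (nat_lit 17), (nat_lit 38), (nat_lit 18)],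
  [(nat_lit 43), (nat_lit 17), (nat_lit 36), (nat_lit 4), (nat_lit 44), (nat_lit 18)],
  [(nat_lit 49), (nat_lit 17), (nat_lit 42), (nat_lit 10), (nat_lit 50), (nat_lit 18)],
  [(nat_lit 61), (nat_lit 17), (nat_lit 32), (nat_lit 2), (nat_lit 22), (nat_lit 48), (nat_lit 62), (nat_lit 18)],
  [(nat_lit 67), (nat_lit 17), (nat_lit 38), (nat_lit 8), (nat_lit 28), (nat_lit 54), (nat_lit 68), (nat_lit 18)],
  [(nat_lit 17), (nat_lit 15), (nat_lit 14)],
  [(nat_lit 3), (nat_lit 17), (nat_lit 4), (nat_lit 18)],
  [(nat_lit 9), (nat_lit 17), (nat_lit 10), (nat_lit 18)],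
  [(nat_lit 21), (nat_lit 17), (nat_lit 2), (nat_lit 22), (nat_lit 18)],
  [(nat_lit 27), (nat_lit 17), (nat_lit 8), (nat_lit 28), (nat_lit 18)],
  [(nat_lit 33), (nat_lit 17), (nat_lit 34), (nat_lit 18)],
  [(nat_lit 39), (nat_lit 17), (nat_lit 40), (nat_lit 18)],
  [(nat_lit 45), (nat_lit 17), (nat_lit 34), (nat_lit 6), (nat_lit 46), (nat_lit 18)],
  [(nat_lit 51), (nat_lit 17), (nat_lit 40), (nat_lit 12), (nat_lit 52), (nat_lit 18)],
  [(nat_lit 63), (nat_lit 17), (nat_lit 36), (nat_lit 4), (nat_lit 24), (nat_lit 44), (nat_lit 64), (nat_lit 18)],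
  [(nat_lit 69), (nat_lit 17), (nat_lit 42), (nat_lit 10), (nat_lit 30), (nat_lit 50), (nat_lit 70), (nat_lit 18)],
  [(nat_lit 17), (nat_lit 17)],
  [(nat_lit 5), (nat_lit 17), (nat_lit 6), (nat_lit 18)],
  [(nat_lit 11), (nat_lit 17), (nat_lit 12), (nat_lit 18)],
  [(nat_lit 23), (nat_lit 17), (nat_lit 4), (nat_lit 24), (nat_lit 18)],
  [(nat_lit 29), (nat_lit 17), (nat_lit 10), (nat_lit 30), (nat_lit 18)],
  [(nat_lit 35), (nat_lit 17), (nat_lit 36), (nat_lit 18)],
  [(nat_lit 41), (nat_lit 17), (nat_lit 42), (nat_lit 18)],
  [(nat_lit 47), (nat_lit 17), (nat_lit 32), (nat_lit 2), (nat_lit 48), (nat_lit 18)],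
  [(nat_lit 53), (nat_lit 17), (nat_lit 38), (nat_lit 8), (nat_lit 54), (nat_lit 18)],
  [(nat_lit 65), (nat_lit 17), (nat_lit 34), (nat_lit 6), (nat_lit 20), (nat_lit 46), (nat_lit 66), (nat_lit 18)],
  [(nat_lit 71), (nat_lit 17), (nat_lit 40), (nat_lit 12), (nat_lit 26), (nat_lit 52), (nat_lit 72), (nat_lit 18)]]
noncomputable def R3 : List (List Nat) := [[(nat_lit 19), (nat_lit 19)],
  [(nat_lit 1), (nat_lit 19), (nat_lit 2), (nat_lit 20)],
  [(nat_lit 7), (nat_lit 19), (nat_lit 8), (nat_lit 20)],
  [(nat_lit 13), (nat_lit 19), (nat_lit 2), (nat_lit 14), (nat_lit 20)],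
  [(nat_lit 25), (nat_lit 19), (nat_lit 8), (nat_lit 2), (nat_lit 26), (nat_lit 20)],
  [(nat_lit 31), (nat_lit 19), (nat_lit 32), (nat_lit 20)],
  [(nat_lit 37), (nat_lit 19), (nat_lit 8), (nat_lit 2), (nat_lit 14), (nat_lit 26), (nat_lit 38), (nat_lit 20)],
  [(nat_lit 43), (nat_lit 19), (nat_lit 32), (nat_lit 44), (nat_lit 20)],
  [(nat_lit 55), (nat_lit 19), (nat_lit 62), (nat_lit 32), (nat_lit 56), (nat_lit 20)],
  [(nat_lit 61), (nat_lit 19), (nat_lit 62), (nat_lit 20)],
  [(nat_lit 67), (nat_lit 19), (nat_lit 62), (nat_lit 32), (nat_lit 44), (nat_lit 56), (nat_lit 68), (nat_lit 20)],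
  [(nat_lit 19), (nat_lit 21), (nat_lit 24)],
  [(nat_lit 3), (nat_lit 19), (nat_lit 4), (nat_lit 20)],
  [(nat_lit 9), (nat_lit 19), (nat_lit 10), (nat_lit 20)],
  [(nat_lit 15), (nat_lit 19), (nat_lit 4), (nat_lit 16), (nat_lit 20)],
  [(nat_lit 27), (nat_lit 19), (nat_lit 12), (nat_lit 4), (nat_lit 28), (nat_lit 20)],
  [(nat_lit 33), (nat_lit 19), (nat_lit 34), (nat_lit 20)],
  [(nat_lit 39), (nat_lit 19), (nat_lit 12), (nat_lit 4), (nat_lit 16), (nat_lit 28), (nat_lit 40), (nat_lit 20)],
  [(nat_lit 45), (nat_lit 19), (nat_lit 34), (nat_lit 46), (nat_lit 20)],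
  [(nat_lit 57), (nat_lit 19), (nat_lit 66), (nat_lit 34), (nat_lit 58), (nat_lit 20)],
  [(nat_lit 63), (nat_lit 19), (nat_lit 64), (nat_lit 20)],
  [(nat_lit 69), (nat_lit 19), (nat_lit 66), (nat_lit 34), (nat_lit 46), (nat_lit 58), (nat_lit 70), (nat_lit 20)],
  [(nat_lit 19), (nat_lit 23), (nat_lit 22)],
  [(nat_lit 5), (nat_lit 19), (nat_lit 6), (nat_lit 20)],
  [(nat_lit 11), (nat_lit 19), (nat_lit 12), (nat_lit 20)],
  [(nat_lit 17), (nat_lit 19), (nat_lit 6), (nat_lit 18), (nat_lit 20)],
  [(nat_lit 29), (nat_lit 19), (nat_lit 10), (nat_lit 6), (nat_lit 30), (nat_lit 20)],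
  [(nat_lit 35), (nat_lit 19), (nat_lit 36), (nat_lit 20)],
  [(nat_lit 41), (nat_lit 19), (nat_lit 10), (nat_lit 6), (nat_lit 18), (nat_lit 30), (nat_lit 42), (nat_lit 20)],
  [(nat_lit 47), (nat_lit 19), (nat_lit 36), (nat_lit 48), (nat_lit 20)],
  [(nat_lit 59), (nat_lit 19), (nat_lit 64), (nat_lit 36), (nat_lit 60), (nat_lit 20)],
  [(nat_lit 65), (nat_lit 19), (nat_lit 66), (nat_lit 20)],
  [(nat_lit 71), (nat_lit 19), (nat_lit 64), (nat_lit 36), (nat_lit 48), (nat_lit 60), (nat_lit 72), (nat_lit 20)],
  [(nat_lit 21), (nat_lit 19), (nat_lit 24)],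
  [(nat_lit 1), (nat_lit 21), (nat_lit 2), (nat_lit 22)],
  [(nat_lit 7), (nat_lit 21), (nat_lit 8), (nat_lit 22)],
  [(nat_lit 13), (nat_lit 21), (nat_lit 4), (nat_lit 14), (nat_lit 22)],
  [(nat_lit 25), (nat_lit 21), (nat_lit 10), (nat_lit 6), (nat_lit 26), (nat_lit 22)],
  [(nat_lit 31), (nat_lit 21), (nat_lit 32), (nat_lit 22)],
  [(nat_lit 37), (nat_lit 21), (nat_lit 8), (nat_lit 2), (nat_lit 18), (nat_lit 28), (nat_lit 38), (nat_lit 22)],
  [(nat_lit 43), (nat_lit 21), (nat_lit 34), (nat_lit 44), (nat_lit 22)],
  [(nat_lit 55), (nat_lit 21), (nat_lit 64), (nat_lit 36), (nat_lit 56), (nat_lit 22)],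
  [(nat_lit 61), (nat_lit 21), (nat_lit 62), (nat_lit 22)],
  [(nat_lit 67), (nat_lit 21), (nat_lit 62), (nat_lit 32), (nat_lit 48), (nat_lit 58), (nat_lit 68), (nat_lit 22)],
  [(nat_lit 21), (nat_lit 21)],
  [(nat_lit 3), (nat_lit 21), (nat_lit 4), (nat_lit 22)],
  [(nat_lit 9), (nat_lit 21), (nat_lit 10), (nat_lit 22)],
  [(nat_lit 15), (nat_lit 21), (nat_lit 6), (nat_lit 16), (nat_lit 22)],
  [(nat_lit 27), (nat_lit 21), (nat_lit 8), (nat_lit 2), (nat_lit 28), (nat_lit 22)],
  [(nat_lit 33), (nat_lit 21), (nat_lit 34), (nat_lit 22)],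
  [(nat_lit 39), (nat_lit 21), (nat_lit 12), (nat_lit 4), (nat_lit 14), (nat_lit 30), (nat_lit 40), (nat_lit 22)],
  [(nat_lit 45), (nat_lit 21), (nat_lit 36), (nat_lit 46), (nat_lit 22)],
  [(nat_lit 57), (nat_lit 21), (nat_lit 62), (nat_lit 32), (nat_lit 58), (nat_lit 22)],
  [(nat_lit 63), (nat_lit 21), (nat_lit 64), (nat_lit 22)],
  [(nat_lit 69), (nat_lit 21), (nat_lit 66), (nat_lit 34), (nat_lit 44), (nat_lit 60), (nat_lit 70), (nat_lit 22)],
  [(nat_lit 21), (nat_lit 23), (nat_lit 20)],
  [(nat_lit 5), (nat_lit 21), (nat_lit 6), (nat_lit 22)],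
  [(nat_lit 11), (nat_lit 21), (nat_lit 12), (nat_lit 22)],
  [(nat_lit 17), (nat_lit 21), (nat_lit 2), (nat_lit 18), (nat_lit 22)],
  [(nat_lit 29), (nat_lit 21), (nat_lit 12), (nat_lit 4), (nat_lit 30), (nat_lit 22)],
  [(nat_lit 35), (nat_lit 21), (nat_lit 36), (nat_lit 22)],
  [(nat_lit 41), (nat_lit 21), (nat_lit 10), (nat_lit 6), (nat_lit 16), (nat_lit 26), (nat_lit 42), (nat_lit 22)],
  [(nat_lit 47), (nat_lit 21), (nat_lit 32), (nat_lit 48), (nat_lit 22)],
  [(nat_lit 59), (nat_lit 21), (nat_lit 66), (nat_lit 34), (nat_lit 60), (nat_lit 22)],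
  [(nat_lit 65), (nat_lit 21), (nat_lit 66), (nat_lit 22)],
  [(nat_lit 71), (nat_lit 21), (nat_lit 64), (nat_lit 36), (nat_lit 46), (nat_lit 56), (nat_lit 72), (nat_lit 22)],
  [(nat_lit 23), (nat_lit 19), (nat_lit 22)],
  [(nat_lit 1), (nat_lit 23), (nat_lit 2), (nat_lit 24)],
  [(nat_lit 7), (nat_lit 23), (nat_lit 8), (nat_lit 24)],
  [(nat_lit 13), (nat_lit 23), (nat_lit 6), (nat_lit 14), (nat_lit 24)],
  [(nat_lit 25), (nat_lit 23), (nat_lit 12), (nat_lit 4), (nat_lit 26), (nat_lit 24)],
  [(nat_lit 31), (nat_lit 23), (nat_lit 32), (nat_lit 24)],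
  [(nat_lit 37), (nat_lit 23), (nat_lit 8), (nat_lit 2), (nat_lit 16), (nat_lit 30), (nat_lit 38), (nat_lit 24)],
  [(nat_lit 43), (nat_lit 23), (nat_lit 36), (nat_lit 44), (nat_lit 24)],
  [(nat_lit 55), (nat_lit 23), (nat_lit 66), (nat_lit 34), (nat_lit 56), (nat_lit 24)],
  [(nat_lit 61), (nat_lit 23), (nat_lit 62), (nat_lit 24)],
  [(nat_lit 67), (nat_lit 23), (nat_lit 62), (nat_lit 32), (nat_lit 46), (nat_lit 60), (nat_lit 68), (nat_lit 24)],
  [(nat_lit 23), (nat_lit 21), (nat_lit 20)],
  [(nat_lit 3), (nat_lit 23), (nat_lit 4), (nat_lit 24)],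
  [(nat_lit 9), (nat_lit 23), (nat_lit 10), (nat_lit 24)],
  [(nat_lit 15), (nat_lit 23), (nat_lit 2), (nat_lit 16), (nat_lit 24)],
  [(nat_lit 27), (nat_lit 23), (nat_lit 10), (nat_lit 6), (nat_lit 28), (nat_lit 24)],
  [(nat_lit 33), (nat_lit 23), (nat_lit 34), (nat_lit 24)],
  [(nat_lit 39), (nat_lit 23), (nat_lit 12), (nat_lit 4), (nat_lit 18), (nat_lit 26), (nat_lit 40), (nat_lit 24)],
  [(nat_lit 45), (nat_lit 23), (nat_lit 32), (nat_lit 46), (nat_lit 24)],
  [(nat_lit 57), (nat_lit 23), (nat_lit 64), (nat_lit 36), (nat_lit 58), (nat_lit 24)],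
  [(nat_lit 63), (nat_lit 23), (nat_lit 64), (nat_lit 24)],
  [(nat_lit 69), (nat_lit 23), (nat_lit 66), (nat_lit 34), (nat_lit 48), (nat_lit 56), (nat_lit 70), (nat_lit 24)],
  [(nat_lit 23), (nat_lit 23)],
  [(nat_lit 5), (nat_lit 23), (nat_lit 6), (nat_lit 24)],
  [(nat_lit 11), (nat_lit 23), (nat_lit 12), (nat_lit 24)],
  [(nat_lit 17), (nat_lit 23), (nat_lit 4), (nat_lit 18), (nat_lit 24)],
  [(nat_lit 29), (nat_lit 23), (nat_lit 8), (nat_lit 2), (nat_lit 30), (nat_lit 24)],
  [(nat_lit 35), (nat_lit 23), (nat_lit 36), (nat_lit 24)],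
  [(nat_lit 41), (nat_lit 23), (nat_lit 10), (nat_lit 6), (nat_lit 14), (nat_lit 28), (nat_lit 42), (nat_lit 24)],
  [(nat_lit 47), (nat_lit 23), (nat_lit 34), (nat_lit 48), (nat_lit 24)],
  [(nat_lit 59), (nat_lit 23), (nat_lit 62), (nat_lit 32), (nat_lit 60), (nat_lit 24)],
  [(nat_lit 65), (nat_lit 23), (nat_lit 66), (nat_lit 24)],
  [(nat_lit 71), (nat_lit 23), (nat_lit 64), (nat_lit 36), (nat_lit 44), (nat_lit 58), (nat_lit 72), (nat_lit 24)]]
noncomputable def R4 : List (List Nat) := [[(nat_lit 25), (nat_lit 25)],
  [(nat_lit 1), (nat_lit 25), (nat_lit 2), (nat_lit 26)],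
  [(nat_lit 7), (nat_lit 25), (nat_lit 8), (nat_lit 26)],
  [(nat_lit 13), (nat_lit 25), (nat_lit 8), (nat_lit 14), (nat_lit 26)],
  [(nat_lit 19), (nat_lit 25), (nat_lit 2), (nat_lit 8), (nat_lit 20), (nat_lit 26)],
  [(nat_lit 31), (nat_lit 25), (nat_lit 2), (nat_lit 8), (nat_lit 14), (nat_lit 20), (nat_lit 32), (nat_lit 26)],
  [(nat_lit 37), (nat_lit 25), (nat_lit 38), (nat_lit 26)],
  [(nat_lit 49), (nat_lit 25), (nat_lit 38), (nat_lit 50), (nat_lit 26)],
  [(nat_lit 55), (nat_lit 25), (nat_lit 68), (nat_lit 38), (nat_lit 56), (nat_lit 26)],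
  [(nat_lit 61), (nat_lit 25), (nat_lit 68), (nat_lit 38), (nat_lit 50), (nat_lit 56), (nat_lit 62), (nat_lit 26)],
  [(nat_lit 67), (nat_lit 25), (nat_lit 68), (nat_lit 26)],
  [(nat_lit 25), (nat_lit 27), (nat_lit 30)],
  [(nat_lit 3), (nat_lit 25), (nat_lit 4), (nat_lit 26)],
  [(nat_lit 9), (nat_lit 25), (nat_lit 10), (nat_lit 26)],
  [(nat_lit 15), (nat_lit 25), (nat_lit 10), (nat_lit 16), (nat_lit 26)],
  [(nat_lit 21), (nat_lit 25), (nat_lit 6), (nat_lit 10), (nat_lit 22), (nat_lit 26)],
  [(nat_lit 33), (nat_lit 25), (nat_lit 6), (nat_lit 10), (nat_lit 16), (nat_lit 22), (nat_lit 34), (nat_lit 26)],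
  [(nat_lit 39), (nat_lit 25), (nat_lit 40), (nat_lit 26)],
  [(nat_lit 51), (nat_lit 25), (nat_lit 40), (nat_lit 52), (nat_lit 26)],
  [(nat_lit 57), (nat_lit 25), (nat_lit 72), (nat_lit 40), (nat_lit 58), (nat_lit 26)],
  [(nat_lit 63), (nat_lit 25), (nat_lit 72), (nat_lit 40), (nat_lit 52), (nat_lit 58), (nat_lit 64), (nat_lit 26)],
  [(nat_lit 69), (nat_lit 25), (nat_lit 70), (nat_lit 26)],
  [(nat_lit 25), (nat_lit 29), (nat_lit 28)],
  [(nat_lit 5), (nat_lit 25), (nat_lit 6), (nat_lit 26)],
  [(nat_lit 11), (nat_lit 25), (nat_lit 12), (nat_lit 26)],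
  [(nat_lit 17), (nat_lit 25), (nat_lit 12), (nat_lit 18), (nat_lit 26)],
  [(nat_lit 23), (nat_lit 25), (nat_lit 4), (nat_lit 12), (nat_lit 24), (nat_lit 26)],
  [(nat_lit 35), (nat_lit 25), (nat_lit 4), (nat_lit 12), (nat_lit 18), (nat_lit 24), (nat_lit 36), (nat_lit 26)],
  [(nat_lit 41), (nat_lit 25), (nat_lit 42), (nat_lit 26)],
  [(nat_lit 53), (nat_lit 25), (nat_lit 42), (nat_lit 54), (nat_lit 26)],
  [(nat_lit 59), (nat_lit 25), (nat_lit 70), (nat_lit 42), (nat_lit 60), (nat_lit 26)],
  [(nat_lit 65), (nat_lit 25), (nat_lit 70), (nat_lit 42), (nat_lit 54), (nat_lit 60), (nat_lit 66), (nat_lit 26)],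
  [(nat_lit 71), (nat_lit 25), (nat_lit 72), (nat_lit 26)],
  [(nat_lit 27), (nat_lit 25), (nat_lit 30)],
  [(nat_lit 1), (nat_lit 27), (nat_lit 2), (nat_lit 28)],
  [(nat_lit 7), (nat_lit 27), (nat_lit 8), (nat_lit 28)],
  [(nat_lit 13), (nat_lit 27), (nat_lit 10), (nat_lit 14), (nat_lit 28)],
  [(nat_lit 19), (nat_lit 27), (nat_lit 4), (nat_lit 12), (nat_lit 20), (nat_lit 28)],
  [(nat_lit 31), (nat_lit 27), (nat_lit 2), (nat_lit 8), (nat_lit 18), (nat_lit 22), (nat_lit 32), (nat_lit 28)],
  [(nat_lit 37), (nat_lit 27), (nat_lit 38), (nat_lit 28)],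
  [(nat_lit 49), (nat_lit 27), (nat_lit 40), (nat_lit 50), (nat_lit 28)],
  [(nat_lit 55), (nat_lit 27), (nat_lit 70), (nat_lit 42), (nat_lit 56), (nat_lit 28)],
  [(nat_lit 61), (nat_lit 27), (nat_lit 68), (nat_lit 38), (nat_lit 54), (nat_lit 58), (nat_lit 62), (nat_lit 28)],
  [(nat_lit 67), (nat_lit 27), (nat_lit 68), (nat_lit 28)],
  [(nat_lit 27), (nat_lit 27)],
  [(nat_lit 3), (nat_lit 27), (nat_lit 4), (nat_lit 28)],
  [(nat_lit 9), (nat_lit 27), (nat_lit 10), (nat_lit 28)],
  [(nat_lit 15), (nat_lit 27), (nat_lit 12), (nat_lit 16), (nat_lit 28)],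
  [(nat_lit 21), (nat_lit 27), (nat_lit 2), (nat_lit 8), (nat_lit 22), (nat_lit 28)],
  [(nat_lit 33), (nat_lit 27), (nat_lit 6), (nat_lit 10), (nat_lit 14), (nat_lit 24), (nat_lit 34), (nat_lit 28)],
  [(nat_lit 39), (nat_lit 27), (nat_lit 40), (nat_lit 28)],
  [(nat_lit 51), (nat_lit 27), (nat_lit 42), (nat_lit 52), (nat_lit 28)],
  [(nat_lit 57), (nat_lit 27), (nat_lit 68), (nat_lit 38), (nat_lit 58), (nat_lit 28)],
  [(nat_lit 63), (nat_lit 27), (nat_lit 72), (nat_lit 40), (nat_lit 50), (nat_lit 60), (nat_lit 64), (nat_lit 28)],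
  [(nat_lit 69), (nat_lit 27), (nat_lit 70), (nat_lit 28)],
  [(nat_lit 27), (nat_lit 29), (nat_lit 26)],
  [(nat_lit 5), (nat_lit 27), (nat_lit 6), (nat_lit 28)],
  [(nat_lit 11), (nat_lit 27), (nat_lit 12), (nat_lit 28)],
  [(nat_lit 17), (nat_lit 27), (nat_lit 8), (nat_lit 18), (nat_lit 28)],
  [(nat_lit 23), (nat_lit 27), (nat_lit 6), (nat_lit 10), (nat_lit 24), (nat_lit 28)],
  [(nat_lit 35), (nat_lit 27), (nat_lit 4), (nat_lit 12), (nat_lit 16), (nat_lit 20), (nat_lit 36), (nat_lit 28)],
  [(nat_lit 41), (nat_lit 27), (nat_lit 42), (nat_lit 28)],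
  [(nat_lit 53), (nat_lit 27), (nat_lit 38), (nat_lit 54), (nat_lit 28)],
  [(nat_lit 59), (nat_lit 27), (nat_lit 72), (nat_lit 40), (nat_lit 60), (nat_lit 28)],
  [(nat_lit 65), (nat_lit 27), (nat_lit 70), (nat_lit 42), (nat_lit 52), (nat_lit 56), (nat_lit 66), (nat_lit 28)],
  [(nat_lit 71), (nat_lit 27), (nat_lit 72), (nat_lit 28)],
  [(nat_lit 29), (nat_lit 25), (nat_lit 28)],
  [(nat_lit 1), (nat_lit 29), (nat_lit 2), (nat_lit 30)],
  [(nat_lit 7), (nat_lit 29), (nat_lit 8), (nat_lit 30)],
  [(nat_lit 13), (nat_lit 29), (nat_lit 12), (nat_lit 14), (nat_lit 30)],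
  [(nat_lit 19), (nat_lit 29), (nat_lit 6), (nat_lit 10), (nat_lit 20), (nat_lit 30)],
  [(nat_lit 31), (nat_lit 29), (nat_lit 2), (nat_lit 8), (nat_lit 16), (nat_lit 24), (nat_lit 32), (nat_lit 30)],
  [(nat_lit 37), (nat_lit 29), (nat_lit 38), (nat_lit 30)],
  [(nat_lit 49), (nat_lit 29), (nat_lit 42), (nat_lit 50), (nat_lit 30)],
  [(nat_lit 55), (nat_lit 29), (nat_lit 72), (nat_lit 40), (nat_lit 56), (nat_lit 30)],
  [(nat_lit 61), (nat_lit 29), (nat_lit 68), (nat_lit 38), (nat_lit 52), (nat_lit 60), (nat_lit 62), (nat_lit 30)],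
  [(nat_lit 67), (nat_lit 29), (nat_lit 68), (nat_lit 30)],
  [(nat_lit 29), (nat_lit 27), (nat_lit 26)],
  [(nat_lit 3), (nat_lit 29), (nat_lit 4), (nat_lit 30)],
  [(nat_lit 9), (nat_lit 29), (nat_lit 10), (nat_lit 30)],
  [(nat_lit 15), (nat_lit 29), (nat_lit 8), (nat_lit 16), (nat_lit 30)],
  [(nat_lit 21), (nat_lit 29), (nat_lit 4), (nat_lit 12), (nat_lit 22), (nat_lit 30)],
  [(nat_lit 33), (nat_lit 29), (nat_lit 6), (nat_lit 10), (nat_lit 18), (nat_lit 20), (nat_lit 34), (nat_lit 30)],
  [(nat_lit 39), (nat_lit 29), (nat_lit 40), (nat_lit 30)],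
  [(nat_lit 51), (nat_lit 29), (nat_lit 38), (nat_lit 52), (nat_lit 30)],
  [(nat_lit 57), (nat_lit 29), (nat_lit 70), (nat_lit 42), (nat_lit 58), (nat_lit 30)],
  [(nat_lit 63), (nat_lit 29), (nat_lit 72), (nat_lit 40), (nat_lit 54), (nat_lit 56), (nat_lit 64), (nat_lit 30)],
  [(nat_lit 69), (nat_lit 29), (nat_lit 70), (nat_lit 30)],
  [(nat_lit 29), (nat_lit 29)],
  [(nat_lit 5), (nat_lit 29), (nat_lit 6), (nat_lit 30)],
  [(nat_lit 11), (nat_lit 29), (nat_lit 12), (nat_lit 30)],
  [(nat_lit 17), (nat_lit 29), (nat_lit 10), (nat_lit 18), (nat_lit 30)],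
  [(nat_lit 23), (nat_lit 29), (nat_lit 2), (nat_lit 8), (nat_lit 24), (nat_lit 30)],
  [(nat_lit 35), (nat_lit 29), (nat_lit 4), (nat_lit 12), (nat_lit 14), (nat_lit 22), (nat_lit 36), (nat_lit 30)],
  [(nat_lit 41), (nat_lit 29), (nat_lit 42), (nat_lit 30)],
  [(nat_lit 53), (nat_lit 29), (nat_lit 40), (nat_lit 54), (nat_lit 30)],
  [(nat_lit 59), (nat_lit 29), (nat_lit 68), (nat_lit 38), (nat_lit 60), (nat_lit 30)],
  [(nat_lit 65), (nat_lit 29), (nat_lit 70), (nat_lit 42), (nat_lit 50), (nat_lit 58), (nat_lit 66), (nat_lit 30)],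
  [(nat_lit 71), (nat_lit 29), (nat_lit 72), (nat_lit 30)]]
noncomputable def R5 : List (List Nat) := [[(nat_lit 31), (nat_lit 31)],
  [(nat_lit 1), (nat_lit 31), (nat_lit 2), (nat_lit 32)],
  [(nat_lit 7), (nat_lit 31), (nat_lit 2), (nat_lit 8), (nat_lit 32)],
  [(nat_lit 13), (nat_lit 31), (nat_lit 14), (nat_lit 32)],
  [(nat_lit 19), (nat_lit 31), (nat_lit 20), (nat_lit 32)],
  [(nat_lit 25), (nat_lit 31), (nat_lit 8), (nat_lit 14), (nat_lit 20), (nat_lit 26), (nat_lit 32)],
  [(nat_lit 43), (nat_lit 31), (nat_lit 44), (nat_lit 32)],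
  [(nat_lit 49), (nat_lit 31), (nat_lit 68), (nat_lit 56), (nat_lit 44), (nat_lit 50), (nat_lit 32)],
  [(nat_lit 55), (nat_lit 31), (nat_lit 56), (nat_lit 32)],
  [(nat_lit 61), (nat_lit 31), (nat_lit 62), (nat_lit 32)],
  [(nat_lit 67), (nat_lit 31), (nat_lit 62), (nat_lit 68), (nat_lit 32)],
  [(nat_lit 31), (nat_lit 33), (nat_lit 36)],
  [(nat_lit 3), (nat_lit 31), (nat_lit 4), (nat_lit 32)],
  [(nat_lit 9), (nat_lit 31), (nat_lit 4), (nat_lit 10), (nat_lit 32)],
  [(nat_lit 15), (nat_lit 31), (nat_lit 16), (nat_lit 32)],
  [(nat_lit 21), (nat_lit 31), (nat_lit 22), (nat_lit 32)],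
  [(nat_lit 27), (nat_lit 31), (nat_lit 8), (nat_lit 18), (nat_lit 22), (nat_lit 28), (nat_lit 32)],
  [(nat_lit 45), (nat_lit 31), (nat_lit 46), (nat_lit 32)],
  [(nat_lit 51), (nat_lit 31), (nat_lit 68), (nat_lit 60), (nat_lit 46), (nat_lit 52), (nat_lit 32)],
  [(nat_lit 57), (nat_lit 31), (nat_lit 58), (nat_lit 32)],
  [(nat_lit 63), (nat_lit 31), (nat_lit 64), (nat_lit 32)],
  [(nat_lit 69), (nat_lit 31), (nat_lit 64), (nat_lit 70), (nat_lit 32)],
  [(nat_lit 31), (nat_lit 35), (nat_lit 34)],
  [(nat_lit 5), (nat_lit 31), (nat_lit 6), (nat_lit 32)],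
  [(nat_lit 11), (nat_lit 31), (nat_lit 6), (nat_lit 12), (nat_lit 32)],
  [(nat_lit 17), (nat_lit 31), (nat_lit 18), (nat_lit 32)],
  [(nat_lit 23), (nat_lit 31), (nat_lit 24), (nat_lit 32)],
  [(nat_lit 29), (nat_lit 31), (nat_lit 8), (nat_lit 16), (nat_lit 24), (nat_lit 30), (nat_lit 32)],
  [(nat_lit 47), (nat_lit 31), (nat_lit 48), (nat_lit 32)],
  [(nat_lit 53), (nat_lit 31), (nat_lit 68), (nat_lit 58), (nat_lit 48), (nat_lit 54), (nat_lit 32)],
  [(nat_lit 59), (nat_lit 31), (nat_lit 60), (nat_lit 32)],
  [(nat_lit 65), (nat_lit 31), (nat_lit 66), (nat_lit 32)],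
  [(nat_lit 71), (nat_lit 31), (nat_lit 66), (nat_lit 72), (nat_lit 32)],
  [(nat_lit 33), (nat_lit 31), (nat_lit 36)],
  [(nat_lit 1), (nat_lit 33), (nat_lit 2), (nat_lit 34)],
  [(nat_lit 7), (nat_lit 33), (nat_lit 4), (nat_lit 8), (nat_lit 34)],
  [(nat_lit 13), (nat_lit 33), (nat_lit 14), (nat_lit 34)],
  [(nat_lit 19), (nat_lit 33), (nat_lit 20), (nat_lit 34)],
  [(nat_lit 25), (nat_lit 33), (nat_lit 10), (nat_lit 16), (nat_lit 22), (nat_lit 26), (nat_lit 34)],
  [(nat_lit 43), (nat_lit 33), (nat_lit 44), (nat_lit 34)],
  [(nat_lit 49), (nat_lit 33), (nat_lit 70), (nat_lit 58), (nat_lit 46), (nat_lit 50), (nat_lit 34)],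
  [(nat_lit 55), (nat_lit 33), (nat_lit 56), (nat_lit 34)],
  [(nat_lit 61), (nat_lit 33), (nat_lit 62), (nat_lit 34)],
  [(nat_lit 67), (nat_lit 33), (nat_lit 64), (nat_lit 68), (nat_lit 34)],
  [(nat_lit 33), (nat_lit 33)],
  [(nat_lit 3), (nat_lit 33), (nat_lit 4), (nat_lit 34)],
  [(nat_lit 9), (nat_lit 33), (nat_lit 6), (nat_lit 10), (nat_lit 34)],
  [(nat_lit 15), (nat_lit 33), (nat_lit 16), (nat_lit 34)],
  [(nat_lit 21), (nat_lit 33), (nat_lit 22), (nat_lit 34)],
  [(nat_lit 27), (nat_lit 33), (nat_lit 10), (nat_lit 14), (nat_lit 24), (nat_lit 28), (nat_lit 34)],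
  [(nat_lit 45), (nat_lit 33), (nat_lit 46), (nat_lit 34)],
  [(nat_lit 51), (nat_lit 33), (nat_lit 70), (nat_lit 56), (nat_lit 48), (nat_lit 52), (nat_lit 34)],
  [(nat_lit 57), (nat_lit 33), (nat_lit 58), (nat_lit 34)],
  [(nat_lit 63), (nat_lit 33), (nat_lit 64), (nat_lit 34)],
  [(nat_lit 69), (nat_lit 33), (nat_lit 66), (nat_lit 70), (nat_lit 34)],
  [(nat_lit 33), (nat_lit 35), (nat_lit 32)],
  [(nat_lit 5), (nat_lit 33), (nat_lit 6), (nat_lit 34)],
  [(nat_lit 11), (nat_lit 33), (nat_lit 2), (nat_lit 12), (nat_lit 34)],
  [(nat_lit 17), (nat_lit 33), (nat_lit 18), (nat_lit 34)],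
  [(nat_lit 23), (nat_lit 33), (nat_lit 24), (nat_lit 34)],
  [(nat_lit 29), (nat_lit 33), (nat_lit 10), (nat_lit 18), (nat_lit 20), (nat_lit 30), (nat_lit 34)],
  [(nat_lit 47), (nat_lit 33), (nat_lit 48), (nat_lit 34)],
  [(nat_lit 53), (nat_lit 33), (nat_lit 70), (nat_lit 60), (nat_lit 44), (nat_lit 54), (nat_lit 34)],
  [(nat_lit 59), (nat_lit 33), (nat_lit 60), (nat_lit 34)],
  [(nat_lit 65), (nat_lit 33), (nat_lit 66), (nat_lit 34)],
  [(nat_lit 71), (nat_lit 33), (nat_lit 62), (nat_lit 72), (nat_lit 34)],
  [(nat_lit 35), (nat_lit 31), (nat_lit 34)],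
  [(nat_lit 1), (nat_lit 35), (nat_lit 2), (nat_lit 36)],
  [(nat_lit 7), (nat_lit 35), (nat_lit 6), (nat_lit 8), (nat_lit 36)],
  [(nat_lit 13), (nat_lit 35), (nat_lit 14), (nat_lit 36)],
  [(nat_lit 19), (nat_lit 35), (nat_lit 20), (nat_lit 36)],
  [(nat_lit 25), (nat_lit 35), (nat_lit 12), (nat_lit 18), (nat_lit 24), (nat_lit 26), (nat_lit 36)],
  [(nat_lit 43), (nat_lit 35), (nat_lit 44), (nat_lit 36)],
  [(nat_lit 49), (nat_lit 35), (nat_lit 72), (nat_lit 60), (nat_lit 48), (nat_lit 50), (nat_lit 36)],
  [(nat_lit 55), (nat_lit 35), (nat_lit 56), (nat_lit 36)],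
  [(nat_lit 61), (nat_lit 35), (nat_lit 62), (nat_lit 36)],
  [(nat_lit 67), (nat_lit 35), (nat_lit 66), (nat_lit 68), (nat_lit 36)],
  [(nat_lit 35), (nat_lit 33), (nat_lit 32)],
  [(nat_lit 3), (nat_lit 35), (nat_lit 4), (nat_lit 36)],
  [(nat_lit 9), (nat_lit 35), (nat_lit 2), (nat_lit 10), (nat_lit 36)],
  [(nat_lit 15), (nat_lit 35), (nat_lit 16), (nat_lit 36)],
  [(nat_lit 21), (nat_lit 35), (nat_lit 22), (nat_lit 36)],
  [(nat_lit 27), (nat_lit 35), (nat_lit 12), (nat_lit 16), (nat_lit 20), (nat_lit 28), (nat_lit 36)],
  [(nat_lit 45), (nat_lit 35), (nat_lit 46), (nat_lit 36)],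
  [(nat_lit 51), (nat_lit 35), (nat_lit 72), (nat_lit 58), (nat_lit 44), (nat_lit 52), (nat_lit 36)],
  [(nat_lit 57), (nat_lit 35), (nat_lit 58), (nat_lit 36)],
  [(nat_lit 63), (nat_lit 35), (nat_lit 64), (nat_lit 36)],
  [(nat_lit 69), (nat_lit 35), (nat_lit 62), (nat_lit 70), (nat_lit 36)],
  [(nat_lit 35), (nat_lit 35)],
  [(nat_lit 5), (nat_lit 35), (nat_lit 6), (nat_lit 36)],
  [(nat_lit 11), (nat_lit 35), (nat_lit 4), (nat_lit 12), (nat_lit 36)],
  [(nat_lit 17), (nat_lit 35), (nat_lit 18), (nat_lit 36)],
  [(nat_lit 23), (nat_lit 35), (nat_lit 24), (nat_lit 36)],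
  [(nat_lit 29), (nat_lit 35), (nat_lit 12), (nat_lit 14), (nat_lit 22), (nat_lit 30), (nat_lit 36)],
  [(nat_lit 47), (nat_lit 35), (nat_lit 48), (nat_lit 36)],
  [(nat_lit 53), (nat_lit 35), (nat_lit 72), (nat_lit 56), (nat_lit 46), (nat_lit 54), (nat_lit 36)],
  [(nat_lit 59), (nat_lit 35), (nat_lit 60), (nat_lit 36)],
  [(nat_lit 65), (nat_lit 35), (nat_lit 66), (nat_lit 36)],
  [(nat_lit 71), (nat_lit 35), (nat_lit 64), (nat_lit 72), (nat_lit 36)]]
noncomputable def R6 : List (List Nat) := [[(nat_lit 37), (nat_lit 37)],
  [(nat_lit 1), (nat_lit 37), (nat_lit 8), (nat_lit 2), (nat_lit 38)],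
  [(nat_lit 7), (nat_lit 37), (nat_lit 8), (nat_lit 38)],
  [(nat_lit 13), (nat_lit 37), (nat_lit 14), (nat_lit 38)],
  [(nat_lit 19), (nat_lit 37), (nat_lit 2), (nat_lit 14), (nat_lit 26), (nat_lit 20), (nat_lit 38)],
  [(nat_lit 25), (nat_lit 37), (nat_lit 26), (nat_lit 38)],
  [(nat_lit 43), (nat_lit 37), (nat_lit 62), (nat_lit 56), (nat_lit 50), (nat_lit 44), (nat_lit 38)],
  [(nat_lit 49), (nat_lit 37), (nat_lit 50), (nat_lit 38)],
  [(nat_lit 55), (nat_lit 37), (nat_lit 56), (nat_lit 38)],
  [(nat_lit 61), (nat_lit 37), (nat_lit 68), (nat_lit 62), (nat_lit 38)],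
  [(nat_lit 67), (nat_lit 37), (nat_lit 68), (nat_lit 38)],
  [(nat_lit 37), (nat_lit 39), (nat_lit 42)],
  [(nat_lit 3), (nat_lit 37), (nat_lit 10), (nat_lit 4), (nat_lit 38)],
  [(nat_lit 9), (nat_lit 37), (nat_lit 10), (nat_lit 38)],
  [(nat_lit 15), (nat_lit 37), (nat_lit 16), (nat_lit 38)],
  [(nat_lit 21), (nat_lit 37), (nat_lit 2), (nat_lit 18), (nat_lit 28), (nat_lit 22), (nat_lit 38)],
  [(nat_lit 27), (nat_lit 37), (nat_lit 28), (nat_lit 38)],
  [(nat_lit 45), (nat_lit 37), (nat_lit 62), (nat_lit 60), (nat_lit 52), (nat_lit 46), (nat_lit 38)],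
  [(nat_lit 51), (nat_lit 37), (nat_lit 52), (nat_lit 38)],
  [(nat_lit 57), (nat_lit 37), (nat_lit 58), (nat_lit 38)],
  [(nat_lit 63), (nat_lit 37), (nat_lit 70), (nat_lit 64), (nat_lit 38)],
  [(nat_lit 69), (nat_lit 37), (nat_lit 70), (nat_lit 38)],
  [(nat_lit 37), (nat_lit 41), (nat_lit 40)],
  [(nat_lit 5), (nat_lit 37), (nat_lit 12), (nat_lit 6), (nat_lit 38)],
  [(nat_lit 11), (nat_lit 37), (nat_lit 12), (nat_lit 38)],
  [(nat_lit 17), (nat_lit 37), (nat_lit 18), (nat_lit 38)],
  [(nat_lit 23), (nat_lit 37), (nat_lit 2), (nat_lit 16), (nat_lit 30), (nat_lit 24), (nat_lit 38)],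
  [(nat_lit 29), (nat_lit 37), (nat_lit 30), (nat_lit 38)],
  [(nat_lit 47), (nat_lit 37), (nat_lit 62), (nat_lit 58), (nat_lit 54), (nat_lit 48), (nat_lit 38)],
  [(nat_lit 53), (nat_lit 37), (nat_lit 54), (nat_lit 38)],
  [(nat_lit 59), (nat_lit 37), (nat_lit 60), (nat_lit 38)],
  [(nat_lit 65), (nat_lit 37), (nat_lit 72), (nat_lit 66), (nat_lit 38)],
  [(nat_lit 71), (nat_lit 37), (nat_lit 72), (nat_lit 38)],
  [(nat_lit 39), (nat_lit 37), (nat_lit 42)],
  [(nat_lit 1), (nat_lit 39), (nat_lit 10), (nat_lit 2), (nat_lit 40)],
  [(nat_lit 7), (nat_lit 39), (nat_lit 8), (nat_lit 40)],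
  [(nat_lit 13), (nat_lit 39), (nat_lit 14), (nat_lit 40)],
  [(nat_lit 19), (nat_lit 39), (nat_lit 4), (nat_lit 16), (nat_lit 28), (nat_lit 20), (nat_lit 40)],
  [(nat_lit 25), (nat_lit 39), (nat_lit 26), (nat_lit 40)],
  [(nat_lit 43), (nat_lit 39), (nat_lit 64), (nat_lit 58), (nat_lit 52), (nat_lit 44), (nat_lit 40)],
  [(nat_lit 49), (nat_lit 39), (nat_lit 50), (nat_lit 40)],
  [(nat_lit 55), (nat_lit 39), (nat_lit 56), (nat_lit 40)],
  [(nat_lit 61), (nat_lit 39), (nat_lit 70), (nat_lit 62), (nat_lit 40)],
  [(nat_lit 67), (nat_lit 39), (nat_lit 68), (nat_lit 40)],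
  [(nat_lit 39), (nat_lit 39)],
  [(nat_lit 3), (nat_lit 39), (nat_lit 12), (nat_lit 4), (nat_lit 40)],
  [(nat_lit 9), (nat_lit 39), (nat_lit 10), (nat_lit 40)],
  [(nat_lit 15), (nat_lit 39), (nat_lit 16), (nat_lit 40)],
  [(nat_lit 21), (nat_lit 39), (nat_lit 4), (nat_lit 14), (nat_lit 30), (nat_lit 22), (nat_lit 40)],
  [(nat_lit 27), (nat_lit 39), (nat_lit 28), (nat_lit 40)],
  [(nat_lit 45), (nat_lit 39), (nat_lit 64), (nat_lit 56), (nat_lit 54), (nat_lit 46), (nat_lit 40)],
  [(nat_lit 51), (nat_lit 39), (nat_lit 52), (nat_lit 40)],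
  [(nat_lit 57), (nat_lit 39), (nat_lit 58), (nat_lit 40)],
  [(nat_lit 63), (nat_lit 39), (nat_lit 72), (nat_lit 64), (nat_lit 40)],
  [(nat_lit 69), (nat_lit 39), (nat_lit 70), (nat_lit 40)],
  [(nat_lit 39), (nat_lit 41), (nat_lit 38)],
  [(nat_lit 5), (nat_lit 39), (nat_lit 8), (nat_lit 6), (nat_lit 40)],
  [(nat_lit 11), (nat_lit 39), (nat_lit 12), (nat_lit 40)],
  [(nat_lit 17), (nat_lit 39), (nat_lit 18), (nat_lit 40)],
  [(nat_lit 23), (nat_lit 39), (nat_lit 4), (nat_lit 18), (nat_lit 26), (nat_lit 24), (nat_lit 40)],
  [(nat_lit 29), (nat_lit 39), (nat_lit 30), (nat_lit 40)],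
  [(nat_lit 47), (nat_lit 39), (nat_lit 64), (nat_lit 60), (nat_lit 50), (nat_lit 48), (nat_lit 40)],
  [(nat_lit 53), (nat_lit 39), (nat_lit 54), (nat_lit 40)],
  [(nat_lit 59), (nat_lit 39), (nat_lit 60), (nat_lit 40)],
  [(nat_lit 65), (nat_lit 39), (nat_lit 68), (nat_lit 66), (nat_lit 40)],
  [(nat_lit 71), (nat_lit 39), (nat_lit 72), (nat_lit 40)],
  [(nat_lit 41), (nat_lit 37), (nat_lit 40)],
  [(nat_lit 1), (nat_lit 41), (nat_lit 12), (nat_lit 2), (nat_lit 42)],
  [(nat_lit 7), (nat_lit 41), (nat_lit 8), (nat_lit 42)],
  [(nat_lit 13), (nat_lit 41), (nat_lit 14), (nat_lit 42)],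
  [(nat_lit 19), (nat_lit 41), (nat_lit 6), (nat_lit 18), (nat_lit 30), (nat_lit 20), (nat_lit 42)],
  [(nat_lit 25), (nat_lit 41), (nat_lit 26), (nat_lit 42)],
  [(nat_lit 43), (nat_lit 41), (nat_lit 66), (nat_lit 60), (nat_lit 54), (nat_lit 44), (nat_lit 42)],
  [(nat_lit 49), (nat_lit 41), (nat_lit 50), (nat_lit 42)],
  [(nat_lit 55), (nat_lit 41), (nat_lit 56), (nat_lit 42)],
  [(nat_lit 61), (nat_lit 41), (nat_lit 72), (nat_lit 62), (nat_lit 42)],
  [(nat_lit 67), (nat_lit 41), (nat_lit 68), (nat_lit 42)],
  [(nat_lit 41), (nat_lit 39), (nat_lit 38)],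
  [(nat_lit 3), (nat_lit 41), (nat_lit 8), (nat_lit 4), (nat_lit 42)],
  [(nat_lit 9), (nat_lit 41), (nat_lit 10), (nat_lit 42)],
  [(nat_lit 15), (nat_lit 41), (nat_lit 16), (nat_lit 42)],
  [(nat_lit 21), (nat_lit 41), (nat_lit 6), (nat_lit 16), (nat_lit 26), (nat_lit 22), (nat_lit 42)],
  [(nat_lit 27), (nat_lit 41), (nat_lit 28), (nat_lit 42)],
  [(nat_lit 45), (nat_lit 41), (nat_lit 66), (nat_lit 58), (nat_lit 50), (nat_lit 46), (nat_lit 42)],
  [(nat_lit 51), (nat_lit 41), (nat_lit 52), (nat_lit 42)],
  [(nat_lit 57), (nat_lit 41), (nat_lit 58), (nat_lit 42)],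
  [(nat_lit 63), (nat_lit 41), (nat_lit 68), (nat_lit 64), (nat_lit 42)],
  [(nat_lit 69), (nat_lit 41), (nat_lit 70), (nat_lit 42)],
  [(nat_lit 41), (nat_lit 41)],
  [(nat_lit 5), (nat_lit 41), (nat_lit 10), (nat_lit 6), (nat_lit 42)],
  [(nat_lit 11), (nat_lit 41), (nat_lit 12), (nat_lit 42)],
  [(nat_lit 17), (nat_lit 41), (nat_lit 18), (nat_lit 42)],
  [(nat_lit 23), (nat_lit 41), (nat_lit 6), (nat_lit 14), (nat_lit 28), (nat_lit 24), (nat_lit 42)],
  [(nat_lit 29), (nat_lit 41), (nat_lit 30), (nat_lit 42)],
  [(nat_lit 47), (nat_lit 41), (nat_lit 66), (nat_lit 56), (nat_lit 52), (nat_lit 48), (nat_lit 42)],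
  [(nat_lit 53), (nat_lit 41), (nat_lit 54), (nat_lit 42)],
  [(nat_lit 59), (nat_lit 41), (nat_lit 60), (nat_lit 42)],
  [(nat_lit 65), (nat_lit 41), (nat_lit 70), (nat_lit 66), (nat_lit 42)],
  [(nat_lit 71), (nat_lit 41), (nat_lit 72), (nat_lit 42)]]
noncomputable def R7 : List (List Nat) := [[(nat_lit 43), (nat_lit 43)],
  [(nat_lit 1), (nat_lit 43), (nat_lit 2), (nat_lit 44)],
  [(nat_lit 7), (nat_lit 43), (nat_lit 2), (nat_lit 32), (nat_lit 20), (nat_lit 14), (nat_lit 8), (nat_lit 44)],
  [(nat_lit 13), (nat_lit 43), (nat_lit 2), (nat_lit 32), (nat_lit 14), (nat_lit 44)],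
  [(nat_lit 19), (nat_lit 43), (nat_lit 32), (nat_lit 20), (nat_lit 44)],
  [(nat_lit 31), (nat_lit 43), (nat_lit 32), (nat_lit 44)],
  [(nat_lit 37), (nat_lit 43), (nat_lit 68), (nat_lit 62), (nat_lit 56), (nat_lit 50), (nat_lit 38), (nat_lit 44)],
  [(nat_lit 49), (nat_lit 43), (nat_lit 68), (nat_lit 62), (nat_lit 50), (nat_lit 44)],
  [(nat_lit 55), (nat_lit 43), (nat_lit 62), (nat_lit 56), (nat_lit 44)],
  [(nat_lit 61), (nat_lit 43), (nat_lit 62), (nat_lit 44)],
  [(nat_lit 67), (nat_lit 43), (nat_lit 68), (nat_lit 44)],
  [(nat_lit 43), (nat_lit 45), (nat_lit 48)],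
  [(nat_lit 3), (nat_lit 43), (nat_lit 4), (nat_lit 44)],
  [(nat_lit 9), (nat_lit 43), (nat_lit 6), (nat_lit 34), (nat_lit 22), (nat_lit 16), (nat_lit 10), (nat_lit 44)],
  [(nat_lit 15), (nat_lit 43), (nat_lit 6), (nat_lit 34), (nat_lit 16), (nat_lit 44)],
  [(nat_lit 21), (nat_lit 43), (nat_lit 34), (nat_lit 22), (nat_lit 44)],
  [(nat_lit 33), (nat_lit 43), (nat_lit 34), (nat_lit 44)],
  [(nat_lit 39), (nat_lit 43), (nat_lit 72), (nat_lit 64), (nat_lit 58), (nat_lit 52), (nat_lit 40), (nat_lit 44)],
  [(nat_lit 51), (nat_lit 43), (nat_lit 72), (nat_lit 64), (nat_lit 52), (nat_lit 44)],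
  [(nat_lit 57), (nat_lit 43), (nat_lit 64), (nat_lit 58), (nat_lit 44)],
  [(nat_lit 63), (nat_lit 43), (nat_lit 64), (nat_lit 44)],
  [(nat_lit 69), (nat_lit 43), (nat_lit 70), (nat_lit 44)],
  [(nat_lit 43), (nat_lit 47), (nat_lit 46)],
  [(nat_lit 5), (nat_lit 43), (nat_lit 6), (nat_lit 44)],
  [(nat_lit 11), (nat_lit 43), (nat_lit 4), (nat_lit 36), (nat_lit 24), (nat_lit 18), (nat_lit 12), (nat_lit 44)],
  [(nat_lit 17), (nat_lit 43), (nat_lit 4), (nat_lit 36), (nat_lit 18), (nat_lit 44)],
  [(nat_lit 23), (nat_lit 43), (nat_lit 36), (nat_lit 24), (nat_lit 44)],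
  [(nat_lit 35), (nat_lit 43), (nat_lit 36), (nat_lit 44)],
  [(nat_lit 41), (nat_lit 43), (nat_lit 70), (nat_lit 66), (nat_lit 60), (nat_lit 54), (nat_lit 42), (nat_lit 44)],
  [(nat_lit 53), (nat_lit 43), (nat_lit 70), (nat_lit 66), (nat_lit 54), (nat_lit 44)],
  [(nat_lit 59), (nat_lit 43), (nat_lit 66), (nat_lit 60), (nat_lit 44)],
  [(nat_lit 65), (nat_lit 43), (nat_lit 66), (nat_lit 44)],
  [(nat_lit 71), (nat_lit 43), (nat_lit 72), (nat_lit 44)],
  [(nat_lit 45), (nat_lit 43), (nat_lit 48)],
  [(nat_lit 1), (nat_lit 45), (nat_lit 2), (nat_lit 46)],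
  [(nat_lit 7), (nat_lit 45), (nat_lit 2), (nat_lit 32), (nat_lit 24), (nat_lit 16), (nat_lit 8), (nat_lit 46)],
  [(nat_lit 13), (nat_lit 45), (nat_lit 4), (nat_lit 36), (nat_lit 14), (nat_lit 46)],
  [(nat_lit 19), (nat_lit 45), (nat_lit 34), (nat_lit 20), (nat_lit 46)],
  [(nat_lit 31), (nat_lit 45), (nat_lit 32), (nat_lit 46)],
  [(nat_lit 37), (nat_lit 45), (nat_lit 68), (nat_lit 62), (nat_lit 60), (nat_lit 52), (nat_lit 38), (nat_lit 46)],
  [(nat_lit 49), (nat_lit 45), (nat_lit 70), (nat_lit 66), (nat_lit 50), (nat_lit 46)],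
  [(nat_lit 55), (nat_lit 45), (nat_lit 64), (nat_lit 56), (nat_lit 46)],
  [(nat_lit 61), (nat_lit 45), (nat_lit 62), (nat_lit 46)],
  [(nat_lit 67), (nat_lit 45), (nat_lit 68), (nat_lit 46)],
  [(nat_lit 45), (nat_lit 45)],
  [(nat_lit 3), (nat_lit 45), (nat_lit 4), (nat_lit 46)],
  [(nat_lit 9), (nat_lit 45), (nat_lit 6), (nat_lit 34), (nat_lit 20), (nat_lit 18), (nat_lit 10), (nat_lit 46)],
  [(nat_lit 15), (nat_lit 45), (nat_lit 2), (nat_lit 32), (nat_lit 16), (nat_lit 46)],
  [(nat_lit 21), (nat_lit 45), (nat_lit 36), (nat_lit 22), (nat_lit 46)],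
  [(nat_lit 33), (nat_lit 45), (nat_lit 34), (nat_lit 46)],
  [(nat_lit 39), (nat_lit 45), (nat_lit 72), (nat_lit 64), (nat_lit 56), (nat_lit 54), (nat_lit 40), (nat_lit 46)],
  [(nat_lit 51), (nat_lit 45), (nat_lit 68), (nat_lit 62), (nat_lit 52), (nat_lit 46)],
  [(nat_lit 57), (nat_lit 45), (nat_lit 66), (nat_lit 58), (nat_lit 46)],
  [(nat_lit 63), (nat_lit 45), (nat_lit 64), (nat_lit 46)],
  [(nat_lit 69), (nat_lit 45), (nat_lit 70), (nat_lit 46)],
  [(nat_lit 45), (nat_lit 47), (nat_lit 44)],
  [(nat_lit 5), (nat_lit 45), (nat_lit 6), (nat_lit 46)],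
  [(nat_lit 11), (nat_lit 45), (nat_lit 4), (nat_lit 36), (nat_lit 22), (nat_lit 14), (nat_lit 12), (nat_lit 46)],
  [(nat_lit 17), (nat_lit 45), (nat_lit 6), (nat_lit 34), (nat_lit 18), (nat_lit 46)],
  [(nat_lit 23), (nat_lit 45), (nat_lit 32), (nat_lit 24), (nat_lit 46)],
  [(nat_lit 35), (nat_lit 45), (nat_lit 36), (nat_lit 46)],
  [(nat_lit 41), (nat_lit 45), (nat_lit 70), (nat_lit 66), (nat_lit 58), (nat_lit 50), (nat_lit 42), (nat_lit 46)],
  [(nat_lit 53), (nat_lit 45), (nat_lit 72), (nat_lit 64), (nat_lit 54), (nat_lit 46)],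
  [(nat_lit 59), (nat_lit 45), (nat_lit 62), (nat_lit 60), (nat_lit 46)],
  [(nat_lit 65), (nat_lit 45), (nat_lit 66), (nat_lit 46)],
  [(nat_lit 71), (nat_lit 45), (nat_lit 72), (nat_lit 46)],
  [(nat_lit 47), (nat_lit 43), (nat_lit 46)],
  [(nat_lit 1), (nat_lit 47), (nat_lit 2), (nat_lit 48)],
  [(nat_lit 7), (nat_lit 47), (nat_lit 2), (nat_lit 32), (nat_lit 22), (nat_lit 18), (nat_lit 8), (nat_lit 48)],
  [(nat_lit 13), (nat_lit 47), (nat_lit 6), (nat_lit 34), (nat_lit 14), (nat_lit 48)],
  [(nat_lit 19), (nat_lit 47), (nat_lit 36), (nat_lit 20), (nat_lit 48)],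
  [(nat_lit 31), (nat_lit 47), (nat_lit 32), (nat_lit 48)],
  [(nat_lit 37), (nat_lit 47), (nat_lit 68), (nat_lit 62), (nat_lit 58), (nat_lit 54), (nat_lit 38), (nat_lit 48)],
  [(nat_lit 49), (nat_lit 47), (nat_lit 72), (nat_lit 64), (nat_lit 50), (nat_lit 48)],
  [(nat_lit 55), (nat_lit 47), (nat_lit 66), (nat_lit 56), (nat_lit 48)],
  [(nat_lit 61), (nat_lit 47), (nat_lit 62), (nat_lit 48)],
  [(nat_lit 67), (nat_lit 47), (nat_lit 68), (nat_lit 48)],
  [(nat_lit 47), (nat_lit 45), (nat_lit 44)],
  [(nat_lit 3), (nat_lit 47), (nat_lit 4), (nat_lit 48)],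
  [(nat_lit 9), (nat_lit 47), (nat_lit 6), (nat_lit 34), (nat_lit 24), (nat_lit 14), (nat_lit 10), (nat_lit 48)],
  [(nat_lit 15), (nat_lit 47), (nat_lit 4), (nat_lit 36), (nat_lit 16), (nat_lit 48)],
  [(nat_lit 21), (nat_lit 47), (nat_lit 32), (nat_lit 22), (nat_lit 48)],
  [(nat_lit 33), (nat_lit 47), (nat_lit 34), (nat_lit 48)],
  [(nat_lit 39), (nat_lit 47), (nat_lit 72), (nat_lit 64), (nat_lit 60), (nat_lit 50), (nat_lit 40), (nat_lit 48)],
  [(nat_lit 51), (nat_lit 47), (nat_lit 70), (nat_lit 66), (nat_lit 52), (nat_lit 48)],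
  [(nat_lit 57), (nat_lit 47), (nat_lit 62), (nat_lit 58), (nat_lit 48)],
  [(nat_lit 63), (nat_lit 47), (nat_lit 64), (nat_lit 48)],
  [(nat_lit 69), (nat_lit 47), (nat_lit 70), (nat_lit 48)],
  [(nat_lit 47), (nat_lit 47)],
  [(nat_lit 5), (nat_lit 47), (nat_lit 6), (nat_lit 48)],
  [(nat_lit 11), (nat_lit 47), (nat_lit 4), (nat_lit 36), (nat_lit 20), (nat_lit 16), (nat_lit 12), (nat_lit 48)],
  [(nat_lit 17), (nat_lit 47), (nat_lit 2), (nat_lit 32), (nat_lit 18), (nat_lit 48)],
  [(nat_lit 23), (nat_lit 47), (nat_lit 34), (nat_lit 24), (nat_lit 48)],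
  [(nat_lit 35), (nat_lit 47), (nat_lit 36), (nat_lit 48)],
  [(nat_lit 41), (nat_lit 47), (nat_lit 70), (nat_lit 66), (nat_lit 56), (nat_lit 52), (nat_lit 42), (nat_lit 48)],
  [(nat_lit 53), (nat_lit 47), (nat_lit 68), (nat_lit 62), (nat_lit 54), (nat_lit 48)],
  [(nat_lit 59), (nat_lit 47), (nat_lit 64), (nat_lit 60), (nat_lit 48)],
  [(nat_lit 65), (nat_lit 47), (nat_lit 66), (nat_lit 48)],
  [(nat_lit 71), (nat_lit 47), (nat_lit 72), (nat_lit 48)]]
noncomputable def R8 : List (List Nat) := [[(nat_lit 49), (nat_lit 49)],
  [(nat_lit 1), (nat_lit 49), (nat_lit 8), (nat_lit 38), (nat_lit 26), (nat_lit 14), (nat_lit 2), (nat_lit 50)],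
  [(nat_lit 7), (nat_lit 49), (nat_lit 8), (nat_lit 50)],
  [(nat_lit 13), (nat_lit 49), (nat_lit 8), (nat_lit 38), (nat_lit 14), (nat_lit 50)],
  [(nat_lit 25), (nat_lit 49), (nat_lit 38), (nat_lit 26), (nat_lit 50)],
  [(nat_lit 31), (nat_lit 49), (nat_lit 62), (nat_lit 68), (nat_lit 56), (nat_lit 44), (nat_lit 32), (nat_lit 50)],
  [(nat_lit 37), (nat_lit 49), (nat_lit 38), (nat_lit 50)],
  [(nat_lit 43), (nat_lit 49), (nat_lit 62), (nat_lit 68), (nat_lit 44), (nat_lit 50)],
  [(nat_lit 55), (nat_lit 49), (nat_lit 68), (nat_lit 56), (nat_lit 50)],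
  [(nat_lit 61), (nat_lit 49), (nat_lit 62), (nat_lit 50)],
  [(nat_lit 67), (nat_lit 49), (nat_lit 68), (nat_lit 50)],
  [(nat_lit 49), (nat_lit 51), (nat_lit 54)],
  [(nat_lit 3), (nat_lit 49), (nat_lit 12), (nat_lit 40), (nat_lit 28), (nat_lit 16), (nat_lit 4), (nat_lit 50)],
  [(nat_lit 9), (nat_lit 49), (nat_lit 10), (nat_lit 50)],
  [(nat_lit 15), (nat_lit 49), (nat_lit 12), (nat_lit 40), (nat_lit 16), (nat_lit 50)],
  [(nat_lit 27), (nat_lit 49), (nat_lit 40), (nat_lit 28), (nat_lit 50)],
  [(nat_lit 33), (nat_lit 49), (nat_lit 66), (nat_lit 70), (nat_lit 58), (nat_lit 46), (nat_lit 34), (nat_lit 50)],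
  [(nat_lit 39), (nat_lit 49), (nat_lit 40), (nat_lit 50)],
  [(nat_lit 45), (nat_lit 49), (nat_lit 66), (nat_lit 70), (nat_lit 46), (nat_lit 50)],
  [(nat_lit 57), (nat_lit 49), (nat_lit 70), (nat_lit 58), (nat_lit 50)],
  [(nat_lit 63), (nat_lit 49), (nat_lit 64), (nat_lit 50)],
  [(nat_lit 69), (nat_lit 49), (nat_lit 70), (nat_lit 50)],
  [(nat_lit 49), (nat_lit 53), (nat_lit 52)],
  [(nat_lit 5), (nat_lit 49), (nat_lit 10), (nat_lit 42), (nat_lit 30), (nat_lit 18), (nat_lit 6), (nat_lit 50)],
  [(nat_lit 11), (nat_lit 49), (nat_lit 12), (nat_lit 50)],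
  [(nat_lit 17), (nat_lit 49), (nat_lit 10), (nat_lit 42), (nat_lit 18), (nat_lit 50)],
  [(nat_lit 29), (nat_lit 49), (nat_lit 42), (nat_lit 30), (nat_lit 50)],
  [(nat_lit 35), (nat_lit 49), (nat_lit 64), (nat_lit 72), (nat_lit 60), (nat_lit 48), (nat_lit 36), (nat_lit 50)],
  [(nat_lit 41), (nat_lit 49), (nat_lit 42), (nat_lit 50)],
  [(nat_lit 47), (nat_lit 49), (nat_lit 64), (nat_lit 72), (nat_lit 48), (nat_lit 50)],
  [(nat_lit 59), (nat_lit 49), (nat_lit 72), (nat_lit 60), (nat_lit 50)],
  [(nat_lit 65), (nat_lit 49), (nat_lit 66), (nat_lit 50)],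
  [(nat_lit 71), (nat_lit 49), (nat_lit 72), (nat_lit 50)],
  [(nat_lit 51), (nat_lit 49), (nat_lit 54)],
  [(nat_lit 1), (nat_lit 51), (nat_lit 8), (nat_lit 38), (nat_lit 30), (nat_lit 16), (nat_lit 2), (nat_lit 52)],
  [(nat_lit 7), (nat_lit 51), (nat_lit 8), (nat_lit 52)],
  [(nat_lit 13), (nat_lit 51), (nat_lit 10), (nat_lit 42), (nat_lit 14), (nat_lit 52)],
  [(nat_lit 25), (nat_lit 51), (nat_lit 40), (nat_lit 26), (nat_lit 52)],
  [(nat_lit 31), (nat_lit 51), (nat_lit 62), (nat_lit 68), (nat_lit 60), (nat_lit 46), (nat_lit 32), (nat_lit 52)],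
  [(nat_lit 37), (nat_lit 51), (nat_lit 38), (nat_lit 52)],
  [(nat_lit 43), (nat_lit 51), (nat_lit 64), (nat_lit 72), (nat_lit 44), (nat_lit 52)],
  [(nat_lit 55), (nat_lit 51), (nat_lit 70), (nat_lit 56), (nat_lit 52)],
  [(nat_lit 61), (nat_lit 51), (nat_lit 62), (nat_lit 52)],
  [(nat_lit 67), (nat_lit 51), (nat_lit 68), (nat_lit 52)],
  [(nat_lit 51), (nat_lit 51)],
  [(nat_lit 3), (nat_lit 51), (nat_lit 12), (nat_lit 40), (nat_lit 26), (nat_lit 18), (nat_lit 4), (nat_lit 52)],
  [(nat_lit 9), (nat_lit 51), (nat_lit 10), (nat_lit 52)],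
  [(nat_lit 15), (nat_lit 51), (nat_lit 8), (nat_lit 38), (nat_lit 16), (nat_lit 52)],
  [(nat_lit 27), (nat_lit 51), (nat_lit 42), (nat_lit 28), (nat_lit 52)],
  [(nat_lit 33), (nat_lit 51), (nat_lit 66), (nat_lit 70), (nat_lit 56), (nat_lit 48), (nat_lit 34), (nat_lit 52)],
  [(nat_lit 39), (nat_lit 51), (nat_lit 40), (nat_lit 52)],
  [(nat_lit 45), (nat_lit 51), (nat_lit 62), (nat_lit 68), (nat_lit 46), (nat_lit 52)],
  [(nat_lit 57), (nat_lit 51), (nat_lit 72), (nat_lit 58), (nat_lit 52)],
  [(nat_lit 63), (nat_lit 51), (nat_lit 64), (nat_lit 52)],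
  [(nat_lit 69), (nat_lit 51), (nat_lit 70), (nat_lit 52)],
  [(nat_lit 51), (nat_lit 53), (nat_lit 50)],
  [(nat_lit 5), (nat_lit 51), (nat_lit 10), (nat_lit 42), (nat_lit 28), (nat_lit 14), (nat_lit 6), (nat_lit 52)],
  [(nat_lit 11), (nat_lit 51), (nat_lit 12), (nat_lit 52)],
  [(nat_lit 17), (nat_lit 51), (nat_lit 12), (nat_lit 40), (nat_lit 18), (nat_lit 52)],
  [(nat_lit 29), (nat_lit 51), (nat_lit 38), (nat_lit 30), (nat_lit 52)],
  [(nat_lit 35), (nat_lit 51), (nat_lit 64), (nat_lit 72), (nat_lit 58), (nat_lit 44), (nat_lit 36), (nat_lit 52)],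
  [(nat_lit 41), (nat_lit 51), (nat_lit 42), (nat_lit 52)],
  [(nat_lit 47), (nat_lit 51), (nat_lit 66), (nat_lit 70), (nat_lit 48), (nat_lit 52)],
  [(nat_lit 59), (nat_lit 51), (nat_lit 68), (nat_lit 60), (nat_lit 52)],
  [(nat_lit 65), (nat_lit 51), (nat_lit 66), (nat_lit 52)],
  [(nat_lit 71), (nat_lit 51), (nat_lit 72), (nat_lit 52)],
  [(nat_lit 53), (nat_lit 49), (nat_lit 52)],
  [(nat_lit 1), (nat_lit 53), (nat_lit 8), (nat_lit 38), (nat_lit 28), (nat_lit 18), (nat_lit 2), (nat_lit 54)],
  [(nat_lit 7), (nat_lit 53), (nat_lit 8), (nat_lit 54)],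
  [(nat_lit 13), (nat_lit 53), (nat_lit 12), (nat_lit 40), (nat_lit 14), (nat_lit 54)],
  [(nat_lit 25), (nat_lit 53), (nat_lit 42), (nat_lit 26), (nat_lit 54)],
  [(nat_lit 31), (nat_lit 53), (nat_lit 62), (nat_lit 68), (nat_lit 58), (nat_lit 48), (nat_lit 32), (nat_lit 54)],
  [(nat_lit 37), (nat_lit 53), (nat_lit 38), (nat_lit 54)],
  [(nat_lit 43), (nat_lit 53), (nat_lit 66), (nat_lit 70), (nat_lit 44), (nat_lit 54)],
  [(nat_lit 55), (nat_lit 53), (nat_lit 72), (nat_lit 56), (nat_lit 54)],
  [(nat_lit 61), (nat_lit 53), (nat_lit 62), (nat_lit 54)],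
  [(nat_lit 67), (nat_lit 53), (nat_lit 68), (nat_lit 54)],
  [(nat_lit 53), (nat_lit 51), (nat_lit 50)],
  [(nat_lit 3), (nat_lit 53), (nat_lit 12), (nat_lit 40), (nat_lit 30), (nat_lit 14), (nat_lit 4), (nat_lit 54)],
  [(nat_lit 9), (nat_lit 53), (nat_lit 10), (nat_lit 54)],
  [(nat_lit 15), (nat_lit 53), (nat_lit 10), (nat_lit 42), (nat_lit 16), (nat_lit 54)],
  [(nat_lit 27), (nat_lit 53), (nat_lit 38), (nat_lit 28), (nat_lit 54)],
  [(nat_lit 33), (nat_lit 53), (nat_lit 66), (nat_lit 70), (nat_lit 60), (nat_lit 44), (nat_lit 34), (nat_lit 54)],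
  [(nat_lit 39), (nat_lit 53), (nat_lit 40), (nat_lit 54)],
  [(nat_lit 45), (nat_lit 53), (nat_lit 64), (nat_lit 72), (nat_lit 46), (nat_lit 54)],
  [(nat_lit 57), (nat_lit 53), (nat_lit 68), (nat_lit 58), (nat_lit 54)],
  [(nat_lit 63), (nat_lit 53), (nat_lit 64), (nat_lit 54)],
  [(nat_lit 69), (nat_lit 53), (nat_lit 70), (nat_lit 54)],
  [(nat_lit 53), (nat_lit 53)],
  [(nat_lit 5), (nat_lit 53), (nat_lit 10), (nat_lit 42), (nat_lit 26), (nat_lit 16), (nat_lit 6), (nat_lit 54)],
  [(nat_lit 11), (nat_lit 53), (nat_lit 12), (nat_lit 54)],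
  [(nat_lit 17), (nat_lit 53), (nat_lit 8), (nat_lit 38), (nat_lit 18), (nat_lit 54)],
  [(nat_lit 29), (nat_lit 53), (nat_lit 40), (nat_lit 30), (nat_lit 54)],
  [(nat_lit 35), (nat_lit 53), (nat_lit 64), (nat_lit 72), (nat_lit 56), (nat_lit 46), (nat_lit 36), (nat_lit 54)],
  [(nat_lit 41), (nat_lit 53), (nat_lit 42), (nat_lit 54)],
  [(nat_lit 47), (nat_lit 53), (nat_lit 62), (nat_lit 68), (nat_lit 48), (nat_lit 54)],
  [(nat_lit 59), (nat_lit 53), (nat_lit 70), (nat_lit 60), (nat_lit 54)],
  [(nat_lit 65), (nat_lit 53), (nat_lit 66), (nat_lit 54)],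
  [(nat_lit 71), (nat_lit 53), (nat_lit 72), (nat_lit 54)]]
noncomputable def R9 : List (List Nat) := [[(nat_lit 55), (nat_lit 55)],
  [(nat_lit 1), (nat_lit 55), (nat_lit 32), (nat_lit 62), (nat_lit 44), (nat_lit 20), (nat_lit 2), (nat_lit 56)],
  [(nat_lit 7), (nat_lit 55), (nat_lit 38), (nat_lit 68), (nat_lit 50), (nat_lit 26), (nat_lit 8), (nat_lit 56)],
  [(nat_lit 19), (nat_lit 55), (nat_lit 32), (nat_lit 62), (nat_lit 20), (nat_lit 56)],
  [(nat_lit 25), (nat_lit 55), (nat_lit 38), (nat_lit 68), (nat_lit 26), (nat_lit 56)],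
  [(nat_lit 31), (nat_lit 55), (nat_lit 32), (nat_lit 56)],
  [(nat_lit 37), (nat_lit 55), (nat_lit 38), (nat_lit 56)],
  [(nat_lit 43), (nat_lit 55), (nat_lit 62), (nat_lit 44), (nat_lit 56)],
  [(nat_lit 49), (nat_lit 55), (nat_lit 68), (nat_lit 50), (nat_lit 56)],
  [(nat_lit 61), (nat_lit 55), (nat_lit 62), (nat_lit 56)],
  [(nat_lit 67), (nat_lit 55), (nat_lit 68), (nat_lit 56)],
  [(nat_lit 55), (nat_lit 57), (nat_lit 60)],
  [(nat_lit 3), (nat_lit 55), (nat_lit 36), (nat_lit 64), (nat_lit 46), (nat_lit 22), (nat_lit 4), (nat_lit 56)],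
  [(nat_lit 9), (nat_lit 55), (nat_lit 42), (nat_lit 70), (nat_lit 52), (nat_lit 28), (nat_lit 10), (nat_lit 56)],
  [(nat_lit 21), (nat_lit 55), (nat_lit 36), (nat_lit 64), (nat_lit 22), (nat_lit 56)],
  [(nat_lit 27), (nat_lit 55), (nat_lit 42), (nat_lit 70), (nat_lit 28), (nat_lit 56)],
  [(nat_lit 33), (nat_lit 55), (nat_lit 34), (nat_lit 56)],
  [(nat_lit 39), (nat_lit 55), (nat_lit 40), (nat_lit 56)],
  [(nat_lit 45), (nat_lit 55), (nat_lit 64), (nat_lit 46), (nat_lit 56)],
  [(nat_lit 51), (nat_lit 55), (nat_lit 70), (nat_lit 52), (nat_lit 56)],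
  [(nat_lit 63), (nat_lit 55), (nat_lit 64), (nat_lit 56)],
  [(nat_lit 69), (nat_lit 55), (nat_lit 70), (nat_lit 56)],
  [(nat_lit 55), (nat_lit 59), (nat_lit 58)],
  [(nat_lit 5), (nat_lit 55), (nat_lit 34), (nat_lit 66), (nat_lit 48), (nat_lit 24), (nat_lit 6), (nat_lit 56)],
  [(nat_lit 11), (nat_lit 55), (nat_lit 40), (nat_lit 72), (nat_lit 54), (nat_lit 30), (nat_lit 12), (nat_lit 56)],
  [(nat_lit 23), (nat_lit 55), (nat_lit 34), (nat_lit 66), (nat_lit 24), (nat_lit 56)],
  [(nat_lit 29), (nat_lit 55), (nat_lit 40), (nat_lit 72), (nat_lit 30), (nat_lit 56)],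
  [(nat_lit 35), (nat_lit 55), (nat_lit 36), (nat_lit 56)],
  [(nat_lit 41), (nat_lit 55), (nat_lit 42), (nat_lit 56)],
  [(nat_lit 47), (nat_lit 55), (nat_lit 66), (nat_lit 48), (nat_lit 56)],
  [(nat_lit 53), (nat_lit 55), (nat_lit 72), (nat_lit 54), (nat_lit 56)],
  [(nat_lit 65), (nat_lit 55), (nat_lit 66), (nat_lit 56)],
  [(nat_lit 71), (nat_lit 55), (nat_lit 72), (nat_lit 56)],
  [(nat_lit 57), (nat_lit 55), (nat_lit 60)],
  [(nat_lit 1), (nat_lit 57), (nat_lit 32), (nat_lit 62), (nat_lit 48), (nat_lit 22), (nat_lit 2), (nat_lit 58)],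
  [(nat_lit 7), (nat_lit 57), (nat_lit 38), (nat_lit 68), (nat_lit 54), (nat_lit 28), (nat_lit 8), (nat_lit 58)],
  [(nat_lit 19), (nat_lit 57), (nat_lit 34), (nat_lit 66), (nat_lit 20), (nat_lit 58)],
  [(nat_lit 25), (nat_lit 57), (nat_lit 40), (nat_lit 72), (nat_lit 26), (nat_lit 58)],
  [(nat_lit 31), (nat_lit 57), (nat_lit 32), (nat_lit 58)],
  [(nat_lit 37), (nat_lit 57), (nat_lit 38), (nat_lit 58)],
  [(nat_lit 43), (nat_lit 57), (nat_lit 64), (nat_lit 44), (nat_lit 58)],
  [(nat_lit 49), (nat_lit 57), (nat_lit 70), (nat_lit 50), (nat_lit 58)],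
  [(nat_lit 61), (nat_lit 57), (nat_lit 62), (nat_lit 58)],
  [(nat_lit 67), (nat_lit 57), (nat_lit 68), (nat_lit 58)],
  [(nat_lit 57), (nat_lit 57)],
  [(nat_lit 3), (nat_lit 57), (nat_lit 36), (nat_lit 64), (nat_lit 44), (nat_lit 24), (nat_lit 4), (nat_lit 58)],
  [(nat_lit 9), (nat_lit 57), (nat_lit 42), (nat_lit 70), (nat_lit 50), (nat_lit 30), (nat_lit 10), (nat_lit 58)],
  [(nat_lit 21), (nat_lit 57), (nat_lit 32), (nat_lit 62), (nat_lit 22), (nat_lit 58)],
  [(nat_lit 27), (nat_lit 57), (nat_lit 38), (nat_lit 68), (nat_lit 28), (nat_lit 58)],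
  [(nat_lit 33), (nat_lit 57), (nat_lit 34), (nat_lit 58)],
  [(nat_lit 39), (nat_lit 57), (nat_lit 40), (nat_lit 58)],
  [(nat_lit 45), (nat_lit 57), (nat_lit 66), (nat_lit 46), (nat_lit 58)],
  [(nat_lit 51), (nat_lit 57), (nat_lit 72), (nat_lit 52), (nat_lit 58)],
  [(nat_lit 63), (nat_lit 57), (nat_lit 64), (nat_lit 58)],
  [(nat_lit 69), (nat_lit 57), (nat_lit 70), (nat_lit 58)],
  [(nat_lit 57), (nat_lit 59), (nat_lit 56)],
  [(nat_lit 5), (nat_lit 57), (nat_lit 34), (nat_lit 66), (nat_lit 46), (nat_lit 20), (nat_lit 6), (nat_lit 58)],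
  [(nat_lit 11), (nat_lit 57), (nat_lit 40), (nat_lit 72), (nat_lit 52), (nat_lit 26), (nat_lit 12), (nat_lit 58)],
  [(nat_lit 23), (nat_lit 57), (nat_lit 36), (nat_lit 64), (nat_lit 24), (nat_lit 58)],
  [(nat_lit 29), (nat_lit 57), (nat_lit 42), (nat_lit 70), (nat_lit 30), (nat_lit 58)],
  [(nat_lit 35), (nat_lit 57), (nat_lit 36), (nat_lit 58)],
  [(nat_lit 41), (nat_lit 57), (nat_lit 42), (nat_lit 58)],
  [(nat_lit 47), (nat_lit 57), (nat_lit 62), (nat_lit 48), (nat_lit 58)],
  [(nat_lit 53), (nat_lit 57), (nat_lit 68), (nat_lit 54), (nat_lit 58)],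
  [(nat_lit 65), (nat_lit 57), (nat_lit 66), (nat_lit 58)],
  [(nat_lit 71), (nat_lit 57), (nat_lit 72), (nat_lit 58)],
  [(nat_lit 59), (nat_lit 55), (nat_lit 58)],
  [(nat_lit 1), (nat_lit 59), (nat_lit 32), (nat_lit 62), (nat_lit 46), (nat_lit 24), (nat_lit 2), (nat_lit 60)],
  [(nat_lit 7), (nat_lit 59), (nat_lit 38), (nat_lit 68), (nat_lit 52), (nat_lit 30), (nat_lit 8), (nat_lit 60)],
  [(nat_lit 19), (nat_lit 59), (nat_lit 36), (nat_lit 64), (nat_lit 20), (nat_lit 60)],
  [(nat_lit 25), (nat_lit 59), (nat_lit 42), (nat_lit 70), (nat_lit 26), (nat_lit 60)],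
  [(nat_lit 31), (nat_lit 59), (nat_lit 32), (nat_lit 60)],
  [(nat_lit 37), (nat_lit 59), (nat_lit 38), (nat_lit 60)],
  [(nat_lit 43), (nat_lit 59), (nat_lit 66), (nat_lit 44), (nat_lit 60)],
  [(nat_lit 49), (nat_lit 59), (nat_lit 72), (nat_lit 50), (nat_lit 60)],
  [(nat_lit 61), (nat_lit 59), (nat_lit 62), (nat_lit 60)],
  [(nat_lit 67), (nat_lit 59), (nat_lit 68), (nat_lit 60)],
  [(nat_lit 59), (nat_lit 57), (nat_lit 56)],
  [(nat_lit 3), (nat_lit 59), (nat_lit 36), (nat_lit 64), (nat_lit 48), (nat_lit 20), (nat_lit 4), (nat_lit 60)],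
  [(nat_lit 9), (nat_lit 59), (nat_lit 42), (nat_lit 70), (nat_lit 54), (nat_lit 26), (nat_lit 10), (nat_lit 60)],
  [(nat_lit 21), (nat_lit 59), (nat_lit 34), (nat_lit 66), (nat_lit 22), (nat_lit 60)],
  [(nat_lit 27), (nat_lit 59), (nat_lit 40), (nat_lit 72), (nat_lit 28), (nat_lit 60)],
  [(nat_lit 33), (nat_lit 59), (nat_lit 34), (nat_lit 60)],
  [(nat_lit 39), (nat_lit 59), (nat_lit 40), (nat_lit 60)],
  [(nat_lit 45), (nat_lit 59), (nat_lit 62), (nat_lit 46), (nat_lit 60)],
  [(nat_lit 51), (nat_lit 59), (nat_lit 68), (nat_lit 52), (nat_lit 60)],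
  [(nat_lit 63), (nat_lit 59), (nat_lit 64), (nat_lit 60)],
  [(nat_lit 69), (nat_lit 59), (nat_lit 70), (nat_lit 60)],
  [(nat_lit 59), (nat_lit 59)],
  [(nat_lit 5), (nat_lit 59), (nat_lit 34), (nat_lit 66), (nat_lit 44), (nat_lit 22), (nat_lit 6), (nat_lit 60)],
  [(nat_lit 11), (nat_lit 59), (nat_lit 40), (nat_lit 72), (nat_lit 50), (nat_lit 28), (nat_lit 12), (nat_lit 60)],
  [(nat_lit 23), (nat_lit 59), (nat_lit 32), (nat_lit 62), (nat_lit 24), (nat_lit 60)],
  [(nat_lit 29), (nat_lit 59), (nat_lit 38), (nat_lit 68), (nat_lit 30), (nat_lit 60)],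
  [(nat_lit 35), (nat_lit 59), (nat_lit 36), (nat_lit 60)],
  [(nat_lit 41), (nat_lit 59), (nat_lit 42), (nat_lit 60)],
  [(nat_lit 47), (nat_lit 59), (nat_lit 64), (nat_lit 48), (nat_lit 60)],
  [(nat_lit 53), (nat_lit 59), (nat_lit 70), (nat_lit 54), (nat_lit 60)],
  [(nat_lit 65), (nat_lit 59), (nat_lit 66), (nat_lit 60)],
  [(nat_lit 71), (nat_lit 59), (nat_lit 72), (nat_lit 60)]]
noncomputable def R10 : List (List Nat) := [[(nat_lit 61), (nat_lit 61)],
  [(nat_lit 1), (nat_lit 61), (nat_lit 32), (nat_lit 2), (nat_lit 62)],
  [(nat_lit 13), (nat_lit 61), (nat_lit 2), (nat_lit 20), (nat_lit 44), (nat_lit 14), (nat_lit 62)],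
  [(nat_lit 19), (nat_lit 61), (nat_lit 20), (nat_lit 62)],
  [(nat_lit 25), (nat_lit 61), (nat_lit 38), (nat_lit 50), (nat_lit 56), (nat_lit 26), (nat_lit 62)],
  [(nat_lit 31), (nat_lit 61), (nat_lit 32), (nat_lit 62)],
  [(nat_lit 37), (nat_lit 61), (nat_lit 68), (nat_lit 38), (nat_lit 62)],
  [(nat_lit 43), (nat_lit 61), (nat_lit 44), (nat_lit 62)],
  [(nat_lit 49), (nat_lit 61), (nat_lit 50), (nat_lit 62)],
  [(nat_lit 55), (nat_lit 61), (nat_lit 56), (nat_lit 62)],
  [(nat_lit 67), (nat_lit 61), (nat_lit 68), (nat_lit 62)],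
  [(nat_lit 61), (nat_lit 63), (nat_lit 66)],
  [(nat_lit 3), (nat_lit 61), (nat_lit 34), (nat_lit 4), (nat_lit 62)],
  [(nat_lit 15), (nat_lit 61), (nat_lit 2), (nat_lit 24), (nat_lit 46), (nat_lit 16), (nat_lit 62)],
  [(nat_lit 21), (nat_lit 61), (nat_lit 22), (nat_lit 62)],
  [(nat_lit 27), (nat_lit 61), (nat_lit 38), (nat_lit 54), (nat_lit 58), (nat_lit 28), (nat_lit 62)],
  [(nat_lit 33), (nat_lit 61), (nat_lit 34), (nat_lit 62)],
  [(nat_lit 39), (nat_lit 61), (nat_lit 70), (nat_lit 40), (nat_lit 62)],
  [(nat_lit 45), (nat_lit 61), (nat_lit 46), (nat_lit 62)],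
  [(nat_lit 51), (nat_lit 61), (nat_lit 52), (nat_lit 62)],
  [(nat_lit 57), (nat_lit 61), (nat_lit 58), (nat_lit 62)],
  [(nat_lit 69), (nat_lit 61), (nat_lit 70), (nat_lit 62)],
  [(nat_lit 61), (nat_lit 65), (nat_lit 64)],
  [(nat_lit 5), (nat_lit 61), (nat_lit 36), (nat_lit 6), (nat_lit 62)],
  [(nat_lit 17), (nat_lit 61), (nat_lit 2), (nat_lit 22), (nat_lit 48), (nat_lit 18), (nat_lit 62)],
  [(nat_lit 23), (nat_lit 61), (nat_lit 24), (nat_lit 62)],
  [(nat_lit 29), (nat_lit 61), (nat_lit 38), (nat_lit 52), (nat_lit 60), (nat_lit 30), (nat_lit 62)],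
  [(nat_lit 35), (nat_lit 61), (nat_lit 36), (nat_lit 62)],
  [(nat_lit 41), (nat_lit 61), (nat_lit 72), (nat_lit 42), (nat_lit 62)],
  [(nat_lit 47), (nat_lit 61), (nat_lit 48), (nat_lit 62)],
  [(nat_lit 53), (nat_lit 61), (nat_lit 54), (nat_lit 62)],
  [(nat_lit 59), (nat_lit 61), (nat_lit 60), (nat_lit 62)],
  [(nat_lit 71), (nat_lit 61), (nat_lit 72), (nat_lit 62)],
  [(nat_lit 63), (nat_lit 61), (nat_lit 66)],
  [(nat_lit 1), (nat_lit 63), (nat_lit 34), (nat_lit 2), (nat_lit 64)],
  [(nat_lit 13), (nat_lit 63), (nat_lit 4), (nat_lit 22), (nat_lit 46), (nat_lit 14), (nat_lit 64)],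
  [(nat_lit 19), (nat_lit 63), (nat_lit 20), (nat_lit 64)],
  [(nat_lit 25), (nat_lit 63), (nat_lit 40), (nat_lit 52), (nat_lit 58), (nat_lit 26), (nat_lit 64)],
  [(nat_lit 31), (nat_lit 63), (nat_lit 32), (nat_lit 64)],
  [(nat_lit 37), (nat_lit 63), (nat_lit 70), (nat_lit 38), (nat_lit 64)],
  [(nat_lit 43), (nat_lit 63), (nat_lit 44), (nat_lit 64)],
  [(nat_lit 49), (nat_lit 63), (nat_lit 50), (nat_lit 64)],
  [(nat_lit 55), (nat_lit 63), (nat_lit 56), (nat_lit 64)],
  [(nat_lit 67), (nat_lit 63), (nat_lit 68), (nat_lit 64)],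
  [(nat_lit 63), (nat_lit 63)],
  [(nat_lit 3), (nat_lit 63), (nat_lit 36), (nat_lit 4), (nat_lit 64)],
  [(nat_lit 15), (nat_lit 63), (nat_lit 4), (nat_lit 20), (nat_lit 48), (nat_lit 16), (nat_lit 64)],
  [(nat_lit 21), (nat_lit 63), (nat_lit 22), (nat_lit 64)],
  [(nat_lit 27), (nat_lit 63), (nat_lit 40), (nat_lit 50), (nat_lit 60), (nat_lit 28), (nat_lit 64)],
  [(nat_lit 33), (nat_lit 63), (nat_lit 34), (nat_lit 64)],
  [(nat_lit 39), (nat_lit 63), (nat_lit 72), (nat_lit 40), (nat_lit 64)],
  [(nat_lit 45), (nat_lit 63), (nat_lit 46), (nat_lit 64)],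
  [(nat_lit 51), (nat_lit 63), (nat_lit 52), (nat_lit 64)],
  [(nat_lit 57), (nat_lit 63), (nat_lit 58), (nat_lit 64)],
  [(nat_lit 69), (nat_lit 63), (nat_lit 70), (nat_lit 64)],
  [(nat_lit 63), (nat_lit 65), (nat_lit 62)],
  [(nat_lit 5), (nat_lit 63), (nat_lit 32), (nat_lit 6), (nat_lit 64)],
  [(nat_lit 17), (nat_lit 63), (nat_lit 4), (nat_lit 24), (nat_lit 44), (nat_lit 18), (nat_lit 64)],
  [(nat_lit 23), (nat_lit 63), (nat_lit 24), (nat_lit 64)],
  [(nat_lit 29), (nat_lit 63), (nat_lit 40), (nat_lit 54), (nat_lit 56), (nat_lit 30), (nat_lit 64)],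
  [(nat_lit 35), (nat_lit 63), (nat_lit 36), (nat_lit 64)],
  [(nat_lit 41), (nat_lit 63), (nat_lit 68), (nat_lit 42), (nat_lit 64)],
  [(nat_lit 47), (nat_lit 63), (nat_lit 48), (nat_lit 64)],
  [(nat_lit 53), (nat_lit 63), (nat_lit 54), (nat_lit 64)],
  [(nat_lit 59), (nat_lit 63), (nat_lit 60), (nat_lit 64)],
  [(nat_lit 71), (nat_lit 63), (nat_lit 72), (nat_lit 64)],
  [(nat_lit 65), (nat_lit 61), (nat_lit 64)],
  [(nat_lit 1), (nat_lit 65), (nat_lit 36), (nat_lit 2), (nat_lit 66)],
  [(nat_lit 13), (nat_lit 65), (nat_lit 6), (nat_lit 24), (nat_lit 48), (nat_lit 14), (nat_lit 66)],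
  [(nat_lit 19), (nat_lit 65), (nat_lit 20), (nat_lit 66)],
  [(nat_lit 25), (nat_lit 65), (nat_lit 42), (nat_lit 54), (nat_lit 60), (nat_lit 26), (nat_lit 66)],
  [(nat_lit 31), (nat_lit 65), (nat_lit 32), (nat_lit 66)],
  [(nat_lit 37), (nat_lit 65), (nat_lit 72), (nat_lit 38), (nat_lit 66)],
  [(nat_lit 43), (nat_lit 65), (nat_lit 44), (nat_lit 66)],
  [(nat_lit 49), (nat_lit 65), (nat_lit 50), (nat_lit 66)],
  [(nat_lit 55), (nat_lit 65), (nat_lit 56), (nat_lit 66)],
  [(nat_lit 67), (nat_lit 65), (nat_lit 68), (nat_lit 66)],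
  [(nat_lit 65), (nat_lit 63), (nat_lit 62)],
  [(nat_lit 3), (nat_lit 65), (nat_lit 32), (nat_lit 4), (nat_lit 66)],
  [(nat_lit 15), (nat_lit 65), (nat_lit 6), (nat_lit 22), (nat_lit 44), (nat_lit 16), (nat_lit 66)],
  [(nat_lit 21), (nat_lit 65), (nat_lit 22), (nat_lit 66)],
  [(nat_lit 27), (nat_lit 65), (nat_lit 42), (nat_lit 52), (nat_lit 56), (nat_lit 28), (nat_lit 66)],
  [(nat_lit 33), (nat_lit 65), (nat_lit 34), (nat_lit 66)],
  [(nat_lit 39), (nat_lit 65), (nat_lit 68), (nat_lit 40), (nat_lit 66)],
  [(nat_lit 45), (nat_lit 65), (nat_lit 46), (nat_lit 66)],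
  [(nat_lit 51), (nat_lit 65), (nat_lit 52), (nat_lit 66)],
  [(nat_lit 57), (nat_lit 65), (nat_lit 58), (nat_lit 66)],
  [(nat_lit 69), (nat_lit 65), (nat_lit 70), (nat_lit 66)],
  [(nat_lit 65), (nat_lit 65)],
  [(nat_lit 5), (nat_lit 65), (nat_lit 34), (nat_lit 6), (nat_lit 66)],
  [(nat_lit 17), (nat_lit 65), (nat_lit 6), (nat_lit 20), (nat_lit 46), (nat_lit 18), (nat_lit 66)],
  [(nat_lit 23), (nat_lit 65), (nat_lit 24), (nat_lit 66)],
  [(nat_lit 29), (nat_lit 65), (nat_lit 42), (nat_lit 50), (nat_lit 58), (nat_lit 30), (nat_lit 66)],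
  [(nat_lit 35), (nat_lit 65), (nat_lit 36), (nat_lit 66)],
  [(nat_lit 41), (nat_lit 65), (nat_lit 70), (nat_lit 42), (nat_lit 66)],
  [(nat_lit 47), (nat_lit 65), (nat_lit 48), (nat_lit 66)],
  [(nat_lit 53), (nat_lit 65), (nat_lit 54), (nat_lit 66)],
  [(nat_lit 59), (nat_lit 65), (nat_lit 60), (nat_lit 66)],
  [(nat_lit 71), (nat_lit 65), (nat_lit 72), (nat_lit 66)]]
noncomputable def R11 : List (List Nat) := [[(nat_lit 67), (nat_lit 67)],
  [(nat_lit 7), (nat_lit 67), (nat_lit 38), (nat_lit 8), (nat_lit 68)],
  [(nat_lit 13), (nat_lit 67), (nat_lit 8), (nat_lit 26), (nat_lit 50), (nat_lit 14), (nat_lit 68)],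
  [(nat_lit 19), (nat_lit 67), (nat_lit 32), (nat_lit 44), (nat_lit 56), (nat_lit 20), (nat_lit 68)],
  [(nat_lit 25), (nat_lit 67), (nat_lit 26), (nat_lit 68)],
  [(nat_lit 31), (nat_lit 67), (nat_lit 62), (nat_lit 32), (nat_lit 68)],
  [(nat_lit 37), (nat_lit 67), (nat_lit 38), (nat_lit 68)],
  [(nat_lit 43), (nat_lit 67), (nat_lit 44), (nat_lit 68)],
  [(nat_lit 49), (nat_lit 67), (nat_lit 50), (nat_lit 68)],
  [(nat_lit 55), (nat_lit 67), (nat_lit 56), (nat_lit 68)],
  [(nat_lit 61), (nat_lit 67), (nat_lit 62), (nat_lit 68)],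
  [(nat_lit 67), (nat_lit 69), (nat_lit 72)],
  [(nat_lit 9), (nat_lit 67), (nat_lit 40), (nat_lit 10), (nat_lit 68)],
  [(nat_lit 15), (nat_lit 67), (nat_lit 8), (nat_lit 30), (nat_lit 52), (nat_lit 16), (nat_lit 68)],
  [(nat_lit 21), (nat_lit 67), (nat_lit 32), (nat_lit 48), (nat_lit 58), (nat_lit 22), (nat_lit 68)],
  [(nat_lit 27), (nat_lit 67), (nat_lit 28), (nat_lit 68)],
  [(nat_lit 33), (nat_lit 67), (nat_lit 64), (nat_lit 34), (nat_lit 68)],
  [(nat_lit 39), (nat_lit 67), (nat_lit 40), (nat_lit 68)],
  [(nat_lit 45), (nat_lit 67), (nat_lit 46), (nat_lit 68)],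
  [(nat_lit 51), (nat_lit 67), (nat_lit 52), (nat_lit 68)],
  [(nat_lit 57), (nat_lit 67), (nat_lit 58), (nat_lit 68)],
  [(nat_lit 63), (nat_lit 67), (nat_lit 64), (nat_lit 68)],
  [(nat_lit 67), (nat_lit 71), (nat_lit 70)],
  [(nat_lit 11), (nat_lit 67), (nat_lit 42), (nat_lit 12), (nat_lit 68)],
  [(nat_lit 17), (nat_lit 67), (nat_lit 8), (nat_lit 28), (nat_lit 54), (nat_lit 18), (nat_lit 68)],
  [(nat_lit 23), (nat_lit 67), (nat_lit 32), (nat_lit 46), (nat_lit 60), (nat_lit 24), (nat_lit 68)],
  [(nat_lit 29), (nat_lit 67), (nat_lit 30), (nat_lit 68)],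
  [(nat_lit 35), (nat_lit 67), (nat_lit 66), (nat_lit 36), (nat_lit 68)],
  [(nat_lit 41), (nat_lit 67), (nat_lit 42), (nat_lit 68)],
  [(nat_lit 47), (nat_lit 67), (nat_lit 48), (nat_lit 68)],
  [(nat_lit 53), (nat_lit 67), (nat_lit 54), (nat_lit 68)],
  [(nat_lit 59), (nat_lit 67), (nat_lit 60), (nat_lit 68)],
  [(nat_lit 65), (nat_lit 67), (nat_lit 66), (nat_lit 68)],
  [(nat_lit 69), (nat_lit 67), (nat_lit 72)],
  [(nat_lit 7), (nat_lit 69), (nat_lit 40), (nat_lit 8), (nat_lit 70)],
  [(nat_lit 13), (nat_lit 69), (nat_lit 10), (nat_lit 28), (nat_lit 52), (nat_lit 14), (nat_lit 70)],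
  [(nat_lit 19), (nat_lit 69), (nat_lit 34), (nat_lit 46), (nat_lit 58), (nat_lit 20), (nat_lit 70)],
  [(nat_lit 25), (nat_lit 69), (nat_lit 26), (nat_lit 70)],
  [(nat_lit 31), (nat_lit 69), (nat_lit 64), (nat_lit 32), (nat_lit 70)],
  [(nat_lit 37), (nat_lit 69), (nat_lit 38), (nat_lit 70)],
  [(nat_lit 43), (nat_lit 69), (nat_lit 44), (nat_lit 70)],
  [(nat_lit 49), (nat_lit 69), (nat_lit 50), (nat_lit 70)],
  [(nat_lit 55), (nat_lit 69), (nat_lit 56), (nat_lit 70)],
  [(nat_lit 61), (nat_lit 69), (nat_lit 62), (nat_lit 70)],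
  [(nat_lit 69), (nat_lit 69)],
  [(nat_lit 9), (nat_lit 69), (nat_lit 42), (nat_lit 10), (nat_lit 70)],
  [(nat_lit 15), (nat_lit 69), (nat_lit 10), (nat_lit 26), (nat_lit 54), (nat_lit 16), (nat_lit 70)],
  [(nat_lit 21), (nat_lit 69), (nat_lit 34), (nat_lit 44), (nat_lit 60), (nat_lit 22), (nat_lit 70)],
  [(nat_lit 27), (nat_lit 69), (nat_lit 28), (nat_lit 70)],
  [(nat_lit 33), (nat_lit 69), (nat_lit 66), (nat_lit 34), (nat_lit 70)],
  [(nat_lit 39), (nat_lit 69), (nat_lit 40), (nat_lit 70)],
  [(nat_lit 45), (nat_lit 69), (nat_lit 46), (nat_lit 70)],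
  [(nat_lit 51), (nat_lit 69), (nat_lit 52), (nat_lit 70)],
  [(nat_lit 57), (nat_lit 69), (nat_lit 58), (nat_lit 70)],
  [(nat_lit 63), (nat_lit 69), (nat_lit 64), (nat_lit 70)],
  [(nat_lit 69), (nat_lit 71), (nat_lit 68)],
  [(nat_lit 11), (nat_lit 69), (nat_lit 38), (nat_lit 12), (nat_lit 70)],
  [(nat_lit 17), (nat_lit 69), (nat_lit 10), (nat_lit 30), (nat_lit 50), (nat_lit 18), (nat_lit 70)],
  [(nat_lit 23), (nat_lit 69), (nat_lit 34), (nat_lit 48), (nat_lit 56), (nat_lit 24), (nat_lit 70)],
  [(nat_lit 29), (nat_lit 69), (nat_lit 30), (nat_lit 70)],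
  [(nat_lit 35), (nat_lit 69), (nat_lit 62), (nat_lit 36), (nat_lit 70)],
  [(nat_lit 41), (nat_lit 69), (nat_lit 42), (nat_lit 70)],
  [(nat_lit 47), (nat_lit 69), (nat_lit 48), (nat_lit 70)],
  [(nat_lit 53), (nat_lit 69), (nat_lit 54), (nat_lit 70)],
  [(nat_lit 59), (nat_lit 69), (nat_lit 60), (nat_lit 70)],
  [(nat_lit 65), (nat_lit 69), (nat_lit 66), (nat_lit 70)],
  [(nat_lit 71), (nat_lit 67), (nat_lit 70)],
  [(nat_lit 7), (nat_lit 71), (nat_lit 42), (nat_lit 8), (nat_lit 72)],
  [(nat_lit 13), (nat_lit 71), (nat_lit 12), (nat_lit 30), (nat_lit 54), (nat_lit 14), (nat_lit 72)],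
  [(nat_lit 19), (nat_lit 71), (nat_lit 36), (nat_lit 48), (nat_lit 60), (nat_lit 20), (nat_lit 72)],
  [(nat_lit 25), (nat_lit 71), (nat_lit 26), (nat_lit 72)],
  [(nat_lit 31), (nat_lit 71), (nat_lit 66), (nat_lit 32), (nat_lit 72)],
  [(nat_lit 37), (nat_lit 71), (nat_lit 38), (nat_lit 72)],
  [(nat_lit 43), (nat_lit 71), (nat_lit 44), (nat_lit 72)],
  [(nat_lit 49), (nat_lit 71), (nat_lit 50), (nat_lit 72)],
  [(nat_lit 55), (nat_lit 71), (nat_lit 56), (nat_lit 72)],
  [(nat_lit 61), (nat_lit 71), (nat_lit 62), (nat_lit 72)],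
  [(nat_lit 71), (nat_lit 69), (nat_lit 68)],
  [(nat_lit 9), (nat_lit 71), (nat_lit 38), (nat_lit 10), (nat_lit 72)],
  [(nat_lit 15), (nat_lit 71), (nat_lit 12), (nat_lit 28), (nat_lit 50), (nat_lit 16), (nat_lit 72)],
  [(nat_lit 21), (nat_lit 71), (nat_lit 36), (nat_lit 46), (nat_lit 56), (nat_lit 22), (nat_lit 72)],
  [(nat_lit 27), (nat_lit 71), (nat_lit 28), (nat_lit 72)],
  [(nat_lit 33), (nat_lit 71), (nat_lit 62), (nat_lit 34), (nat_lit 72)],
  [(nat_lit 39), (nat_lit 71), (nat_lit 40), (nat_lit 72)],
  [(nat_lit 45), (nat_lit 71), (nat_lit 46), (nat_lit 72)],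
  [(nat_lit 51), (nat_lit 71), (nat_lit 52), (nat_lit 72)],
  [(nat_lit 57), (nat_lit 71), (nat_lit 58), (nat_lit 72)],
  [(nat_lit 63), (nat_lit 71), (nat_lit 64), (nat_lit 72)],
  [(nat_lit 71), (nat_lit 71)],
  [(nat_lit 11), (nat_lit 71), (nat_lit 40), (nat_lit 12), (nat_lit 72)],
  [(nat_lit 17), (nat_lit 71), (nat_lit 12), (nat_lit 26), (nat_lit 52), (nat_lit 18), (nat_lit 72)],
  [(nat_lit 23), (nat_lit 71), (nat_lit 36), (nat_lit 44), (nat_lit 58), (nat_lit 24), (nat_lit 72)],
  [(nat_lit 29), (nat_lit 71), (nat_lit 30), (nat_lit 72)],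
  [(nat_lit 35), (nat_lit 71), (nat_lit 64), (nat_lit 36), (nat_lit 72)],
  [(nat_lit 41), (nat_lit 71), (nat_lit 42), (nat_lit 72)],
  [(nat_lit 47), (nat_lit 71), (nat_lit 48), (nat_lit 72)],
  [(nat_lit 53), (nat_lit 71), (nat_lit 54), (nat_lit 72)],
  [(nat_lit 59), (nat_lit 71), (nat_lit 60), (nat_lit 72)],
  [(nat_lit 65), (nat_lit 71), (nat_lit 66), (nat_lit 72)]]
noncomputable def R : List (List (List Nat)) := [R0, R1, R2, R3, R4, R5, R6, R7, R8, R9, R10, R11]
noncomputable def M : List Nat := [(nat_lit 0x8000000400000020000001000000080000004000000200000010000000800000040000002000000100002008000100400000020000001000080080004004000200200010010000200800010040800002840000140000008000000480000024000001),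
  (nat_lit 0x8000000400000020000001000000080000004000000200000010000000800000040000002000000100002008000100400000020000001000080080004004000200200010010000200800010040800002840000140000008000000480000024000001),
  (nat_lit 0x80000004000000200000010000000800000040000002000000100000008000000400000020000001000030080002004000000200000010000c0080008004000300200020010000300800020040400002cc00001800000080000004c0000028000001),
  (nat_lit 0x80000004000000200000010000000800000040000002000000100000008000000400000020000001000030080002004000000200000010000c0080008004000300200020010000300800020040400002cc00001800000080000004c0000028000001),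
  (nat_lit 0x800000040000002000000100000008000000400000020000001000000080000004000000200000010000100800030040000002000000100004008000c004000100200030010000100800030040c000024800001c000000800000044000002c000001),
  (nat_lit 0x800000040000002000000100000008000000400000020000001000000080000004000000200000010000100800030040000002000000100004008000c004000100200030010000100800030040c000024800001c000000800000044000002c000001),
  (nat_lit 0x80000004000000200000010000000800000040000002000000100000008000000400008020000401000000080000004000080200004010000000800000040000802000040100200008a1000045000802000040102000008100000420000021000001),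
  (nat_lit 0x80000004000000200000010000000800000040000002000000100000008000000400008020000401000000080000004000080200004010000000800000040000802000040100200008a1000045000802000040102000008100000420000021000001),
  (nat_lit 0x8000000400000020000001000000080000004000000200000010000000800000040000c0200008010000000800000040000c0200008010000000800000040000c02000080100100008f300004a000c02000080103000008200000430000022000001),
  (nat_lit 0x8000000400000020000001000000080000004000000200000010000000800000040000c0200008010000000800000040000c0200008010000000800000040000c02000080100100008f300004a000c02000080103000008200000430000022000001),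
  (nat_lit 0x80000004000000200000010000000800000040000002000000100000008000000400004020000c0100000008000000400004020000c0100000008000000400004020000c01003000085200004f0004020000c0101000008300000410000023000001),
  (nat_lit 0x80000004000000200000010000000800000040000002000000100000008000000400004020000c0100000008000000400004020000c0100000008000000400004020000c01003000085200004f0004020000c0101000008300000410000023000001),
  (nat_lit 0x8000000400000020000001000000080000004000008200000410000020800001040000002000000100000008000000400080020004001000200080010004000800202040010182020804101040208082010404100800008040000400000020000001),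
  (nat_lit 0x8000000400000020000001000000080000004000008200000410000020800001040000002000000100000008000000400080020004001000200080010004000800202040010182020804101040208082010404100800008040000400000020000001),
  (nat_lit 0x800000040000002000000100000008000000400000c20000081000003080000204000000200000010000000800000040004002000c0010001000800300040004002030c00102810308043020402040c2010c08100c00008080000400000020000001),
  (nat_lit 0x800000040000002000000100000008000000400000c20000081000003080000204000000200000010000000800000040004002000c0010001000800300040004002030c00102810308043020402040c2010c08100c00008080000400000020000001),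
  (nat_lit 0x8000000400000020000001000000080000004000004200000c100000108000030400000020000001000000080000004000c0020008001000300080020004000c0020108001038301080420304020c04201080c1004000080c0000400000020000001),
  (nat_lit 0x8000000400000020000001000000080000004000004200000c100000108000030400000020000001000000080000004000c0020008001000300080020004000c0020108001038301080420304020c04201080c1004000080c0000400000020000001),
  (nat_lit 0x8000000400000020000001000000880000044000000200000010000080800004040000002000000100008888000444400000220000011000020080a01004050020200001010000000800000040002222000111100200008010000402000020100001),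
  (nat_lit 0x8000000400000020000001000000880000044000000200000010000080800004040000002000000100008888000444400000220000011000020080a01004050020200001010000000800000040002222000111100200008010000402000020100001),
  (nat_lit 0x8000000400000020000001000000c8000008400000020000001000004080000c0400000020000001000084c80004c8400000320000021000010080f030040a0010200003010000000800000040002132000132100300008020000403000020200001),
  (nat_lit 0x8000000400000020000001000000c8000008400000020000001000004080000c0400000020000001000084c80004c8400000320000021000010080f030040a0010200003010000000800000040002132000132100300008020000403000020200001),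
  (nat_lit 0x80000004000000200000010000004800000c40000002000000100000c0800008040000002000000100008c4800048c4000001200000310000300805020040f0030200002010000000800000040002312000123100100008030000401000020300001),
  (nat_lit 0x80000004000000200000010000004800000c40000002000000100000c0800008040000002000000100008c4800048c4000001200000310000300805020040f0030200002010000000800000040002312000123100100008030000401000020300001),
  (nat_lit 0x80000004000000200000010000002800000140000022000001100000008000000400002a200001510000000800000040000082008004100400088000004400000820000041000008a800004540000002000000100000008000000400800020040001),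
  (nat_lit 0x80000004000000200000010000002800000140000022000001100000008000000400002a200001510000000800000040000082008004100400088000004400000820000041000008a800004540000002000000100000008000000400800020040001),
  (nat_lit 0x800000040000002000000100000038000002400000120000031000000080000004000027200001e1000000080000004000004200c00c1008000c80000084000004200000c10000087800004e40000002000000100000008000000400c00020080001),
  (nat_lit 0x800000040000002000000100000038000002400000120000031000000080000004000027200001e1000000080000004000004200c00c1008000c80000084000004200000c10000087800004e40000002000000100000008000000400c00020080001),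
  (nat_lit 0x80000004000000200000010000001800000340000032000002100000008000000400002d200001b100000008000000400000c2004008100c0004800000c400000c20000081000008d800004b400000020000001000000080000004004000200c0001),
  (nat_lit 0x80000004000000200000010000001800000340000032000002100000008000000400002d200001b100000008000000400000c2004008100c0004800000c400000c20000081000008d800004b400000020000001000000080000004004000200c0001),
  (nat_lit 0x80000004000000a000000500000008000000400000020000001000000280000014000000200000010000002800200140010002000000100000028000001400000020000001000000080000004000000a000000500020008001000400000020000001),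
  (nat_lit 0x80000004000000a000000500000008000000400000020000001000000280000014000000200000010000002800200140010002000000100000028000001400000020000001000000080000004000000a000000500020008001000400000020000001),
  (nat_lit 0x80000004000000e000000900000008000000400000020000001000000380000024000000200000010000001800300340020002000000100000038000002400000020000001000000080000004000000e000000900030008002000400000020000001),
  (nat_lit 0x80000004000000e000000900000008000000400000020000001000000380000024000000200000010000001800300340020002000000100000038000002400000020000001000000080000004000000e000000900030008002000400000020000001),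
  (nat_lit 0x800000040000006000000d000000080000004000000200000010000001800000340000002000000100000038001002400300020000001000000180000034000000200000010000000800000040000006000000d00010008003000400000020000001),
  (nat_lit 0x800000040000006000000d000000080000004000000200000010000001800000340000002000000100000038001002400300020000001000000180000034000000200000010000000800000040000006000000d00010008003000400000020000001),
  (nat_lit 0xa000000500000020000001000000080000004000000280000014000000800000040000002800200140010008000000400000028000001400000080000004000000200000010000000a00000050000002000000100008008000400400000020000001),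
  (nat_lit 0xa000000500000020000001000000080000004000000280000014000000800000040000002800200140010008000000400000028000001400000080000004000000200000010000000a00000050000002000000100008008000400400000020000001),
  (nat_lit 0xb0000006000000200000010000000800000040000002c00000180000008000000400000024003001c002000800000040000002c000001800000080000004000000200000010000000b0000006000000200000010000c008000800400000020000001),
  (nat_lit 0xb0000006000000200000010000000800000040000002c00000180000008000000400000024003001c002000800000040000002c000001800000080000004000000200000010000000b0000006000000200000010000c008000800400000020000001),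
  (nat_lit 0x900000070000002000000100000008000000400000024000001c000000800000040000002c00100180030008000000400000024000001c00000080000004000000200000010000000900000070000002000000100004008000c00400000020000001),
  (nat_lit 0x900000070000002000000100000008000000400000024000001c000000800000040000002c00100180030008000000400000024000001c00000080000004000000200000010000000900000070000002000000100004008000c00400000020000001),
  (nat_lit 0x800000040000002a200001510000082000004100000220000011000000820080041004002000000100000008a80000454000020000001000000088000004400000280000014000000800000040000002000000100000008000000400020020001001),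
  (nat_lit 0x800000040000002a200001510000082000004100000220000011000000820080041004002000000100000008a80000454000020000001000000088000004400000280000014000000800000040000002000000100000008000000400020020001001),
  (nat_lit 0x800000040000002d200001b100000810000043000002300000120000008100c0043008002000000100000008d800004b4000020000001000000084000004c000002c0000018000000800000040000002000000100000008000000400030020002001),
  (nat_lit 0x800000040000002d200001b100000810000043000002300000120000008100c0043008002000000100000008d800004b4000020000001000000084000004c000002c0000018000000800000040000002000000100000008000000400030020002001),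
  (nat_lit 0x8000000400000027200001e1000008300000420000021000001300000083004004200c0020000001000000087800004e400002000000100000008c00000480000024000001c000000800000040000002000000100000008000000400010020003001),
  (nat_lit 0x8000000400000027200001e1000008300000420000021000001300000083004004200c0020000001000000087800004e400002000000100000008c00000480000024000001c000000800000040000002000000100000008000000400010020003001),
  (nat_lit 0x888800044440002000000100000008080000404000020080a010040500880000044000002222000111100008000000400000020200001010000080000004000000220000011000000800000040000002000000100000808000040400008020000401),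
  (nat_lit 0x888800044440002000000100000008080000404000020080a010040500880000044000002222000111100008000000400000020200001010000080000004000000220000011000000800000040000002000000100000808000040400008020000401),
  (nat_lit 0x8c4800048c4000200000010000000804000040c000020040f0100c0a008c0000048000002312000123100008000000400000020100001030000080000004000000230000012000000800000040000002000000100000c0800008040000c020000801),
  (nat_lit 0x8c4800048c4000200000010000000804000040c000020040f0100c0a008c0000048000002312000123100008000000400000020100001030000080000004000000230000012000000800000040000002000000100000c0800008040000c020000801),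
  (nat_lit 0x84c80004c8400020000001000000080c00004080000200c05010080f0084000004c0000021320001321000080000004000000203000010200000800000040000002100000130000008000000400000020000001000004080000c0400004020000c01),
  (nat_lit 0x84c80004c8400020000001000000080c00004080000200c05010080f0084000004c0000021320001321000080000004000000203000010200000800000040000002100000130000008000000400000020000001000004080000c0400004020000c01),
  (nat_lit 0x8202080410104020808201040410080020204001010200080010004000800200040010002000000100000008000000400000020800001040000082000004100000200000010000000800000040000002000000100000208000010400000020000001),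
  (nat_lit 0x8202080410104020808201040410080020204001010200080010004000800200040010002000000100000008000000400000020800001040000082000004100000200000010000000800000040000002000000100000208000010400000020000001),
  (nat_lit 0x8301080420304020c04201080c1008001030400302020004001000c000800100040030002000000100000008000000400000020c00001080000083000004200000200000010000000800000040000002000000100000308000020400000020000001),
  (nat_lit 0x8301080420304020c04201080c1008001030400302020004001000c000800100040030002000000100000008000000400000020c00001080000083000004200000200000010000000800000040000002000000100000308000020400000020000001),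
  (nat_lit 0x810308043020402040c2010c08100800301040020302000c00100080008003000400200020000001000000080000004000000204000010c0000081000004300000200000010000000800000040000002000000100000108000030400000020000001),
  (nat_lit 0x810308043020402040c2010c08100800301040020302000c00100080008003000400200020000001000000080000004000000204000010c0000081000004300000200000010000000800000040000002000000100000108000030400000020000001),
  (nat_lit 0x80200004010000200008a1000045080200004010000200000010000000802000040100002000000100000008020000401000020000001000000080000004000000200000010000000800000040000002000000100000088000004400000820000041),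
  (nat_lit 0x80200004010000200008a1000045080200004010000200000010000000802000040100002000000100000008020000401000020000001000000080000004000000200000010000000800000040000002000000100000088000004400000820000041),
  (nat_lit 0x80300004020000200004f10000ca0803000040200002000000100000008030000402000020000001000000080300004020000200000010000000800000040000002000000100000008000000400000020000001000000c8000008400000c20000081),
  (nat_lit 0x80300004020000200004f10000ca0803000040200002000000100000008030000402000020000001000000080300004020000200000010000000800000040000002000000100000008000000400000020000001000000c8000008400000c20000081),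
  (nat_lit 0x8010000403000020000c5100008f08010000403000020000001000000080100004030000200000010000000801000040300002000000100000008000000400000020000001000000080000004000000200000010000004800000c4000004200000c1),
  (nat_lit 0x8010000403000020000c5100008f08010000403000020000001000000080100004030000200000010000000801000040300002000000100000008000000400000020000001000000080000004000000200000010000004800000c4000004200000c1),
  (nat_lit 0x8000028400001420080001004000080080004004000200200010010000800000040000002008000100400008000000400000020000001000000080000004000000200000010000000800000040000002000000100000008000000400000220000011),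
  (nat_lit 0x8000028400001420080001004000080080004004000200200010010000800000040000002008000100400008000000400000020000001000000080000004000000200000010000000800000040000002000000100000008000000400000220000011),
  (nat_lit 0x800001c4000038200c00010080000800c000400800020030001002000080000004000000200c000100800008000000400000020000001000000080000004000000200000010000000800000040000002000000100000008000000400000320000021),
  (nat_lit 0x800001c4000038200c00010080000800c000400800020030001002000080000004000000200c000100800008000000400000020000001000000080000004000000200000010000000800000040000002000000100000008000000400000320000021),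
  (nat_lit 0x8000034400002c2004000100c00008004000400c000200100010030000800000040000002004000100c00008000000400000020000001000000080000004000000200000010000000800000040000002000000100000008000000400000120000031),
  (nat_lit 0x8000034400002c2004000100c00008004000400c000200100010030000800000040000002004000100c00008000000400000020000001000000080000004000000200000010000000800000040000002000000100000008000000400000120000031)]
noncomputable def Ms : List Nat := [(nat_lit 0xb0000006000000200000010000000800000040000002c00000180000008000000400000024003001c002000800000040000002c000001800000080000004000000200000010000000b0000006000000200000010000c008000800400000020000001),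
  (nat_lit 0xb0000006000000200000010000000800000040000002c00000180000008000000400000024003001c002000800000040000002c000001800000080000004000000200000010000000b0000006000000200000010000c008000800400000020000001),
  (nat_lit 0xa000000500000020000001000000080000004000000280000014000000800000040000002800200140010008000000400000028000001400000080000004000000200000010000000a00000050000002000000100008008000400400000020000001),
  (nat_lit 0xa000000500000020000001000000080000004000000280000014000000800000040000002800200140010008000000400000028000001400000080000004000000200000010000000a00000050000002000000100008008000400400000020000001),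
  (nat_lit 0x800000040000002d200001b100000810000043000002300000120000008100c0043008002000000100000008d800004b4000020000001000000084000004c000002c0000018000000800000040000002000000100000008000000400030020002001),
  (nat_lit 0x800000040000002d200001b100000810000043000002300000120000008100c0043008002000000100000008d800004b4000020000001000000084000004c000002c0000018000000800000040000002000000100000008000000400030020002001),
  (nat_lit 0x800000040000002a200001510000082000004100000220000011000000820080041004002000000100000008a80000454000020000001000000088000004400000280000014000000800000040000002000000100000008000000400020020001001),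
  (nat_lit 0x800000040000002a200001510000082000004100000220000011000000820080041004002000000100000008a80000454000020000001000000088000004400000280000014000000800000040000002000000100000008000000400020020001001),
  (nat_lit 0x8c4800048c4000200000010000000804000040c000020040f0100c0a008c0000048000002312000123100008000000400000020100001030000080000004000000230000012000000800000040000002000000100000c0800008040000c020000801),
  (nat_lit 0x8c4800048c4000200000010000000804000040c000020040f0100c0a008c0000048000002312000123100008000000400000020100001030000080000004000000230000012000000800000040000002000000100000c0800008040000c020000801),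
  (nat_lit 0x888800044440002000000100000008080000404000020080a010040500880000044000002222000111100008000000400000020200001010000080000004000000220000011000000800000040000002000000100000808000040400008020000401),
  (nat_lit 0x888800044440002000000100000008080000404000020080a010040500880000044000002222000111100008000000400000020200001010000080000004000000220000011000000800000040000002000000100000808000040400008020000401),
  (nat_lit 0x8301080420304020c04201080c1008001030400302020004001000c000800100040030002000000100000008000000400000020c00001080000083000004200000200000010000000800000040000002000000100000308000020400000020000001),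
  (nat_lit 0x8301080420304020c04201080c1008001030400302020004001000c000800100040030002000000100000008000000400000020c00001080000083000004200000200000010000000800000040000002000000100000308000020400000020000001),
  (nat_lit 0x8202080410104020808201040410080020204001010200080010004000800200040010002000000100000008000000400000020800001040000082000004100000200000010000000800000040000002000000100000208000010400000020000001),
  (nat_lit 0x8202080410104020808201040410080020204001010200080010004000800200040010002000000100000008000000400000020800001040000082000004100000200000010000000800000040000002000000100000208000010400000020000001),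
  (nat_lit 0x80300004020000200004f10000ca0803000040200002000000100000008030000402000020000001000000080300004020000200000010000000800000040000002000000100000008000000400000020000001000000c8000008400000c20000081),
  (nat_lit 0x80300004020000200004f10000ca0803000040200002000000100000008030000402000020000001000000080300004020000200000010000000800000040000002000000100000008000000400000020000001000000c8000008400000c20000081),
  (nat_lit 0x80200004010000200008a1000045080200004010000200000010000000802000040100002000000100000008020000401000020000001000000080000004000000200000010000000800000040000002000000100000088000004400000820000041),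
  (nat_lit 0x80200004010000200008a1000045080200004010000200000010000000802000040100002000000100000008020000401000020000001000000080000004000000200000010000000800000040000002000000100000088000004400000820000041),
  (nat_lit 0x800001c4000038200c00010080000800c000400800020030001002000080000004000000200c000100800008000000400000020000001000000080000004000000200000010000000800000040000002000000100000008000000400000320000021),
  (nat_lit 0x800001c4000038200c00010080000800c000400800020030001002000080000004000000200c000100800008000000400000020000001000000080000004000000200000010000000800000040000002000000100000008000000400000320000021),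
  (nat_lit 0x8000028400001420080001004000080080004004000200200010010000800000040000002008000100400008000000400000020000001000000080000004000000200000010000000800000040000002000000100000008000000400000220000011),
  (nat_lit 0x8000028400001420080001004000080080004004000200200010010000800000040000002008000100400008000000400000020000001000000080000004000000200000010000000800000040000002000000100000008000000400000220000011)]
noncomputable def Ws : List (List Nat) := [[(nat_lit 39)],
  [(nat_lit 37)],
  [(nat_lit 45)],
  [(nat_lit 43)],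
  [(nat_lit 51)],
  [(nat_lit 49)],
  [(nat_lit 57)],
  [(nat_lit 55)],
  [(nat_lit 63)],
  [(nat_lit 61)],
  [(nat_lit 69)],
  [(nat_lit 67)]]
noncomputable def Ns : List Nat := [(nat_lit 0x2ffffff1ffffff0ffffff0ffffff003fff3003fff300bffff007ffff000fffc000fffc000bff20007ff10000ff00000ff000008f000004f000000f000000f000000f000000f000000200000010000000000000000008ff00004ff00003cf00003cf0),
  (nat_lit 0xffffff0ffffff0ffffff0ffffff003fff3003fff30033fff0033fff000fffc000fffc00033f000033f00000ff00000ff000000f000000f000000f000000f000000f000000f000000000000000000000000000000000ff00000ff00003cf00003cf0),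
  (nat_lit 0xffffff0ffffff0aeffff05dffff002fff3001fff30023fff0013fff000eff8000dff400033f000033f00000ab0000057000000f000000f000000b0000007000000b0000007000000000000000000000000000000000ff00000ff00002cf00001cf0),
  (nat_lit 0xffffff0ffffff00ccfff00ccfff000fff3000fff30000fff0000fff000c330000c33000033f000033f00000030000003000000f000000f0000003000000300000030000003000000000000000000000000000000000ff00000ff00000cf00000cf0),
  (nat_lit 0xbbbfff0777fff00ccfff00ccfff000bff30007ff30000bfa00007f50008330000433000022e000011d00000030000003000000e000000d0000003000000300000020000001000000000000000000000000000000000bf000007f000008f000004f0),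
  (nat_lit 0x3333fc03333fc00ccfff00ccfff0003ff30003ff300003c000003c00000330000033000000c000000c00000030000003000000c000000c00000030000003000000000000000000000000000000000000000000000003c000003c000000f000000f0),
  (nat_lit 0x2323fc01313fc008cbff004c7ff0003ef20003df1000038000003400000320000031000000c000000c000000300000030000008000000400000020000001000000000000000000000000000000000000000000000002c000001c000000f000000f0),
  (nat_lit 0x300fc00300fc000c0ff000c0ff0003c000003c00000030000003000000300000030000000c000000c000000300000030000000000000000000000000000000000000000000000000000000000000000000000000000c000000c000000f000000f0),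
  (nat_lit 0x200fc00100fc000c0ba000c0750002c000001c00000030000003000000200000010000000c000000c00000020000001000000000000000000000000000000000000000000000000000000000000000000000000000080000004000000b00000070),
  (nat_lit 0x3c000003c000c000000c0000000c000000c00000030000003000000000000000000000c000000c00000000000000000000000000000000000000000000000000000000000000000000000000000000000000000000000000000000300000030),
  (nat_lit 0x28000001400080000004000000080000004000000200000010000000000000000000008000000400000000000000000000000000000000000000000000000000000000000000000000000000000000000000000000000000000000200000010),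
  (nat_lit 0)]
noncomputable def Kc : List Nat := [(nat_lit 0x1000000000000000000000000000000000000002000000000000000000000000000000000000001000000000000000000000000000000000000001000000000000000000000000000000000002001000002000000000000000000000000000000001000000000000000000000000000001000000002000000000000000000000000000000000000002000000000000000000000000000000000000001000000000000000000000000000000000000001000000000000000000000000000000000002001002000000000000000000000000000001000002),
  (nat_lit 0x1000000000000000000000000000000000000002000000000000000000000000000000000000001000000000000000000000000000000000000001000000000000000000000000000000000002001000002000000000000000000000000000000001000000000000000000000000000001000000002000000000000000000000000000000000000002000000000000000000000000000000000000001000000000000000000000000000000000000001000000000000000000000000000000000002001002000000000000000000000000000001000002),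
  (nat_lit 0x1000000000000000000000000000000000000001000000000000000000000000000000000000002000000000000000000000000000000000000001002000002000000000000000000000000000001000000000000000000000000000000000000001000000000000000000000000000000001000002000000000000000000000000000000000000001000000000000000000000000000000000000002000000000000000000000000000000000000001002002000000000000000000000000000000001000000000000000000000000000000000001002),
  (nat_lit 0x1000000000000000000000000000000000000001000000000000000000000000000000000000002000000000000000000000000000000000000001002000002000000000000000000000000000001000000000000000000000000000000000000001000000000000000000000000000000001000002000000000000000000000000000000000000001000000000000000000000000000000000000002000000000000000000000000000000000000001002002000000000000000000000000000000001000000000000000000000000000000000001002),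
  (nat_lit 0x2000000000000000000000000000000000000001000000000000000000000000000000000000001000000000000000000000000000000000000002001000001000000000000000000000000001002000001000000000000000000000000000000002000000000000000000000000000002002000000000000000000000000000000000000000000001000000000000000000000000000000000000001000000000000000000000000000000000000002001001000000000000000000000000000001002001000000000000000000000000000002002000),
  (nat_lit 0x2000000000000000000000000000000000000001000000000000000000000000000000000000001000000000000000000000000000000000000002001000001000000000000000000000000001002000001000000000000000000000000000000002000000000000000000000000000002002000000000000000000000000000000000000000000001000000000000000000000000000000000000001000000000000000000000000000000000000002001001000000000000000000000000000001002001000000000000000000000000000002002000),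
  (nat_lit 0x2000000000000000000000000000000000000001000000000000000000000000000000000000000000001000001000000000000000000000002001001000001000000000000000000000000000001000000000000000000000000000000000000002000000000000000000000000001000002000000000000000000000000000000000000000000001000000000000000000000000000000000000000000001001000000000000000000000000002001001001000000000000000000000000000000001000000000000000000000000000001000002000),
  (nat_lit 0x2000000000000000000000000000000000000001000000000000000000000000000000000000000000001000001000000000000000000000002001001000001000000000000000000000000000001000000000000000000000000000000000000002000000000000000000000000001000002000000000000000000000000000000000000000000001000000000000000000000000000000000000000000001001000000000000000000000000002001001001000000000000000000000000000000001000000000000000000000000000001000002000),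
  (nat_lit 0x1000000000000000000000000000000000000000000001000000001000000000000000000000000000002000002000000000000000000000001001001000001000000000000000000002000001001000001000000000000000000000000000000001000000000000000000000001002002002000002000000000000000000000000000000000000000000001000001000000000000000000000000000000002002000000000000000000000000001001001001000000000000000000000002000001001001000000000000000000000001002002002002),
  (nat_lit 0x1000000000000000000000000000000000000000000001000000001000000000000000000000000000002000002000000000000000000000001001001000001000000000000000000002000001001000001000000000000000000000000000000001000000000000000000000001002002002000002000000000000000000000000000000000000000000001000001000000000000000000000000000000002002000000000000000000000000001001001001000000000000000000000002000001001001000000000000000000000001002002002002),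
  (nat_lit 0x1000000000000000000000000000000000000000000002000000002000000000000000000000001000000000000000000000000000000000000002001000001000000000000000000001000002002000002000000000000000000000000000000001000000000000000000000002000001002000002000000000000000000000000000000000000000000002000002000000000000000000000000001000000000000000000000000000000000000002001001000000000000000000000001000002002002000000000000000000000002000001002002),
  (nat_lit 0x1000000000000000000000000000000000000000000002000000002000000000000000000000001000000000000000000000000000000000000002001000001000000000000000000001000002002000002000000000000000000000000000000001000000000000000000000002000001002000002000000000000000000000000000000000000000000002000002000000000000000000000000001000000000000000000000000000000000000002001001000000000000000000000001000002002002000000000000000000000002000001002002),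
  (nat_lit 0x2000000000000000000000000000000000000000002000000000000000000000000000000000000002000000000000000000000000000000000000002000000000000000000000000000000000000002000001000000000000000000000000000000000000000000000000000000000000000000002000001000000000000000000000000000000000000001000000000000000000000000000000000000001000000000000000000000000000000000000001000000000000000000000000000000000000000001000000000000000),
  (nat_lit 0x1000000000000000000000000000000000000000001000000000000000000000000000000000000001000000000000000000000000000000000000001000000000000000000000000000000000000001000002000000000000000000000000000000000000000000000000000000000000000000001000002000000000000000000000000000000000000002000000000000000000000000000000000000002000000000000000000000000000000000000002000000000000000000000000000000000000000002000000000000000),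
  (nat_lit 0x2000000000000001000000000000000000000002000000000000000001000000000000000000002000000000000000001000000000000000000002000000000000000001000000000000000000002000000000000000001000001000000000000001000000000000000000000000000000000000002000000000000001000001000000000000000001000000000000000000001000000000000000001000000000000000000001000000000000000001000000000000000000001000000000000000001000000000000000000000001000000000000001),
  (nat_lit 0x1000000000000002000000000000000000000001000000000000000002000000000000000000001000000000000000002000000000000000000001000000000000000002000000000000000000001000000000000000002000002000000000000002000000000000000000000000000000000000001000000000000002000002000000000000000002000000000000000000002000000000000000002000000000000000000002000000000000000002000000000000000000002000000000000000002000000000000000000000002000000000000002),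
  (nat_lit 0x1000000000000001000000000000000000000001000000000000000001000000000000000000001000000000000000001000000000000000000001000000000000000001000000000000000000001000000000000000001000001000000000000002000000000000000000000000000000000000001000000000000001000001000000000000000002000000000000000000001000000000000000002000000000000000000001000000000000000002000000000000000000001000000000000000002000000000000000000000001000000000000002),
  (nat_lit 0x2000000000000002000000000000000000000002000000000000000002000000000000000000002000000000000000002000000000000000000002000000000000000002000000000000000000002000000000000000002000002000000000000001000000000000000000000000000000000000002000000000000002000002000000000000000001000000000000000000002000000000000000001000000000000000000002000000000000000001000000000000000000002000000000000000001000000000000000000000002000000000000001),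
  (nat_lit 0x1000000000000001000000000000000000000000000000000000000001000000000000000000002000000000000000001000000000000000000001002000002000000001000000000000000001001000001000000000001000001000000000000002000000000000000000000000000002001000001000000000000001000002000000000000000000000000000000000000001000000000000000001000000000000000000001000000000000000002001001000000000002001000002000000002002002000000000001000000002000000001002002),
  (nat_lit 0x2000000000000002000000000000000000000000000000000000000002000000000000000000001000000000000000002000000000000000000002001000001000000002000000000000000002002000002000000000002000002000000000000001000000000000000000000000000001002000002000000000000002000001000000000000000000000000000000000000002000000000000000002000000000000000000002000000000000000001002002000000000001002000001000000001001001000000000002000000001000000002001001),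
  (nat_lit 0x2000000000000001000000000000000000000001000000000000000001000000000000000000000000000000000000001000000000000000000002002000002000000001000000000000000001002000001000000000001000001000000000000001000000000000000000000000000002001000002000000000000001000001000000000000000002000000000000000000002000000000000000000000000000000000000001002000002000000001001001000000000000001000000000000002001002000000000000001000002000000001002001),
  (nat_lit 0x1000000000000002000000000000000000000002000000000000000002000000000000000000000000000000000000002000000000000000000001001000001000000002000000000000000002001000002000000000002000002000000000000002000000000000000000000000000001002000001000000000000002000002000000000000000001000000000000000000001000000000000000000000000000000000000002001000001000000002002002000000000000002000000000000001002001000000000000002000001000000002001002),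
  (nat_lit 0x1000000000000000000000002000000000000000001000000000000000000001000000000000000001000000000000000000000002000002000000001000000000000000001000000001000000000001000002000000000000000000000000000000000000000000002001000000000000000000001000001000000000000000001000000000000000000001000000000000000002000000000000000000002001000001000000000001001000000000001002000001000000002000002000000000002002000000000000001002000),
  (nat_lit 0x2000000000000000000000001000000000000000002000000000000000000002000000000000000002000000000000000000000001000001000000002000000000000000002000000002000000000002000001000000000000000000000000000000000000000000001002000000000000000000002000002000000000000000002000000000000000000002000000000000000001000000000000000000001002000002000000000002002000000000002001000002000000001000001000000000001001000000000000002001000),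
  (nat_lit 0x1000000000000000000000000000001000000001001000000000000000000001000001000001000001000000000000000002001000000000000000001000000000002000001001000001000000000001000002000000000000000000000000000000000000001001002000000000000000000000001000001000000000000000000000002000002000000000000001000001000002000002002000000002001001000001000001002000000000000000000001000000001000002002002000000001000002000000002002001000000),
  (nat_lit 0x2000000000000000000000000000002000000002002000000000000000000002000002000002000002000000000000000001002000000000000000002000000000001000002002000002000000000002000001000000000000000000000000000000000000002002001000000000000000000000002000002000000000000000000000001000001000000000000002000002000001000001001000000001002002000002000002001000000000000000000002000000002000001001001000000002000001000000001001002000000),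
  (nat_lit 0x1000000000000001000000000000000000000001000001000000001001000000000000000000002000001000001000001000000000000000002002000000000000000001000000000002000001002000001000000000001000001000000000000002000000000000000000000001001002000000001000000000000001000000000001000000001002000002000002000000000000002000002000001000002002000000001001001000001000001001000000000002000001001000001001000002001002000001002002002000002002002001000002),
  (nat_lit 0x2000000000000002000000000000000000000002000002000000002002000000000000000000001000002000002000002000000000000000001001000000000000000002000000000001000002001000002000000000002000002000000000000001000000000000000000000002002001000000002000000000000002000000000002000000002001000001000001000000000000001000001000002000001001000000002002002000002000002002000000000001000002002000002002000001002001000002001001001000001001001002000001),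
  (nat_lit 0x2000000000000001000000000000000000000002000001000000001001000000000000000000000000001000001000001000000000000000002000000000000000000001000000000002000001000000001000000000001000001000000000000001000000000000000000000001001002000000002000000000000001000000000002000000002001000002000002000000001000000000000000000000002002000000000002001000001000001000000000000001000002002000002001000002000002000002000001002000002002002001000001),
  (nat_lit 0x1000000000000002000000000000000000000001000002000000002002000000000000000000000000002000002000002000000000000000001000000000000000000002000000000001000002000000002000000000002000002000000000000002000000000000000000000002002001000000001000000000000002000000000001000000001002000001000001000000002000000000000000000000001001000000000001002000002000002000000000000002000001001000001002000001000001000001000002001000001001001002000002),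
  (nat_lit 0x2002000002000000000000000000001000000000000000000000000000000000000001000000000000000000000000000002000000000001000001000000000000000002000000002000000002000000000000000000000000000000000000000000002002002001000000001002000000000000000000000000000000000000000000001000000000000000000000000000000000000001000000000000000000000000002000000000000001001000000000000000002000000000002000002000000000000000001000000000001002000),
  (nat_lit 0x2002000002000000000000000000001000000000000000000000000000000000000001000000000000000000000000000002000000000001000001000000000000000002000000002000000002000000000000000000000000000000000000000000002002002001000000001002000000000000000000000000000000000000000000001000000000000000000000000000000000000001000000000000000000000000002000000000000001001000000000000000002000000000002000002000000000000000001000000000001002000),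
  (nat_lit 0x1000000000000000000000000000000000000002000000000000000000000000000000000000002000000000000000000000000000000000000001000000000000000000000000000000000000001000000000000000000000000000000000000001000000000000000000000000000000000000001000000000000000000000000000000000000002000000000000000000000000000000000000002000000000000000000000000000000000000001000000000000000000000000000000000000001000000000000000000000000000000000000001),
  (nat_lit 0x1000000000000000000000000000000000000002000000000000000000000000000000000000002000000000000000000000000000000000000001000000000000000000000000000000000000001000000000000000000000000000000000000001000000000000000000000000000000000000001000000000000000000000000000000000000002000000000000000000000000000000000000002000000000000000000000000000000000000001000000000000000000000000000000000000001000000000000000000000000000000000000001),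
  (nat_lit 0x1001000001000000000000000000001000000000000000000000000000000000000001000000000000000000000000000001000000000002000002000000000000000001000000001000000001000000000000000000000000000000000000000000001001001002000000002001000000000000000000000000000000000000000000001000000000000000000000000000000000000001000000000000000000000000001000000000000002002000000000000000001000000000001000001000000000000000002000000000002001000),
  (nat_lit 0x1001000001000000000000000000001000000000000000000000000000000000000001000000000000000000000000000001000000000002000002000000000000000001000000001000000001000000000000000000000000000000000000000000001001001002000000002001000000000000000000000000000000000000000000001000000000000000000000000000000000000001000000000000000000000000001000000000000002002000000000000000001000000000001000001000000000000000002000000000002001000),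
  (nat_lit 0x1000000000000000000000000000000000000000001002000000000000000000000000000001002002001000000000000000000000000000002002001000000000000000000000000001001002002000000000000000000000000000000000000001000000000000000000000000000000000000001000000000000000000000000000000000000000001002000000000000000000000000000001002002001000000000000000000000000000002002001000000000000000000000000001001002002000000000000000000000000000000000000001),
  (nat_lit 0x1000000000000000000000000000000000000000001002000000000000000000000000000001002002001000000000000000000000000000002002001000000000000000000000000001001002002000000000000000000000000000000000000001000000000000000000000000000000000000001000000000000000000000000000000000000000001002000000000000000000000000000001002002001000000000000000000000000000002002001000000000000000000000000001001002002000000000000000000000000000000000000001),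
  (nat_lit 0x1000002000002000000000000000000001001001001000002000000000000000002001000002000000002000000000000000002002000000002000000000000000000000000002001001000000002000000000000000000000000000000000000000001000002002001002002001000000000000000000000000000000000000000000000001001001001002000000000000000002000001000002000002000000000000000002000002000000002000000000000000000000000002001001000002000000000000000001000002002001000000),
  (nat_lit 0x1000002000002000000000000000000001001001001000002000000000000000002001000002000000002000000000000000002002000000002000000000000000000000000002001001000000002000000000000000000000000000000000000000001000002002001002002001000000000000000000000000000000000000000000000001001001001002000000000000000002000001000002000002000000000000000002000002000000002000000000000000000000000002001001000002000000000000000001000002002001000000),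
  (nat_lit 0x1000002000002000000000000000000002000002001000002000000000000000002000002000002000002000000000000000002002001002001000000000000000000000000001000002002000002000000000000000000000000000000000000000001000002002001002002001000000000000000000000000000000000000000000000002000002001002000000000000000002000000002000002002000000000000000002000002001002001000000000000000000000000001000002002002000000000000000001000002002001000000),
  (nat_lit 0x1000002000002000000000000000000002000002001000002000000000000000002000002000002000002000000000000000002002001002001000000000000000000000000001000002002000002000000000000000000000000000000000000000001000002002001002002001000000000000000000000000000000000000000000000002000002001002000000000000000002000000002000002002000000000000000002000002001002001000000000000000000000000001000002002002000000000000000001000002002001000000),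
  (nat_lit 0x1000000001001002001000000000000000000002000000000000000002000000000000000000000000000000000000002000000000001000000001000000000000000002000000001000000000001000000000000000002000000000000002002002002000000002002002002000000000000000001000000000000002000002000000000000000001000000000000000000001000000000000000000000000000002000000000001002001000000002000000002000000001000002001000000000002000001000000002002001001000000000000002),
  (nat_lit 0x2000000002002001002000000000000000000001000000000000000001000000000000000000000000000000000000001000000000002000000002000000000000000001000000002000000000002000000000000000001000000000000001001001001000000001001001001000000000000000002000000000000001000001000000000000000002000000000000000000002000000000000000000000000000001000000000002001002000000001000000001000000002000001002000000000001000002000000001001002002000000000000001),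
  (nat_lit 0x2000000001001002001000000000000000000000000000000000000002000000000000000000001000000000000000002000000000001000000002000000000000000002000000001000000000002000000000000000002000000000000001001001001000000002002002002000000000000000002000000000000002000001000000000000000000000000000000000000002000000000000000002000000000001000000000001002001000000001000000001000000001000002001000000000001000002000000002002001001000000000000001),
  (nat_lit 0x1000000002002001002000000000000000000000000000000000000001000000000000000000002000000000000000001000000000002000000001000000000000000001000000002000000000001000000000000000001000000000000002002002002000000001001001001000000000000000001000000000000001000002000000000000000000000000000000000000001000000000000000001000000000002000000000002001002000000002000000002000000002000001002000000000002000001000000001001002002000000000000002),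
  (nat_lit 0x1001002001000000000000000000001000000000000000002000000000000000000002000000000000000002000000000001000000000000000000000000002000000001000000000000000000000000000002000002000000000000000000000000002002002002000000000000000000000000000000002000002000000000000000002000000000000000000002000000000000000001000000000000000000002001002001000000000000000000000000001002002001000000000000000000000000002002001000000000000000000),
  (nat_lit 0x2002001002000000000000000000002000000000000000001000000000000000000001000000000000000001000000000002000000000000000000000000001000000002000000000000000000000000000001000001000000000000000000000000001001001001000000000000000000000000000000001000001000000000000000001000000000000000000001000000000000000002000000000000000000001002001002000000000000000000000000002001001002000000000000000000000000001001002000000000000000000),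
  (nat_lit 0x2000001002001000000000000000000000001002002000000002000000000000001001001002001000000000002000000000001001002001000000000000000002000000000001001002001000000000000000002000002000000000000000000000001000002002002000000000000000000000000000000002000000001002000000000000002001001000000001001002002002001002002001002000000000001002002002001002001002000000000001001002002000000002002001002000000000001000002001000000000000000000),
  (nat_lit 0x1000002001002000000000000000000000002001001000000001000000000000002002002001002000000000001000000000002002001002000000000000000001000000000002002001002000000000000000001000001000000000000000000000002000001001001000000000000000000000000000000001000000002001000000000000001002002000000002002001001001002001001002001000000000002001001001002001002001000000000002002001001000000001001002001000000000002000001002000000000000000000),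
  (nat_lit 0x1000002000001002001000000000000000000001001002002000000002000000000000001001002002001000000000002000000000001001002002000000000000000002000000000001001002002000000000000000002000000000001000002002002000001000002002002000000000000000001000000000000002000001000000001000000002002001001000002000001000001002001002001001002000002002002002002002001002001001000000000000000000002000000002002001001000001000001000002001001000000000000002),
  (nat_lit 0x2000001000002001002000000000000000000002002001001000000001000000000000002002001001002000000000001000000000002002001001000000000000000001000000000002002001001000000000000000001000000000002000001001001000002000001001001000000000000000002000000000000001000002000000002000000001001002002000001000002000002001002001002002001000001001001001001001002001002002000000000000000000001000000001001002002000002000002000001002002000000000000001),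
  (nat_lit 0x2000002000001002001000000000000000000002001002002000000002000000000000001001000002001000000000002000000000001001002000000000000000000002000000000001001002000000000000000000002000000000002000001001001000001000002002002000000000000000002000000000000002000001002001002000000001002001001000001002000001000002001002000001002000001001000001002002001002001000000000000002002001001000000002002001000000002000001000002001001000000000000001),
  (nat_lit 0x1000001000002001002000000000000000000001002001001000000001000000000000002002000001002000000000001000000000002002001000000000000000000001000000000002002001000000000000000000001000000000001000002002002000002000001001001000000000000000001000000000000001000002001002001000000002001002002000002001000002000001002001000002001000002002000002001001002001002000000000000001001002002000000001001002000000001000002000001002002000000000000002),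
  (nat_lit 0x1002000000000000000000002001000000000000001000000000000000001001000000000000000001000000000000000000000002000000000000001000000000000000001000000000000000000001000000000000000000000000000000000000001001000000000000000000000000000000001000000000000000000000001002000000000000000000000000000000002002000000000000000000000000000000000000000001000000000000000000000000000000002000000000000000000000002000000000000000000),
  (nat_lit 0x2001000000000000000000001002000000000000002000000000000000002002000000000000000002000000000000000000000001000000000000002000000000000000002000000000000000000002000000000000000000000000000000000000002002000000000000000000000000000000002000000000000000000000002001000000000000000000000000000000001001000000000000000000000000000000000000000002000000000000000000000000000000001000000000000000000000001000000000000000000),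
  (nat_lit 0x1000000000000001002000000000000000000000001000000000000001000000000000000001002000000000000000001000000000000000000001002000000000000001000000000000000001001000000000000000001000002000000000000002002000000000000001001000000000000000001000000000000001000001001000000000000000002000000000000001000000000000000002001000000000000000000002002000000000000002001000000000000001002000000000000002002000001000000000000002002000000000000002),
  (nat_lit 0x2000000000000002001000000000000000000000002000000000000002000000000000000002001000000000000000002000000000000000000002001000000000000002000000000000000002002000000000000000002000001000000000000001001000000000000002002000000000000000002000000000000002000002002000000000000000001000000000000002000000000000000001002000000000000000000001001000000000000001002000000000000002001000000000000001001000002000000000000001001000000000000001),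
  (nat_lit 0x2000000000000001002000000000000000000001001000000000000001000000000000000001000000000000000000001000000000000000000002002000000000000001000000000000000001002000000000000000001000002000000000000001001000000000000001001000000000000000002000000000000001000000002000000000000002002000000000000002001000000000000002000000000000000000000002001000000000000001001000000000000002002000000000000002001000002000000000000002002000000000000001),
  (nat_lit 0x1000000000000002001000000000000000000002002000000000000002000000000000000002000000000000000000002000000000000000000001001000000000000002000000000000000002001000000000000000002000001000000000000002002000000000000002002000000000000000001000000000000002000000001000000000000001001000000000000001002000000000000001000000000000000000000001002000000000000002002000000000000001001000000000000001002000001000000000000001001000000000000002),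
  (nat_lit 0x2000000000002000000000000000000000000000001000000000000000000000000000000001000000000000000000000000000000002000000001001000000000000000000000000000000000001000000000000000000000000000000002000002002000000000002000000000000000000000001000000000000000000000002000000000000000001000000000000001000000000000000001000000000000000000000001000002001000000001001000001000000000002000000000000000001000002000000000001000000000000000000001),
  (nat_lit 0x2000000000002000000000000000000000000000001000000000000000000000000000000001000000000000000000000000000000002000000001001000000000000000000000000000000000001000000000000000000000000000000002000002002000000000002000000000000000000000001000000000000000000000002000000000000000001000000000000001000000000000000001000000000000000000000001000002001000000001001000001000000000002000000000000000001000002000000000001000000000000000000001),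
  (nat_lit 0x1000000002000000000000000000000000000000001000000000000000000000000000000001000000000000000000000000000000000000000002000000000000000000000000002000000002002000000000000000000000000000000000001001001000000002000000000000000000000000002000000000000000000000002000000000000000001000000000000001000000000000000001000000000000002000000002000000000000000002000000000000000000001002001000000002002000001000000001000000000000000000000002),
  (nat_lit 0x1000000002000000000000000000000000000000001000000000000000000000000000000001000000000000000000000000000000000000000002000000000000000000000000002000000002002000000000000000000000000000000000001001001000000002000000000000000000000000002000000000000000000000002000000000000000001000000000000001000000000000000001000000000000002000000002000000000000000002000000000000000000001002001000000002002000001000000001000000000000000000000002),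
  (nat_lit 0x2001000000000000000000000000001000000000000000000000000000000000000001000000000000000000000000000001000000002002000000000000000000000002000000002002000000000000000000000000000000001001000002000000002001000000000000000000000002000000000000000000000000000000000000001000000000000000000000000000000000000001000000000002000000001000001002000000002002000002000000000002002001000000002002000002000000001002000000000000000000002),
  (nat_lit 0x2001000000000000000000000000001000000000000000000000000000000000000001000000000000000000000000000001000000002002000000000000000000000002000000002002000000000000000000000000000000001001000002000000002001000000000000000000000002000000000000000000000000000000000000001000000000000000000000000000000000000001000000000002000000001000001002000000002002000002000000000002002001000000002002000002000000001002000000000000000000002),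
  (nat_lit 0x1001002000000000000000000000000002002001002000000000000000000000000002001002002000000000000000000000000000000000001000000000000000000000000002001001002001000000000000000000000000000002000001000002001001002000000000000000000000000002000000000000000000000002000001002001002001002000000002001000002001002001001002002000000002001001002000000000000000001000000000000002000001002001001001002001000002002002001000000000000000000000002),
  (nat_lit 0x1001002000000000000000000000000002002001002000000000000000000000000002001002002000000000000000000000000000000000001000000000000000000000000002001001002001000000000000000000000000000002000001000002001001002000000000000000000000000002000000000000000000000002000001002001002001002000000002001000002001002001001002002000000002001001002000000000000000001000000000000002000001002001001001002001000002002002001000000000000000000000002),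
  (nat_lit 0x1002000001002000000000000000000000001000000002001000000000000000000000000000000002002000000000000000000000002002001002001000000000000000000000001001001001002000000000000000000000000001002002002001001002000001002000000000000000000000002000000000000000001000000001000001002000000002001000002000000001001000000000000002002000001000001002000002001002001002001000001001001000001001002001001001002000001001000002001000000000000000000002),
  (nat_lit 0x1002000001002000000000000000000000001000000002001000000000000000000000000000000002002000000000000000000000002002001002001000000000000000000000001001001001002000000000000000000000000001002002002001001002000001002000000000000000000000002000000000000000001000000001000001002000000002001000002000000001001000000000000002002000001000001002000002001002001002001000001001001000001001002001001001002000001001000002001000000000000000000002),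
  (nat_lit 0x2001002002002000000000000000000000002002002000001000000000000000000000001002002000002000000000000000000000002002001002001000000000000000000000002000000002002000000000000000000000000001000002001002002001002002002000000000000000000000001000000000000000001000001001002002001002002000001000000002000002000001002002002000002000002002000000000002001002001002001000001001002000000002001000000002002000002002001001001000000000000000000001),
  (nat_lit 0x2001002002002000000000000000000000002002002000001000000000000000000000001002002000002000000000000000000000002002001002001000000000000000000000002000000002002000000000000000000000000001000002001002002001002002002000000000000000000000001000000000000000001000001001002002001002002000001000000002000002000001002002002000002000002002000000000002001002001002001000001001002000000002001000000002002000002002001001001000000000000000000001),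
  (nat_lit 0x2000000000000000000000000000000000000002000000000000000000000000000000000000002000000000000000000000000000000000000002000000000000000000000000000000000000002000000000000000000000000000000000000002000000000000000000000000000000000000002000000000000000000000000000000000000002000000000000000000000000000000000000002000000000000000000000000000000000000002000000000000000000000000000000000000002000000000000000000000000000000000000002),
  (nat_lit 0x2000000000000000000000000000000000000002000000000000000000000000000000000000002000000000000000000000000000000000000002000000000000000000000000000000000000002000000000000000000000000000000000000002000000000000000000000000000000000000002000000000000000000000000000000000000002000000000000000000000000000000000000002000000000000000000000000000000000000002000000000000000000000000000000000000002000000000000000000000000000000000000002)]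
noncomputable def Tc : List (List Nat) := [[],
  [],
  [],
  [],
  [],
  [],
  [(nat_lit 73)],
  [],
  [],
  [],
  [(nat_lit 73)],
  [(nat_lit 73)],
  [],
  [],
  [],
  [],
  [],
  [],
  [],
  [(nat_lit 73)],
  [],
  [],
  [(nat_lit 73)],
  [],
  [],
  [],
  [],
  [],
  [],
  [],
  [(nat_lit 73)],
  [],
  [],
  [(nat_lit 73)],
  [],
  [],
  [],
  [],
  [],
  [],
  [],
  [],
  [(nat_lit 73)],
  [],
  [],
  [],
  [],
  [],
  [],
  [],
  [(nat_lit 73)],
  [],
  [],
  [(nat_lit 73)],
  [(nat_lit 73)],
  [(nat_lit 73)],
  [],
  [],
  [],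
  [],
  [],
  [],
  [],
  [(nat_lit 73)],
  [(nat_lit 73)],
  [],
  [(nat_lit 73)],
  [],
  [],
  [],
  [],
  [],
  [],
  [],
  [(nat_lit 73)],
  [],
  [],
  [(nat_lit 73)],
  [],
  [],
  [],
  [],
  [],
  [],
  [],
  [],
  [],
  [],
  [],
  [],
  [],
  [],
  [],
  [],
  [(nat_lit 73)],
  [],
  [(nat_lit 73)],
  [],
  [(nat_lit 73)],
  [],
  [],
  [],
  [],
  [],
  [(nat_lit 73)],
  [],
  [],
  [],
  [],
  [(nat_lit 73)],
  [(nat_lit 73)],
  [],
  [],
  [],
  [],
  [],
  [],
  [(nat_lit 73)],
  [],
  [],
  [(nat_lit 73)],
  [(nat_lit 73)],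
  [],
  [],
  [],
  [],
  [],
  [],
  [(nat_lit 73)],
  [],
  [],
  [],
  [(nat_lit 73)],
  [],
  [],
  [],
  [],
  [],
  [],
  [(nat_lit 73)],
  [],
  [(nat_lit 73)],
  [(nat_lit 73)],
  [],
  [],
  [],
  [],
  [],
  [(nat_lit 73)],
  [],
  [(nat_lit 73)],
  [],
  [(nat_lit 73)],
  [(nat_lit 73)],
  [(nat_lit 73)],
  [],
  [],
  [],
  [],
  [],
  [],
  [],
  [],
  [(nat_lit 73)],
  [],
  [(nat_lit 73)],
  [],
  [],
  [],
  [],
  [],
  [],
  [(nat_lit 73)],
  [],
  [],
  [],
  [(nat_lit 73)],
  [],
  [],
  [],
  [],
  [],
  [],
  [],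
  [],
  [],
  [],
  [],
  [],
  [],
  [],
  [],
  [(nat_lit 73)],
  [],
  [(nat_lit 73)],
  [],
  [],
  [],
  [(nat_lit 73)],
  [],
  [],
  [(nat_lit 73)],
  [(nat_lit 73)],
  [],
  [],
  [],
  [],
  [(nat_lit 73)],
  [(nat_lit 73)],
  [(nat_lit 73)],
  [],
  [],
  [(nat_lit 73)],
  [(nat_lit 73)],
  [],
  [],
  [],
  [],
  [(nat_lit 73)],
  [(nat_lit 73)],
  [],
  [],
  [],
  [(nat_lit 73)],
  [(nat_lit 73)],
  [],
  [],
  [],
  [(nat_lit 73)],
  [(nat_lit 73)],
  [],
  [],
  [],
  [],
  [(nat_lit 73)],
  [(nat_lit 73)],
  [],
  [],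
  [],
  [(nat_lit 73)],
  [(nat_lit 73)],
  [(nat_lit 73)],
  [(nat_lit 73)],
  [],
  [],
  [(nat_lit 73)],
  [(nat_lit 73)],
  [],
  [],
  [],
  [],
  [(nat_lit 73)],
  [(nat_lit 73)],
  [(nat_lit 73)],
  [],
  [],
  [(nat_lit 73)],
  [(nat_lit 73)],
  [],
  [],
  [],
  [],
  [(nat_lit 73)],
  [],
  [(nat_lit 73)],
  [],
  [],
  [(nat_lit 73)],
  [(nat_lit 73)],
  [],
  [],
  [],
  [],
  [(nat_lit 73)],
  [(nat_lit 73)],
  [],
  [],
  [],
  [(nat_lit 73)],
  [(nat_lit 73)],
  [],
  [],
  [],
  [(nat_lit 73)],
  [(nat_lit 73)],
  [(nat_lit 73)],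
  [(nat_lit 73)],
  [],
  [],
  [(nat_lit 73)],
  [(nat_lit 73)],
  [],
  [],
  [],
  [],
  [(nat_lit 73)],
  [],
  [(nat_lit 73)],
  [],
  [],
  [(nat_lit 73)],
  [],
  [],
  [(nat_lit 73)],
  [(nat_lit 73)],
  [],
  [],
  [(nat_lit 73)],
  [(nat_lit 73)],
  [],
  [],
  [(nat_lit 73)],
  [],
  [],
  [],
  [(nat_lit 73)],
  [],
  [],
  [(nat_lit 73)],
  [],
  [],
  [],
  [(nat_lit 73)],
  [],
  [],
  [],
  [(nat_lit 73)],
  [(nat_lit 73)],
  [],
  [],
  [],
  [],
  [],
  [(nat_lit 73)],
  [],
  [],
  [],
  [(nat_lit 73)],
  [(nat_lit 73)],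
  [],
  [(nat_lit 73)],
  [(nat_lit 73)],
  [],
  [],
  [(nat_lit 73)],
  [],
  [],
  [(nat_lit 73)],
  [(nat_lit 73)],
  [],
  [],
  [(nat_lit 73)],
  [(nat_lit 73)],
  [],
  [],
  [(nat_lit 73)],
  [],
  [],
  [],
  [(nat_lit 73)],
  [],
  [],
  [],
  [(nat_lit 73)],
  [],
  [],
  [(nat_lit 73)],
  [],
  [],
  [],
  [(nat_lit 73)],
  [],
  [],
  [(nat_lit 73)],
  [],
  [],
  [],
  [(nat_lit 73)],
  [],
  [],
  [],
  [(nat_lit 73)],
  [(nat_lit 73)],
  [],
  [(nat_lit 73)],
  [(nat_lit 73)],
  [],
  [],
  [(nat_lit 73)],
  [],
  [],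
  [(nat_lit 73)],
  [(nat_lit 73)],
  [],
  [],
  [],
  [(nat_lit 73)],
  [],
  [],
  [(nat_lit 73)],
  [],
  [(nat_lit 73)],
  [],
  [(nat_lit 73)],
  [],
  [(nat_lit 73)],
  [],
  [(nat_lit 73)],
  [],
  [],
  [(nat_lit 73)],
  [],
  [],
  [],
  [],
  [(nat_lit 73)],
  [],
  [],
  [],
  [],
  [],
  [(nat_lit 73)],
  [],
  [],
  [],
  [(nat_lit 73)],
  [(nat_lit 73)],
  [],
  [],
  [],
  [],
  [],
  [(nat_lit 73)],
  [],
  [],
  [],
  [],
  [(nat_lit 73)],
  [(nat_lit 73)],
  [],
  [(nat_lit 73)],
  [],
  [],
  [(nat_lit 73)],
  [],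
  [(nat_lit 73)],
  [],
  [(nat_lit 73)],
  [],
  [],
  [],
  [(nat_lit 73)],
  [],
  [],
  [(nat_lit 73)],
  [],
  [],
  [],
  [(nat_lit 73)],
  [(nat_lit 73)],
  [],
  [],
  [(nat_lit 73)],
  [],
  [],
  [(nat_lit 73)],
  [],
  [],
  [],
  [(nat_lit 73)],
  [(nat_lit 73)],
  [(nat_lit 73)],
  [],
  [],
  [],
  [],
  [(nat_lit 73)],
  [],
  [],
  [],
  [(nat_lit 73)],
  [(nat_lit 73)],
  [],
  [],
  [(nat_lit 73)],
  [],
  [],
  [(nat_lit 73)],
  [],
  [(nat_lit 73)],
  [],
  [],
  [],
  [],
  [],
  [],
  [],
  [(nat_lit 73)],
  [],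
  [],
  [],
  [],
  [],
  [],
  [],
  [(nat_lit 73)],
  [(nat_lit 73)],
  [],
  [],
  [],
  [],
  [(nat_lit 73)],
  [],
  [],
  [],
  [],
  [(nat_lit 73)],
  [(nat_lit 73)],
  [],
  [],
  [],
  [],
  [(nat_lit 73)],
  [],
  [],
  [],
  [],
  [],
  [(nat_lit 73)],
  [],
  [],
  [],
  [],
  [(nat_lit 73)],
  [],
  [(nat_lit 73)],
  [],
  [],
  [(nat_lit 73)],
  [],
  [],
  [(nat_lit 73)],
  [],
  [],
  [],
  [],
  [(nat_lit 73)],
  [],
  [],
  [(nat_lit 73)],
  [(nat_lit 73)],
  [],
  [],
  [],
  [],
  [(nat_lit 73)],
  [],
  [(nat_lit 73)],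
  [],
  [],
  [],
  [(nat_lit 73)],
  [],
  [],
  [],
  [],
  [(nat_lit 73)],
  [],
  [],
  [],
  [],
  [],
  [(nat_lit 73)],
  [],
  [],
  [],
  [],
  [(nat_lit 73)],
  [],
  [],
  [],
  [],
  [],
  [],
  [],
  [(nat_lit 73)],
  [],
  [],
  [],
  [],
  [],
  [],
  [],
  [],
  [],
  [(nat_lit 73)],
  [],
  [],
  [],
  [],
  [],
  [],
  [],
  [(nat_lit 73)],
  [],
  [],
  [],
  [],
  [],
  [(nat_lit 73)],
  [],
  [],
  [],
  [],
  [(nat_lit 73)],
  [],
  [],
  [],
  [],
  [],
  [(nat_lit 73)],
  [],
  [],
  [],
  [],
  [],
  [],
  [],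
  [],
  [],
  [],
  [(nat_lit 73)],
  [],
  [(nat_lit 73)],
  [],
  [],
  [(nat_lit 73)],
  [],
  [],
  [(nat_lit 73)],
  [],
  [],
  [],
  [],
  [(nat_lit 73)],
  [],
  [],
  [(nat_lit 73)],
  [],
  [],
  [],
  [],
  [],
  [(nat_lit 73)],
  [],
  [(nat_lit 73)],
  [],
  [],
  [],
  [],
  [],
  [],
  [],
  [],
  [(nat_lit 73)],
  [],
  [],
  [],
  [],
  [],
  [],
  [],
  [],
  [],
  [],
  [(nat_lit 73)],
  [],
  [],
  [],
  [],
  [],
  [],
  [],
  [(nat_lit 73)],
  [],
  [],
  [],
  [],
  [],
  [],
  [],
  [],
  [],
  [(nat_lit 73)],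
  [],
  [(nat_lit 73)],
  [],
  [(nat_lit 73)],
  [],
  [(nat_lit 73)],
  [],
  [(nat_lit 73)],
  [],
  [],
  [(nat_lit 73)],
  [],
  [],
  [],
  [(nat_lit 73)],
  [],
  [],
  [(nat_lit 73)],
  [],
  [],
  [],
  [],
  [],
  [],
  [],
  [(nat_lit 73)],
  [],
  [],
  [(nat_lit 73)],
  [(nat_lit 73)],
  [],
  [],
  [],
  [],
  [],
  [],
  [(nat_lit 73)],
  [],
  [(nat_lit 73)],
  [(nat_lit 73)],
  [],
  [],
  [],
  [(nat_lit 73)],
  [],
  [],
  [],
  [(nat_lit 73)],
  [],
  [],
  [],
  [(nat_lit 73)],
  [],
  [],
  [(nat_lit 73)],
  [],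
  [(nat_lit 73)],
  [],
  [(nat_lit 73)],
  [],
  [],
  [(nat_lit 73)],
  [(nat_lit 73)],
  [],
  [],
  [(nat_lit 73)],
  [],
  [],
  [],
  [(nat_lit 73)],
  [],
  [(nat_lit 73)],
  [(nat_lit 73)],
  [(nat_lit 73)],
  [],
  [],
  [],
  [],
  [(nat_lit 73)],
  [],
  [(nat_lit 73)],
  [],
  [],
  [(nat_lit 73)],
  [(nat_lit 73)],
  [],
  [],
  [(nat_lit 73)],
  [],
  [],
  [],
  [(nat_lit 73)],
  [],
  [],
  [],
  [],
  [],
  [],
  [(nat_lit 73)],
  [(nat_lit 73)],
  [],
  [],
  [(nat_lit 73)],
  [(nat_lit 73)],
  [],
  [],
  [(nat_lit 73)],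
  [],
  [],
  [(nat_lit 73)],
  [(nat_lit 73)],
  [],
  [(nat_lit 73)],
  [],
  [],
  [],
  [(nat_lit 73)],
  [],
  [],
  [],
  [],
  [],
  [],
  [],
  [(nat_lit 73)],
  [],
  [],
  [(nat_lit 73)],
  [(nat_lit 73)],
  [],
  [],
  [],
  [],
  [],
  [],
  [],
  [(nat_lit 73)],
  [],
  [(nat_lit 73)],
  [],
  [],
  [],
  [(nat_lit 73)],
  [(nat_lit 73)],
  [],
  [],
  [(nat_lit 73)],
  [],
  [],
  [],
  [(nat_lit 73)],
  [],
  [],
  [(nat_lit 73)],
  [(nat_lit 73)],
  [],
  [(nat_lit 73)],
  [(nat_lit 73)],
  [],
  [],
  [(nat_lit 73)],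
  [(nat_lit 73)],
  [],
  [],
  [(nat_lit 73)],
  [],
  [],
  [(nat_lit 73)],
  [(nat_lit 73)],
  [(nat_lit 73)],
  [],
  [(nat_lit 73)],
  [(nat_lit 73)],
  [],
  [],
  [],
  [],
  [],
  [],
  [(nat_lit 73)],
  [],
  [],
  [(nat_lit 73)],
  [(nat_lit 73)],
  [],
  [],
  [(nat_lit 73)],
  [],
  [],
  [],
  [],
  [],
  [],
  [],
  [],
  [],
  [],
  [(nat_lit 73)],
  [(nat_lit 73)],
  [(nat_lit 73)],
  [],
  [],
  [],
  [],
  [(nat_lit 73)],
  [(nat_lit 73)],
  [],
  [],
  [(nat_lit 73)],
  [],
  [],
  [(nat_lit 73)],
  [(nat_lit 73)],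
  [],
  [],
  [],
  [],
  [],
  [],
  [],
  [(nat_lit 73)],
  [],
  [],
  [(nat_lit 73)],
  [],
  [],
  [(nat_lit 73)],
  [(nat_lit 73)],
  [],
  [],
  [],
  [(nat_lit 73)],
  [(nat_lit 73)],
  [],
  [(nat_lit 73)],
  [],
  [],
  [],
  [],
  [],
  [],
  [(nat_lit 73)],
  [],
  [],
  [],
  [],
  [],
  [],
  [(nat_lit 73)],
  [(nat_lit 73)],
  [],
  [],
  [(nat_lit 73)],
  [(nat_lit 73)],
  [],
  [(nat_lit 73)],
  [(nat_lit 73)],
  [],
  [],
  [(nat_lit 73)],
  [(nat_lit 73)],
  [],
  [],
  [(nat_lit 73)],
  [(nat_lit 73)],
  [(nat_lit 73)],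
  [(nat_lit 73)],
  [(nat_lit 73)],
  [],
  [],
  [(nat_lit 73)],
  [(nat_lit 73)],
  [],
  [],
  [],
  [],
  [],
  [],
  [(nat_lit 73)],
  [],
  [],
  [(nat_lit 73)],
  [(nat_lit 73)],
  [],
  [],
  [(nat_lit 73)],
  [(nat_lit 73)],
  [],
  [],
  [],
  [],
  [],
  [],
  [],
  [],
  [],
  [],
  [(nat_lit 73)],
  [],
  [],
  [],
  [],
  [(nat_lit 73)],
  [],
  [],
  [],
  [],
  [],
  [],
  [],
  [],
  [],
  [],
  [(nat_lit 73)],
  [],
  [],
  [],
  [],
  [],
  [],
  [],
  [],
  [],
  [],
  [],
  [],
  [],
  [],
  [],
  [],
  [],
  [],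
  [],
  [(nat_lit 73)],
  [],
  [(nat_lit 73)],
  [],
  [],
  [],
  [],
  [],
  [(nat_lit 73)],
  [],
  [],
  [(nat_lit 73)],
  [],
  [(nat_lit 73)],
  [],
  [],
  [],
  [],
  [],
  [],
  [],
  [],
  [(nat_lit 73)],
  [],
  [],
  [],
  [],
  [],
  [],
  [],
  [],
  [],
  [],
  [],
  [],
  [],
  [],
  [],
  [],
  [],
  [],
  [],
  [],
  [],
  [],
  [],
  [],
  [],
  [],
  [],
  [],
  [],
  [(nat_lit 73)],
  [],
  [],
  [],
  [],
  [],
  [],
  [],
  [],
  [],
  [],
  [(nat_lit 73)],
  [],
  [],
  [],
  [(nat_lit 73)],
  [],
  [],
  [],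
  [],
  [],
  [],
  [(nat_lit 73)],
  [],
  [],
  [],
  [(nat_lit 73)],
  [],
  [],
  [],
  [],
  [],
  [],
  [],
  [],
  [],
  [],
  [],
  [],
  [],
  [],
  [],
  [],
  [],
  [(nat_lit 73)],
  [],
  [],
  [],
  [(nat_lit 73)],
  [],
  [],
  [],
  [],
  [],
  [],
  [(nat_lit 73)],
  [],
  [],
  [],
  [(nat_lit 73)],
  [],
  [],
  [],
  [],
  [],
  [],
  [],
  [],
  [],
  [],
  [],
  [],
  [],
  [],
  [],
  [],
  [],
  [],
  [],
  [],
  [],
  [],
  [],
  [],
  [],
  [],
  [],
  [],
  [],
  [],
  [],
  [],
  [],
  [],
  [],
  [],
  [],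
  [],
  [],
  [],
  [],
  [],
  [],
  [],
  [],
  [],
  [],
  [],
  []]
noncomputable def Uc : List (List Nat) := [[(nat_lit 123), (nat_lit 14)]]

end CF.Schur.G24
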