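import Cfsg.Agent.Comp.Defs

set_option autoImplicit false
set_option maxRecDepth 1000000
set_option maxHeartbeats 0
set_option Elab.async false

namespace CF.Schur.J2

open CF.Comp

noncomputable def Nx2_0 : Net := (Net.cons (nat_lit 1) (nat_lit 0x54054005401101004041414) (Net.cons (nat_lit 2) (nat_lit 0x1222021220102003203200200) (Net.cons (nat_lit 4) (nat_lit 0x9000900090a0100020800) (Net.cons (nat_lit 8) (nat_lit 0xae00af006d005e00720004) (Net.cons (nat_lit 16) (nat_lit 0x216a000004080000000c) (Net.cons (nat_lit 32) (nat_lit 0x4000000000fb00240) (Net.cons (nat_lit 64) (nat_lit 0x3affec6d5) (Net.cons (nat_lit 32) (nat_lit 0xd0000000013799601) (Net.cons (nat_lit 16) (nat_lit 0x5dae0000c8c40000a104) (Net.cons (nat_lit 8) (nat_lit 0x2f002700a100b200fa00ae) (Net.cons (nat_lit 4) (nat_lit 0x60d040d0d0f0f0d04030e06) (Net.cons (nat_lit 2) (nat_lit 0x1220021020102003203222202) (Net.cons (nat_lit 1) (nat_lit 0x54054005401101014441414) Net.nil)))))))))))))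
noncomputable def Nx2_1 : Net := (Net.cons (nat_lit 1) (nat_lit 0x5401514144015045001040500) (Net.cons (nat_lit 2) (nat_lit 0x3231233133020332003000100) (Net.cons (nat_lit 4) (nat_lit 0x2050d010d0a040808050000) (Net.cons (nat_lit 8) (nat_lit 0x7600a8000800c700000000) (Net.cons (nat_lit 16) (nat_lit 0x19180000508700000000) (Net.cons (nat_lit 32) (nat_lit 0x200000000430d02d0) (Net.cons (nat_lit 64) (nat_lit 0xa5b7f43d8) (Net.cons (nat_lit 32) (nat_lit 0x700000000418f12d0) (Net.cons (nat_lit 16) (nat_lit 0x3f1800007ea700008208) (Net.cons (nat_lit 8) (nat_lit 0x7400aa000a00c50006000e) (Net.cons (nat_lit 4) (nat_lit 0x2050d010d0f040808050000) (Net.cons (nat_lit 2) (nat_lit 0x3231033133020332003020302) (Net.cons (nat_lit 1) (nat_lit 0x5401514144015045001040510) Net.nil)))))))))))))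
noncomputable def Nx2_2 : Net := (Net.cons (nat_lit 1) (nat_lit 0x5151450045105151401445044) (Net.cons (nat_lit 2) (nat_lit 0x1211131033031203022210300) (Net.cons (nat_lit 4) (nat_lit 0x50b0006090d06020b0f0001) (Net.cons (nat_lit 8) (nat_lit 0x7d0029005300e800800008) (Net.cons (nat_lit 16) (nat_lit 0xf4200002cb00000000f) (Net.cons (nat_lit 32) (nat_lit 776011792) (Net.cons (nat_lit 64) (nat_lit 2129656656) (Net.cons (nat_lit 32) (nat_lit 0xf00000000a90522e7) (Net.cons (nat_lit 16) (nat_lit 0x5910000433900003ece) (Net.cons (nat_lit 8) (nat_lit 0xc0008c00c0001000610018) (Net.cons (nat_lit 4) (nat_lit 0xe0901020b00050c0b06020f) (Net.cons (nat_lit 2) (nat_lit 0x3310210320013322300211030) (Net.cons (nat_lit 1) (nat_lit 0x404105510450404154110511) Net.nil)))))))))))))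
noncomputable def Nx2_3 : Net := (Net.cons (nat_lit 1) (nat_lit 0x5510411101410150041154540) (Net.cons (nat_lit 2) (nat_lit 0x2323033002101023133330110) (Net.cons (nat_lit 4) (nat_lit 0x10e0402040a070900080100) (Net.cons (nat_lit 8) (nat_lit 0x8300a8007500450025000c) (Net.cons (nat_lit 16) (nat_lit 0xaa240000a00400000000) (Net.cons (nat_lit 32) (nat_lit 0x200000000c31e69e0) (Net.cons (nat_lit 64) (nat_lit 0xcfbde79e7) (Net.cons (nat_lit 32) (nat_lit 0x90000000054dc7bb1) (Net.cons (nat_lit 16) (nat_lit 0xf7b9000043c000007508) (Net.cons (nat_lit 8) (nat_lit 0xf2003e00f500a700a3004c) (Net.cons (nat_lit 4) (nat_lit 0x60b000d08050d0a0c0c0b04) (Net.cons (nat_lit 2) (nat_lit 0x1123110333130311121012000) (Net.cons (nat_lit 1) (nat_lit 0x1050555444550550450110451) Net.nil)))))))))))))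
noncomputable def Nx2_4 : Net := (Net.cons (nat_lit 1) (nat_lit 0x4554000411515144111415450) (Net.cons (nat_lit 2) (nat_lit 0x2003201132030302113210000) (Net.cons (nat_lit 4) (nat_lit 0xe0105040b0c070304010001) (Net.cons (nat_lit 8) (nat_lit 0xe9003600e4004800c8000c) (Net.cons (nat_lit 16) (nat_lit 0x8920000018a000000004) (Net.cons (nat_lit 32) (nat_lit 2282443232) (Net.cons (nat_lit 64) (nat_lit 0x1b8ffdbeb) (Net.cons (nat_lit 32) (nat_lit 0xc0000000056d3f8a7) (Net.cons (nat_lit 16) (nat_lit 0xeda1000091eb000003e6) (Net.cons (nat_lit 8) (nat_lit 0xdf005300a5001100e200e1) (Net.cons (nat_lit 4) (nat_lit 0x2000f0900000a060b0d0801) (Net.cons (nat_lit 2) (nat_lit 0x2021023130033023110210332) (Net.cons (nat_lit 1) (nat_lit 0x4004550401504451505011514) Net.nil)))))))))))))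
noncomputable def Nx2_5 : Net := (Net.cons (nat_lit 1) (nat_lit 0x4454015441401404040500000) (Net.cons (nat_lit 2) (nat_lit 0x1332333121101001200302000) (Net.cons (nat_lit 4) (nat_lit 0x107020f0d000203060c0a00) (Net.cons (nat_lit 8) (nat_lit 0xc8000f00b90006004c0004) (Net.cons (nat_lit 16) (nat_lit 0x24330000110100000005) (Net.cons (nat_lit 32) (nat_lit 0x800000000044b1940) (Net.cons (nat_lit 64) (nat_lit 0xf57dbffe7) (Net.cons (nat_lit 32) (nat_lit 0xc00000000006f4d44) (Net.cons (nat_lit 16) (nat_lit 0x203b0000159d00003c55) (Net.cons (nat_lit 8) (nat_lit 0xe800de00b90026005c00b4) (Net.cons (nat_lit 4) (nat_lit 0x307060e0d010703070c0e00) (Net.cons (nat_lit 2) (nat_lit 0x1332332131100000200303000) (Net.cons (nat_lit 1) (nat_lit 0x4014015441401404051500010) Net.nil)))))))))))))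
noncomputable def Nx2_6 : Net := (Net.cons (nat_lit 1) (nat_lit 0x1044445055015445040004000) (Net.cons (nat_lit 2) (nat_lit 0x3112121002000003100100020) (Net.cons (nat_lit 4) (nat_lit 0x20809090500010502090d00) (Net.cons (nat_lit 8) (nat_lit 0xaa006300c7008500130008) (Net.cons (nat_lit 16) (nat_lit 0x15680000008d00000000) (Net.cons (nat_lit 32) (nat_lit 0x10000000060483900) (Net.cons (nat_lit 64) (nat_lit 0x769ce7d26) (Net.cons (nat_lit 32) (nat_lit 0xb000000006149b892) (Net.cons (nat_lit 16) (nat_lit 0x1468000007ad00001308) (Net.cons (nat_lit 8) (nat_lit 0xaa005100d700a700330008) (Net.cons (nat_lit 4) (nat_lit 0x2090b0b0502070702090d00) (Net.cons (nat_lit 2) (nat_lit 0x3112121002000003110100020) (Net.cons (nat_lit 1) (nat_lit 0x1044445055015445040014100) Net.nil)))))))))))))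
noncomputable def Nx2_7 : Net := (Net.cons (nat_lit 1) (nat_lit 0x5510544144101455401450504) (Net.cons (nat_lit 2) (nat_lit 0x3222231211113310212303220) (Net.cons (nat_lit 4) (nat_lit 0x10602090207000500010c0a) (Net.cons (nat_lit 8) (nat_lit 0xf00f600a400a9003b000a) (Net.cons (nat_lit 16) (nat_lit 0xce0b00008d200000000a) (Net.cons (nat_lit 32) (nat_lit 0xc0000000028102430) (Net.cons (nat_lit 64) (nat_lit 0x7fef03d3b) (Net.cons (nat_lit 32) (nat_lit 0x100000000152c9a7e) (Net.cons (nat_lit 16) (nat_lit 0x1ed700002d740000330d) (Net.cons (nat_lit 8) (nat_lit 0xcf0039009f009600f700cd) (Net.cons (nat_lit 4) (nat_lit 0x2090106010b000a00020c05) (Net.cons (nat_lit 2) (nat_lit 0x3111132122223320121303110) (Net.cons (nat_lit 1) (nat_lit 0x44011411454100144105051) Net.nil)))))))))))))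
noncomputable def Nx2_8 : Net := (Net.cons (nat_lit 1) (nat_lit 0x401555505140455415154010) (Net.cons (nat_lit 2) (nat_lit 0x231320310012013003102020) (Net.cons (nat_lit 4) (nat_lit 0x5060e060f040c010b070906) (Net.cons (nat_lit 8) (nat_lit 0x460026002c001900000004) (Net.cons (nat_lit 16) (nat_lit 0x24460000880c00000000) (Net.cons (nat_lit 32) (nat_lit 355486976) (Net.cons (nat_lit 64) (nat_lit 0xd3d39cffb) (Net.cons (nat_lit 32) (nat_lit 0xe000000007e0cf902) (Net.cons (nat_lit 16) (nat_lit 0x2dd700009401000057fd) (Net.cons (nat_lit 8) (nat_lit 0xd800c000740035004d0084) (Net.cons (nat_lit 4) (nat_lit 0x9040e050d080c080f0a0f07) (Net.cons (nat_lit 2) (nat_lit 0x301200011202211033112011) (Net.cons (nat_lit 1) (nat_lit 0x4504114100450051001510051) Net.nil)))))))))))))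
noncomputable def Nx2 : List Net := [Nx2_0, Nx2_1, Nx2_2, Nx2_3, Nx2_4, Nx2_5, Nx2_6, Nx2_7, Nx2_8]

noncomputable def Nx3_0 : Net := (Net.cons (nat_lit 1) (nat_lit 0x505410504510510054100440) (Net.cons (nat_lit 2) (nat_lit 0x1231002313123003131203000) (Net.cons (nat_lit 4) (nat_lit 0x5030906060304050a070c01) (Net.cons (nat_lit 8) (nat_lit 0x9800c4003000cc00cd0005) (Net.cons (nat_lit 16) (nat_lit 0x325d0000791000000000) (Net.cons (nat_lit 32) (nat_lit 0xb000000008298fd00) (Net.cons (nat_lit 64) (nat_lit 0x6efbaff4d) (Net.cons (nat_lit 32) (nat_lit 0x200000000b2fb5475) (Net.cons (nat_lit 16) (nat_lit 0x960d000058ea00009f08) (Net.cons (nat_lit 8) (nat_lit 0xb10096000a00b900a5002f) (Net.cons (nat_lit 4) (nat_lit 0x30a040909010c0a0a0309) (Net.cons (nat_lit 2) (nat_lit 0x3302022320200312330132300) (Net.cons (nat_lit 1) (nat_lit 0x5051510041015550104154050) Net.nil)))))))))))))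
noncomputable def Nx3_1 : Net := (Net.cons (nat_lit 1) (nat_lit 0x400050501541101540040504) (Net.cons (nat_lit 2) (nat_lit 0x2030021300000302312112330) (Net.cons (nat_lit 4) (nat_lit 0x7040c0b07000b090c0c080a) (Net.cons (nat_lit 8) (nat_lit 0xa300da0070000700cb0002) (Net.cons (nat_lit 16) (nat_lit 0xafb0000312800000001) (Net.cons (nat_lit 32) (nat_lit 0x800000000030178e0) (Net.cons (nat_lit 64) (nat_lit 0x717697df9) (Net.cons (nat_lit 32) (nat_lit 0xa0000000059650898) (Net.cons (nat_lit 16) (nat_lit 0xb2ca0000d19a000007e0) (Net.cons (nat_lit 8) (nat_lit 0xe1002b00fc006a007300e2) (Net.cons (nat_lit 4) (nat_lit 0x10409080d0501090a030d0c) (Net.cons (nat_lit 2) (nat_lit 0x110201310221133232300303) (Net.cons (nat_lit 1) (nat_lit 0x5500100000451550445040511) Net.nil)))))))))))))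
noncomputable def Nx3_2 : Net := (Net.cons (nat_lit 1) (nat_lit 0x100000454001405041001450) (Net.cons (nat_lit 2) (nat_lit 0x331010030031032111330130) (Net.cons (nat_lit 4) (nat_lit 0x30a02020e0a080800010a04) (Net.cons (nat_lit 8) (nat_lit 0x340073009a00ba00250004) (Net.cons (nat_lit 16) (nat_lit 0x4ac00000e6000000002) (Net.cons (nat_lit 32) (nat_lit 0x10000000019005650) (Net.cons (nat_lit 64) (nat_lit 0x55f4b76f4) (Net.cons (nat_lit 32) (nat_lit 0x7000000004ffb8a95) (Net.cons (nat_lit 16) (nat_lit 0xd46d00007e6c000058ac) (Net.cons (nat_lit 8) (nat_lit 0x3400a700ce00b000bb004a) (Net.cons (nat_lit 4) (nat_lit 0x70f060c000b080a08000104) (Net.cons (nat_lit 2) (nat_lit 0x201101333200010132322111) (Net.cons (nat_lit 1) (nat_lit 0x1110540441501100511041155) Net.nil)))))))))))))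
noncomputable def Nx3_3 : Net := (Net.cons (nat_lit 1) (nat_lit 0x5501510050504540041004440) (Net.cons (nat_lit 2) (nat_lit 0x1100220322031031020103300) (Net.cons (nat_lit 4) (nat_lit 0x70e0e00020c060504050201) (Net.cons (nat_lit 8) (nat_lit 0xd900ea0093004c00080002) (Net.cons (nat_lit 16) (nat_lit 0x841900004cb700000000) (Net.cons (nat_lit 32) (nat_lit 0xc0000000044022800) (Net.cons (nat_lit 64) (nat_lit 0x9ff9f7f04) (Net.cons (nat_lit 32) (nat_lit 0x30000000034fc3048) (Net.cons (nat_lit 16) (nat_lit 0x5e54000093c300008e2c) (Net.cons (nat_lit 8) (nat_lit 0x6000e80030000c0028008d) (Net.cons (nat_lit 4) (nat_lit 0x5000a0605040c000f000c0b) (Net.cons (nat_lit 2) (nat_lit 0x2331311122020331220032102) (Net.cons (nat_lit 1) (nat_lit 0x5441100001554401115451505) Net.nil)))))))))))))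
noncomputable def Nx3 : List Net := [Nx3_0, Nx3_1, Nx3_2, Nx3_3]

noncomputable def Nx5_0 : Net := (Net.cons (nat_lit 1) (nat_lit 0x4555051011411411410051050) (Net.cons (nat_lit 2) (nat_lit 0x2321003012301211232012110) (Net.cons (nat_lit 4) (nat_lit 0x9020308050d060606050604) (Net.cons (nat_lit 8) (nat_lit 0xc009200d400a900130002) (Net.cons (nat_lit 16) (nat_lit 0x75970000600400000008) (Net.cons (nat_lit 32) (nat_lit 0x60000000004720ea0) (Net.cons (nat_lit 64) (nat_lit 0x176ff1fa7) (Net.cons (nat_lit 32) (nat_lit 0xc0000000075f98a64) (Net.cons (nat_lit 16) (nat_lit 0xa02200000e370000e91c) (Net.cons (nat_lit 8) (nat_lit 0x6c0025006d00e8003d0018) (Net.cons (nat_lit 4) (nat_lit 0x10d040f020f030805050407) (Net.cons (nat_lit 2) (nat_lit 0x10321112320103102331) (Net.cons (nat_lit 1) (nat_lit 0x101100005150414441055455) Net.nil)))))))))))))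
noncomputable def Nx5_1 : Net := (Net.cons (nat_lit 1) (nat_lit 0x4050045511055011104101150) (Net.cons (nat_lit 2) (nat_lit 0x222113301330011020303000) (Net.cons (nat_lit 4) (nat_lit 0x4060f03020808080e0f0006) (Net.cons (nat_lit 8) (nat_lit 0x6700ca009b0017007d0007) (Net.cons (nat_lit 16) (nat_lit 0x81df0000464000000006) (Net.cons (nat_lit 32) (nat_lit 0x30000000042001020) (Net.cons (nat_lit 64) (nat_lit 0x15e8d9972) (Net.cons (nat_lit 32) (nat_lit 0xc000000006bd44ea2) (Net.cons (nat_lit 16) (nat_lit 0x18300000e1100000c1a1) (Net.cons (nat_lit 8) (nat_lit 0xb700fc00610012005a0066) (Net.cons (nat_lit 4) (nat_lit 0x8020704090a040e0f0d06) (Net.cons (nat_lit 2) (nat_lit 0x231221232010112120130212) (Net.cons (nat_lit 1) (nat_lit 0x1140514114051415451500114) Net.nil)))))))))))))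
noncomputable def Nx5_2 : Net := (Net.cons (nat_lit 1) (nat_lit 0x1455515401110415505104450) (Net.cons (nat_lit 2) (nat_lit 0x3011210303303213321221000) (Net.cons (nat_lit 4) (nat_lit 0x1000e0e050d060c03070309) (Net.cons (nat_lit 8) (nat_lit 0x50007006100b900610004) (Net.cons (nat_lit 16) (nat_lit 0x8d880000710000000005) (Net.cons (nat_lit 32) (nat_lit 0x100000000050058c0) (Net.cons (nat_lit 64) (nat_lit 0x15ddef9ce) (Net.cons (nat_lit 32) (nat_lit 0xc0000000033a1da18) (Net.cons (nat_lit 16) (nat_lit 0xabf300006391000047ef) (Net.cons (nat_lit 8) (nat_lit 0xab008500c6003700090062) (Net.cons (nat_lit 4) (nat_lit 0x10c0f0a03030b0601040408) (Net.cons (nat_lit 2) (nat_lit 0x3133012333303013203001010) (Net.cons (nat_lit 1) (nat_lit 0x1011455004545555101140154) Net.nil)))))))))))))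
noncomputable def Nx5_3 : Net := (Net.cons (nat_lit 1) (nat_lit 0x14115444001141011040000) (Net.cons (nat_lit 2) (nat_lit 0x2211123100200311000200100) (Net.cons (nat_lit 4) (nat_lit 0x803060c0c03000203060200) (Net.cons (nat_lit 8) (nat_lit 0x4a00050045000200000000) (Net.cons (nat_lit 16) (nat_lit 0x482c0000015100000006) (Net.cons (nat_lit 32) (nat_lit 0x6000000000a047110) (Net.cons (nat_lit 64) (nat_lit 0x10b1e7536) (Net.cons (nat_lit 32) (nat_lit 0xe000000000b145060) (Net.cons (nat_lit 16) (nat_lit 0x691d0000044300000316) (Net.cons (nat_lit 8) (nat_lit 0x6e00e5004500a200200028) (Net.cons (nat_lit 4) (nat_lit 0x80b060c0c03000603060200) (Net.cons (nat_lit 2) (nat_lit 0x2211123100202311001210100) (Net.cons (nat_lit 1) (nat_lit 0x14115444041141011044000) Net.nil)))))))))))))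
noncomputable def Nx5 : List Net := [Nx5_0, Nx5_1, Nx5_2, Nx5_3]

end CF.Schur.J2
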