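import Cfsg.Agent.Schur.Mdl
import Cfsg.Agent.Schur.J2D
import Cfsg.Agent.Comp.J2.Main

/-! The Schur multiplier of J2. -/

set_option autoImplicit false
set_option maxRecDepth 1000000
set_option maxHeartbeats 0
set_option Elab.async false

namespace CF.Schur.J2

open CF.Comp CF.Schur.Pc Cfsg CF.Comp.J2 CF.J23

theorem mdl : type_of% (mdl_of_exact exact (fun _ => trivial)) := mdl_of_exact exact (fun _ => trivial)

noncomputable def Wx2 : List (List Nat) := [[(nat_lit 8), (nat_lit 9), (nat_lit 11), (nat_lit 7), (nat_lit 9), (nat_lit 5), (nat_lit 3), (nat_lit 10), (nat_lit 8), (nat_lit 6), (nat_lit 14), (nat_lit 9), (nat_lit 5), (nat_lit 7), (nat_lit 9), (nat_lit 4), (nat_lit 10), (nat_lit 8), (nat_lit 6), (nat_lit 10), (nat_lit 14), (nat_lit 9), (nat_lit 5), (nat_lit 7), (nat_lit 9), (nat_lit 3), (nat_lit 1), (nat_lit 10), (nat_lit 8), (nat_lit 6), (nat_lit 14), (nat_lit 9), (nat_lit 5), (nat_lit 7), (nat_lit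 9), (nat_lit 1), (nat_lit 4), (nat_lit 10), (nat_lit 8), (nat_lit 6), (nat_lit 14), (nat_lit 9), (nat_lit 5), (nat_lit 7), (nat_lit 9), (nat_lit 3), (nat_lit 1), (nat_lit 10), (nat_lit 8), (nat_lit 6), (nat_lit 14), (nat_lit 9), (nat_lit 5), (nat_lit 7), (nat_lit 9), (nat_lit 1)],
  [(nat_lit 6), (nat_lit 10), (nat_lit 1), (nat_lit 5), (nat_lit 3), (nat_lit 2), (nat_lit 4), (nat_lit 10), (nat_lit 8), (nat_lit 6), (nat_lit 10), (nat_lit 5), (nat_lit 7), (nat_lit 9), (nat_lit 3), (nat_lit 2), (nat_lit 10), (nat_lit 8), (nat_lit 6), (nat_lit 10), (nat_lit 5), (nat_lit 7), (nat_lit 9), (nat_lit 4), (nat_lit 10), (nat_lit 8), (nat_lit 6), (nat_lit 9), (nat_lit 5), (nat_lit 7), (nat_lit 9), (nat_lit 3), (nat_lit 10), (nat_lit 8), (nat_lit 6), (nat_lit 10), (nat_lit 5), (nat_lit 7), (nat_lit 9), (nat_lit 4), (nat_lit 10), (nat_lit 8), (nat_lit 6), (nat_lit 14), (nat_lit 9), (nat_lit 5), (nat_lit 7), (nat_lit 9), (nat_lit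 3), (nat_lit 1)],
  [(nat_lit 2), (nat_lit 10), (nat_lit 8), (nat_lit 6), (nat_lit 10), (nat_lit 5), (nat_lit 7), (nat_lit 9), (nat_lit 5), (nat_lit 2), (nat_lit 4), (nat_lit 10), (nat_lit 8), (nat_lit 6), (nat_lit 10), (nat_lit 5), (nat_lit 7), (nat_lit 9), (nat_lit 3), (nat_lit 3), (nat_lit 2), (nat_lit 10), (nat_lit 8), (nat_lit 6), (nat_lit 10), (nat_lit 5), (nat_lit 7), (nat_lit 9), (nat_lit 2), (nat_lit 10), (nat_lit 8), (nat_lit 6), (nat_lit 10), (nat_lit 5), (nat_lit 7), (nat_lit 9)],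
  [(nat_lit 8), (nat_lit 9), (nat_lit 11), (nat_lit 7), (nat_lit 9), (nat_lit 5), (nat_lit 2), (nat_lit 10), (nat_lit 8), (nat_lit 6), (nat_lit 10), (nat_lit 5), (nat_lit 7), (nat_lit 9), (nat_lit 2), (nat_lit 4), (nat_lit 10), (nat_lit 8), (nat_lit 6), (nat_lit 10), (nat_lit 5), (nat_lit 7), (nat_lit 9), (nat_lit 3), (nat_lit 3), (nat_lit 2), (nat_lit 4), (nat_lit 10), (nat_lit 8), (nat_lit 6), (nat_lit 10), (nat_lit 5), (nat_lit 7), (nat_lit 9), (nat_lit 3), (nat_lit 2), (nat_lit 10), (nat_lit 8), (nat_lit 6), (nat_lit 10), (nat_lit 5), (nat_lit 7), (nat_lit 9), (nat_lit 4), (nat_lit 10), (nat_lit 8), (nat_lit 6), (nat_lit 9), (nat_lit 5), (nat_lit 7), (nat_lit 9), (nat_lit 3), (nat_lit 10), (nat_lit 8), (nat_lit 6), (nat_lit 10), (nat_lit 5), (nat_lit 7), (nat_lit 9), (nat_lit 4), (nat_lit 10), (nat_lit 8), (nat_lit 6), (nat_lit 14), (nat_lit 9), (nat_lit 5), (nat_lit 7), (nat_lit 9), (nat_lit 3), (nat_lit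 1), (nat_lit 10), (nat_lit 8), (nat_lit 6), (nat_lit 14), (nat_lit 9), (nat_lit 5), (nat_lit 7), (nat_lit 9), (nat_lit 1)],
  [(nat_lit 6), (nat_lit 10), (nat_lit 1), (nat_lit 5), (nat_lit 3), (nat_lit 2), (nat_lit 4), (nat_lit 10), (nat_lit 8), (nat_lit 6), (nat_lit 10), (nat_lit 5), (nat_lit 7), (nat_lit 9), (nat_lit 3), (nat_lit 2), (nat_lit 10), (nat_lit 8), (nat_lit 6), (nat_lit 10), (nat_lit 5), (nat_lit 7), (nat_lit 9), (nat_lit 4), (nat_lit 10), (nat_lit 8), (nat_lit 6), (nat_lit 9), (nat_lit 5), (nat_lit 7), (nat_lit 9), (nat_lit 3), (nat_lit 10), (nat_lit 8), (nat_lit 6), (nat_lit 10), (nat_lit 5), (nat_lit 7), (nat_lit 9), (nat_lit 4), (nat_lit 10), (nat_lit 8), (nat_lit 6), (nat_lit 14), (nat_lit 9), (nat_lit 5), (nat_lit 7), (nat_lit 9), (nat_lit 3), (nat_lit 1), (nat_lit 10), (nat_lit 8), (nat_lit 6), (nat_lit 14), (nat_lit 9), (nat_lit 5), (nat_lit 7), (nat_lit 9), (nat_lit 1), (nat_lit 4), (nat_lit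 10), (nat_lit 8), (nat_lit 6), (nat_lit 14), (nat_lit 9), (nat_lit 5), (nat_lit 7), (nat_lit 9), (nat_lit 3), (nat_lit 1), (nat_lit 10), (nat_lit 8), (nat_lit 6), (nat_lit 14), (nat_lit 9), (nat_lit 5), (nat_lit 7), (nat_lit 9), (nat_lit 1)],
  [(nat_lit 4), (nat_lit 10), (nat_lit 8), (nat_lit 6), (nat_lit 14), (nat_lit 9), (nat_lit 5), (nat_lit 7), (nat_lit 9), (nat_lit 3), (nat_lit 10), (nat_lit 8), (nat_lit 6), (nat_lit 10), (nat_lit 14), (nat_lit 9), (nat_lit 5), (nat_lit 7), (nat_lit 9), (nat_lit 1), (nat_lit 4), (nat_lit 10), (nat_lit 8), (nat_lit 6), (nat_lit 14), (nat_lit 9), (nat_lit 5), (nat_lit 7), (nat_lit 9), (nat_lit 3), (nat_lit 1)],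
  [(nat_lit 2), (nat_lit 10), (nat_lit 8), (nat_lit 6), (nat_lit 10), (nat_lit 5), (nat_lit 7), (nat_lit 9), (nat_lit 2), (nat_lit 4), (nat_lit 10), (nat_lit 8), (nat_lit 6), (nat_lit 10), (nat_lit 5), (nat_lit 7), (nat_lit 9), (nat_lit 3), (nat_lit 10), (nat_lit 8), (nat_lit 6), (nat_lit 14), (nat_lit 9), (nat_lit 5), (nat_lit 7), (nat_lit 9), (nat_lit 1)],
  [(nat_lit 8), (nat_lit 9), (nat_lit 11), (nat_lit 7), (nat_lit 9), (nat_lit 5), (nat_lit 4), (nat_lit 10), (nat_lit 8), (nat_lit 6), (nat_lit 14), (nat_lit 9), (nat_lit 5), (nat_lit 7), (nat_lit 9), (nat_lit 4), (nat_lit 10), (nat_lit 8), (nat_lit 6), (nat_lit 10), (nat_lit 14), (nat_lit 9), (nat_lit 5), (nat_lit 7), (nat_lit 9), (nat_lit 3), (nat_lit 1)],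
  [(nat_lit 8), (nat_lit 9), (nat_lit 11), (nat_lit 7), (nat_lit 6), (nat_lit 10), (nat_lit 1), (nat_lit 5), (nat_lit 7), (nat_lit 4), (nat_lit 2), (nat_lit 4), (nat_lit 10), (nat_lit 8), (nat_lit 6), (nat_lit 10), (nat_lit 5), (nat_lit 7), (nat_lit 9), (nat_lit 3), (nat_lit 3), (nat_lit 2), (nat_lit 4), (nat_lit 10), (nat_lit 8), (nat_lit 6), (nat_lit 10), (nat_lit 5), (nat_lit 7), (nat_lit 9), (nat_lit 3), (nat_lit 2), (nat_lit 10), (nat_lit 8), (nat_lit 6), (nat_lit 10), (nat_lit 5), (nat_lit 7), (nat_lit 9), (nat_lit 4), (nat_lit 10), (nat_lit 8), (nat_lit 6), (nat_lit 14), (nat_lit 9), (nat_lit 5), (nat_lit 7), (nat_lit 9), (nat_lit 3), (nat_lit 1), (nat_lit 10), (nat_lit 8), (nat_lit 6), (nat_lit 14), (nat_lit 9), (nat_lit 5), (nat_lit 7), (nat_lit 9), (nat_lit 1)]]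

theorem qx2_0 : allFrom (preRow P2.N Nx2 Wx2 100 7) 0 9 = true := by decide +kernel

theorem qx2 : ∀ j < 9, preRow P2.N Nx2 Wx2 100 7 j = true := by
  have h : ∀ j < 0, preRow P2.N Nx2 Wx2 100 7 j = true := by simp
  have h := forall_lt_add h (allFrom_iff.1 qx2_0)
  exact h

theorem wx2 : wfAll Nx2 100 = true := by decide +kernel

noncomputable def Px2 : Dat := ⟨(nat_lit 2), (nat_lit 7), (nat_lit 9), (nat_lit 11), (nat_lit 39),
  (BT.node (nat_lit 14) (BT.node (nat_lit 7) (BT.node (nat_lit 3) (BT.node (nat_lit 1) (BT.leaf []) (BT.node (nat_lit 2) (BT.leaf [(nat_lit 1), (nat_lit 4)]) (BT.leaf []))) (BT.node (nat_lit 5) (BT.node (nat_lit 4) (BT.leaf [(nat_lit 2), (nat_lit 5)]) (BT.leaf [(nat_lit 2), (nat_lit 3)])) (BT.node (nat_lit 6) (BT.leaf []) (BT.leaf [(nat_lit 3), (nat_lit 5)])))) (BT.node (nat_lit 10) (BT.node (nat_lit 8) (BT.leaf [(nat_lit 3), (nat_lit 6)]) (BT.node (nat_lit 9) (BT.leaf [(nat_lit 3),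 (nat_lit 6)]) (BT.leaf [(nat_lit 6)]))) (BT.node (nat_lit 12) (BT.node (nat_lit 11) (BT.leaf [(nat_lit 4), (nat_lit 6)]) (BT.leaf [(nat_lit 4), (nat_lit 6)])) (BT.node (nat_lit 13) (BT.leaf [(nat_lit 4), (nat_lit 5)]) (BT.leaf [(nat_lit 4), (nat_lit 6)]))))) (BT.node (nat_lit 21) (BT.node (nat_lit 17) (BT.node (nat_lit 15) (BT.leaf [(nat_lit 6)]) (BT.node (nat_lit 16) (BT.leaf [(nat_lit 5)]) (BT.leaf [(nat_lit 5), (nat_lit 6)]))) (BT.node (nat_lit 19) (BT.node (nat_lit 18) (BT.leaf [(nat_lit 5)]) (BT.leaf [(nat_lit 5)])) (BT.node (nat_lit 20) (BT.leaf [(nat_lit 5)]) (BT.leaf [])))) (BT.node (nat_lit 24) (BT.node (nat_lit 22) (BT.leaf [(nat_lit 6)]) (BT.node (nat_lit 23) (BT.leaf [(nat_lit 6)]) (BT.leaf [(nat_lit 6)]))) (BT.node (nat_lit 26) (BT.node (nat_lit 25) (BT.leaf [(nat_lit 6)]) (BT.leaf [(nat_lit 6)])) (BT.node (nat_lit 27) (BT.leaf [(nat_lit 6)]) (BT.leaf [])))))),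
  [⟨(nat_lit 0), [(nat_lit 1)], [(nat_lit 5)]⟩,
  ⟨(nat_lit 1), [(nat_lit 1)], [(nat_lit 1), (nat_lit 4)]⟩,
  ⟨(nat_lit 1), [(nat_lit 3)], [(nat_lit 3), (nat_lit 4)]⟩,
  ⟨(nat_lit 1), [(nat_lit 6)], [(nat_lit 6)]⟩,
  ⟨(nat_lit 0), [(nat_lit 5)], [(nat_lit 1)]⟩,
  ⟨(nat_lit 0), [(nat_lit 6)], [(nat_lit 6)]⟩,
  ⟨(nat_lit 1), [(nat_lit 4)], [(nat_lit 3), (nat_lit 5), (nat_lit 6)]⟩,
  ⟨(nat_lit 1), [(nat_lit 0)], [(nat_lit 2), (nat_lit 3), (nat_lit 5)]⟩,
  ⟨(nat_lit 1), [(nat_lit 5)], [(nat_lit 5)]⟩,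
  ⟨(nat_lit 1), [(nat_lit 2)], [(nat_lit 0), (nat_lit 2), (nat_lit 4)]⟩,
  ⟨(nat_lit 0), [(nat_lit 4)], [(nat_lit 1), (nat_lit 4), (nat_lit 5), (nat_lit 6)]⟩]⟩

noncomputable def Xx2_0 : List Test := [⟨(nat_lit 1), [(nat_lit 0), (nat_lit 0)], [], (nat_lit 0x18000000000000000008000000000000000000000000000000000000000600000000000000000000000000002)⟩,
  ⟨(nat_lit 0), [(nat_lit 3)], [(nat_lit 3), (nat_lit 3)], (nat_lit 0x8000000008000000000000000000000000000000000000000000000000000000000000000000000000000000)⟩,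
  ⟨(nat_lit 0), [(nat_lit 4)], [(nat_lit 4), (nat_lit 4)], (nat_lit 0x8000001000000000000000000000000000000000000000000000000000000000000000000000000000000000)⟩,
  ⟨(nat_lit 2), [(nat_lit 1), (nat_lit 1)], [], (nat_lit 0x10040001000000000000000000000000200000040000000000000000000000000000000000000000000000400)⟩,
  ⟨(nat_lit 0), [(nat_lit 2)], [(nat_lit 0), (nat_lit 0)], (nat_lit 0x10000000000000000008000000000040000000000000000000000000080000000000000000000000000000000)⟩,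
  ⟨(nat_lit 0), [(nat_lit 3)], [(nat_lit 0), (nat_lit 0)], (nat_lit 0x10000000000000000008000000000040000000000000000000400000000000000000000000000000000000000)⟩,
  ⟨(nat_lit 0), [(nat_lit 3)], [(nat_lit 1), (nat_lit 1)], (nat_lit 0x10040000000000200000000000000000000000000000000080000000000000000000000000000000000000000)⟩,
  ⟨(nat_lit 0), [(nat_lit 3)], [(nat_lit 2), (nat_lit 2)], (nat_lit 0x10040000000040000000000000000000000000000000010000000000000000000000000000000000000000000)⟩,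
  ⟨(nat_lit 0), [(nat_lit 4)], [(nat_lit 0), (nat_lit 0)], (nat_lit 0x10040000000000001000000000000000000000000400000000000000000000000000000000000000000000000)⟩,
  ⟨(nat_lit 0), [(nat_lit 4)], [(nat_lit 2), (nat_lit 2)], (nat_lit 0x10000000000000000008000001000000000010000000000000000000000000000000000000000000000000000)⟩,
  ⟨(nat_lit 0), [(nat_lit 5)], [(nat_lit 3), (nat_lit 3)], (nat_lit 0x10000200000000000000000400000000000000000000000000000000000000000000000000000000000000000)⟩,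
  ⟨(nat_lit 0), [(nat_lit 1)], [(nat_lit 0), (nat_lit 0)], (nat_lit 0x10040000000000000000000000000000200000000200000000000000000002000000000000000000000000000)⟩,
  ⟨(nat_lit 0), [(nat_lit 2)], [(nat_lit 1), (nat_lit 1)], (nat_lit 0x10040000000000000000000000000000000000000001000040000010000000000000000000000000000000000)⟩,
  ⟨(nat_lit 2), [(nat_lit 2), (nat_lit 2)], [(nat_lit 3)], (nat_lit 0x18040001000000000000000000000000201000000000000000000000000000000000000000000000018080000)⟩,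
  ⟨(nat_lit 1), [(nat_lit 4), (nat_lit 0)], [(nat_lit 0), (nat_lit 4), (nat_lit 5)], (nat_lit 0x180c0000000000000000000000010000000000000000000000000000000000000000000000000600000000000)⟩,
  ⟨(nat_lit 0), [(nat_lit 5)], [(nat_lit 5), (nat_lit 1)], (nat_lit 0x180c0600000000000000000000010000000000000000000000000000000000000000000000000000000000000)⟩,
  ⟨(nat_lit 2), [(nat_lit 6), (nat_lit 6)], [(nat_lit 3)], (nat_lit 0x18040200008000000008000200000000600000000001000000000000000000000000000000080000018000000)⟩,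
  ⟨(nat_lit 0), [(nat_lit 2)], [(nat_lit 2), (nat_lit 1)], (nat_lit 0x180c0000018000000000000000000000000000000003018000000010000000000000000000000000000000000)⟩,
  ⟨(nat_lit 2), [(nat_lit 7), (nat_lit 7)], [], (nat_lit 0x18040400008000000008000201000000000000000001008000001000000000018000000010000000000000000)⟩,
  ⟨(nat_lit 2), [(nat_lit 8), (nat_lit 1)], [(nat_lit 1), (nat_lit 8), (nat_lit 3)], (nat_lit 0x18000001000000000000040000000000000000000000000000000000000000000000000000000000018000000)⟩,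
  ⟨(nat_lit 0), [(nat_lit 3)], [(nat_lit 3), (nat_lit 0)], (nat_lit 0x18000400000000001018000600000000000000000000000000400000000000000000000000000000000000000)⟩,
  ⟨(nat_lit 0), [(nat_lit 4)], [(nat_lit 4), (nat_lit 2)], (nat_lit 0x180004000000400000180c0000000000000010000000000000000000000000000000000000000000000000000)⟩,
  ⟨(nat_lit 2), [(nat_lit 9), (nat_lit 9)], [], (nat_lit 0x10040001000040000008040001000000200008000200000000000000040000008000400000000000000000000)⟩,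
  ⟨(nat_lit 1), [(nat_lit 10), (nat_lit 10)], [(nat_lit 5)], (nat_lit 0x18080401000000200008040000008000000000040000000000000000000200000080000000000600000000000)⟩,
  ⟨(nat_lit 0), [(nat_lit 5)], [(nat_lit 1), (nat_lit 0)], (nat_lit 0x180000030000000010000c0000000000000000000000000000000000000000000000000000000000000000000)⟩,
  ⟨(nat_lit 0), [(nat_lit 2)], [(nat_lit 1), (nat_lit 0)], (nat_lit 0x180002030000000000080c0000018000001008000000000000200000000000000000000000000000000000000)⟩]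

noncomputable def cx2 : Cert := ⟨Px2, (nat_lit 1), Xx2_0,
  [⟨(nat_lit 0x180000000000000000000000000000000000000000000000002000000c0000000000000000000000000000000), (nat_lit 2), (nat_lit 3328)⟩],
  [(nat_lit 0),
  (nat_lit 0),
  (nat_lit 0),
  (nat_lit 0x8000000000000000000000000000000000000000000000000000008000000000000000000000000000000000),
  (nat_lit 0x8000000000000000000000000000000000000000000000000000000000001000000000000000000000000000),
  (nat_lit 0x8000000000000000000000000000000000000000000000000000000040000000000000000000000000000000),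
  (nat_lit 0x8000000000000000000000000000000000000000000000040000000000000000000000000000000000000000)],
  (BT.node (nat_lit 14) (BT.node (nat_lit 7) (BT.node (nat_lit 3) (BT.node (nat_lit 1) (BT.leaf (nat_lit 131192475)) (BT.node (nat_lit 2) (BT.leaf (nat_lit 0)) (BT.leaf (nat_lit 37749514)))) (BT.node (nat_lit 5) (BT.node (nat_lit 4) (BT.leaf (nat_lit 0)) (BT.leaf (nat_lit 0))) (BT.node (nat_lit 6) (BT.leaf (nat_lit 96263059)) (BT.leaf (nat_lit 1))))) (BT.node (nat_lit 10) (BT.node (nat_lit 8) (BT.leaf (nat_lit 0)) (BT.node (nat_lit 9) (BT.leaf (nat_lit 270340)) (BT.leaf (nat_lit 75776)))) (BT.node (nat_lit 12) (BT.node (nat_lit 11) (BT.leaf (nat_lit 36909060)) (BT.leaf (nat_lit 36904988))) (BT.node (nat_lit 13) (BT.leaf (nat_lit 89244059)) (BT.leaf (nat_lit 2255372)))))) (BT.node (nat_lit 21) (BT.node (nat_lit 17) (BT.node (nat_lit 15) (BT.leaf (nat_lit 36841476)) (BT.node (nat_lit 16) (BT.leaf (nat_lit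 37749544)) (BT.leaf (nat_lit 20097694)))) (BT.node (nat_lit 19) (BT.node (nat_lit 18) (BT.leaf (nat_lit 37750536)) (BT.leaf (nat_lit 39913736))) (BT.node (nat_lit 20) (BT.leaf (nat_lit 33622536)) (BT.leaf (nat_lit 37749512))))) (BT.node (nat_lit 24) (BT.node (nat_lit 22) (BT.leaf (nat_lit 68096)) (BT.node (nat_lit 23) (BT.leaf (nat_lit 67712)) (BT.leaf (nat_lit 67840)))) (BT.node (nat_lit 26) (BT.node (nat_lit 25) (BT.leaf (nat_lit 4)) (BT.leaf (nat_lit 8))) (BT.node (nat_lit 27) (BT.leaf (nat_lit 2048)) (BT.leaf (nat_lit 67584)))))))⟩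

theorem okx2 : cx2.OK := Cert.ok_of_check (by decide) (by decide +kernel)


noncomputable def Lx2 : List Lvl := [⟨(nat_lit 1), [[(nat_lit 1)],
  [(nat_lit 5)],
  [(nat_lit 7)],
  [(nat_lit 9)],
  [(nat_lit 11)],
  [(nat_lit 13)]], (nat_lit 1)⟩,
  ⟨(nat_lit 0), [[(nat_lit 3), (nat_lit 7), (nat_lit 9), (nat_lit 11), (nat_lit 13)]], (nat_lit 1)⟩]


noncomputable def gx2 : List (List Nat) := [[(nat_lit 15)],
  [(nat_lit 17)]]

theorem hx2_0 : allFrom (relRow (sameW Nx2 100 7) 0 Px2) 0 7 = true := by decide +kernel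

theorem hx2 : ∀ j < 7, relRow (sameW Nx2 100 7) 0 Px2 j = true := by
  have h : ∀ j < 0, relRow (sameW Nx2 100 7) 0 Px2 j = true := by simp
  have h := forall_lt_add h (allFrom_iff.1 hx2_0)
  exact h

theorem px2 : lall (prAt (sameW Nx2 100 7) 0 gx2) Px2.prs = true := by decide +kernel

theorem lx2 : lowOK Nx2 100 0 Px2 Lx2 = true := by decide +kernel

theorem pbdx2 : PBd (⊤ : Subgroup Spor.J2) 2 2 :=
  have h := (mdl.new (k := 7) (l := 9) (by decide) wx2 (by decide +kernel) (by decide +kernel) qx2)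
  h.pbd (h.sameW (k := 7) (by decide)) okx2 (gs := gx2) hx2 px2 lx2 (card_top_eq card) (by decide) rfl rfl

noncomputable def Wx3 : List (List Nat) := [[(nat_lit 10), (nat_lit 8), (nat_lit 6), (nat_lit 9), (nat_lit 5), (nat_lit 7), (nat_lit 9), (nat_lit 1), (nat_lit 10), (nat_lit 6), (nat_lit 2), (nat_lit 9), (nat_lit 5), (nat_lit 3), (nat_lit 10), (nat_lit 8), (nat_lit 6), (nat_lit 9), (nat_lit 5), (nat_lit 7), (nat_lit 9), (nat_lit 1), (nat_lit 10), (nat_lit 8), (nat_lit 6), (nat_lit 14), (nat_lit 9), (nat_lit 5), (nat_lit 7), (nat_lit 9), (nat_lit 1), (nat_lit 4), (nat_lit 10), (nat_lit 8), (nat_lit 6), (nat_lit 14), (nat_lit 9), (nat_lit 5), (nat_lit 7), (nat_lit 9), (nat_lit 3), (nat_lit 1)],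
  [(nat_lit 7), (nat_lit 10), (nat_lit 2), (nat_lit 4), (nat_lit 10), (nat_lit 8), (nat_lit 6), (nat_lit 10), (nat_lit 5), (nat_lit 7), (nat_lit 9), (nat_lit 3), (nat_lit 3), (nat_lit 2), (nat_lit 4), (nat_lit 10), (nat_lit 8), (nat_lit 6), (nat_lit 10), (nat_lit 5), (nat_lit 7), (nat_lit 9), (nat_lit 3), (nat_lit 2), (nat_lit 10), (nat_lit 8), (nat_lit 6), (nat_lit 10), (nat_lit 14), (nat_lit 9), (nat_lit 5), (nat_lit 7), (nat_lit 9), (nat_lit 1), (nat_lit 4), (nat_lit 10), (nat_lit 8), (nat_lit 6), (nat_lit 14), (nat_lit 9), (nat_lit 5), (nat_lit 7), (nat_lit 9), (nat_lit 3), (nat_lit 1)],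
  [(nat_lit 5), (nat_lit 4), (nat_lit 7), (nat_lit 2), (nat_lit 10), (nat_lit 8), (nat_lit 6), (nat_lit 10), (nat_lit 5), (nat_lit 7), (nat_lit 9), (nat_lit 4), (nat_lit 10), (nat_lit 8), (nat_lit 6), (nat_lit 9), (nat_lit 5), (nat_lit 7), (nat_lit 9), (nat_lit 1), (nat_lit 10), (nat_lit 8), (nat_lit 6), (nat_lit 14), (nat_lit 9), (nat_lit 5), (nat_lit 7), (nat_lit 9), (nat_lit 1), (nat_lit 4), (nat_lit 10), (nat_lit 8), (nat_lit 6), (nat_lit 14), (nat_lit 9), (nat_lit 5), (nat_lit 7), (nat_lit 9), (nat_lit 3), (nat_lit 1), (nat_lit 10), (nat_lit 8), (nat_lit 6), (nat_lit 14), (nat_lit 9), (nat_lit 5), (nat_lit 7), (nat_lit 9), (nat_lit 1)],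
  [(nat_lit 11), (nat_lit 10), (nat_lit 2), (nat_lit 4), (nat_lit 10), (nat_lit 8), (nat_lit 6), (nat_lit 10), (nat_lit 5), (nat_lit 7), (nat_lit 9), (nat_lit 3), (nat_lit 10), (nat_lit 8), (nat_lit 6), (nat_lit 9), (nat_lit 5), (nat_lit 7), (nat_lit 9), (nat_lit 3), (nat_lit 1), (nat_lit 10), (nat_lit 8), (nat_lit 6), (nat_lit 9), (nat_lit 5), (nat_lit 7), (nat_lit 9), (nat_lit 1), (nat_lit 4), (nat_lit 10), (nat_lit 8), (nat_lit 6), (nat_lit 14), (nat_lit 9), (nat_lit 5), (nat_lit 7), (nat_lit 9), (nat_lit 3), (nat_lit 1), (nat_lit 10), (nat_lit 8), (nat_lit 6), (nat_lit 14), (nat_lit 9), (nat_lit 5), (nat_lit 7), (nat_lit 9), (nat_lit 1)]]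

theorem qx3_0 : allFrom (preRow P2.N Nx3 Wx3 100 7) 0 4 = true := by decide +kernel

theorem qx3 : ∀ j < 4, preRow P2.N Nx3 Wx3 100 7 j = true := by
  have h : ∀ j < 0, preRow P2.N Nx3 Wx3 100 7 j = true := by simp
  have h := forall_lt_add h (allFrom_iff.1 qx3_0)
  exact h

theorem wx3 : wfAll Nx3 100 = true := by decide +kernel

noncomputable def Px3 : Dat := ⟨(nat_lit 3), (nat_lit 3), (nat_lit 6), (nat_lit 3), (nat_lit 9),
  (BT.node (nat_lit 3) (BT.node (nat_lit 1) (BT.leaf []) (BT.node (nat_lit 2) (BT.leaf [(nat_lit 1), (nat_lit 2)]) (BT.leaf []))) (BT.node (nat_lit 4) (BT.leaf [(nat_lit 2)]) (BT.node (nat_lit 5) (BT.leaf [(nat_lit 2)]) (BT.leaf [])))),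
  [⟨(nat_lit 0), [(nat_lit 2)], [(nat_lit 2), (nat_lit 2)]⟩,
  ⟨(nat_lit 0), [(nat_lit 1)], [(nat_lit 0), (nat_lit 1), (nat_lit 2)]⟩,
  ⟨(nat_lit 0), [(nat_lit 0)], [(nat_lit 0), (nat_lit 1), (nat_lit 1), (nat_lit 2)]⟩]⟩

noncomputable def Xx3_0 : List Test := [⟨(nat_lit 0), [(nat_lit 1)], [(nat_lit 0), (nat_lit 0), (nat_lit 0)], (nat_lit 0x41000000000000)⟩,
  ⟨(nat_lit 1), [(nat_lit 0), (nat_lit 1)], [(nat_lit 1), (nat_lit 0)], (nat_lit 0x80042000000000)⟩,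
  ⟨(nat_lit 1), [(nat_lit 0), (nat_lit 2)], [(nat_lit 2), (nat_lit 0)], (nat_lit 0x40041000000000)⟩,
  ⟨(nat_lit 1), [(nat_lit 1), (nat_lit 1), (nat_lit 1)], [], (nat_lit 0x82081000040000)⟩,
  ⟨(nat_lit 1), [(nat_lit 2), (nat_lit 2), (nat_lit 2)], [], (nat_lit 0x82082080000000)⟩]

noncomputable def cx3 : Cert := ⟨Px3, (nat_lit 0), Xx3_0,
  [],
  [(nat_lit 0),
  (nat_lit 0),
  (nat_lit 0x40000001000000)],
  (BT.node (nat_lit 3) (BT.node (nat_lit 1) (BT.leaf (nat_lit 62)) (BT.node (nat_lit 2) (BT.leaf (nat_lit 0)) (BT.leaf (nat_lit 91)))) (BT.node (nat_lit 4) (BT.leaf (nat_lit 15)) (BT.node (nat_lit 5) (BT.leaf (nat_lit 12)) (BT.leaf (nat_lit 2)))))⟩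

theorem okx3 : cx3.OK := Cert.ok_of_check (by decide) (by decide +kernel)


noncomputable def Lx3 : List Lvl := [⟨(nat_lit 0), [[(nat_lit 1), (nat_lit 5), (nat_lit 5)],
  [(nat_lit 1), (nat_lit 5), (nat_lit 5)],
  [(nat_lit 3)],
  [(nat_lit 3)],
  [(nat_lit 5)],
  [(nat_lit 5)]], (nat_lit 1)⟩]


noncomputable def gx3 : List (List Nat) := [[(nat_lit 7)]]

theorem hx3_0 : allFrom (relRow (sameW Nx3 100 7) 0 Px3) 0 3 = true := by decide +kernel

theorem hx3 : ∀ j < 3, relRow (sameW Nx3 100 7) 0 Px3 j = true := by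
  have h : ∀ j < 0, relRow (sameW Nx3 100 7) 0 Px3 j = true := by simp
  have h := forall_lt_add h (allFrom_iff.1 hx3_0)
  exact h

theorem px3 : lall (prAt (sameW Nx3 100 7) 0 gx3) Px3.prs = true := by decide +kernel

theorem lx3 : lowOK Nx3 100 0 Px3 Lx3 = true := by decide +kernel

theorem pbdx3 : PBd (⊤ : Subgroup Spor.J2) 3 1 :=
  have h := (mdl.new (k := 7) (l := 4) (by decide) wx3 (by decide +kernel) (by decide +kernel) qx3)
  h.pbd (h.sameW (k := 7) (by decide)) okx3 (gs := gx3) hx3 px3 lx3 (card_top_eq card) (by decide) rfl rfl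

noncomputable def Wx5 : List (List Nat) := [[(nat_lit 2), (nat_lit 4), (nat_lit 10), (nat_lit 8), (nat_lit 6), (nat_lit 10), (nat_lit 5), (nat_lit 7), (nat_lit 9), (nat_lit 3), (nat_lit 2), (nat_lit 10), (nat_lit 8), (nat_lit 6), (nat_lit 10), (nat_lit 5), (nat_lit 7), (nat_lit 9), (nat_lit 5), (nat_lit 4), (nat_lit 10), (nat_lit 8), (nat_lit 6), (nat_lit 9), (nat_lit 5), (nat_lit 7), (nat_lit 9), (nat_lit 3), (nat_lit 1), (nat_lit 3), (nat_lit 2), (nat_lit 10), (nat_lit 8), (nat_lit 6), (nat_lit 10), (nat_lit 5), (nat_lit 7), (nat_lit 9), (nat_lit 2), (nat_lit 4), (nat_lit 10), (nat_lit 8), (nat_lit 6), (nat_lit 10), (nat_lit 14), (nat_lit 9), (nat_lit 5), (nat_lit 7), (nat_lit 9), (nat_lit 3), (nat_lit 1), (nat_lit 10), (nat_lit 8), (nat_lit 6), (nat_lit 14), (nat_lit 9), (nat_lit 5), (nat_lit 7), (nat_lit 9), (nat_lit 1)],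
  [(nat_lit 2), (nat_lit 10), (nat_lit 8), (nat_lit 6), (nat_lit 10), (nat_lit 5), (nat_lit 7), (nat_lit 9), (nat_lit 8), (nat_lit 9), (nat_lit 11), (nat_lit 7), (nat_lit 7), (nat_lit 10), (nat_lit 8), (nat_lit 6), (nat_lit 9), (nat_lit 5), (nat_lit 7), (nat_lit 9), (nat_lit 1), (nat_lit 6), (nat_lit 2), (nat_lit 9), (nat_lit 5), (nat_lit 2), (nat_lit 10), (nat_lit 8), (nat_lit 6), (nat_lit 10), (nat_lit 5), (nat_lit 7), (nat_lit 9), (nat_lit 2), (nat_lit 10), (nat_lit 8), (nat_lit 6), (nat_lit 10), (nat_lit 5), (nat_lit 7), (nat_lit 9), (nat_lit 4), (nat_lit 10), (nat_lit 8), (nat_lit 6), (nat_lit 14), (nat_lit 9), (nat_lit 5), (nat_lit 7), (nat_lit 9), (nat_lit 3), (nat_lit 1), (nat_lit 10), (nat_lit 8), (nat_lit 6), (nat_lit 14), (nat_lit 9), (nat_lit 5), (nat_lit 7), (nat_lit 9), (nat_lit 1)],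
  [(nat_lit 10), (nat_lit 2), (nat_lit 4), (nat_lit 10), (nat_lit 8), (nat_lit 6), (nat_lit 10), (nat_lit 5), (nat_lit 7), (nat_lit 9), (nat_lit 3), (nat_lit 5), (nat_lit 2), (nat_lit 4), (nat_lit 10), (nat_lit 8), (nat_lit 6), (nat_lit 10), (nat_lit 5), (nat_lit 7), (nat_lit 9), (nat_lit 3), (nat_lit 6), (nat_lit 2), (nat_lit 9), (nat_lit 5), (nat_lit 2), (nat_lit 4), (nat_lit 10), (nat_lit 8), (nat_lit 6), (nat_lit 10), (nat_lit 5), (nat_lit 7), (nat_lit 9), (nat_lit 3), (nat_lit 2), (nat_lit 10), (nat_lit 8), (nat_lit 6), (nat_lit 10), (nat_lit 5), (nat_lit 7), (nat_lit 9), (nat_lit 4), (nat_lit 10), (nat_lit 8), (nat_lit 6), (nat_lit 14), (nat_lit 9), (nat_lit 5), (nat_lit 7), (nat_lit 9), (nat_lit 3), (nat_lit 1)],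
  [(nat_lit 4), (nat_lit 2), (nat_lit 4), (nat_lit 10), (nat_lit 8), (nat_lit 6), (nat_lit 10), (nat_lit 5), (nat_lit 7), (nat_lit 9), (nat_lit 3), (nat_lit 3), (nat_lit 10), (nat_lit 8), (nat_lit 6), (nat_lit 9), (nat_lit 5), (nat_lit 7), (nat_lit 9), (nat_lit 1), (nat_lit 4), (nat_lit 10), (nat_lit 8), (nat_lit 6), (nat_lit 14), (nat_lit 9), (nat_lit 5), (nat_lit 7), (nat_lit 9), (nat_lit 3), (nat_lit 1), (nat_lit 10), (nat_lit 8), (nat_lit 6), (nat_lit 14), (nat_lit 9), (nat_lit 5), (nat_lit 7), (nat_lit 9), (nat_lit 1), (nat_lit 4), (nat_lit 10), (nat_lit 8), (nat_lit 6), (nat_lit 14), (nat_lit 9), (nat_lit 5), (nat_lit 7), (nat_lit 9), (nat_lit 3), (nat_lit 1)]]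

theorem qx5_0 : allFrom (preRow P2.N Nx5 Wx5 100 7) 0 4 = true := by decide +kernel

theorem qx5 : ∀ j < 4, preRow P2.N Nx5 Wx5 100 7 j = true := by
  have h : ∀ j < 0, preRow P2.N Nx5 Wx5 100 7 j = true := by simp
  have h := forall_lt_add h (allFrom_iff.1 qx5_0)
  exact h

theorem wx5 : wfAll Nx5 100 = true := by decide +kernel

noncomputable def Px5 : Dat := ⟨(nat_lit 5), (nat_lit 2), (nat_lit 7), (nat_lit 3), (nat_lit 6),
  (BT.node (nat_lit 1) (BT.leaf []) (BT.node (nat_lit 2) (BT.leaf [(nat_lit 1)]) (BT.leaf []))),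
  [⟨(nat_lit 0), [(nat_lit 0)], [(nat_lit 0), (nat_lit 1)]⟩,
  ⟨(nat_lit 1), [(nat_lit 1)], [(nat_lit 0), (nat_lit 0), (nat_lit 1), (nat_lit 1), (nat_lit 1)]⟩,
  ⟨(nat_lit 1), [(nat_lit 0)], [(nat_lit 0), (nat_lit 0), (nat_lit 1)]⟩]⟩

noncomputable def Xx5_0 : List Test := [⟨(nat_lit 1), [(nat_lit 0), (nat_lit 0), (nat_lit 0), (nat_lit 0), (nat_lit 0)], [], (nat_lit 0x40800000000)⟩,
  ⟨(nat_lit 2), [(nat_lit 1), (nat_lit 2)], [(nat_lit 2), (nat_lit 1)], (nat_lit 0xc0030000000)⟩,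
  ⟨(nat_lit 2), [(nat_lit 2), (nat_lit 2), (nat_lit 2), (nat_lit 2), (nat_lit 2)], [], (nat_lit 0x40800200000)⟩]

noncomputable def cx5 : Cert := ⟨Px5, (nat_lit 0), Xx5_0,
  [],
  [(nat_lit 0),
  (nat_lit 0)],
  (BT.node (nat_lit 1) (BT.leaf (nat_lit 101)) (BT.node (nat_lit 2) (BT.leaf (nat_lit 15)) (BT.leaf (nat_lit 4))))⟩

theorem okx5 : cx5.OK := Cert.ok_of_check (by decide) (by decide +kernel)


noncomputable def Lx5 : List Lvl := [⟨(nat_lit 0), [[(nat_lit 1)],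
  [(nat_lit 1)],
  [(nat_lit 1)],
  [(nat_lit 1)],
  [(nat_lit 3)],
  [(nat_lit 3)],
  [(nat_lit 3)],
  [(nat_lit 3)]], (nat_lit 1)⟩]


noncomputable def gx5 : List (List Nat) := [[(nat_lit 5)],
  [(nat_lit 7)]]

theorem hx5_0 : allFrom (relRow (sameW Nx5 100 7) 0 Px5) 0 2 = true := by decide +kernel

theorem hx5 : ∀ j < 2, relRow (sameW Nx5 100 7) 0 Px5 j = true := by
  have h : ∀ j < 0, relRow (sameW Nx5 100 7) 0 Px5 j = true := by simp
  have h := forall_lt_add h (allFrom_iff.1 hx5_0)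
  exact h

theorem px5 : lall (prAt (sameW Nx5 100 7) 0 gx5) Px5.prs = true := by decide +kernel

theorem lx5 : lowOK Nx5 100 0 Px5 Lx5 = true := by decide +kernel

theorem pbdx5 : PBd (⊤ : Subgroup Spor.J2) 5 1 :=
  have h := (mdl.new (k := 7) (l := 4) (by decide) wx5 (by decide +kernel) (by decide +kernel) qx5)
  h.pbd (h.sameW (k := 7) (by decide)) okx5 (gs := gx5) hx5 px5 lx5 (card_top_eq card) (by decide) rfl rfl

instance finiteJ2 : Finite Spor.J2 := Nat.finite_of_card_ne_zero (by rw [card]; decide)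

theorem mult : Nat.card (Mult (⊤ : Subgroup Spor.J2)) ≤ 2 :=
  card_mult_le (b := 7) (k := 7) (card_top_eq card) [(2, 2), (3, 1), (5, 1)] (by decide +kernel) (by
    simp only [List.mem_cons, List.not_mem_nil, or_false, forall_eq_or_imp, forall_eq]
    exact ⟨⟨by decide, pbdx2⟩, ⟨by decide, pbdx3⟩, ⟨by decide, pbdx5⟩⟩)

theorem schur : HasCyclicSchurMultiplier Spor.J2 2 :=
  (dom_zmod (cext_mk' _ le_rfl) ((QuotientGroup.eq_one_iff _).2 ng_mem)
    ((mats7.word [3, 7, 4, 8, 3, 7, 4, 8]).eq ((by decide +kernel : matW M7 [3, 7, 4, 8, 3, 7, 4, 8] = negM).symm ▸ rep_ng) ▸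
      ev_mem_commutator g2 (m := 7) (by decide +kernel)) (by decide) order_ng).hasCyclic (mult_of_top mult)

end CF.Schur.J2
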