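import Cfsg.Agent.Schur.MT
import Cfsg.Agent.Schur.Nf

/-! Large elementary abelian subgroups of a 2-group given by a power-conjugate presentation. -/

set_option autoImplicit false

namespace CF.Schur.JT

open CF.Comp CF.Schur.Pc CF.Schur.MT Finset Function Cfsg
open scoped IsMulCommutative

section vec

variable {A : Type*} [CommGroup A] {t : ℕ → A} {d : ℕ}

/-- the product of the selected elements -/
def vec (t : ℕ → A) (d m : ℕ) : A := ∏ k ∈ range d, if m.testBit k then t k else 1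

theorem vec_zero : vec t d 0 = 1 := by simp [vec]

theorem vec_xor (h : ∀ k, t k * t k = 1) (r s : ℕ) : vec t d (Nat.xor r s) = vec t d r * vec t d s := by
  rw [vec, vec, vec, ← prod_mul_distrib]
  refine prod_congr rfl fun k _ => ?_
  rw [show Nat.xor r s = r ^^^ s from rfl, Nat.testBit_xor]
  cases r.testBit k <;> cases s.testBit k <;> simp [h]

theorem vec_sq (h : ∀ k, t k * t k = 1) (r : ℕ) : vec t d r * vec t d r = 1 :=
  (vec_xor h r r).symm.trans ((congrArg _ (Nat.xor_self r)).trans vec_zero)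

theorem vec_pow {k : ℕ} (hk : k < d) : vec t d (2 ^ k) = t k := by simp [vec, Nat.testBit_two_pow, hk]

theorem vec_xs (h : ∀ k, t k * t k = 1) (L : List ℕ) {e m : ℕ} (hm : m < 2 ^ e) :
    vec t d (xs L m) = vec (fun l => vec t d (nth 0 L l)) e m := by
  induction L generalizing e m with
  | nil => exact vec_zero.trans (prod_eq_one fun k _ => by simp [nth, vec_zero]).symm
  | cons a L ih =>
    cases e with
    | zero =>
      obtain rfl : m = 0 := by simpa using hm
      exact vec_zero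
    | succ e =>
      have := ih (e := e) (m := m / 2) (by omega)
      conv_rhs => rw [vec, prod_range_succ']
      simp only [Nat.testBit_succ]
      rw [xs_cons]
      split_ifs
      · rw [vec_xor h, this, mul_comm]
        rfl
      · rw [this, mul_one]
        rfl

theorem xs_lt {L : List ℕ} (h : ∀ a ∈ L, a < 2 ^ d) (m : ℕ) : xs L m < 2 ^ d := by
  induction L generalizing m with
  | nil => exact Nat.two_pow_pos d
  | cons a L ih =>
    have := ih (fun b hb => h b (by simp [hb])) (m / 2)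
    rw [xs_cons]
    split_ifs
    exacts [Nat.xor_lt_two_pow (h a (by simp)) this, this]

end vec

theorem card_le_pop {n v : ℕ} (hn : n < 16777000) {S : Finset ℕ} (h : ∀ x ∈ S, x < n ∧ tb v x = true) :
    S.card ≤ pop n v := by
  have h1 : (bits (24 * (n / 24 + 1)) v).card ≤ 24 * (n / 24 + 1) := by
    simpa [bits] using card_filter_le (range _) fun i => v.testBit i = true
  rw [show pop n v = popc 24 (n / 24 + 1) v from rfl, popc_eq (by norm_num), Nat.mod_eq_of_lt (by omega)]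
  exact card_le_card fun x hx => mem_bits.2 ⟨by have := (h x hx).1; omega, tb_eq v x ▸ (h x hx).2⟩

/-- the matrices commute -/
noncomputable def cm (d : ℕ) (A B : List ℕ) : Bool :=
  allFrom (fun l => Nat.beq (xs A (nth 0 B l)) (xs B (nth 0 A l))) 0 d

/-- the matrix has square one -/
noncomputable def iv (d : ℕ) (A : List ℕ) : Bool :=
  allFrom (fun l => Nat.beq (xs A (nth 0 A l)) (Nat.shiftLeft (nat_lit 1) l)) 0 d

/-- `N s` contains the involutions commuting with `s`, `C s` the fixed vectors, `B s` the bad partners -/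
noncomputable def rowOK (n d : ℕ) (M : BT (List ℕ)) (N C B : BT ℕ) (s : ℕ) : Bool :=
  Bool.rec true (Bool.rec false (Bool.rec false (Bool.rec false
    (Bool.rec (Nat.ble (Nat.succ (pop n (B.get s) * pop (2 ^ d) (C.get s))) (2 ^ d)) true (Nat.beq s 0))
    (allFrom (fun t => Bool.rec true (Bool.rec (Nat.ble (Nat.succ (pop n (Nat.land (N.get s) (N.get t)) *
      pop (2 ^ d) (Nat.land (C.get s) (C.get t)))) (2 ^ d)) true (tb (B.get s) t)) (tb (N.get s) t)) 0 n))
    (allBin (fun m => Bool.rec true (tb (C.get s) m) (Nat.beq (xs (M.get s) m) m)) (2 ^ d) d 0))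
    (allFrom (fun t => Bool.rec true (Bool.rec true (tb (N.get s) t) (cm d (M.get s) (M.get t))) (iv d (M.get t))) 0 n))
    (iv d (M.get s))

theorem card_lt {n d : ℕ} {M : BT (List ℕ)} {N C B : BT ℕ} (hn : n < 16777000) (hd : 2 ^ d < 16777000)
    (h : allFrom (rowOK n d M N C B) 0 n = true) {J F : Finset ℕ} (h1 : ∀ s ∈ J, s < n ∧ iv d (M.get s) = true)
    (h2 : ∀ s ∈ J, ∀ t ∈ J, cm d (M.get s) (M.get t) = true) (h3 : ∀ m ∈ F, m < 2 ^ d ∧ ∀ s ∈ J, xs (M.get s) m = m)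
    {s : ℕ} (hs : s ∈ J) (h0 : s ≠ 0) : J.card * F.card < 2 ^ d := by
  have k := fun s hs => brec_and.1 (brec_imp.1 (allFrom_zero.1 h s (h1 s hs).1) (h1 s hs).2)
  have kN : ∀ s ∈ J, ∀ t ∈ J, tb (N.get s) t = true := fun s hs t ht =>
    brec_imp.1 (brec_imp.1 (allFrom_zero.1 (k s hs).1 t (h1 t ht).1) (h1 t ht).2) (h2 s hs t ht)
  have kC : ∀ s ∈ J, ∀ m ∈ F, tb (C.get s) m = true := fun s hs m hm =>
    brec_imp.1 (allBin_spec (brec_and.1 (k s hs).2).1 le_rfl m (h3 m hm).1) (beq_iff.2 ((h3 m hm).2 s hs))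
  have k3 := brec_and.1 (brec_and.1 (k s hs).2).2
  have hl : ∀ a b x, tb a x = true → tb b x = true → tb (Nat.land a b) x = true := fun a b x ha hb => by
    rw [tb_eq] at *
    simp [ha, hb]
  by_cases hB : ∀ t ∈ J, tb (B.get s) t = true
  · exact (Nat.mul_le_mul (card_le_pop hn fun t ht => ⟨(h1 t ht).1, hB t ht⟩) (card_le_pop hd fun m hm =>
      ⟨(h3 m hm).1, kC s hs m hm⟩)).trans_lt (ble_iff.1 ((brec_or.1 k3.2).resolve_left (mt beq_iff.1 h0)))
  · push Not at hB
    obtain ⟨t, ht, hB⟩ := hB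
    exact (Nat.mul_le_mul (card_le_pop hn fun u hu => ⟨(h1 u hu).1, hl _ _ _ (kN s hs u hu) (kN t ht u hu)⟩)
      (card_le_pop hd fun m hm => ⟨(h3 m hm).1, hl _ _ _ (kC s hs m hm) (kC t ht m hm)⟩)).trans_lt (ble_iff.1
      ((brec_or.1 (brec_imp.1 (allFrom_zero.1 k3.1 t (h1 t ht).1) (kN s hs t ht))).resolve_left hB))

variable {E : Type*} [Group E]

theorem eq_of_card [Finite E] {V : Subgroup E} [V.Normal] [IsMulCommutative V] {t : ℕ → V} (ht : ∀ k, t k * t k = 1)
    {n d : ℕ} {M : BT (List ℕ)} {N C B : BT ℕ} (hn : n < 16777000) (hd : 2 ^ d < 16777000)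
    (h : allFrom (rowOK n d M N C B) 0 n = true) (hM : ∀ j, ∀ a ∈ M.get j, a < 2 ^ d) {r : ℕ → E} (r0 : r 0 = 1)
    (hV : ∀ v : V, ∃ m < 2 ^ d, v = vec t d m) (hr : ∀ g, ∃ j < n, ∃ v : V, g = r j * v)
    (hc : Nat.card E = n * 2 ^ d) (ha : ∀ j < n, ∀ k < d, t k * r j = r j * vec t d (nth 0 (M.get j) k)) :
    Nat.card V = 2 ^ d ∧ ∀ A : Subgroup E, IsElementaryAbelian 2 A → 2 ^ d ≤ Nat.card A → A = V := by
  classical
  have b := Surjective.bijective_of_nat_card_le (f := fun p : Fin n × Fin (2 ^ d) => r p.1 * vec t d p.2)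
    (fun g => by
      obtain ⟨j, hj, v, rfl⟩ := hr g
      obtain ⟨m, hm, rfl⟩ := hV v
      exact ⟨(⟨j, hj⟩, ⟨m, hm⟩), rfl⟩) (by simp [hc])
  obtain ⟨j0, hj0, -⟩ := hr 1
  have inj : ∀ a < 2 ^ d, ∀ c < 2 ^ d, vec t d a = vec t d c → a = c := fun a h1 c h2 e =>
    congrArg (fun p => p.2.1) (b.1 (a₁ := (⟨j0, hj0⟩, ⟨a, h1⟩)) (a₂ := (⟨j0, hj0⟩, ⟨c, h2⟩)) (by simp only [e]))
  have cV : Nat.card V = 2 ^ d := (Nat.card_congr (Equiv.ofBijective (fun m : Fin (2 ^ d) => vec t d m)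
    ⟨fun a c e => Fin.ext (inj _ a.2 _ c.2 e), fun v => let ⟨m, hm, e⟩ := hV v; ⟨⟨m, hm⟩, e.symm⟩⟩)).symm.trans (by simp)
  refine ⟨cV, fun A hA hc => ?_⟩
  let J := (range n).filter fun j => ∃ v : V, r j * v ∈ A
  let F := (range (2 ^ d)).filter fun m => (vec t d m).1 ∈ A
  choose! v hv using fun j (hj : j ∈ J) => (mem_filter.1 hj).2
  have hn' : ∀ j k, nth 0 (M.get j) k < 2 ^ d := fun j k =>
    (nth_mem_or 0 _ k).elim (hM j _) fun e => e.symm ▸ Nat.two_pow_pos d
  let ψ : ℕ → MulAut V := fun j => MulAut.conjNormal (r j * v j)⁻¹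
  have hψ : ∀ j ∈ J, ∀ k < d, ψ j (t k) = vec t d (nth 0 (M.get j) k) := fun j hj k hk => by
    simp only [ψ]
    rw [mul_inv_rev, map_mul, MulAut.mul_apply,
      CF.Solv.conjNormal_eq_self (V.inv_mem (v j).2)]
    exact Subtype.ext (by simp [mul_assoc, ha j (mem_range.1 (mem_filter.1 hj).1) k hk])
  have hψ' : ∀ j ∈ J, ∀ m < 2 ^ d, ψ j (vec t d m) = vec t d (xs (M.get j) m) := fun j hj m hm => by
    rw [vec_xs ht _ hm, vec, map_prod]
    exact prod_congr rfl fun k hk => by split_ifs <;> simp [hψ j hj k (mem_range.1 hk)]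
  have hcm : ∀ a ∈ A, ∀ b ∈ A, a * b = b * a := fun a ha b hb =>
    congrArg Subtype.val (hA.1.is_comm.comm (⟨a, ha⟩ : A) ⟨b, hb⟩)
  by_cases h0 : ∀ s ∈ J, s = 0
  · refine Subgroup.eq_of_le_of_card_ge (fun a ha => ?_) (cV.le.trans hc)
    obtain ⟨j, hj, w, rfl⟩ := hr a
    rw [h0 j (mem_filter.2 ⟨mem_range.2 hj, w, ha⟩), r0, one_mul]
    exact w.2
  push Not at h0
  obtain ⟨s, hs, h0⟩ := h0
  refine absurd (hc.trans ?_) (card_lt hn hd h (J := J) (F := F) (fun j hj => ⟨mem_range.1 (mem_filter.1 hj).1,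
    allFrom_zero.2 fun l hl => beq_iff.2 ?_⟩) (fun i hi j hj => allFrom_zero.2 fun l hl => beq_iff.2 ?_)
    (fun m hm => ⟨mem_range.1 (mem_filter.1 hm).1, fun j hj => ?_⟩) hs h0).not_ge
  · rw [← SetLike.coe_sort_coe, Nat.card_coe_set_eq, ← card_product]
    refine le_trans (Set.ncard_le_ncard (t := ((J ×ˢ F).image fun p => r p.1 * v p.1 * vec t d p.2 : Finset E))
      fun a ha => ?_) ((Set.ncard_coe_finset _).le.trans card_image_le)
    obtain ⟨j, hj, w, rfl⟩ := hr a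
    have hJ : j ∈ J := mem_filter.2 ⟨mem_range.2 hj, w, ha⟩
    obtain ⟨m, hm, e⟩ := hV ((v j)⁻¹ * w)
    refine mem_coe.2 (mem_image.2 ⟨(j, m), mem_product.2 ⟨hJ, mem_filter.2 ⟨mem_range.2 hm, ?_⟩⟩, by simp [← e]⟩)
    simpa [← e, mul_assoc] using A.mul_mem (A.inv_mem (hv j hJ)) ha
  · rw [one_shl]
    refine inj _ (xs_lt (hM _) _) _ (Nat.pow_lt_pow_right one_lt_two hl) ?_
    rw [← hψ' j hj _ (hn' ..), ← hψ j hj l hl, vec_pow hl, ← MulAut.mul_apply, ← map_mul, ← mul_inv_rev, ← sq,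
      hA.2 _ (hv j hj), inv_one, map_one, MulAut.one_apply]
  · refine inj _ (xs_lt (hM _) _) _ (xs_lt (hM _) _) ?_
    rw [← hψ' i hi _ (hn' ..), ← hψ' j hj _ (hn' ..), ← hψ j hj l hl, ← hψ i hi l hl, ← MulAut.mul_apply,
      ← MulAut.mul_apply, ← map_mul, ← map_mul, ← mul_inv_rev, ← mul_inv_rev, hcm _ (hv j hj) _ (hv i hi)]
  · have hm' := mem_range.1 (mem_filter.1 hm).1
    refine inj _ (xs_lt (hM _) _) _ hm' ((hψ' j hj m hm').symm.trans (Subtype.ext ?_))
    rw [MulAut.conjNormal_apply, hcm _ (A.inv_mem (hv j hj)) _ (mem_filter.1 hm).2, mul_inv_cancel_right]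

variable {P : Dat} {y : ℕ → E}

/-- the words have the same normal form -/
noncomputable def csame (P : Dat) (u w : List ℕ) : Bool :=
  Bool.rec false (Bool.rec false (col P 1 [] u fun N _ => col P 1 [] w fun N' _ => leq N N') (ltAll P.n w)) (ltAll P.n u)

/-- the table alone -/
noncomputable def bare (P : Dat) : Dat := ⟨P.p, P.n, 0, 0, idx 0 P.n, P.tab, []⟩

theorem Rel.csame (h : Rel P y) (hw : WF P) (hp : 0 < P.p) (u w : List ℕ) (hc : csame (bare P) u w = true) :
    pv y u = pv y w := by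
  have h1 : Sem (bare P) (1 : Unit →* E) y 1 := ⟨by simp, fun i j hij hj => (h.conj i j hij hj).trans (mul_one _).symm,
    fun i hi => (h.pow i hi).trans (mul_one _).symm, fun _ => ⟨1, fun _ he => absurd he (Nat.not_lt_zero _)⟩⟩
  have h2 : WF (bare P) := ⟨hw.tab, fun _ _ h => by simp [Dat.pr, bare, nth] at h,
    fun _ _ h => by simp [Dat.pr, bare, nth] at h, (Nat.zero_add _).le⟩
  rw [JT.csame, brec_and, brec_and, ltAll_iff, ltAll_iff, show 1 = (2 ^ (bare P).W) ^ (bare P).m by simp [bare]] at hc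
  obtain ⟨N, _, _, h3, -, -, e⟩ := col_spec h1 h2 hp hc.1 hc.2.2
  obtain ⟨N', _, _, h4, -, -, e'⟩ := col_spec h1 h2 hp hc.2.1 h3
  rw [e, e', leq_iff.1 h4]

theorem rel_of_pv {same : List ℕ → List ℕ → Bool} (hs : ∀ u w, same u w = true → pv y u = pv y w)
    (h : allFrom (fun j => allFrom (fun i => Bool.rec (same [j, i] (i :: P.tab.get (Pc.idx i j)))
      (same (List.replicate P.p i) (P.tab.get (Pc.idx i i))) (Nat.ble j i)) 0 (j + 1)) 0 P.n = true) : Rel P y := by
  refine ⟨fun i j hij hj => ?_, fun i hi => ?_⟩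
  · have := allFrom_zero.1 (allFrom_zero.1 h j hj) i (by omega)
    rw [ble_false_iff.2 hij] at this
    simpa using hs _ _ this
  · have := allFrom_zero.1 (allFrom_zero.1 h i hi) i (by omega)
    rw [ble_iff.2 le_rfl] at this
    simpa [pv_replicate] using hs _ _ this

theorem Rel.exists_coset [Finite E] (h : Rel P y) (hw : WF P) (hp : 0 < P.p) (d : ℕ) :
    ∀ i, i + d ≤ P.n → ∀ g ∈ gen P.n y i, ∃ w ∈ nfs P.p d i, ∃ k ∈ gen P.n y (i + d), g = pv y w * k := by
  induction d with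
  | zero => exact fun i _ g hg => ⟨[], by simp [nfs], g, hg, (one_mul _).symm⟩
  | succ d ih =>
    intro i hi g hg
    obtain ⟨a, ha, k, hk, rfl⟩ := h.exists_step hw hp (by omega) hg
    obtain ⟨w, hw', l, hl, rfl⟩ := ih (i + 1) (by omega) k hk
    exact ⟨List.replicate a i ++ w, by simpa [nfs] using ⟨a, ha, w, hw', rfl⟩, l, by rwa [← add_assoc, add_right_comm],
      by rw [pv_append, pv_replicate, mul_assoc]⟩

/-- the word of a vector -/
def vw (s d m : ℕ) : List ℕ := ((List.range d).filter m.testBit).map (s + ·)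

theorem main [Finite E] (h : Rel P y) (hw : WF P) (hp : P.p = 2) {s d : ℕ} (hs : s + d = P.n)
    (ht : gen P.n y 0 = ⊤) (hc : Nat.card E = 2 ^ s * 2 ^ d) {M : BT (List ℕ)} {N C B : BT ℕ} (hn : 2 ^ s < 16777000)
    (hd : 2 ^ d < 16777000) (h1 : allFrom (rowOK (2 ^ s) d M N C B) 0 (2 ^ s) = true)
    (h2 : M.all (lall fun a => Nat.ble (a + 1) (2 ^ d)) = true)
    (h3 : allFrom (fun i => Bool.rec false (csame (bare P) [s + i, s + i] [])
      (allFrom (fun j => csame (bare P) [s + i, s + j] [s + j, s + i]) 0 d)) 0 d = true)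
    (h4 : allFrom (fun j => allFrom (fun k => csame (bare P) ((s + k) :: nth [] (nfs 2 s 0) j)
      (lapp (nth [] (nfs 2 s 0) j) (vw s d (nth 0 (M.get j) k)))) 0 d) 0 (2 ^ s) = true) :
    ∃ V : Subgroup E, V.Normal ∧ IsElementaryAbelian 2 V ∧ Nat.card V = 2 ^ d ∧
      ∀ A : Subgroup E, IsElementaryAbelian 2 A → 2 ^ d ≤ Nat.card A → A = V := by
  have hs' := Rel.csame h hw (hp ▸ two_pos)
  have h3' := fun i hi => brec_and.1 (allFrom_zero.1 h3 i hi)
  have : IsMulCommutative (gen P.n y s) := Subgroup.isMulCommutative_closure (by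
    rintro _ ⟨i, hi, rfl⟩ _ ⟨j, hj, rfl⟩
    obtain ⟨i, rfl⟩ := Nat.exists_eq_add_of_le hi.1
    obtain ⟨j, rfl⟩ := Nat.exists_eq_add_of_le hj.1
    simpa using hs' _ _ (allFrom_zero.1 (h3' i (by have := hi.2; omega)).1 j (by have := hj.2; omega)))
  let t : ℕ → gen P.n y s := fun k => if hk : k < d then ⟨y (s + k), mem_gen y (by omega) (by omega)⟩ else 1
  have h5 : ∀ k, t k * t k = 1 := fun k => by
    by_cases hk : k < d
    · exact Subtype.ext (by simpa [t, hk] using hs' _ _ (h3' k hk).2)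
    · simp [t, hk]
  have h6 : ∀ m, ∀ e ≤ d, pv y (vw s e m) = vec t e m := fun m e he => by
    induction e with
    | zero => rfl
    | succ e ih =>
      rw [vec, prod_range_succ, Subgroup.coe_mul, ← vec, ← ih (by omega), vw, vw, List.range_succ, List.filter_append]
      cases hb : m.testBit e <;> simp [hb, t, show e < d from he]
  have hV : ∀ v : gen P.n y s, ∃ m < 2 ^ d, v = vec t d m := by
    rintro ⟨v, hv⟩
    induction hv using Subgroup.closure_induction with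
    | mem _ hv =>
      obtain ⟨i, hi, rfl⟩ := hv
      obtain ⟨i, rfl⟩ := Nat.exists_eq_add_of_le hi.1
      have : i < d := by have := hi.2; omega
      exact ⟨_, Nat.pow_lt_pow_right one_lt_two this, by simp [vec_pow this, t, this]⟩
    | one => exact ⟨0, Nat.two_pow_pos d, vec_zero.symm⟩
    | mul a b _ _ ha hb =>
      obtain ⟨a, ha, e⟩ := ha
      obtain ⟨b, hb, e'⟩ := hb
      exact ⟨_, Nat.xor_lt_two_pow ha hb, ((vec_xor h5 a b).trans (by rw [← e, ← e']; rfl)).symm⟩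
    | inv a _ ha =>
      obtain ⟨a, ha, e⟩ := ha
      exact ⟨a, ha, (congrArg (·⁻¹) e).trans (inv_eq_of_mul_eq_one_right (vec_sq h5 a))⟩
  have hr : ∀ g, ∃ j < 2 ^ s, ∃ v : gen P.n y s, g = pv y (nth [] (nfs 2 s 0) j) * v := fun g => by
    obtain ⟨w, hw, k, hk, rfl⟩ := Rel.exists_coset h hw (hp ▸ two_pos) s 0 (by omega) g (ht.ge trivial)
    obtain ⟨j, hj, rfl⟩ := exists_nth_of_mem [] (hp ▸ hw)
    exact ⟨j, length_nfs 2 s 0 ▸ hj, ⟨k, by simpa using hk⟩, rfl⟩
  have ha : ∀ j < 2 ^ s, ∀ k < d, t k * pv y (nth [] (nfs 2 s 0) j) =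
      pv y (nth [] (nfs 2 s 0) j) * vec t d (nth 0 (M.get j) k) := fun j hj k hk => by
    simpa [t, hk, lapp_eq, h6] using hs' _ _ (allFrom_zero.1 (allFrom_zero.1 h4 j hj) k hk)
  have : (gen P.n y s).Normal := ⟨fun a ha' g => by
    obtain ⟨j, hj, v, e⟩ := hr g⁻¹
    obtain ⟨m, -, e'⟩ := hV ⟨a, ha'⟩
    have : ∀ S : Finset ℕ, S ⊆ range d → ∀ r, r = pv y (nth [] (nfs 2 s 0) j) →
        r⁻¹ * (∏ k ∈ S, if m.testBit k then t k else 1 : gen P.n y s) * r ∈ gen P.n y s := by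
      rintro S hS r rfl
      induction S using Finset.induction_on with
      | empty => simp
      | insert k S hk ih =>
        rw [prod_insert hk, Subgroup.coe_mul]
        have := ih ((subset_insert ..).trans hS)
        split_ifs
        · have h7 := (vec t d (nth 0 (M.get j) k)).2
          rw [eq_inv_mul_iff_mul_eq.2 (ha j hj k (mem_range.1 (hS (mem_insert_self ..)))).symm] at h7
          simpa [mul_assoc] using mul_mem h7 this
        · simpa using this
    have := mul_mem (mul_mem (inv_mem v.2) (this _ Subset.rfl _ rfl)) v.2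
    rwa [← vec, ← e', mul_assoc, mul_assoc _ _ (v : E), ← e, ← mul_assoc, ← mul_assoc, ← mul_inv_rev, ← e, inv_inv] at this⟩
  refine ⟨_, this, ⟨‹_›, fun a ha => ?_⟩, eq_of_card h5 hn hd h1 (fun j a ha => ble_iff.1 (lall_iff.1 (BT.all_get h2 j) a ha))
    (by rw [nth_nfs_zero two_pos, pv_nil]) hV hr hc ha⟩
  obtain ⟨m, -, e⟩ := hV ⟨a, ha⟩
  exact congrArg Subtype.val (show (⟨a, ha⟩ : gen P.n y s) ^ 2 = 1 by rw [e, sq, vec_sq h5])

end CF.Schur.JT
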