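import Cfsg.Agent.Schur.Ext
import Cfsg.Agent.Solv.Gaschutz

/-! Tails in a module over `𝔽₂`: identities among relations bound the second cohomology. -/

set_option autoImplicit false

namespace CF.Schur.MT

open CF.Comp CF.Schur.Pc Finset Function

/-- the value of the linear form `r` -/
def dot (M : ℕ) (u : ℕ → ZMod 2) (r : ℕ) : ZMod 2 := ∑ k ∈ range M, if r.testBit k then u k else 0

theorem dot_zero (M : ℕ) (u : ℕ → ZMod 2) : dot M u 0 = 0 := by simp [dot]

theorem dot_xor (M : ℕ) (u : ℕ → ZMod 2) (r s : ℕ) : dot M u (Nat.xor r s) = dot M u r + dot M u s := by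
  rw [dot, dot, dot, ← sum_add_distrib]
  refine sum_congr rfl fun k _ => ?_
  rw [show Nat.xor r s = r ^^^ s from rfl, Nat.testBit_xor]
  cases r.testBit k <;> cases s.testBit k <;> simp [CharTwo.add_self_eq_zero]

theorem dot_pow (M : ℕ) (u : ℕ → ZMod 2) (k : ℕ) : dot M u (2 ^ k) = if k < M then u k else 0 := by
  simp [dot, Nat.testBit_two_pow]

theorem dot_congr {d : ℕ} {u v : ℕ → ZMod 2} (h : ∀ k < d, u k = v k) (r : ℕ) : dot d u r = dot d v r :=
  sum_congr rfl fun k hk => by rw [h k (mem_range.1 hk)]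

/-- sum of the selected entries -/
noncomputable def xs (L : List ℕ) : ℕ → ℕ :=
  List.rec (motive := fun _ => ℕ → ℕ) (fun _ => nat_lit 0)
    (fun a _ ih m => Nat.rec (motive := fun _ => ℕ) (nat_lit 0)
      (fun m' _ => force (Nat.shiftRight (Nat.succ m') (nat_lit 1)) fun h =>
        Bool.rec (ih h) (Nat.xor a (ih h)) (tb (Nat.succ m') (nat_lit 0))) m) L

theorem xs_cons (a : ℕ) (L : List ℕ) (m : ℕ) :
    xs (a :: L) m = if m.testBit 0 then Nat.xor a (xs L (m / 2)) else xs L (m / 2) := by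
  cases m with
  | zero => cases L <;> simp [xs]
  | succ m =>
    show force (Nat.shiftRight (m + 1) 1) (fun h => (Bool.rec (xs L h) (Nat.xor a (xs L h)) (tb (m + 1) 0) : ℕ)) = _
    rw [force_eq, tb_eq, shr_eq, pow_one]
    cases (m + 1).testBit 0 <;> rfl

theorem dot_xs (M : ℕ) (u : ℕ → ZMod 2) (L : List ℕ) {d m : ℕ} (h : m < 2 ^ d) :
    dot M u (xs L m) = dot d (fun l => dot M u (nth 0 L l)) m := by
  induction L generalizing d m with
  | nil => exact (dot_zero ..).trans (sum_eq_zero fun k _ => by simp [nth, dot_zero]).symm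
  | cons a L ih =>
    cases d with
    | zero =>
      obtain rfl : m = 0 := by simpa using h
      rw [dot_zero]
      exact dot_zero ..
    | succ d =>
      have := ih (d := d) (m := m / 2) (by omega)
      conv_rhs => rw [dot, sum_range_succ']
      simp only [Nat.testBit_succ]
      rw [xs_cons]
      split_ifs
      · rw [dot_xor, this, add_comm]
        rfl
      · rw [this, add_zero]
        rfl

theorem dot_xs_zero {M : ℕ} {u : ℕ → ZMod 2} {L : List ℕ} (h : ∀ a ∈ L, dot M u a = 0) (m : ℕ) :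
    dot M u (xs L m) = 0 := by
  rw [dot_xs M u L m.lt_two_pow_self]
  refine sum_eq_zero fun k _ => ?_
  rcases nth_mem_or 0 L k with e | e
  · simp [h _ e]
  · simp [e, dot_zero]

/-- evaluate the entries -/
noncomputable def forceL {α : Type} (l : List ℕ) : (List ℕ → α) → α :=
  List.rec (motive := fun _ => (List ℕ → α) → α) (fun k => k [])
    (fun a _ ih k => force a fun v => ih fun r => k (v :: r)) l

theorem forceL_eq {α : Type} (l : List ℕ) (k : List ℕ → α) : forceL l k = k l := by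
  induction l generalizing k with
  | nil => rfl
  | cons a l ih => exact (force_eq a fun v => forceL l fun r => k (v :: r)).trans (ih _)

/-- sum of two vectors of forms -/
noncomputable def xorL (T : List ℕ) : List ℕ → List ℕ :=
  List.rec (motive := fun _ => List ℕ → List ℕ) (fun L => L)
    (fun a T' ih L => List.rec (motive := fun _ => List ℕ) (a :: T') (fun b L' _ => Nat.xor a b :: ih L') L) T

theorem nth_xorL (T L : List ℕ) (k : ℕ) : nth 0 (xorL T L) k = Nat.xor (nth 0 T k) (nth 0 L k) := by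
  induction T generalizing L k with
  | nil => exact (Nat.zero_xor _).symm
  | cons a T ih =>
    cases L with
    | nil => exact (Nat.xor_zero _).symm
    | cons b L => cases k with
      | zero => rfl
      | succ k => exact ih L k

/-- the letters up to `s` -/
noncomputable def erase (s : ℕ) (z : List ℕ) : List ℕ :=
  List.rec (motive := fun _ => List ℕ) [] (fun x _ r => Bool.rec r (x :: r) (Nat.ble x s)) z

/-- free reduction -/
noncomputable def red (w : List ℕ) : List ℕ :=
  List.rec (motive := fun _ => List ℕ) []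
    (fun x _ r => List.rec (motive := fun _ => List ℕ) [x]
      (fun y r' _ => Bool.rec (x :: y :: r') r' (Nat.beq y (linv x))) r) w

theorem ev_red {G : Type*} [Group G] (f : ℕ → G) (w : List ℕ) : ev f (red w) = ev f w := by
  induction w with
  | nil => rfl
  | cons x w ih =>
    rw [ev_cons, ← ih]
    show ev f (List.rec _ _ (red w)) = _
    cases red w with
    | nil => exact ev_cons ..
    | cons y r =>
      show ev f (Bool.rec _ _ (Nat.beq y (linv x))) = _
      cases h : Nat.beq y (linv x)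
      · exact ev_cons ..
      · rw [ev_cons, beq_iff.1 h, evL_linv, mul_inv_cancel_left]

/-- the tail collected on the left -/
noncomputable def hor (As : List (List ℕ)) (T : ℕ → List ℕ) (m : ℕ) (z : List ℕ) : List ℕ :=
  List.rec (motive := fun _ => List ℕ) []
    (fun x _ r => Nat.rec (motive := fun _ => List ℕ) r (fun x' _ => forceL r fun L =>
      Bool.rec (xorL (T (Nat.sub (Nat.shiftRight x' (nat_lit 1)) m)) L) (lmap (xs L) (nth [] As x'))
        (Nat.ble (Nat.succ x') (Nat.mul (nat_lit 2) m))) x) z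

variable {E : Type*} [Group E]

/-- coordinates on `N`, and the action of the letters -/
structure Mod (N : Subgroup E) (κ : E → ℕ → ZMod 2) (d : ℕ) (y : ℕ → E) (m : ℕ) (As : List (List ℕ)) : Prop where
  nor : N.Normal
  mul : ∀ a ∈ N, ∀ b ∈ N, ∀ k < d, κ (a * b) k = κ a k + κ b k
  inj : ∀ a ∈ N, (∀ k < d, κ a k = 0) → a = 1
  sur : ∀ v : ℕ → ZMod 2, ∃ a ∈ N, ∀ k < d, κ a k = v k
  lt : ∀ x k, nth 0 (nth [] As x) k < 2 ^ d
  act : ∀ x < 2 * m, ∀ a ∈ N, ∀ k < d,
    κ (evL y (x + 1) * a * (evL y (x + 1))⁻¹) k = dot d (κ a) (nth 0 (nth [] As x) k)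

variable {N : Subgroup E} {κ : E → ℕ → ZMod 2} {d m : ℕ} {y : ℕ → E} {As : List (List ℕ)}

theorem Mod.one (h : Mod N κ d y m As) {k : ℕ} (hk : k < d) : κ 1 k = 0 := by
  simpa using h.mul 1 N.one_mem 1 N.one_mem k hk

theorem Mod.inv (h : Mod N κ d y m As) {a : E} (ha : a ∈ N) {k : ℕ} (hk : k < d) : κ a⁻¹ k = κ a k := by
  have := h.mul a ha _ (N.inv_mem ha) k hk
  rw [mul_inv_cancel, h.one hk] at this
  exact (CharTwo.add_eq_zero.1 this.symm).symm

theorem Mod.ext (h : Mod N κ d y m As) {a b : E} (ha : a ∈ N) (hb : b ∈ N) (e : ∀ k < d, κ a k = κ b k) : a = b :=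
  mul_inv_eq_one.1 (h.inj _ (N.mul_mem ha (N.inv_mem hb)) fun k hk => by
    rw [h.mul _ ha _ (N.inv_mem hb) k hk, h.inv hb hk, e k hk, CharTwo.add_self_eq_zero])

theorem nth_lmap_xs (L A : List ℕ) (k : ℕ) : nth 0 (lmap (xs L) A) k = xs L (nth 0 A k) := by
  induction A generalizing k with
  | nil => cases L <;> rfl
  | cons a A ih => cases k with
    | zero => rfl
    | succ k => exact ih k

theorem Mod.hor_spec (h : Mod N κ d y m As) {M : ℕ} {u : ℕ → ZMod 2} {t : ℕ → E} {T : ℕ → List ℕ}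
    (ht : ∀ j, t j ∈ N ∧ ∀ k < d, κ (t j) k = dot M u (nth 0 (T j) k)) (z : List ℕ) :
    ∃ n ∈ N, ev (app m y t) z = n * ev y (erase (2 * m) z) ∧ ∀ k < d, κ n k = dot M u (nth 0 (hor As T m z) k) := by
  induction z with
  | nil => exact ⟨1, N.one_mem, (one_mul _).symm, fun k hk => (h.one hk).trans (dot_zero ..).symm⟩
  | cons x z ih =>
    obtain ⟨n, hn, e, hκ⟩ := ih
    cases x with
    | zero => exact ⟨n, hn, by rw [show erase (2 * m) (0 :: z) = 0 :: erase (2 * m) z from rfl]; simpa using e, hκ⟩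
    | succ x =>
      have e1 : hor As T m ((x + 1) :: z) = Bool.rec (xorL (T (x / 2 - m)) (hor As T m z))
          (lmap (xs (hor As T m z)) (nth [] As x)) (Nat.ble (x + 1) (2 * m)) := by
        show forceL _ _ = _
        rw [forceL_eq, shr_eq, pow_one]
        rfl
      have e2 : erase (2 * m) ((x + 1) :: z) =
          Bool.rec (erase (2 * m) z) ((x + 1) :: erase (2 * m) z) (Nat.ble (x + 1) (2 * m)) := rfl
      rw [e1, e2, ev_cons, e]
      cases hx : Nat.ble (x + 1) (2 * m)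
      · have hx' : ¬ x / 2 < m := fun h' => by simp [ble_iff.2 (show x + 1 ≤ 2 * m by omega)] at hx
        have h1 := ht (x / 2 - m)
        have : evL (app m y t) (x + 1) ∈ N ∧ ∀ k < d, κ (evL (app m y t) (x + 1)) k = κ (t (x / 2 - m)) k := by
          rw [evL_succ, app, if_neg hx']
          split_ifs
          exacts [⟨h1.1, fun _ _ => rfl⟩, ⟨N.inv_mem h1.1, fun k hk => h.inv h1.1 hk⟩]
        exact ⟨_, N.mul_mem this.1 hn, (mul_assoc ..).symm, fun k hk => by
          rw [h.mul _ this.1 _ hn k hk, this.2 k hk, h1.2 k hk, hκ k hk, nth_xorL, dot_xor]⟩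
      · have hx' := ble_iff.1 hx
        refine ⟨_, h.nor.conj_mem n hn (evL y (x + 1)), ?_, fun k hk => ?_⟩
        · rw [evL_congr (f := app m y t) (g := y) (fun i hi => if_pos hi) hx', ev_cons]
          group
        · rw [h.act x hx' n hn k hk, nth_lmap_xs, dot_xs M u _ (h.lt x k)]
          exact dot_congr hκ _

/-- the unknown tail of relator `j` -/
noncomputable def tf (d j : ℕ) : List ℕ :=
  lmap (fun a => Nat.shiftLeft (nat_lit 1) (Nat.add (Nat.mul d j) a)) (List.range d)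

/-- an identity among the relations, and the forms that vanish because of it -/
noncomputable def idOK (As rels : List (List ℕ)) (d m : ℕ) (X : List ℕ × List ℕ) : Bool :=
  Bool.rec false (Bool.rec false (Bool.rec false (leq (hor As (tf d) m X.1) X.2) (Nat.ble (llen X.2) d))
    (leq (red (erase (2 * m) X.1)) []))
    (leq (red (subst (lapp ((List.range m).map fun i => [2 * i + 1]) rels) X.1)) [])

/-- the tail of relator `j` after the correction -/
noncomputable def corOK (As rels Cs : List (List ℕ)) (d m : ℕ) (Ds : List ℕ) (ε : ℕ) (τ : List ℕ)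
    (co : List (List ℕ)) (j : ℕ) : Bool :=
  Bool.rec false (Bool.rec false
    (forceL (xorL (tf d j) (hor As (nth [] Cs) m
      (subst ((List.range m).map fun i => [2 * i + 1, 2 * (m + i) + 1]) (nth [] rels j)))) fun L =>
      allFrom (fun k => Nat.beq (nth 0 L k) (Nat.xor (xs Ds (nth 0 (nth [] co j) k)) (Bool.rec 0 ε (tb (nth 0 τ j) k)))) 0 d)
    (leq (erase (2 * m) (subst ((List.range m).map fun i => [2 * i + 1, 2 * (m + i) + 1]) (nth [] rels j)))
      (nth [] rels j))) (lettersLe m [nth [] rels j])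

theorem Mod.exists_cor (h : Mod N κ d y m As) {rels : List (List ℕ)} (hr : ∀ r ∈ rels, ev y r ∈ N)
    {Xs : List (List ℕ × List ℕ)} (hX : ∀ X ∈ Xs, idOK As rels d m X = true) {Cs co : List (List ℕ)} {ε R : ℕ}
    {τ : List ℕ} (hc : ∀ j < R, corOK As rels Cs d m (Xs.flatMap Prod.snd) ε τ co j = true) :
    ∃ (x : ℕ → E) (e : ZMod 2), (∀ i, ∃ n ∈ N, x i = y i * n) ∧ ∀ j < R, ev x (nth [] rels j) ∈ N ∧
      ∀ k < d, κ (ev x (nth [] rels j)) k = if (nth 0 τ j).testBit k then e else 0 := by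
  let M := d * rels.length
  let u : ℕ → ZMod 2 := fun i => κ (evs y rels (i / d)) (i % d)
  have hr' : ∀ j, evs y rels j ∈ N := fun j => (nth_mem_or [] rels j).elim (hr _) fun e => by
    rw [evs, e]
    exact N.one_mem
  have ht : ∀ j, evs y rels j ∈ N ∧ ∀ k < d, κ (evs y rels j) k = dot M u (nth 0 (tf d j) k) := fun j =>
    ⟨hr' j, fun k hk => by
      rw [tf, lmap_eq, nth_eq_getD, List.getD_eq_getElem _ _ (by simpa using hk), List.getElem_map, List.getElem_range,
        one_shl, dot_pow]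
      show _ = if d * j + k < d * rels.length then κ (evs y rels ((d * j + k) / d)) ((d * j + k) % d) else 0
      rw [Nat.mul_add_div (by omega), Nat.mul_add_mod, Nat.div_eq_of_lt hk, Nat.mod_eq_of_lt hk, add_zero]
      split_ifs with hj
      · rfl
      · rw [evs, nth_eq_getD, List.getD_eq_default _ _ (by
          by_contra hh
          exact hj (by nlinarith [not_le.1 hh])), ev_nil, h.one hk]⟩
  have hD : ∀ a ∈ Xs.flatMap Prod.snd, dot M u a = 0 := by
    intro a ha
    obtain ⟨X, hX', ha⟩ := List.mem_flatMap.1 ha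
    have h1 := hX X hX'
    rw [idOK, brec_and, brec_and, brec_and, leq_iff, leq_iff, leq_iff, ble_iff, llen_eq] at h1
    obtain ⟨n, hn, e, hκ⟩ := h.hor_spec ht X.1
    have e1 : app m y (evs y rels) = evs y (lapp ((List.range m).map fun i => [2 * i + 1]) rels) := by
      ext i
      rw [evs, nth_lapp, app, List.length_map, List.length_range]
      split_ifs with hi
      · rw [nth_eq_getD, List.getD_eq_getElem _ _ (by simpa using hi), List.getElem_map, List.getElem_range, ev_single]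
      · rfl
    rw [e1, ev_evs, ← ev_red, h1.1, ← ev_red y (erase _ _), h1.2.1, ev_nil, mul_one] at e
    obtain ⟨k, hk, rfl⟩ := exists_nth_of_mem 0 ha
    rw [← h1.2.2.2, ← hκ k (by omega), ← e, h.one (by omega)]
  choose c hcN hcκ using fun i => h.sur fun k => dot M u (nth 0 (nth [] Cs i) k)
  refine ⟨fun i => y i * c i, dot M u ε, fun i => ⟨_, hcN i, rfl⟩, fun j hj => ?_⟩
  have h1 := hc j hj
  rw [corOK, brec_and, brec_and, leq_iff, forceL_eq, allFrom_zero] at h1
  obtain ⟨n, hn, e, hκ⟩ := h.hor_spec (fun i => ⟨hcN i, hcκ i⟩)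
    (subst ((List.range m).map fun i => [2 * i + 1, 2 * (m + i) + 1]) (nth [] rels j))
  rw [h1.2.1, ← ev_evs, ev_congr (g := fun i => y i * c i) (fun i hi => by
    rw [evs, nth_eq_getD, List.getD_eq_getElem _ _ (by simpa using hi), List.getElem_map, List.getElem_range]
    simp [evL_odd, app, hi]) (lettersLe_iff.1 h1.1 _ (by simp))] at e
  refine ⟨e ▸ N.mul_mem hn (hr' j), fun k hk => ?_⟩
  have h2 := congrArg (dot M u) (beq_iff.1 (h1.2.2 k hk))
  rw [nth_xorL, dot_xor, dot_xor, dot_xs_zero hD, zero_add, ← hκ k hk, ← (ht j).2 k hk, tb_eq] at h2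
  rw [e]
  refine ((h.mul _ hn _ (hr' j) k hk).trans ((add_comm ..).trans h2)).trans ?_
  cases (nth 0 τ j).testBit k
  exacts [dot_zero .., rfl]

/-- an extension splits when a Sylow subgroup lifts -/
theorem split_of_rel [Finite E] {G : Type*} [Group G] {π : E →* G} (hπ : Surjective π) [IsMulCommutative π.ker]
    {P : Dat} (hp : P.p.Prime) (hK : IsPGroup P.p π.ker) {x : ℕ → E} (h : Rel P x) (hw : WF P)
    (hl : P.p ^ P.n ≤ Nat.card (gen P.n (fun i => π (x i)) 0)) (hG : ¬ P.p ^ (P.n + 1) ∣ Nat.card G) :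
    ∃ H : Subgroup E, H ⊓ π.ker = ⊥ ∧ H ⊔ π.ker = ⊤ := by
  have := Fact.mk hp
  have h1 := h.card_le hw hp.pos
  rw [← map_gen] at hl
  generalize gen P.n x 0 = A at h1 hl
  have h2 := (π.domRestrict A).ker.card_mul_index
  rw [Subgroup.index_ker, MonoidHom.domRestrict_range, MonoidHom.ker_domRestrict] at h2
  have h3 : Nat.card (π.ker.subgroupOf A) = 1 := by
    have : 0 < Nat.card (π.ker.subgroupOf A) := Nat.card_pos
    have : 0 < P.p ^ P.n := pow_pos hp.pos _
    nlinarith
  rw [h3, one_mul] at h2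
  obtain ⟨k, hk⟩ := hK.exists_card_eq
  obtain ⟨H, hH⟩ := CF.Solv.gaschutz_exists π.ker (π.ker ⊔ A) (A := A) (by
    rw [hk, sup_comm, ← Subgroup.comap_map_eq, Subgroup.index_comap_of_surjective _ hπ]
    refine (hp.coprime_iff_not_dvd.2 fun h => hG ?_).pow_left _
    rw [← (A.map π).card_mul_index, le_antisymm (h2 ▸ h1) hl, pow_succ]
    exact Nat.mul_dvd_mul_left _ h) (by
    rw [inf_comm, ← disjoint_iff, ← Subgroup.subgroupOf_eq_bot]
    exact Subgroup.eq_bot_of_card_eq _ h3) rfl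
  exact ⟨H, hH.symm.disjoint.eq_bot, hH.symm.sup_eq_top⟩

/-- the relators of the table are in the list -/
noncomputable def inRels (rels : List (List ℕ)) (u w : List ℕ) : Bool := lany (leq (lapp u (winv w))) rels

theorem rel_of_inRels {rels : List (List ℕ)} {x : ℕ → E} (hr : ∀ r ∈ rels, ev x r = 1) {P : Dat}
    (h : allFrom (relRow (inRels rels) 0 P) 0 P.n = true) : Rel P x := by
  simpa using rel_of_relRow (f := x) (fun u w hc => by
    obtain ⟨r, h1, h2⟩ := lany_iff.1 hc
    have := hr r h1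
    rwa [← leq_iff.1 h2, ev_lapp, ev_winv, mul_inv_eq_one] at this) (allFrom_zero.1 h)

theorem bij_of {H G : Type*} [Group H] [Group G] (p : H →* E) (π : E →* G) (hs : Surjective (π.comp p))
    (h1 : ∀ n, π n = 1 → ∃ h, p h = n) (h2 : ∀ h, p h = 1 → h = 1) : Bijective p := by
  refine ⟨(injective_iff_map_eq_one p).2 h2, fun e => ?_⟩
  obtain ⟨a, ha⟩ := hs (π e)
  obtain ⟨b, hb⟩ := h1 (e * (p a)⁻¹) (by rw [map_mul, map_inv, ← ha]; simp)
  exact ⟨b * a, by simp [hb]⟩

/-- two extensions with the same tails on a Sylow subgroup are isomorphic -/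
theorem iso_of_rel [Finite E] {E' G A : Type*} [Group E'] [Finite E'] [Group G] [CommGroup A] {π : E →* G}
    {π' : E' →* G} (hπ : Surjective π) (hπ' : Surjective π') {θ : A →* E} {θ' : A →* E'} (hr : θ.range = π.ker)
    (hr' : θ'.range = π'.ker) (hk : θ.ker = θ'.ker)
    (hc : ∀ g g', π g = π' g' → ∀ a, ∃ b, g * θ a * g⁻¹ = θ b ∧ g' * θ' a * g'⁻¹ = θ' b)
    {P : Dat} (hp : P.p.Prime) (hA : ∀ a : A, a ^ P.p = 1) {x : ℕ → E} {x' : ℕ → E'} (hx : ∀ i, π (x i) = π' (x' i))
    {rels : List (List ℕ)} (h0 : ∀ r ∈ rels, ∃ a, ev x r = θ a ∧ ev x' r = θ' a)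
    (h : allFrom (relRow (inRels rels) 0 P) 0 P.n = true) (hw : WF P)
    (hl : P.p ^ P.n ≤ Nat.card (gen P.n (fun i => π (x i)) 0)) (hG : ¬ P.p ^ (P.n + 1) ∣ Nat.card G) :
    Nonempty (E ≃* E') := by
  let F := (π.comp (MonoidHom.fst E E')).eqLocus (π'.comp (MonoidHom.snd E E'))
  have m1 : ∀ a, π (θ a) = 1 := fun a => hr.le ⟨a, rfl⟩
  have m2 : ∀ a, π' (θ' a) = 1 := fun a => hr'.le ⟨a, rfl⟩
  let δ : A →* F := (θ.prod θ').codRestrict F fun a => (m1 a).trans (m2 a).symm
  have : δ.range.Normal := ⟨by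
    rintro _ ⟨a, rfl⟩ g
    obtain ⟨b, h1, h2⟩ := hc g.1.1 g.1.2 g.2 a
    exact ⟨b, Subtype.ext (Prod.ext h1.symm h2.symm)⟩⟩
  let p : F →* E := (MonoidHom.fst E E').comp F.subtype
  let p' : F →* E' := (MonoidHom.snd E E').comp F.subtype
  let ρ : F ⧸ δ.range →* G := QuotientGroup.lift _ (π.comp p) (by rintro _ ⟨a, rfl⟩; exact m1 a)
  have hρ : Surjective ρ := fun g => by
    obtain ⟨e, rfl⟩ := hπ g
    obtain ⟨e', he⟩ := hπ' (π e)
    exact ⟨QuotientGroup.mk ⟨(e, e'), he.symm⟩, rfl⟩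
  let ι : A →* F ⧸ δ.range :=
    (QuotientGroup.mk' _).comp ((θ.prod 1).codRestrict F fun a => (m1 a).trans (map_one π').symm)
  have hι : ∀ z : ρ.ker, ∃ a, ι a = z := by
    rintro ⟨z, hz⟩
    obtain ⟨g, rfl⟩ := QuotientGroup.mk_surjective z
    obtain ⟨a, ha⟩ := hr.ge (show g.1.1 ∈ π.ker from hz)
    obtain ⟨b, hb⟩ := hr'.ge (show g.1.2 ∈ π'.ker from g.2.symm.trans hz)
    refine ⟨a * b⁻¹, QuotientGroup.eq.2 ⟨b, Subtype.ext (Prod.ext ?_ ?_)⟩⟩
    · show θ b = (θ (a * b⁻¹))⁻¹ * g.1.1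
      rw [← ha, ← map_inv, ← map_mul]
      simp
    · show θ' b = 1⁻¹ * g.1.2
      simp [hb]
  have : IsMulCommutative ρ.ker := ⟨⟨fun a b => by
    obtain ⟨a', ha⟩ := hι a
    obtain ⟨b', hb⟩ := hι b
    exact Subtype.ext (by rw [Subgroup.coe_mul, Subgroup.coe_mul, ← ha, ← hb, ← map_mul, mul_comm, map_mul])⟩⟩
  obtain ⟨H, h1, h2⟩ := split_of_rel hρ hp (fun z => ⟨1, by
      obtain ⟨a, ha⟩ := hι z
      exact Subtype.ext (by rw [Subgroup.coe_pow, ← ha, ← map_pow, pow_one, hA, map_one, Subgroup.coe_one])⟩)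
    (x := fun i => QuotientGroup.mk' _ ⟨(x i, x' i), hx i⟩) (rel_of_inRels (fun r h => by
      obtain ⟨a, ha, ha'⟩ := h0 r h
      rw [← map_ev]
      exact (QuotientGroup.eq_one_iff _).2 ⟨a, Subtype.ext (Prod.ext
        (ha.symm.trans (map_ev p (fun i => ⟨(x i, x' i), hx i⟩) r).symm)
        (ha'.symm.trans (map_ev p' (fun i => ⟨(x i, x' i), hx i⟩) r).symm))⟩) h) hw hl hG
  let K := H.comap (QuotientGroup.mk' δ.range)
  have hs : Surjective (π.comp (p.comp K.subtype)) := fun g => by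
    obtain ⟨z, rfl⟩ := hρ g
    obtain ⟨a, ha, b, hb, rfl⟩ := Subgroup.mem_sup_of_normal_right.1 (h2.ge (Subgroup.mem_top z))
    obtain ⟨a, rfl⟩ := QuotientGroup.mk_surjective a
    exact ⟨⟨a, ha⟩, by rw [map_mul, show ρ b = 1 from hb, mul_one]; rfl⟩
  have hδ : ∀ a, δ a ∈ K := fun a => by
    have : QuotientGroup.mk' δ.range (δ a) = 1 := (QuotientGroup.eq_one_iff _).2 ⟨a, rfl⟩
    exact Subgroup.mem_comap.2 (this ▸ H.one_mem)
  have hK : ∀ z : K, π z.1.1.1 = 1 → ∃ a, δ a = z := fun z hz =>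
    (QuotientGroup.eq_one_iff _).1 (Subgroup.mem_bot.1 (h1.le ⟨z.2, hz⟩))
  have b1 := bij_of (p.comp K.subtype) π hs (fun n hn => by
    obtain ⟨a, rfl⟩ := hr.ge hn
    exact ⟨⟨_, hδ a⟩, rfl⟩) fun z hz => by
    have hz : z.1.1.1 = 1 := hz
    obtain ⟨a, ha⟩ := hK z (by rw [hz, map_one])
    refine Subtype.ext (Subtype.ext (Prod.ext hz ?_))
    rw [← ha] at hz ⊢
    exact hk.le hz
  have b2 := bij_of (p'.comp K.subtype) π' (fun g => (hs g).imp fun z hz => z.1.2.symm.trans hz) (fun n hn => by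
    obtain ⟨a, rfl⟩ := hr'.ge hn
    exact ⟨⟨_, hδ a⟩, rfl⟩) fun z hz => by
    have hz : z.1.1.2 = 1 := hz
    obtain ⟨a, ha⟩ := hK z (z.1.2.trans (by show π' z.1.1.2 = 1; rw [hz, map_one]))
    refine Subtype.ext (Subtype.ext (Prod.ext ?_ hz))
    rw [← ha] at hz ⊢
    exact hk.ge hz
  exact ⟨(MulEquiv.ofBijective _ b1).symm.trans (MulEquiv.ofBijective _ b2)⟩

end CF.Schur.MT
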