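import Cfsg.Agent.Comp.TCDefs

set_option autoImplicit false
set_option maxRecDepth 1000000
set_option maxHeartbeats 0

namespace CF.Schur.MatC

open CF.Comp

noncomputable def NM12_0 : Net := (Net.cons (nat_lit 1) (nat_lit 5312576) (Net.cons (nat_lit 2) (nat_lit 1187840) (Net.cons (nat_lit 4) (nat_lit 459776) (Net.cons (nat_lit 8) (nat_lit 140) (Net.cons (nat_lit 16) (nat_lit 252) (Net.cons (nat_lit 8) (nat_lit 140) (Net.cons (nat_lit 4) (nat_lit 986376) (Net.cons (nat_lit 2) (nat_lit 1253392) (Net.cons (nat_lit 1) (nat_lit 5312576) Net.nil)))))))))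
noncomputable def NM12_1 : Net := (Net.cons (nat_lit 1) (nat_lit 1053008) (Net.cons (nat_lit 2) (nat_lit 1253888) (Net.cons (nat_lit 4) (nat_lit 262144) (Net.cons (nat_lit 8) (nat_lit 163) (Net.cons (nat_lit 16) (nat_lit 243) (Net.cons (nat_lit 8) (nat_lit 139) (Net.cons (nat_lit 4) (nat_lit 525312) (Net.cons (nat_lit 2) (nat_lit 3342880) (Net.cons (nat_lit 1) (nat_lit 5312528) Net.nil)))))))))
noncomputable def NM12_2 : Net := (Net.cons (nat_lit 1) (nat_lit 5243968) (Net.cons (nat_lit 2) (nat_lit 209440) (Net.cons (nat_lit 4) (nat_lit 262656) (Net.cons (nat_lit 8) (nat_lit 23) (Net.cons (nat_lit 16) (nat_lit 95) (Net.cons (nat_lit 8) (nat_lit 63) (Net.cons (nat_lit 4) (nat_lit 265472) (Net.cons (nat_lit 2) (nat_lit 3146496) (Net.cons (nat_lit 1) (nat_lit 1312000) Net.nil)))))))))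
noncomputable def NM12_3 : Net := (Net.cons (nat_lit 1) (nat_lit 1118208) (Net.cons (nat_lit 2) (nat_lit 3150624) (Net.cons (nat_lit 4) (nat_lit 2560) (Net.cons (nat_lit 8) (nat_lit 10) (Net.cons (nat_lit 16) (nat_lit 138) (Net.cons (nat_lit 8) (nat_lit 230) (Net.cons (nat_lit 4) (nat_lit 590344) (Net.cons (nat_lit 2) (nat_lit 3150624) (Net.cons (nat_lit 1) (nat_lit 1118468) Net.nil)))))))))
noncomputable def NM12_4 : Net := (Net.cons (nat_lit 1) (nat_lit 5505296) (Net.cons (nat_lit 2) (nat_lit 131584) (Net.cons (nat_lit 4) (nat_lit 328192) (Net.cons (nat_lit 8) (nat_lit 32) (Net.cons (nat_lit 16) (nat_lit 114) (Net.cons (nat_lit 8) (nat_lit 168) (Net.cons (nat_lit 4) (nat_lit 328192) (Net.cons (nat_lit 2) (nat_lit 1245712) (Net.cons (nat_lit 1) (nat_lit 5509392) Net.nil)))))))))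
noncomputable def NM12_5 : Net := (Net.cons (nat_lit 1) (nat_lit 1114432) (Net.cons (nat_lit 2) (nat_lit 1245696) (Net.cons (nat_lit 4) (nat_lit 132096) (Net.cons (nat_lit 8) (nat_lit 140) (Net.cons (nat_lit 16) (nat_lit 236) (Net.cons (nat_lit 8) (nat_lit 141) (Net.cons (nat_lit 4) (nat_lit 132104) (Net.cons (nat_lit 2) (nat_lit 1245696) (Net.cons (nat_lit 1) (nat_lit 1118528) Net.nil)))))))))
noncomputable def NM12 : List Net := [NM12_0, NM12_1, NM12_2, NM12_3, NM12_4, NM12_5]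

noncomputable def RM12_0 : List (List Nat) := [[(nat_lit 1), (nat_lit 1)],
  [(nat_lit 3), (nat_lit 3), (nat_lit 3), (nat_lit 3)],
  [(nat_lit 5), (nat_lit 5), (nat_lit 5), (nat_lit 5)],
  [(nat_lit 6), (nat_lit 4), (nat_lit 6), (nat_lit 4), (nat_lit 1)],
  [(nat_lit 5), (nat_lit 3), (nat_lit 6), (nat_lit 1), (nat_lit 3), (nat_lit 1)],
  [(nat_lit 5), (nat_lit 1), (nat_lit 5), (nat_lit 3), (nat_lit 3), (nat_lit 1)]]

noncomputable def RM12_1 : List (List Nat) := [[(nat_lit 1), (nat_lit 1)],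
  [(nat_lit 3), (nat_lit 3), (nat_lit 3), (nat_lit 3)],
  [(nat_lit 5), (nat_lit 5), (nat_lit 5), (nat_lit 5)],
  [(nat_lit 6), (nat_lit 4), (nat_lit 6), (nat_lit 4), (nat_lit 1)],
  [(nat_lit 5), (nat_lit 3), (nat_lit 6), (nat_lit 1), (nat_lit 3), (nat_lit 1)],
  [(nat_lit 5), (nat_lit 1), (nat_lit 5), (nat_lit 3), (nat_lit 3), (nat_lit 1)],
  [(nat_lit 7), (nat_lit 7)],
  [(nat_lit 7), (nat_lit 4), (nat_lit 7), (nat_lit 3), (nat_lit 7), (nat_lit 3), (nat_lit 3)],
  [(nat_lit 7), (nat_lit 4), (nat_lit 5), (nat_lit 4), (nat_lit 7), (nat_lit 5), (nat_lit 5), (nat_lit 3)]]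

noncomputable def RM12_2 : List (List Nat) := [[(nat_lit 1), (nat_lit 1)],
  [(nat_lit 3), (nat_lit 3), (nat_lit 3), (nat_lit 3)],
  [(nat_lit 5), (nat_lit 5), (nat_lit 5), (nat_lit 5)],
  [(nat_lit 6), (nat_lit 4), (nat_lit 6), (nat_lit 4), (nat_lit 1)],
  [(nat_lit 5), (nat_lit 3), (nat_lit 6), (nat_lit 1), (nat_lit 3), (nat_lit 1)],
  [(nat_lit 5), (nat_lit 1), (nat_lit 5), (nat_lit 3), (nat_lit 3), (nat_lit 1)],
  [(nat_lit 7), (nat_lit 7)],
  [(nat_lit 7), (nat_lit 4), (nat_lit 7), (nat_lit 3), (nat_lit 7), (nat_lit 3), (nat_lit 3)],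
  [(nat_lit 7), (nat_lit 4), (nat_lit 5), (nat_lit 4), (nat_lit 7), (nat_lit 5), (nat_lit 5), (nat_lit 3)],
  [(nat_lit 9), (nat_lit 9)],
  [(nat_lit 9), (nat_lit 7), (nat_lit 9), (nat_lit 7)],
  [(nat_lit 9), (nat_lit 1), (nat_lit 9), (nat_lit 1), (nat_lit 9), (nat_lit 1)],
  [(nat_lit 9), (nat_lit 5), (nat_lit 5), (nat_lit 4), (nat_lit 9), (nat_lit 6), (nat_lit 3), (nat_lit 1)]]

noncomputable def relsM12 : List (List Nat) := [[(nat_lit 1), (nat_lit 1)],
  [(nat_lit 3), (nat_lit 3), (nat_lit 3), (nat_lit 3)],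
  [(nat_lit 5), (nat_lit 5), (nat_lit 5), (nat_lit 5)],
  [(nat_lit 6), (nat_lit 4), (nat_lit 6), (nat_lit 4), (nat_lit 1)],
  [(nat_lit 5), (nat_lit 3), (nat_lit 6), (nat_lit 1), (nat_lit 3), (nat_lit 1)],
  [(nat_lit 5), (nat_lit 1), (nat_lit 5), (nat_lit 3), (nat_lit 3), (nat_lit 1)],
  [(nat_lit 7), (nat_lit 7)],
  [(nat_lit 7), (nat_lit 4), (nat_lit 7), (nat_lit 3), (nat_lit 7), (nat_lit 3), (nat_lit 3)],
  [(nat_lit 7), (nat_lit 4), (nat_lit 5), (nat_lit 4), (nat_lit 7), (nat_lit 5), (nat_lit 5), (nat_lit 3)],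
  [(nat_lit 9), (nat_lit 9)],
  [(nat_lit 9), (nat_lit 7), (nat_lit 9), (nat_lit 7)],
  [(nat_lit 9), (nat_lit 1), (nat_lit 9), (nat_lit 1), (nat_lit 9), (nat_lit 1)],
  [(nat_lit 9), (nat_lit 5), (nat_lit 5), (nat_lit 4), (nat_lit 9), (nat_lit 6), (nat_lit 3), (nat_lit 1)],
  [(nat_lit 11), (nat_lit 11)],
  [(nat_lit 11), (nat_lit 7), (nat_lit 11), (nat_lit 7), (nat_lit 11), (nat_lit 7)],
  [(nat_lit 11), (nat_lit 3), (nat_lit 5), (nat_lit 11), (nat_lit 3), (nat_lit 6), (nat_lit 3)],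
  [(nat_lit 7), (nat_lit 11), (nat_lit 7), (nat_lit 5), (nat_lit 7), (nat_lit 11), (nat_lit 7), (nat_lit 5)],
  [(nat_lit 11), (nat_lit 9), (nat_lit 11), (nat_lit 3), (nat_lit 9), (nat_lit 4), (nat_lit 9), (nat_lit 3), (nat_lit 3)]]

noncomputable def eM12_0_c0 : BT (Bx Nat) := (BT.leaf (Bx.mk (nat_lit 0x0)))
noncomputable def eM12_0_c1 : BT (Bx Nat) := (BT.leaf (Bx.mk (nat_lit 0xce42548b8c23f788d9823c73894a248688c6821a39d18422b91ce5ae44a085e022f888f54e33a08560e4583875622a488e1222c7390682108b8e92247908a54e3219cf98e3499cb6820c946924e226890e2227a082a22268be46220ea08262214788d682088ba4ea0c0a081e420da82ee8206a82de4f9e8086e820580886a0b0a08124ea099c62a0a8a080ea0a3a827ea09ca8266a096a824aa08fa822e8201a82080000)))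
noncomputable def eM12_0_c2 : BT (Bx Nat) := (BT.leaf (Bx.mk (nat_lit 0x104b67c2e504af7b70204b0a0c70adbe58cec84bd80c9884c3836a2649838ca630aba0c55c4c7936660322a0c4a23354c322831070c6e2d9fa0c3d2dc6a0c39631d60cde830d90c9cadc540d06830b78cfe232a88c51e333a0c266b1690c7aa0c460cb6a0c268cca648868cea8306a82f244a1a82e2830590c8e4311a82d2a0b1a82baa0ac90c2a6484a8296a0a4a82828302a826aa097a824e8301a8232a087a820c0000)))
noncomputable def eM12_0_c3 : BT (Bx Nat) := (BT.leaf (Bx.mk (nat_lit 0x102b368ae102ae20aa2829e18afa829c4969dc2c581a9482c218b02829761705c79970b1e829569aace2c891ad2829181689c69ba0a41e2c438b1a828f69676828e80aea46a441aede2bd996a6313fa0a2e828a9b24e25b688a5a828980ac2679f61ab2a0c37b2c6828788ade42bca0a1a42a0a82e646a3a0a16a0b599e4aa0b2a82bea0ada82aa8283a829a658da8286429aa0a0aa098a8252428ca0a06a088a82100000)))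
noncomputable def eM12_0_c4 : BT (Bx Nat) := (BT.leaf (Bx.mk (nat_lit 0x2842c510ca8424314c22637610aa261f710ba6f239146e8417114d5c5486106625318149e041e810d1643b198fa0626994456443922a0e6467aef2261269102042f9943aa0c78150a6f16a102da444998b6a0c571096650a898e6441c92e328408790e26a13a101ea0c19a452a0bfa82f6a0ba9941aa0b69103e041aa1012a0b3910828403a82aea0a9910868402a828aa09d998628401a8256a090a8236a089a82140000)))
noncomputable def eM12_0_c5 : BT (Bx Nat) := (BT.leaf (Bx.mk (nat_lit 0x1a3bca0ea8c3b0a0e91cd26620c9e3a9a0e69cd2da0e6043b5a0e5dc3af634da839680e860d1d80f12839408ef62c37a0e416d4780ee8a3c58c0b1ed4190e96a0c8a0e35aac3a0e3223b178ee5e3b47c08ea0c690f0283899aa2e698f80f0a2838a0e22682088efe2c126aaee4387a82fa43a8a0e16439990e7203ae90ece83849a04e43aba0e0e239fa829e43a2a0e0aa09ea826e4395a0e06a091a823aa08aa82180000)))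
noncomputable def eM12_0_p : BT (Bx Nat) := (BT.leaf (Bx.mk (nat_lit 0x8b058a848905890487828703870286848681660465c565c465c265c16584654365426541650464836442640464036402640163c363c263836382634463436304630162c562c362c262826281624462436242624162056204620161c561c261c1418341824181414441434142414141054104410140c540c440c240c140854084408340822045204420432042204100000000)))
noncomputable def eM12_0_e : BT Nat := BT.leaf (nat_lit 0)
noncomputable def eM12_0_cols : List (BT (Bx Nat)) := [eM12_0_c0, eM12_0_c1, eM12_0_c2, eM12_0_c3, eM12_0_c4, eM12_0_c5]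
noncomputable def eM12_0_ch (x j : Nat) : Bx Nat := chunkG eM12_0_cols (nat_lit 1) x j
noncomputable def eM12_0_L (x : Nat) : Bx (Nat → Nat) := lookG eM12_0_ch (nat_lit 8) (nat_lit 255) (nat_lit 18) (nat_lit 262143) x
noncomputable def eM12_0_pc (_ j : Nat) : Bx Nat := eM12_0_p.get j
noncomputable def eM12_0_pb : Bx (Nat → Nat) := lookG eM12_0_pc (nat_lit 8) (nat_lit 255) (nat_lit 16) (nat_lit 65535) (nat_lit 0)
noncomputable def eM12_0_rots : BT CW := (BT.node (nat_lit 18) (BT.node (nat_lit 9) (BT.node (nat_lit 4) (BT.node (nat_lit 2) (BT.node (nat_lit 1) (BT.leaf ⟨[], (nat_lit 1000000), (nat_lit 0), (nat_lit 0), (nat_lit 0)⟩) (BT.leaf ⟨[], (nat_lit 1000000), (nat_lit 0), (nat_lit 0), (nat_lit 1)⟩)) (BT.node (nat_lit 3) (BT.leaf ⟨[], (nat_lit 1000000), (nat_lit 0), (nat_lit 0), (nat_lit 2)⟩) (BT.leaf ⟨[(nat_lit 1), (nat_lit 1)], (nat_lit 0), (nat_lit 0), (nat_lit 0), (nat_lit 3)⟩))) (BT.node (nat_lit 6) (BT.node (nat_lit 5) (BT.leaf ⟨[(nat_lit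 3), (nat_lit 2)], (nat_lit 10), (nat_lit 1), (nat_lit 0), (nat_lit 3)⟩) (BT.leaf ⟨[(nat_lit 2), (nat_lit 3)], (nat_lit 10), (nat_lit 0), (nat_lit 0), (nat_lit 3)⟩)) (BT.node (nat_lit 7) (BT.leaf ⟨[(nat_lit 5), (nat_lit 4)], (nat_lit 9), (nat_lit 1), (nat_lit 0), (nat_lit 3)⟩) (BT.node (nat_lit 8) (BT.leaf ⟨[(nat_lit 4), (nat_lit 5)], (nat_lit 9), (nat_lit 0), (nat_lit 0), (nat_lit 3)⟩) (BT.leaf ⟨[(nat_lit 2), (nat_lit 2), (nat_lit 2), (nat_lit 2)], (nat_lit 1), (nat_lit 0), (nat_lit 0), (nat_lit 3)⟩))))) (BT.node (nat_lit 13) (BT.node (nat_lit 11) (BT.node (nat_lit 10) (BT.leaf ⟨[(nat_lit 4), (nat_lit 4), (nat_lit 4), (nat_lit 4)], (nat_lit 2), (nat_lit 0), (nat_lit 0), (nat_lit 3)⟩) (BT.leaf ⟨[(nat_lit 3), (nat_lit 5), (nat_lit 3), (nat_lit 1), (nat_lit 5)], (nat_lit 3), (nat_lit 1), (nat_lit 0), (nat_lit 3)⟩)) (BT.node (nat_lit 12) (BT.leaf ⟨[(nat_lit 4), (nat_lit 2), (nat_lit 4), (nat_lit 1), (nat_lit 2)], (nat_lit 15), (nat_lit 2), (nat_lit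 0), (nat_lit 3)⟩) (BT.leaf ⟨[(nat_lit 3), (nat_lit 3), (nat_lit 3), (nat_lit 3)], (nat_lit 13), (nat_lit 0), (nat_lit 0), (nat_lit 3)⟩))) (BT.node (nat_lit 15) (BT.node (nat_lit 14) (BT.leaf ⟨[(nat_lit 1), (nat_lit 2), (nat_lit 4), (nat_lit 2), (nat_lit 4)], (nat_lit 15), (nat_lit 0), (nat_lit 0), (nat_lit 3)⟩) (BT.leaf ⟨[(nat_lit 3), (nat_lit 1), (nat_lit 5), (nat_lit 3), (nat_lit 5)], (nat_lit 3), (nat_lit 3), (nat_lit 0), (nat_lit 3)⟩)) (BT.node (nat_lit 16) (BT.leaf ⟨[(nat_lit 5), (nat_lit 3), (nat_lit 5), (nat_lit 3), (nat_lit 1)], (nat_lit 3), (nat_lit 0), (nat_lit 0), (nat_lit 3)⟩) (BT.node (nat_lit 17) (BT.leaf ⟨[(nat_lit 4), (nat_lit 1), (nat_lit 2), (nat_lit 4), (nat_lit 2)], (nat_lit 15), (nat_lit 4), (nat_lit 0), (nat_lit 3)⟩) (BT.leaf ⟨[(nat_lit 4), (nat_lit 2), (nat_lit 5), (nat_lit 1), (nat_lit 2), (nat_lit 1)], (nat_lit 4), (nat_lit 0), (nat_lit 0), (nat_lit 3)⟩)))))) (BT.node (nat_lit 27) (BT.node (nat_lit 22) (BT.node (nat_lit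 20) (BT.node (nat_lit 19) (BT.leaf ⟨[(nat_lit 5), (nat_lit 1), (nat_lit 2), (nat_lit 1), (nat_lit 4), (nat_lit 2)], (nat_lit 4), (nat_lit 2), (nat_lit 0), (nat_lit 3)⟩) (BT.leaf ⟨[(nat_lit 4), (nat_lit 3), (nat_lit 5), (nat_lit 1), (nat_lit 3), (nat_lit 1)], (nat_lit 16), (nat_lit 3), (nat_lit 0), (nat_lit 3)⟩)) (BT.node (nat_lit 21) (BT.leaf ⟨[(nat_lit 5), (nat_lit 1), (nat_lit 3), (nat_lit 1), (nat_lit 4), (nat_lit 3)], (nat_lit 16), (nat_lit 5), (nat_lit 0), (nat_lit 3)⟩) (BT.leaf ⟨[(nat_lit 2), (nat_lit 1), (nat_lit 4), (nat_lit 1), (nat_lit 4), (nat_lit 2)], (nat_lit 5), (nat_lit 4), (nat_lit 0), (nat_lit 3)⟩))) (BT.node (nat_lit 24) (BT.node (nat_lit 23) (BT.leaf ⟨[(nat_lit 4), (nat_lit 2), (nat_lit 2), (nat_lit 1), (nat_lit 4), (nat_lit 1)], (nat_lit 5), (nat_lit 2), (nat_lit 0), (nat_lit 3)⟩) (BT.leaf ⟨[(nat_lit 5), (nat_lit 1), (nat_lit 5), (nat_lit 1), (nat_lit 3), (nat_lit 3)], (nat_lit 17), (nat_lit 3), (nat_lit 0), (nat_lit 3)⟩)) (BT.node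 (nat_lit 25) (BT.leaf ⟨[(nat_lit 3), (nat_lit 3), (nat_lit 5), (nat_lit 1), (nat_lit 5), (nat_lit 1)], (nat_lit 17), (nat_lit 1), (nat_lit 0), (nat_lit 3)⟩) (BT.node (nat_lit 26) (BT.leaf ⟨[(nat_lit 5), (nat_lit 5), (nat_lit 5), (nat_lit 5)], (nat_lit 14), (nat_lit 0), (nat_lit 0), (nat_lit 3)⟩) (BT.leaf ⟨[(nat_lit 2), (nat_lit 4), (nat_lit 2), (nat_lit 4), (nat_lit 1)], (nat_lit 15), (nat_lit 1), (nat_lit 0), (nat_lit 3)⟩))))) (BT.node (nat_lit 31) (BT.node (nat_lit 29) (BT.node (nat_lit 28) (BT.leaf ⟨[(nat_lit 1), (nat_lit 5), (nat_lit 3), (nat_lit 5), (nat_lit 3)], (nat_lit 3), (nat_lit 4), (nat_lit 0), (nat_lit 3)⟩) (BT.leaf ⟨[(nat_lit 1), (nat_lit 2), (nat_lit 1), (nat_lit 4), (nat_lit 2), (nat_lit 5)], (nat_lit 4), (nat_lit 3), (nat_lit 0), (nat_lit 3)⟩)) (BT.node (nat_lit 30) (BT.leaf ⟨[(nat_lit 4), (nat_lit 1), (nat_lit 4), (nat_lit 2), (nat_lit 2), (nat_lit 1)], (nat_lit 5), (nat_lit 0), (nat_lit 0), (nat_lit 3)⟩) (BT.leaf ⟨[(nat_lit 1),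 (nat_lit 4), (nat_lit 2), (nat_lit 2), (nat_lit 1), (nat_lit 4)], (nat_lit 5), (nat_lit 1), (nat_lit 0), (nat_lit 3)⟩))) (BT.node (nat_lit 33) (BT.node (nat_lit 32) (BT.leaf ⟨[(nat_lit 5), (nat_lit 3), (nat_lit 1), (nat_lit 5), (nat_lit 3)], (nat_lit 3), (nat_lit 2), (nat_lit 0), (nat_lit 3)⟩) (BT.leaf ⟨[(nat_lit 2), (nat_lit 4), (nat_lit 1), (nat_lit 2), (nat_lit 4)], (nat_lit 15), (nat_lit 3), (nat_lit 0), (nat_lit 3)⟩)) (BT.node (nat_lit 34) (BT.leaf ⟨[(nat_lit 3), (nat_lit 5), (nat_lit 1), (nat_lit 5), (nat_lit 1), (nat_lit 3)], (nat_lit 17), (nat_lit 2), (nat_lit 0), (nat_lit 3)⟩) (BT.node (nat_lit 35) (BT.leaf ⟨[(nat_lit 1), (nat_lit 3), (nat_lit 3), (nat_lit 5), (nat_lit 1), (nat_lit 5)], (nat_lit 17), (nat_lit 0), (nat_lit 0), (nat_lit 3)⟩) (BT.leaf ⟨[(nat_lit 1), (nat_lit 3), (nat_lit 1), (nat_lit 4), (nat_lit 3), (nat_lit 5)], (nat_lit 16), (nat_lit 0), (nat_lit 0), (nat_lit 3)⟩)))))))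
noncomputable def eM12_0_hcs : List CW := []
noncomputable def eM12_0_H (x j : Nat) : Bx (Nat → Nat → Nat) := mkH eM12_0_L eM12_0_pb.1 eM12_0_e.get (lmap CW.w eM12_0_hcs) (nat_lit 72) (nat_lit 73) (nat_lit 6) (nat_lit 128) (nat_lit 8192) (nat_lit 8191) x (eM12_0_rots.get j)
noncomputable def eM12_0_F (x b : Nat) : Bool := blkOK eM12_0_H eM12_0_ch (nat_lit 73) (nat_lit 128) (nat_lit 64) (nat_lit 8) (nat_lit 255) (nat_lit 18) (nat_lit 262143) x b

theorem eM12_0_k0_0 : allFrom (eM12_0_F (nat_lit 0)) (nat_lit 0) (nat_lit 4) = true := by decide +kernel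
theorem eM12_0_k1_0 : allFrom (eM12_0_F (nat_lit 1)) (nat_lit 0) (nat_lit 4) = true := by decide +kernel
theorem eM12_0_k2_0 : allFrom (eM12_0_F (nat_lit 2)) (nat_lit 0) (nat_lit 4) = true := by decide +kernel
theorem eM12_0_k3_0 : allFrom (eM12_0_F (nat_lit 3)) (nat_lit 0) (nat_lit 4) = true := by decide +kernel
theorem eM12_0_k4_0 : allFrom (eM12_0_F (nat_lit 4)) (nat_lit 0) (nat_lit 4) = true := by decide +kernel
theorem eM12_0_k5_0 : allFrom (eM12_0_F (nat_lit 5)) (nat_lit 0) (nat_lit 4) = true := by decide +kernel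

noncomputable def eM12_1_c0 : BT (Bx Nat) := (BT.leaf (Bx.mk (nat_lit 0x0)))
noncomputable def eM12_1_c1 : BT (Bx Nat) := (BT.leaf (Bx.mk (nat_lit 0x121e50b2843b54a0e833418a0b344a862000)))
noncomputable def eM12_1_c2 : BT (Bx Nat) := (BT.leaf (Bx.mk (nat_lit 0x11a9e0ad068522ca5151262a0bd04e862000)))
noncomputable def eM12_1_c3 : BT (Bx Nat) := (BT.leaf (Bx.mk (nat_lit 0x1de90ac655929a9618b2e5792950524a2000)))
noncomputable def eM12_1_c4 : BT (Bx Nat) := (BT.leaf (Bx.mk (nat_lit 0x4a5912e78834d3d261a90e37795056862000)))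
noncomputable def eM12_1_c5 : BT (Bx Nat) := (BT.leaf (Bx.mk (nat_lit 0x255d8ec47859cd06a4e4e7573a31ce4e2000)))
noncomputable def eM12_1_c6 : BT (Bx Nat) := (BT.leaf (Bx.mk (nat_lit 0x165972a5a885989290930c4723c906824000)))
noncomputable def eM12_1_p : BT (Bx Nat) := (BT.leaf (Bx.mk (nat_lit 0x4615a82d0166133051088834411118000000)))
noncomputable def eM12_1_e0 : BT Nat := (BT.node (nat_lit 66) (BT.leaf (nat_lit 524290)) (BT.node (nat_lit 68) (BT.leaf (nat_lit 262146)) (BT.leaf (nat_lit 2))))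
noncomputable def eM12_1_e : BT Nat := eM12_1_e0
noncomputable def eM12_1_cols : List (BT (Bx Nat)) := [eM12_1_c0, eM12_1_c1, eM12_1_c2, eM12_1_c3, eM12_1_c4, eM12_1_c5, eM12_1_c6]
noncomputable def eM12_1_ch (x j : Nat) : Bx Nat := chunkG eM12_1_cols (nat_lit 1) x j
noncomputable def eM12_1_L (x : Nat) : Bx (Nat → Nat) := lookG eM12_1_ch (nat_lit 8) (nat_lit 255) (nat_lit 13) (nat_lit 8191) x
noncomputable def eM12_1_pc (_ j : Nat) : Bx Nat := eM12_1_p.get j
noncomputable def eM12_1_pb : Bx (Nat → Nat) := lookG eM12_1_pc (nat_lit 8) (nat_lit 255) (nat_lit 13) (nat_lit 8191) (nat_lit 0)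
noncomputable def eM12_1_rots : BT CW := (BT.node (nat_lit 13) (BT.node (nat_lit 6) (BT.node (nat_lit 3) (BT.node (nat_lit 1) (BT.leaf ⟨[], (nat_lit 1000000), (nat_lit 0), (nat_lit 0), (nat_lit 0)⟩) (BT.node (nat_lit 2) (BT.leaf ⟨[], (nat_lit 1000000), (nat_lit 0), (nat_lit 0), (nat_lit 1)⟩) (BT.leaf ⟨[], (nat_lit 1000000), (nat_lit 0), (nat_lit 0), (nat_lit 2)⟩))) (BT.node (nat_lit 4) (BT.leaf ⟨[(nat_lit 6), (nat_lit 6)], (nat_lit 6), (nat_lit 0), (nat_lit 0), (nat_lit 3)⟩) (BT.node (nat_lit 5) (BT.leaf ⟨[(nat_lit 3), (nat_lit 2)], (nat_lit 13), (nat_lit 1), (nat_lit 0), (nat_lit 3)⟩) (BT.leaf ⟨[(nat_lit 2), (nat_lit 3)], (nat_lit 13), (nat_lit 0), (nat_lit 0), (nat_lit 3)⟩)))) (BT.node (nat_lit 9) (BT.node (nat_lit 7) (BT.leaf ⟨[(nat_lit 5), (nat_lit 4)], (nat_lit 12), (nat_lit 1), (nat_lit 0), (nat_lit 3)⟩) (BT.node (nat_lit 8) (BT.leaf ⟨[(nat_lit 1), (nat_lit 1)], (nat_lit 0), (nat_lit 0), (nat_lit 0), (nat_lit 3)⟩) (BT.leaf ⟨[(nat_lit 4), (nat_lit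 5)], (nat_lit 12), (nat_lit 0), (nat_lit 0), (nat_lit 3)⟩))) (BT.node (nat_lit 11) (BT.node (nat_lit 10) (BT.leaf ⟨[(nat_lit 2), (nat_lit 2), (nat_lit 2), (nat_lit 2)], (nat_lit 1), (nat_lit 0), (nat_lit 0), (nat_lit 3)⟩) (BT.leaf ⟨[(nat_lit 6), (nat_lit 3), (nat_lit 6), (nat_lit 2), (nat_lit 6), (nat_lit 2), (nat_lit 2)], (nat_lit 7), (nat_lit 0), (nat_lit 0), (nat_lit 3)⟩)) (BT.node (nat_lit 12) (BT.leaf ⟨[(nat_lit 6), (nat_lit 2), (nat_lit 6), (nat_lit 2), (nat_lit 2), (nat_lit 6), (nat_lit 3)], (nat_lit 7), (nat_lit 2), (nat_lit 0), (nat_lit 3)⟩) (BT.leaf ⟨[(nat_lit 4), (nat_lit 2), (nat_lit 6), (nat_lit 3), (nat_lit 4), (nat_lit 3), (nat_lit 6), (nat_lit 4)], (nat_lit 8), (nat_lit 6), (nat_lit 0), (nat_lit 3)⟩))))) (BT.node (nat_lit 19) (BT.node (nat_lit 16) (BT.node (nat_lit 14) (BT.leaf ⟨[(nat_lit 4), (nat_lit 3), (nat_lit 6), (nat_lit 4), (nat_lit 4), (nat_lit 2), (nat_lit 6), (nat_lit 3)], (nat_lit 8), (nat_lit 2), (nat_lit 0), (nat_lit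 3)⟩) (BT.node (nat_lit 15) (BT.leaf ⟨[(nat_lit 4), (nat_lit 4), (nat_lit 4), (nat_lit 4)], (nat_lit 2), (nat_lit 0), (nat_lit 0), (nat_lit 3)⟩) (BT.leaf ⟨[(nat_lit 2), (nat_lit 4), (nat_lit 2), (nat_lit 4), (nat_lit 1)], (nat_lit 18), (nat_lit 1), (nat_lit 0), (nat_lit 3)⟩))) (BT.node (nat_lit 17) (BT.leaf ⟨[(nat_lit 1), (nat_lit 2), (nat_lit 4), (nat_lit 2), (nat_lit 4)], (nat_lit 18), (nat_lit 0), (nat_lit 0), (nat_lit 3)⟩) (BT.node (nat_lit 18) (BT.leaf ⟨[(nat_lit 2), (nat_lit 1), (nat_lit 4), (nat_lit 2), (nat_lit 5), (nat_lit 1)], (nat_lit 4), (nat_lit 4), (nat_lit 0), (nat_lit 3)⟩) (BT.leaf ⟨[(nat_lit 5), (nat_lit 1), (nat_lit 3), (nat_lit 1), (nat_lit 4), (nat_lit 3)], (nat_lit 19), (nat_lit 5), (nat_lit 0), (nat_lit 3)⟩)))) (BT.node (nat_lit 22) (BT.node (nat_lit 20) (BT.leaf ⟨[(nat_lit 4), (nat_lit 1), (nat_lit 4), (nat_lit 2), (nat_lit 2), (nat_lit 1)], (nat_lit 5), (nat_lit 0), (nat_lit 0), (nat_lit 3)⟩) (BT.node (nat_lit 21) (BT.leaf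 ⟨[(nat_lit 5), (nat_lit 5), (nat_lit 5), (nat_lit 5)], (nat_lit 17), (nat_lit 0), (nat_lit 0), (nat_lit 3)⟩) (BT.leaf ⟨[(nat_lit 1), (nat_lit 5), (nat_lit 3), (nat_lit 5), (nat_lit 3)], (nat_lit 3), (nat_lit 4), (nat_lit 0), (nat_lit 3)⟩))) (BT.node (nat_lit 24) (BT.node (nat_lit 23) (BT.leaf ⟨[(nat_lit 3), (nat_lit 5), (nat_lit 3), (nat_lit 1), (nat_lit 5)], (nat_lit 3), (nat_lit 1), (nat_lit 0), (nat_lit 3)⟩) (BT.leaf ⟨[(nat_lit 4), (nat_lit 2), (nat_lit 4), (nat_lit 1), (nat_lit 2)], (nat_lit 18), (nat_lit 2), (nat_lit 0), (nat_lit 3)⟩)) (BT.node (nat_lit 25) (BT.leaf ⟨[(nat_lit 6), (nat_lit 4), (nat_lit 4), (nat_lit 2), (nat_lit 6), (nat_lit 3), (nat_lit 4), (nat_lit 3)], (nat_lit 8), (nat_lit 4), (nat_lit 0), (nat_lit 3)⟩) (BT.leaf ⟨[(nat_lit 6), (nat_lit 3), (nat_lit 4), (nat_lit 3), (nat_lit 6), (nat_lit 4), (nat_lit 4), (nat_lit 2)], (nat_lit 8), (nat_lit 0), (nat_lit 0), (nat_lit 3)⟩))))))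
noncomputable def eM12_1_hcs : List CW := [⟨[(nat_lit 4)], (nat_lit 0), (nat_lit 0), (nat_lit 0), (nat_lit 0)⟩, ⟨[(nat_lit 2)], (nat_lit 1), (nat_lit 0), (nat_lit 0), (nat_lit 0)⟩, ⟨[(nat_lit 1)], (nat_lit 2), (nat_lit 0), (nat_lit 0), (nat_lit 0)⟩, ⟨[(nat_lit 5)], (nat_lit 3), (nat_lit 0), (nat_lit 0), (nat_lit 0)⟩, ⟨[(nat_lit 3)], (nat_lit 4), (nat_lit 0), (nat_lit 0), (nat_lit 0)⟩, ⟨[(nat_lit 1)], (nat_lit 5), (nat_lit 0), (nat_lit 0), (nat_lit 0)⟩]
noncomputable def eM12_1_H (x j : Nat) : Bx (Nat → Nat → Nat) := mkH eM12_1_L eM12_1_pb.1 eM12_1_e.get (lmap CW.w eM12_1_hcs) (nat_lit 10) (nat_lit 11) (nat_lit 7) (nat_lit 16) (nat_lit 512) (nat_lit 1023) x (eM12_1_rots.get j)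
noncomputable def eM12_1_F (x b : Nat) : Bool := blkOK eM12_1_H eM12_1_ch (nat_lit 11) (nat_lit 16) (nat_lit 32) (nat_lit 8) (nat_lit 255) (nat_lit 13) (nat_lit 8191) x b

theorem eM12_1_k0_0 : allFrom (eM12_1_F (nat_lit 0)) (nat_lit 0) (nat_lit 4) = true := by decide +kernel
theorem eM12_1_k1_0 : allFrom (eM12_1_F (nat_lit 1)) (nat_lit 0) (nat_lit 4) = true := by decide +kernel
theorem eM12_1_k2_0 : allFrom (eM12_1_F (nat_lit 2)) (nat_lit 0) (nat_lit 4) = true := by decide +kernel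
theorem eM12_1_k3_0 : allFrom (eM12_1_F (nat_lit 3)) (nat_lit 0) (nat_lit 4) = true := by decide +kernel
theorem eM12_1_k4_0 : allFrom (eM12_1_F (nat_lit 4)) (nat_lit 0) (nat_lit 4) = true := by decide +kernel
theorem eM12_1_k5_0 : allFrom (eM12_1_F (nat_lit 5)) (nat_lit 0) (nat_lit 4) = true := by decide +kernel
theorem eM12_1_k6_0 : allFrom (eM12_1_F (nat_lit 6)) (nat_lit 0) (nat_lit 4) = true := by decide +kernel

noncomputable def eM12_2_c0 : BT (Bx Nat) := (BT.leaf (Bx.mk (nat_lit 0x0)))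
noncomputable def eM12_2_c1 : BT (Bx Nat) := (BT.leaf (Bx.mk (nat_lit 0x4acf31548b4b12640b6b16280d351498a5404e8188000)))
noncomputable def eM12_2_c2 : BT (Bx Nat) := (BT.leaf (Bx.mk (nat_lit 0x48ee51e8c3ca87b91a681d66392476a03140528188000)))
noncomputable def eM12_2_c3 : BT (Bx Nat) := (BT.leaf (Bx.mk (nat_lit 0x5a706668ef4cc635296a5d12a34c6288cf40566308000)))
noncomputable def eM12_2_c4 : BT (Bx Nat) := (BT.leaf (Bx.mk (nat_lit 0x992a626084ca09b99251250e4d40977a07405a8188000)))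
noncomputable def eM12_2_c5 : BT (Bx Nat) := (BT.leaf (Bx.mk (nat_lit 0x4ab08614b149cfa89e9320a80dc8e67107405e6408000)))
noncomputable def eM12_2_c6 : BT (Bx Nat) := (BT.leaf (Bx.mk (nat_lit 0x1bae56a265210aa115686d4e5350191b8722ca8188000)))
noncomputable def eM12_2_c7 : BT (Bx Nat) := (BT.leaf (Bx.mk (nat_lit 0x890611c90c8a1b3bf4581482315f4918731068090000)))
noncomputable def eM12_2_p : BT (Bx Nat) := (BT.leaf (Bx.mk (nat_lit 0xd45d41d06cc2885884883882881447000000)))
noncomputable def eM12_2_e0 : BT Nat := (BT.node (nat_lit 68) (BT.node (nat_lit 66) (BT.leaf (nat_lit 786434)) (BT.leaf (nat_lit 524290))) (BT.node (nat_lit 70) (BT.leaf (nat_lit 262146)) (BT.leaf (nat_lit 2))))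
noncomputable def eM12_2_e : BT Nat := eM12_2_e0
noncomputable def eM12_2_cols : List (BT (Bx Nat)) := [eM12_2_c0, eM12_2_c1, eM12_2_c2, eM12_2_c3, eM12_2_c4, eM12_2_c5, eM12_2_c6, eM12_2_c7]
noncomputable def eM12_2_ch (x j : Nat) : Bx Nat := chunkG eM12_2_cols (nat_lit 1) x j
noncomputable def eM12_2_L (x : Nat) : Bx (Nat → Nat) := lookG eM12_2_ch (nat_lit 8) (nat_lit 255) (nat_lit 15) (nat_lit 32767) x
noncomputable def eM12_2_pc (_ j : Nat) : Bx Nat := eM12_2_p.get j
noncomputable def eM12_2_pb : Bx (Nat → Nat) := lookG eM12_2_pc (nat_lit 8) (nat_lit 255) (nat_lit 12) (nat_lit 4095) (nat_lit 0)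
noncomputable def eM12_2_rots : BT CW := (BT.node (nat_lit 17) (BT.node (nat_lit 8) (BT.node (nat_lit 4) (BT.node (nat_lit 2) (BT.node (nat_lit 1) (BT.leaf ⟨[], (nat_lit 1000000), (nat_lit 0), (nat_lit 0), (nat_lit 0)⟩) (BT.leaf ⟨[], (nat_lit 1000000), (nat_lit 0), (nat_lit 0), (nat_lit 1)⟩)) (BT.node (nat_lit 3) (BT.leaf ⟨[], (nat_lit 1000000), (nat_lit 0), (nat_lit 0), (nat_lit 2)⟩) (BT.leaf ⟨[(nat_lit 7), (nat_lit 7)], (nat_lit 9), (nat_lit 0), (nat_lit 0), (nat_lit 3)⟩))) (BT.node (nat_lit 6) (BT.node (nat_lit 5) (BT.leaf ⟨[(nat_lit 1), (nat_lit 1)], (nat_lit 0), (nat_lit 0), (nat_lit 0), (nat_lit 3)⟩) (BT.leaf ⟨[(nat_lit 3), (nat_lit 2)], (nat_lit 17), (nat_lit 1), (nat_lit 0), (nat_lit 3)⟩)) (BT.node (nat_lit 7) (BT.leaf ⟨[(nat_lit 2), (nat_lit 3)], (nat_lit 17), (nat_lit 0), (nat_lit 0), (nat_lit 3)⟩) (BT.leaf ⟨[(nat_lit 5), (nat_lit 4)], (nat_lit 16), (nat_lit 1), (nat_lit 0), (nat_lit 3)⟩)))) (BT.node (nat_lit 12) (BT.node (nat_lit 10)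 (BT.node (nat_lit 9) (BT.leaf ⟨[(nat_lit 4), (nat_lit 5)], (nat_lit 16), (nat_lit 0), (nat_lit 0), (nat_lit 3)⟩) (BT.leaf ⟨[(nat_lit 6), (nat_lit 6)], (nat_lit 6), (nat_lit 0), (nat_lit 0), (nat_lit 3)⟩)) (BT.node (nat_lit 11) (BT.leaf ⟨[(nat_lit 6), (nat_lit 7), (nat_lit 6), (nat_lit 7)], (nat_lit 10), (nat_lit 1), (nat_lit 0), (nat_lit 3)⟩) (BT.leaf ⟨[(nat_lit 7), (nat_lit 1), (nat_lit 7), (nat_lit 1), (nat_lit 7), (nat_lit 1)], (nat_lit 11), (nat_lit 0), (nat_lit 0), (nat_lit 3)⟩))) (BT.node (nat_lit 14) (BT.node (nat_lit 13) (BT.leaf ⟨[(nat_lit 2), (nat_lit 1), (nat_lit 7), (nat_lit 4), (nat_lit 4), (nat_lit 3), (nat_lit 7), (nat_lit 5)], (nat_lit 12), (nat_lit 6), (nat_lit 0), (nat_lit 3)⟩) (BT.leaf ⟨[(nat_lit 5), (nat_lit 5), (nat_lit 7), (nat_lit 1), (nat_lit 3), (nat_lit 4), (nat_lit 7), (nat_lit 2)], (nat_lit 31), (nat_lit 5), (nat_lit 0), (nat_lit 3)⟩)) (BT.node (nat_lit 15) (BT.leaf ⟨[(nat_lit 5), (nat_lit 5), (nat_lit 5), (nat_lit 5)],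 (nat_lit 21), (nat_lit 0), (nat_lit 0), (nat_lit 3)⟩) (BT.node (nat_lit 16) (BT.leaf ⟨[(nat_lit 4), (nat_lit 1), (nat_lit 2), (nat_lit 4), (nat_lit 2)], (nat_lit 22), (nat_lit 4), (nat_lit 0), (nat_lit 3)⟩) (BT.leaf ⟨[(nat_lit 1), (nat_lit 4), (nat_lit 2), (nat_lit 5), (nat_lit 1), (nat_lit 2)], (nat_lit 4), (nat_lit 5), (nat_lit 0), (nat_lit 3)⟩)))))) (BT.node (nat_lit 25) (BT.node (nat_lit 21) (BT.node (nat_lit 19) (BT.node (nat_lit 18) (BT.leaf ⟨[(nat_lit 1), (nat_lit 4), (nat_lit 1), (nat_lit 4), (nat_lit 2), (nat_lit 2)], (nat_lit 5), (nat_lit 5), (nat_lit 0), (nat_lit 3)⟩) (BT.leaf ⟨[(nat_lit 3), (nat_lit 1), (nat_lit 5), (nat_lit 3), (nat_lit 5)], (nat_lit 3), (nat_lit 3), (nat_lit 0), (nat_lit 3)⟩)) (BT.node (nat_lit 20) (BT.leaf ⟨[(nat_lit 3), (nat_lit 3), (nat_lit 3), (nat_lit 3)], (nat_lit 20), (nat_lit 0), (nat_lit 0), (nat_lit 3)⟩) (BT.leaf ⟨[(nat_lit 5), (nat_lit 3), (nat_lit 1), (nat_lit 5), (nat_lit 3)], (nat_lit 3), (nat_lit 2),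 (nat_lit 0), (nat_lit 3)⟩))) (BT.node (nat_lit 23) (BT.node (nat_lit 22) (BT.leaf ⟨[(nat_lit 1), (nat_lit 5), (nat_lit 3), (nat_lit 5), (nat_lit 3)], (nat_lit 3), (nat_lit 4), (nat_lit 0), (nat_lit 3)⟩) (BT.leaf ⟨[(nat_lit 3), (nat_lit 5), (nat_lit 1), (nat_lit 3), (nat_lit 1), (nat_lit 4)], (nat_lit 23), (nat_lit 4), (nat_lit 0), (nat_lit 3)⟩)) (BT.node (nat_lit 24) (BT.leaf ⟨[(nat_lit 5), (nat_lit 3), (nat_lit 5), (nat_lit 3), (nat_lit 1)], (nat_lit 3), (nat_lit 0), (nat_lit 0), (nat_lit 3)⟩) (BT.leaf ⟨[(nat_lit 3), (nat_lit 5), (nat_lit 3), (nat_lit 1), (nat_lit 5)], (nat_lit 3), (nat_lit 1), (nat_lit 0), (nat_lit 3)⟩)))) (BT.node (nat_lit 29) (BT.node (nat_lit 27) (BT.node (nat_lit 26) (BT.leaf ⟨[(nat_lit 6), (nat_lit 4), (nat_lit 4), (nat_lit 2), (nat_lit 6), (nat_lit 3), (nat_lit 4), (nat_lit 3)], (nat_lit 8), (nat_lit 4), (nat_lit 0), (nat_lit 3)⟩) (BT.leaf ⟨[(nat_lit 6), (nat_lit 3), (nat_lit 4), (nat_lit 3), (nat_lit 6), (nat_lit 4), (nat_lit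 4), (nat_lit 2)], (nat_lit 8), (nat_lit 0), (nat_lit 0), (nat_lit 3)⟩)) (BT.node (nat_lit 28) (BT.leaf ⟨[(nat_lit 6), (nat_lit 2), (nat_lit 6), (nat_lit 2), (nat_lit 2), (nat_lit 6), (nat_lit 3)], (nat_lit 7), (nat_lit 2), (nat_lit 0), (nat_lit 3)⟩) (BT.leaf ⟨[(nat_lit 6), (nat_lit 2), (nat_lit 2), (nat_lit 6), (nat_lit 3), (nat_lit 6), (nat_lit 2)], (nat_lit 7), (nat_lit 4), (nat_lit 0), (nat_lit 3)⟩))) (BT.node (nat_lit 31) (BT.node (nat_lit 30) (BT.leaf ⟨[(nat_lit 3), (nat_lit 6), (nat_lit 2), (nat_lit 6), (nat_lit 2), (nat_lit 2), (nat_lit 6)], (nat_lit 7), (nat_lit 1), (nat_lit 0), (nat_lit 3)⟩) (BT.leaf ⟨[(nat_lit 7), (nat_lit 5), (nat_lit 2), (nat_lit 1), (nat_lit 7), (nat_lit 4), (nat_lit 4), (nat_lit 3)], (nat_lit 12), (nat_lit 4), (nat_lit 0), (nat_lit 3)⟩)) (BT.node (nat_lit 32) (BT.leaf ⟨[(nat_lit 7), (nat_lit 4), (nat_lit 4), (nat_lit 3), (nat_lit 7), (nat_lit 5), (nat_lit 2), (nat_lit 1)], (nat_lit 12), (nat_lit 0), (nat_lit 0), (nat_lit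 3)⟩) (BT.node (nat_lit 33) (BT.leaf ⟨[(nat_lit 7), (nat_lit 6), (nat_lit 7), (nat_lit 6)], (nat_lit 10), (nat_lit 0), (nat_lit 0), (nat_lit 3)⟩) (BT.leaf ⟨[(nat_lit 5), (nat_lit 2), (nat_lit 6), (nat_lit 3), (nat_lit 5), (nat_lit 5), (nat_lit 6), (nat_lit 2)], (nat_lit 27), (nat_lit 5), (nat_lit 0), (nat_lit 3)⟩)))))))
noncomputable def eM12_2_hcs : List CW := [⟨[(nat_lit 6)], (nat_lit 0), (nat_lit 0), (nat_lit 0), (nat_lit 0)⟩, ⟨[(nat_lit 4)], (nat_lit 1), (nat_lit 0), (nat_lit 0), (nat_lit 0)⟩, ⟨[(nat_lit 2)], (nat_lit 2), (nat_lit 0), (nat_lit 0), (nat_lit 0)⟩, ⟨[(nat_lit 1)], (nat_lit 3), (nat_lit 0), (nat_lit 0), (nat_lit 0)⟩, ⟨[(nat_lit 6)], (nat_lit 4), (nat_lit 0), (nat_lit 0), (nat_lit 0)⟩, ⟨[(nat_lit 5)], (nat_lit 5), (nat_lit 0), (nat_lit 0), (nat_lit 0)⟩, ⟨[(nat_lit 3)], (nat_lit 6), (nat_lit 0), (nat_lit 0), (nat_lit 0)⟩, ⟨[(nat_lit 1)], (nat_lit 7), (nat_lit 0), (nat_lit 0), (nat_lit 0)⟩]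
noncomputable def eM12_2_H (x j : Nat) : Bx (Nat → Nat → Nat) := mkH eM12_2_L eM12_2_pb.1 eM12_2_e.get (lmap CW.w eM12_2_hcs) (nat_lit 11) (nat_lit 12) (nat_lit 8) (nat_lit 16) (nat_lit 1024) (nat_lit 1023) x (eM12_2_rots.get j)
noncomputable def eM12_2_F (x b : Nat) : Bool := blkOK eM12_2_H eM12_2_ch (nat_lit 12) (nat_lit 16) (nat_lit 64) (nat_lit 8) (nat_lit 255) (nat_lit 15) (nat_lit 32767) x b

theorem eM12_2_k0_0 : allFrom (eM12_2_F (nat_lit 0)) (nat_lit 0) (nat_lit 4) = true := by decide +kernel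
theorem eM12_2_k1_0 : allFrom (eM12_2_F (nat_lit 1)) (nat_lit 0) (nat_lit 4) = true := by decide +kernel
theorem eM12_2_k2_0 : allFrom (eM12_2_F (nat_lit 2)) (nat_lit 0) (nat_lit 4) = true := by decide +kernel
theorem eM12_2_k3_0 : allFrom (eM12_2_F (nat_lit 3)) (nat_lit 0) (nat_lit 4) = true := by decide +kernel
theorem eM12_2_k4_0 : allFrom (eM12_2_F (nat_lit 4)) (nat_lit 0) (nat_lit 4) = true := by decide +kernel
theorem eM12_2_k5_0 : allFrom (eM12_2_F (nat_lit 5)) (nat_lit 0) (nat_lit 4) = true := by decide +kernel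
theorem eM12_2_k6_0 : allFrom (eM12_2_F (nat_lit 6)) (nat_lit 0) (nat_lit 4) = true := by decide +kernel
theorem eM12_2_k7_0 : allFrom (eM12_2_F (nat_lit 7)) (nat_lit 0) (nat_lit 4) = true := by decide +kernel

noncomputable def eM12_3_c0 : BT (Bx Nat) := (BT.leaf (Bx.mk (nat_lit 0x0)))
noncomputable def eM12_3_c1 : BT (Bx Nat) := (BT.leaf (Bx.mk (nat_lit 0x2898792a3aa9e4a2e5c7926b45a00dc019802ed44a0188000)))
noncomputable def eM12_3_c2 : BT (Bx Nat) := (BT.leaf (Bx.mk (nat_lit 0xc6c58ca4ae989bb8b44176b1992b4bc628031004e0188000)))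
noncomputable def eM12_3_c3 : BT (Bx Nat) := (BT.leaf (Bx.mk (nat_lit 0x127c38ae316902abc5358b2c619895b45878a50051e288000)))
noncomputable def eM12_3_c4 : BT (Bx Nat) := (BT.leaf (Bx.mk (nat_lit 0x10e73ab013a9674a4ec52b6e5d987234e369c500560188000)))
noncomputable def eM12_3_c5 : BT (Bx Nat) := (BT.leaf (Bx.mk (nat_lit 0x2a6848ee2b298a4987b2a18d1d9e39350571a8e3cde388000)))
noncomputable def eM12_3_c6 : BT (Bx Nat) := (BT.leaf (Bx.mk (nat_lit 0x21b7490aa6e8ee4a8833918f2094edada45b31005a0188000)))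
noncomputable def eM12_3_c7 : BT (Bx Nat) := (BT.leaf (Bx.mk (nat_lit 0x3ca5414ef29094cae434d16d8da00e401a5150e88a0188000)))
noncomputable def eM12_3_c8 : BT (Bx Nat) := (BT.leaf (Bx.mk (nat_lit 0xc4538903b68f0ca1eb2886e3188661df4340ef1060090000)))
noncomputable def eM12_3_p : BT (Bx Nat) := (BT.leaf (Bx.mk (nat_lit 0xd47d41d07d01cc2cc1886884883882448000000)))
noncomputable def eM12_3_e0 : BT Nat := (BT.node (nat_lit 68) (BT.node (nat_lit 66) (BT.leaf (nat_lit 1048578)) (BT.leaf (nat_lit 786434))) (BT.node (nat_lit 70) (BT.leaf (nat_lit 524290)) (BT.node (nat_lit 71) (BT.leaf (nat_lit 262146)) (BT.leaf (nat_lit 2)))))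
noncomputable def eM12_3_e : BT Nat := eM12_3_e0
noncomputable def eM12_3_cols : List (BT (Bx Nat)) := [eM12_3_c0, eM12_3_c1, eM12_3_c2, eM12_3_c3, eM12_3_c4, eM12_3_c5, eM12_3_c6, eM12_3_c7, eM12_3_c8]
noncomputable def eM12_3_ch (x j : Nat) : Bx Nat := chunkG eM12_3_cols (nat_lit 1) x j
noncomputable def eM12_3_L (x : Nat) : Bx (Nat → Nat) := lookG eM12_3_ch (nat_lit 8) (nat_lit 255) (nat_lit 15) (nat_lit 32767) x
noncomputable def eM12_3_pc (_ j : Nat) : Bx Nat := eM12_3_p.get j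
noncomputable def eM12_3_pb : Bx (Nat → Nat) := lookG eM12_3_pc (nat_lit 8) (nat_lit 255) (nat_lit 12) (nat_lit 4095) (nat_lit 0)
noncomputable def eM12_3_rots : BT CW := (BT.node (nat_lit 22) (BT.node (nat_lit 11) (BT.node (nat_lit 5) (BT.node (nat_lit 2) (BT.node (nat_lit 1) (BT.leaf ⟨[], (nat_lit 1000000), (nat_lit 0), (nat_lit 0), (nat_lit 0)⟩) (BT.leaf ⟨[], (nat_lit 1000000), (nat_lit 0), (nat_lit 0), (nat_lit 1)⟩)) (BT.node (nat_lit 3) (BT.leaf ⟨[], (nat_lit 1000000), (nat_lit 0), (nat_lit 0), (nat_lit 2)⟩) (BT.node (nat_lit 4) (BT.leaf ⟨[(nat_lit 8), (nat_lit 8)], (nat_lit 13), (nat_lit 0), (nat_lit 0), (nat_lit 3)⟩) (BT.leaf ⟨[(nat_lit 3), (nat_lit 2)], (nat_lit 22), (nat_lit 1), (nat_lit 0), (nat_lit 3)⟩)))) (BT.node (nat_lit 8) (BT.node (nat_lit 6) (BT.leaf ⟨[(nat_lit 2), (nat_lit 3)], (nat_lit 22), (nat_lit 0), (nat_lit 0), (nat_lit 3)⟩) (BT.node (nat_lit 7) (BT.leaf ⟨[(nat_lit 5), (nat_lit 4)], (nat_lit 21), (nat_lit 1), (nat_lit 0),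 (nat_lit 3)⟩) (BT.leaf ⟨[(nat_lit 6), (nat_lit 6)], (nat_lit 6), (nat_lit 0), (nat_lit 0), (nat_lit 3)⟩))) (BT.node (nat_lit 9) (BT.leaf ⟨[(nat_lit 1), (nat_lit 1)], (nat_lit 0), (nat_lit 0), (nat_lit 0), (nat_lit 3)⟩) (BT.node (nat_lit 10) (BT.leaf ⟨[(nat_lit 7), (nat_lit 7)], (nat_lit 9), (nat_lit 0), (nat_lit 0), (nat_lit 3)⟩) (BT.leaf ⟨[(nat_lit 2), (nat_lit 2), (nat_lit 2), (nat_lit 2)], (nat_lit 1), (nat_lit 0), (nat_lit 0), (nat_lit 3)⟩))))) (BT.node (nat_lit 16) (BT.node (nat_lit 13) (BT.node (nat_lit 12) (BT.leaf ⟨[(nat_lit 8), (nat_lit 6), (nat_lit 8), (nat_lit 6), (nat_lit 8), (nat_lit 6)], (nat_lit 14), (nat_lit 0), (nat_lit 0), (nat_lit 3)⟩) (BT.leaf ⟨[(nat_lit 5), (nat_lit 2), (nat_lit 8), (nat_lit 2), (nat_lit 4), (nat_lit 8), (nat_lit 2)], (nat_lit 15), (nat_lit 5), (nat_lit 0), (nat_lit 3)⟩)) (BT.node (nat_lit 14) (BT.leaf ⟨[(nat_lit 4), (nat_lit 5)], (nat_lit 21), (nat_lit 0), (nat_lit 0), (nat_lit 3)⟩) (BT.node (nat_lit 15) (BT.leaf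 ⟨[(nat_lit 5), (nat_lit 3), (nat_lit 8), (nat_lit 3), (nat_lit 4), (nat_lit 3), (nat_lit 8)], (nat_lit 39), (nat_lit 4), (nat_lit 0), (nat_lit 3)⟩) (BT.leaf ⟨[(nat_lit 5), (nat_lit 5), (nat_lit 5), (nat_lit 5)], (nat_lit 26), (nat_lit 0), (nat_lit 0), (nat_lit 3)⟩)))) (BT.node (nat_lit 19) (BT.node (nat_lit 17) (BT.leaf ⟨[(nat_lit 1), (nat_lit 5), (nat_lit 3), (nat_lit 5), (nat_lit 3)], (nat_lit 3), (nat_lit 4), (nat_lit 0), (nat_lit 3)⟩) (BT.node (nat_lit 18) (BT.leaf ⟨[(nat_lit 3), (nat_lit 1), (nat_lit 5), (nat_lit 3), (nat_lit 5)], (nat_lit 3), (nat_lit 3), (nat_lit 0), (nat_lit 3)⟩) (BT.leaf ⟨[(nat_lit 2), (nat_lit 1), (nat_lit 4), (nat_lit 2), (nat_lit 5), (nat_lit 1)], (nat_lit 4), (nat_lit 4), (nat_lit 0), (nat_lit 3)⟩))) (BT.node (nat_lit 20) (BT.leaf ⟨[(nat_lit 5), (nat_lit 1), (nat_lit 3), (nat_lit 3), (nat_lit 5), (nat_lit 1)], (nat_lit 29), (nat_lit 5), (nat_lit 0), (nat_lit 3)⟩) (BT.node (nat_lit 21) (BT.leaf ⟨[(nat_lit 4), (nat_lit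 2), (nat_lit 4), (nat_lit 1), (nat_lit 2)], (nat_lit 27), (nat_lit 2), (nat_lit 0), (nat_lit 3)⟩) (BT.leaf ⟨[(nat_lit 2), (nat_lit 4), (nat_lit 2), (nat_lit 4), (nat_lit 1)], (nat_lit 27), (nat_lit 1), (nat_lit 0), (nat_lit 3)⟩)))))) (BT.node (nat_lit 33) (BT.node (nat_lit 27) (BT.node (nat_lit 24) (BT.node (nat_lit 23) (BT.leaf ⟨[(nat_lit 4), (nat_lit 6), (nat_lit 8), (nat_lit 6), (nat_lit 4), (nat_lit 6), (nat_lit 8), (nat_lit 6)], (nat_lit 16), (nat_lit 3), (nat_lit 0), (nat_lit 3)⟩) (BT.leaf ⟨[(nat_lit 3), (nat_lit 5), (nat_lit 5), (nat_lit 6), (nat_lit 2), (nat_lit 5), (nat_lit 2), (nat_lit 6)], (nat_lit 32), (nat_lit 0), (nat_lit 0), (nat_lit 3)⟩)) (BT.node (nat_lit 25) (BT.leaf ⟨[(nat_lit 6), (nat_lit 2), (nat_lit 2), (nat_lit 6), (nat_lit 3), (nat_lit 6), (nat_lit 2)], (nat_lit 7), (nat_lit 4), (nat_lit 0), (nat_lit 3)⟩) (BT.node (nat_lit 26) (BT.leaf ⟨[(nat_lit 6), (nat_lit 2), (nat_lit 6), (nat_lit 3), (nat_lit 3), (nat_lit 6), (nat_lit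 3)], (nat_lit 31), (nat_lit 4), (nat_lit 0), (nat_lit 3)⟩) (BT.leaf ⟨[(nat_lit 6), (nat_lit 7), (nat_lit 6), (nat_lit 7)], (nat_lit 10), (nat_lit 1), (nat_lit 0), (nat_lit 3)⟩)))) (BT.node (nat_lit 30) (BT.node (nat_lit 28) (BT.leaf ⟨[(nat_lit 6), (nat_lit 3), (nat_lit 5), (nat_lit 5), (nat_lit 6), (nat_lit 2), (nat_lit 5), (nat_lit 2)], (nat_lit 32), (nat_lit 7), (nat_lit 0), (nat_lit 3)⟩) (BT.node (nat_lit 29) (BT.leaf ⟨[(nat_lit 6), (nat_lit 2), (nat_lit 5), (nat_lit 2), (nat_lit 6), (nat_lit 3), (nat_lit 5), (nat_lit 5)], (nat_lit 32), (nat_lit 3), (nat_lit 0), (nat_lit 3)⟩) (BT.leaf ⟨[(nat_lit 8), (nat_lit 6), (nat_lit 5), (nat_lit 6), (nat_lit 8), (nat_lit 6), (nat_lit 5), (nat_lit 6)], (nat_lit 40), (nat_lit 2), (nat_lit 0), (nat_lit 3)⟩))) (BT.node (nat_lit 31) (BT.leaf ⟨[(nat_lit 8), (nat_lit 2), (nat_lit 5), (nat_lit 2), (nat_lit 8), (nat_lit 2), (nat_lit 4)], (nat_lit 15), (nat_lit 3), (nat_lit 0), (nat_lit 3)⟩) (BT.node (nat_lit 32)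 (BT.leaf ⟨[(nat_lit 8), (nat_lit 2), (nat_lit 4), (nat_lit 8), (nat_lit 2), (nat_lit 5), (nat_lit 2)], (nat_lit 15), (nat_lit 0), (nat_lit 0), (nat_lit 3)⟩) (BT.leaf ⟨[(nat_lit 8), (nat_lit 3), (nat_lit 4), (nat_lit 3), (nat_lit 8), (nat_lit 5), (nat_lit 3)], (nat_lit 39), (nat_lit 6), (nat_lit 0), (nat_lit 3)⟩))))) (BT.node (nat_lit 39) (BT.node (nat_lit 36) (BT.node (nat_lit 34) (BT.leaf ⟨[(nat_lit 7), (nat_lit 8), (nat_lit 2), (nat_lit 7), (nat_lit 3), (nat_lit 7), (nat_lit 2), (nat_lit 2), (nat_lit 8)], (nat_lit 17), (nat_lit 1), (nat_lit 0), (nat_lit 3)⟩) (BT.node (nat_lit 35) (BT.leaf ⟨[(nat_lit 7), (nat_lit 6), (nat_lit 7), (nat_lit 6)], (nat_lit 10), (nat_lit 0), (nat_lit 0), (nat_lit 3)⟩) (BT.leaf ⟨[(nat_lit 7), (nat_lit 5), (nat_lit 2), (nat_lit 1), (nat_lit 7), (nat_lit 4), (nat_lit 4), (nat_lit 3)], (nat_lit 12), (nat_lit 4), (nat_lit 0), (nat_lit 3)⟩))) (BT.node (nat_lit 37) (BT.leaf ⟨[(nat_lit 1), (nat_lit 7), (nat_lit 4), (nat_lit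 4), (nat_lit 3), (nat_lit 7), (nat_lit 5), (nat_lit 2)], (nat_lit 12), (nat_lit 7), (nat_lit 0), (nat_lit 3)⟩) (BT.node (nat_lit 38) (BT.leaf ⟨[(nat_lit 5), (nat_lit 3), (nat_lit 5), (nat_lit 3), (nat_lit 1)], (nat_lit 3), (nat_lit 0), (nat_lit 0), (nat_lit 3)⟩) (BT.leaf ⟨[(nat_lit 3), (nat_lit 5), (nat_lit 3), (nat_lit 1), (nat_lit 5)], (nat_lit 3), (nat_lit 1), (nat_lit 0), (nat_lit 3)⟩)))) (BT.node (nat_lit 42) (BT.node (nat_lit 40) (BT.leaf ⟨[(nat_lit 7), (nat_lit 1), (nat_lit 7), (nat_lit 1), (nat_lit 7), (nat_lit 1)], (nat_lit 11), (nat_lit 0), (nat_lit 0), (nat_lit 3)⟩) (BT.node (nat_lit 41) (BT.leaf ⟨[(nat_lit 7), (nat_lit 2), (nat_lit 5), (nat_lit 5), (nat_lit 7), (nat_lit 1), (nat_lit 3), (nat_lit 4)], (nat_lit 36), (nat_lit 3), (nat_lit 0), (nat_lit 3)⟩) (BT.leaf ⟨[(nat_lit 1), (nat_lit 7), (nat_lit 1), (nat_lit 7), (nat_lit 1), (nat_lit 7)], (nat_lit 11), (nat_lit 1), (nat_lit 0), (nat_lit 3)⟩))) (BT.node (nat_lit 43) (BT.leaf ⟨[(nat_lit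 2), (nat_lit 7), (nat_lit 3), (nat_lit 8), (nat_lit 7), (nat_lit 8), (nat_lit 3), (nat_lit 3), (nat_lit 7)], (nat_lit 41), (nat_lit 3), (nat_lit 0), (nat_lit 3)⟩) (BT.node (nat_lit 44) (BT.leaf ⟨[(nat_lit 5), (nat_lit 2), (nat_lit 1), (nat_lit 7), (nat_lit 4), (nat_lit 4), (nat_lit 3), (nat_lit 7)], (nat_lit 12), (nat_lit 5), (nat_lit 0), (nat_lit 3)⟩) (BT.leaf ⟨[(nat_lit 8), (nat_lit 2), (nat_lit 7), (nat_lit 3), (nat_lit 7), (nat_lit 2), (nat_lit 2), (nat_lit 8), (nat_lit 7)], (nat_lit 17), (nat_lit 2), (nat_lit 0), (nat_lit 3)⟩)))))))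
noncomputable def eM12_3_hcs : List CW := [⟨[(nat_lit 7)], (nat_lit 0), (nat_lit 0), (nat_lit 0), (nat_lit 0)⟩, ⟨[(nat_lit 6)], (nat_lit 1), (nat_lit 0), (nat_lit 0), (nat_lit 0)⟩, ⟨[(nat_lit 4)], (nat_lit 2), (nat_lit 0), (nat_lit 0), (nat_lit 0)⟩, ⟨[(nat_lit 2)], (nat_lit 3), (nat_lit 0), (nat_lit 0), (nat_lit 0)⟩, ⟨[(nat_lit 1)], (nat_lit 4), (nat_lit 0), (nat_lit 0), (nat_lit 0)⟩, ⟨[(nat_lit 7)], (nat_lit 5), (nat_lit 0), (nat_lit 0), (nat_lit 0)⟩, ⟨[(nat_lit 6)], (nat_lit 6), (nat_lit 0), (nat_lit 0), (nat_lit 0)⟩, ⟨[(nat_lit 5)], (nat_lit 7), (nat_lit 0), (nat_lit 0), (nat_lit 0)⟩, ⟨[(nat_lit 3)], (nat_lit 8), (nat_lit 0), (nat_lit 0), (nat_lit 0)⟩, ⟨[(nat_lit 1)], (nat_lit 9), (nat_lit 0), (nat_lit 0), (nat_lit 0)⟩]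
noncomputable def eM12_3_H (x j : Nat) : Bx (Nat → Nat → Nat) := mkH eM12_3_L eM12_3_pb.1 eM12_3_e.get (lmap CW.w eM12_3_hcs) (nat_lit 12) (nat_lit 13) (nat_lit 9) (nat_lit 16) (nat_lit 1024) (nat_lit 1023) x (eM12_3_rots.get j)
noncomputable def eM12_3_F (x b : Nat) : Bool := blkOK eM12_3_H eM12_3_ch (nat_lit 13) (nat_lit 16) (nat_lit 64) (nat_lit 8) (nat_lit 255) (nat_lit 15) (nat_lit 32767) x b

theorem eM12_3_k0_0 : allFrom (eM12_3_F (nat_lit 0)) (nat_lit 0) (nat_lit 4) = true := by decide +kernel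
theorem eM12_3_k1_0 : allFrom (eM12_3_F (nat_lit 1)) (nat_lit 0) (nat_lit 4) = true := by decide +kernel
theorem eM12_3_k2_0 : allFrom (eM12_3_F (nat_lit 2)) (nat_lit 0) (nat_lit 4) = true := by decide +kernel
theorem eM12_3_k3_0 : allFrom (eM12_3_F (nat_lit 3)) (nat_lit 0) (nat_lit 4) = true := by decide +kernel
theorem eM12_3_k4_0 : allFrom (eM12_3_F (nat_lit 4)) (nat_lit 0) (nat_lit 4) = true := by decide +kernel
theorem eM12_3_k5_0 : allFrom (eM12_3_F (nat_lit 5)) (nat_lit 0) (nat_lit 4) = true := by decide +kernel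
theorem eM12_3_k6_0 : allFrom (eM12_3_F (nat_lit 6)) (nat_lit 0) (nat_lit 4) = true := by decide +kernel
theorem eM12_3_k7_0 : allFrom (eM12_3_F (nat_lit 7)) (nat_lit 0) (nat_lit 4) = true := by decide +kernel
theorem eM12_3_k8_0 : allFrom (eM12_3_F (nat_lit 8)) (nat_lit 0) (nat_lit 4) = true := by decide +kernel

noncomputable def KM12c2_0 : Net := (Net.cons (nat_lit 1) (nat_lit 16) (Net.cons (nat_lit 2) (nat_lit 816) (Net.cons (nat_lit 4) (nat_lit 3) (Net.cons (nat_lit 8) (nat_lit 11) (Net.cons (nat_lit 4) (nat_lit 7) (Net.cons (nat_lit 2) (nat_lit 816) (Net.cons (nat_lit 1) (nat_lit 16) Net.nil)))))))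
noncomputable def KM12c2_1 : Net := (Net.cons (nat_lit 2) (nat_lit 512) (Net.cons (nat_lit 4) (nat_lit 8) (Net.cons (nat_lit 8) (nat_lit 8) (Net.cons (nat_lit 4) (nat_lit 12) (Net.cons (nat_lit 2) (nat_lit 34) (Net.cons (nat_lit 1) (nat_lit 4) Net.nil))))))
noncomputable def KM12c2_2 : Net := (Net.cons (nat_lit 1) (nat_lit 4) (Net.cons (nat_lit 4) (nat_lit 4) (Net.cons (nat_lit 8) (nat_lit 4) (Net.cons (nat_lit 4) (nat_lit 12) (Net.cons (nat_lit 2) (nat_lit 514) (Net.cons (nat_lit 1) (nat_lit 1024) Net.nil))))))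
noncomputable def KM12c2_3 : Net := (Net.cons (nat_lit 1) (nat_lit 1104) (Net.cons (nat_lit 4) (nat_lit 4) (Net.cons (nat_lit 8) (nat_lit 4) (Net.cons (nat_lit 4) (nat_lit 14) (Net.cons (nat_lit 2) (nat_lit 512) (Net.cons (nat_lit 1) (nat_lit 1104) Net.nil))))))
noncomputable def KM12c2_4 : Net := (Net.cons (nat_lit 1) (nat_lit 256) (Net.cons (nat_lit 2) (nat_lit 512) (Net.cons (nat_lit 4) (nat_lit 8) (Net.cons (nat_lit 8) (nat_lit 12) (Net.cons (nat_lit 4) (nat_lit 4) (Net.cons (nat_lit 2) (nat_lit 256) (Net.cons (nat_lit 1) (nat_lit 1092) Net.nil)))))))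
noncomputable def KM12c2_5 : Net := (Net.cons (nat_lit 2) (nat_lit 544) (Net.cons (nat_lit 4) (nat_lit 6) (Net.cons (nat_lit 8) (nat_lit 14) (Net.cons (nat_lit 4) (nat_lit 6) (Net.cons (nat_lit 2) (nat_lit 544) (Net.cons (nat_lit 1) (nat_lit 1089) Net.nil))))))
noncomputable def KM12c2 : List Net := [KM12c2_0, KM12c2_1, KM12c2_2, KM12c2_3, KM12c2_4, KM12c2_5]
noncomputable def AM12c2 : List Nat := [(nat_lit 0),
  (nat_lit 912),
  (nat_lit 1388),
  (nat_lit 1608),
  (nat_lit 2632),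
  (nat_lit 0),
  full (nat_lit 12)]

noncomputable def BM12c2 : List Nat := [(nat_lit 0),
  (nat_lit 0),
  (nat_lit 0),
  (nat_lit 0),
  (nat_lit 0),
  (nat_lit 0),
  (nat_lit 0)]

noncomputable def NM22_0 : Net := (Net.cons (nat_lit 1) (nat_lit 5243904) (Net.cons (nat_lit 2) (nat_lit 3153920) (Net.cons (nat_lit 4) (nat_lit 722944) (Net.cons (nat_lit 8) (nat_lit 14) (Net.cons (nat_lit 16) (nat_lit 222) (Net.cons (nat_lit 8) (nat_lit 14) (Net.cons (nat_lit 4) (nat_lit 721664) (Net.cons (nat_lit 2) (nat_lit 1049088) (Net.cons (nat_lit 1) (nat_lit 5243904) Net.nil)))))))))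
noncomputable def NM22_1 : Net := (Net.cons (nat_lit 1) (nat_lit 4198464) (Net.cons (nat_lit 2) (nat_lit 1061120) (Net.cons (nat_lit 4) (nat_lit 264704) (Net.cons (nat_lit 8) (nat_lit 14) (Net.cons (nat_lit 16) (nat_lit 238) (Net.cons (nat_lit 8) (nat_lit 158) (Net.cons (nat_lit 4) (nat_lit 396032) (Net.cons (nat_lit 2) (nat_lit 1126400) (Net.cons (nat_lit 1) (nat_lit 5259344) Net.nil)))))))))
noncomputable def NM22_2 : Net := (Net.cons (nat_lit 1) (nat_lit 4276288) (Net.cons (nat_lit 2) (nat_lit 1048576) (Net.cons (nat_lit 8) (nat_lit 32) (Net.cons (nat_lit 16) (nat_lit 160) (Net.cons (nat_lit 8) (nat_lit 32) (Net.cons (nat_lit 4) (nat_lit 263424) (Net.cons (nat_lit 2) (nat_lit 1184528) (Net.cons (nat_lit 1) (nat_lit 4276288) Net.nil))))))))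
noncomputable def NM22_3 : Net := (Net.cons (nat_lit 1) (nat_lit 82944) (Net.cons (nat_lit 2) (nat_lit 2171424) (Net.cons (nat_lit 4) (nat_lit 658432) (Net.cons (nat_lit 8) (nat_lit 12) (Net.cons (nat_lit 16) (nat_lit 252) (Net.cons (nat_lit 8) (nat_lit 132) (Net.cons (nat_lit 4) (nat_lit 132616) (Net.cons (nat_lit 2) (nat_lit 2171424) (Net.cons (nat_lit 1) (nat_lit 1131536) Net.nil)))))))))
noncomputable def NM22_4 : Net := (Net.cons (nat_lit 1) (nat_lit 81920) (Net.cons (nat_lit 2) (nat_lit 1114640) (Net.cons (nat_lit 4) (nat_lit 721408) (Net.cons (nat_lit 8) (nat_lit 131) (Net.cons (nat_lit 16) (nat_lit 199) (Net.cons (nat_lit 8) (nat_lit 179) (Net.cons (nat_lit 4) (nat_lit 984580) (Net.cons (nat_lit 2) (nat_lit 1114640) (Net.cons (nat_lit 1) (nat_lit 81920) Net.nil)))))))))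
noncomputable def NM22_5 : Net := (Net.cons (nat_lit 1) (nat_lit 283648) (Net.cons (nat_lit 2) (nat_lit 2240768) (Net.cons (nat_lit 4) (nat_lit 328704) (Net.cons (nat_lit 8) (nat_lit 4) (Net.cons (nat_lit 16) (nat_lit 214) (Net.cons (nat_lit 8) (nat_lit 72) (Net.cons (nat_lit 4) (nat_lit 66052) (Net.cons (nat_lit 2) (nat_lit 2240768) (Net.cons (nat_lit 1) (nat_lit 283648) Net.nil)))))))))
noncomputable def NM22 : List Net := [NM22_0, NM22_1, NM22_2, NM22_3, NM22_4, NM22_5]

noncomputable def RM22_0 : List (List Nat) := [[(nat_lit 1), (nat_lit 1)],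
  [(nat_lit 3), (nat_lit 3), (nat_lit 3)],
  [(nat_lit 5), (nat_lit 5)],
  [(nat_lit 5), (nat_lit 1), (nat_lit 5), (nat_lit 1)],
  [(nat_lit 3), (nat_lit 1), (nat_lit 3), (nat_lit 1), (nat_lit 3), (nat_lit 1)],
  [(nat_lit 5), (nat_lit 3), (nat_lit 5), (nat_lit 3), (nat_lit 5), (nat_lit 3)],
  [(nat_lit 4), (nat_lit 5), (nat_lit 3), (nat_lit 1), (nat_lit 4), (nat_lit 5), (nat_lit 3), (nat_lit 1)]]

noncomputable def RM22_1 : List (List Nat) := [[(nat_lit 1), (nat_lit 1)],
  [(nat_lit 3), (nat_lit 3), (nat_lit 3)],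
  [(nat_lit 5), (nat_lit 5)],
  [(nat_lit 5), (nat_lit 1), (nat_lit 5), (nat_lit 1)],
  [(nat_lit 3), (nat_lit 1), (nat_lit 3), (nat_lit 1), (nat_lit 3), (nat_lit 1)],
  [(nat_lit 5), (nat_lit 3), (nat_lit 5), (nat_lit 3), (nat_lit 5), (nat_lit 3)],
  [(nat_lit 4), (nat_lit 5), (nat_lit 3), (nat_lit 1), (nat_lit 4), (nat_lit 5), (nat_lit 3), (nat_lit 1)],
  [(nat_lit 7), (nat_lit 7)],
  [(nat_lit 7), (nat_lit 3), (nat_lit 7), (nat_lit 3)],
  [(nat_lit 7), (nat_lit 5), (nat_lit 7), (nat_lit 5), (nat_lit 7), (nat_lit 5)],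
  [(nat_lit 7), (nat_lit 5), (nat_lit 1), (nat_lit 7), (nat_lit 5), (nat_lit 1), (nat_lit 7), (nat_lit 5), (nat_lit 1)],
  [(nat_lit 7), (nat_lit 1), (nat_lit 3), (nat_lit 5), (nat_lit 7), (nat_lit 5), (nat_lit 4), (nat_lit 1), (nat_lit 7), (nat_lit 4), (nat_lit 5), (nat_lit 1), (nat_lit 3), (nat_lit 1)]]

noncomputable def RM22_2 : List (List Nat) := [[(nat_lit 1), (nat_lit 1)],
  [(nat_lit 3), (nat_lit 3), (nat_lit 3)],
  [(nat_lit 5), (nat_lit 5)],
  [(nat_lit 5), (nat_lit 1), (nat_lit 5), (nat_lit 1)],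
  [(nat_lit 3), (nat_lit 1), (nat_lit 3), (nat_lit 1), (nat_lit 3), (nat_lit 1)],
  [(nat_lit 5), (nat_lit 3), (nat_lit 5), (nat_lit 3), (nat_lit 5), (nat_lit 3)],
  [(nat_lit 4), (nat_lit 5), (nat_lit 3), (nat_lit 1), (nat_lit 4), (nat_lit 5), (nat_lit 3), (nat_lit 1)],
  [(nat_lit 7), (nat_lit 7)],
  [(nat_lit 7), (nat_lit 3), (nat_lit 7), (nat_lit 3)],
  [(nat_lit 7), (nat_lit 5), (nat_lit 7), (nat_lit 5), (nat_lit 7), (nat_lit 5)],
  [(nat_lit 7), (nat_lit 5), (nat_lit 1), (nat_lit 7), (nat_lit 5), (nat_lit 1), (nat_lit 7), (nat_lit 5), (nat_lit 1)],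
  [(nat_lit 7), (nat_lit 1), (nat_lit 3), (nat_lit 5), (nat_lit 7), (nat_lit 5), (nat_lit 4), (nat_lit 1), (nat_lit 7), (nat_lit 4), (nat_lit 5), (nat_lit 1), (nat_lit 3), (nat_lit 1)],
  [(nat_lit 9), (nat_lit 9)],
  [(nat_lit 9), (nat_lit 5), (nat_lit 9), (nat_lit 5), (nat_lit 9), (nat_lit 5)],
  [(nat_lit 9), (nat_lit 1), (nat_lit 3), (nat_lit 1), (nat_lit 9), (nat_lit 1), (nat_lit 3), (nat_lit 1)],
  [(nat_lit 7), (nat_lit 9), (nat_lit 5), (nat_lit 7), (nat_lit 5), (nat_lit 9), (nat_lit 7), (nat_lit 1)]]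

noncomputable def relsM22 : List (List Nat) := [[(nat_lit 1), (nat_lit 1)],
  [(nat_lit 3), (nat_lit 3), (nat_lit 3)],
  [(nat_lit 5), (nat_lit 5)],
  [(nat_lit 5), (nat_lit 1), (nat_lit 5), (nat_lit 1)],
  [(nat_lit 3), (nat_lit 1), (nat_lit 3), (nat_lit 1), (nat_lit 3), (nat_lit 1)],
  [(nat_lit 5), (nat_lit 3), (nat_lit 5), (nat_lit 3), (nat_lit 5), (nat_lit 3)],
  [(nat_lit 4), (nat_lit 5), (nat_lit 3), (nat_lit 1), (nat_lit 4), (nat_lit 5), (nat_lit 3), (nat_lit 1)],
  [(nat_lit 7), (nat_lit 7)],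
  [(nat_lit 7), (nat_lit 3), (nat_lit 7), (nat_lit 3)],
  [(nat_lit 7), (nat_lit 5), (nat_lit 7), (nat_lit 5), (nat_lit 7), (nat_lit 5)],
  [(nat_lit 7), (nat_lit 5), (nat_lit 1), (nat_lit 7), (nat_lit 5), (nat_lit 1), (nat_lit 7), (nat_lit 5), (nat_lit 1)],
  [(nat_lit 7), (nat_lit 1), (nat_lit 3), (nat_lit 5), (nat_lit 7), (nat_lit 5), (nat_lit 4), (nat_lit 1), (nat_lit 7), (nat_lit 4), (nat_lit 5), (nat_lit 1), (nat_lit 3), (nat_lit 1)],
  [(nat_lit 9), (nat_lit 9)],
  [(nat_lit 9), (nat_lit 5), (nat_lit 9), (nat_lit 5), (nat_lit 9), (nat_lit 5)],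
  [(nat_lit 9), (nat_lit 1), (nat_lit 3), (nat_lit 1), (nat_lit 9), (nat_lit 1), (nat_lit 3), (nat_lit 1)],
  [(nat_lit 7), (nat_lit 9), (nat_lit 5), (nat_lit 7), (nat_lit 5), (nat_lit 9), (nat_lit 7), (nat_lit 1)],
  [(nat_lit 11), (nat_lit 11)],
  [(nat_lit 7), (nat_lit 1), (nat_lit 3), (nat_lit 11), (nat_lit 1), (nat_lit 7), (nat_lit 1), (nat_lit 11), (nat_lit 7), (nat_lit 1), (nat_lit 3), (nat_lit 1)],
  [(nat_lit 11), (nat_lit 7), (nat_lit 1), (nat_lit 4), (nat_lit 1), (nat_lit 11), (nat_lit 3), (nat_lit 11), (nat_lit 7), (nat_lit 1), (nat_lit 3), (nat_lit 1)],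
  [(nat_lit 11), (nat_lit 4), (nat_lit 9), (nat_lit 3), (nat_lit 11), (nat_lit 1), (nat_lit 4), (nat_lit 9), (nat_lit 7), (nat_lit 9), (nat_lit 3), (nat_lit 1)],
  [(nat_lit 7), (nat_lit 1), (nat_lit 3), (nat_lit 9), (nat_lit 4), (nat_lit 11), (nat_lit 9), (nat_lit 11), (nat_lit 3), (nat_lit 9), (nat_lit 4), (nat_lit 1)],
  [(nat_lit 11), (nat_lit 7), (nat_lit 11), (nat_lit 9), (nat_lit 7), (nat_lit 5), (nat_lit 7), (nat_lit 9), (nat_lit 7), (nat_lit 1)]]

noncomputable def eM22_0_c0 : BT (Bx Nat) := (BT.leaf (Bx.mk (nat_lit 0x0)))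
noncomputable def eM22_0_c1 : BT (Bx Nat) := (BT.leaf (Bx.mk (nat_lit 0x2cec44d32471a12213054cf245cc97912042572452489a92d88b70948c8c1c2884a1243a486d06e7247093148aa261a0d50929a0cd066a0cae48a483b91f920d417a82eb91a9208e45a481c245a0a3413dc84504ba09324068210000)))
noncomputable def eM22_0_c2 : BT (Bx Nat) := (BT.leaf (Bx.mk (nat_lit 0x322e933eea8a4cd422d494a48be4cb4229593a889d8cf4992844941c24c84221355468add53498c843941b1d07c98a843141a24c4c9888429418d8cad06085172616107505ba0b3415dcc8d0539305081e826c9818409411a8218000)))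
noncomputable def eM22_0_c3 : BT (Bx Nat) := (BT.leaf (Bx.mk (nat_lit 0x496212d4a5c1cb6495a22bc457dcb4495632ccc574cb5b96392a4c5b9cb04950a0deeb950b3b95b929941b64a5b957929541a5d88b95392914192164d06162b2e5364a2d05c729f416282ad054728d250a82739439283411e8220000)))
noncomputable def eM22_0_c4 : BT (Bx Nat) := (BT.leaf (Bx.mk (nat_lit 0x31e963d8c7750f2bb6f93b2c779df813a693aa27a15d6c3d353c327459f1c354939eeea9dd743cd53b1272e835b3db869d2726833b9e073c9271e83149c6a0bee75dcee49c4a0b5270e82b49c2a0a541424e0d04ca09541228228000)))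
noncomputable def eM22_0_p : BT (Bx Nat) := (BT.leaf (Bx.mk (nat_lit 0x5882af871c06341c6828c8917062c1c5828a891406260c48389051112201c4028788ce059a0b3036604cb1196132836504c911921b2036404c7118e0b1846302850d0a1210442028311060a084410682088221043208441040000000)))
noncomputable def eM22_0_e : BT Nat := BT.leaf (nat_lit 0)
noncomputable def eM22_0_cols : List (BT (Bx Nat)) := [eM22_0_c0, eM22_0_c1, eM22_0_c2, eM22_0_c3, eM22_0_c4]
noncomputable def eM22_0_ch (x j : Nat) : Bx Nat := chunkG eM22_0_cols (nat_lit 1) x j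
noncomputable def eM22_0_L (x : Nat) : Bx (Nat → Nat) := lookG eM22_0_ch (nat_lit 8) (nat_lit 255) (nat_lit 15) (nat_lit 32767) x
noncomputable def eM22_0_pc (_ j : Nat) : Bx Nat := eM22_0_p.get j
noncomputable def eM22_0_pb : Bx (Nat → Nat) := lookG eM22_0_pc (nat_lit 8) (nat_lit 255) (nat_lit 15) (nat_lit 32767) (nat_lit 0)
noncomputable def eM22_0_rots : BT CW := (BT.node (nat_lit 9) (BT.node (nat_lit 4) (BT.node (nat_lit 2) (BT.node (nat_lit 1) (BT.leaf ⟨[], (nat_lit 1000000), (nat_lit 0), (nat_lit 0), (nat_lit 0)⟩) (BT.leaf ⟨[], (nat_lit 1000000), (nat_lit 0), (nat_lit 0), (nat_lit 1)⟩)) (BT.node (nat_lit 3) (BT.leaf ⟨[], (nat_lit 1000000), (nat_lit 0), (nat_lit 0), (nat_lit 2)⟩) (BT.leaf ⟨[(nat_lit 1), (nat_lit 1)], (nat_lit 0), (nat_lit 0), (nat_lit 0), (nat_lit 3)⟩))) (BT.node (nat_lit 6) (BT.node (nat_lit 5) (BT.leaf ⟨[(nat_lit 3), (nat_lit 2)], (nat_lit 11), (nat_lit 1), (nat_lit 0), (nat_lit 3)⟩) (BT.leaf ⟨[(nat_lit 2), (nat_lit 3)],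 (nat_lit 11), (nat_lit 0), (nat_lit 0), (nat_lit 3)⟩)) (BT.node (nat_lit 7) (BT.leaf ⟨[(nat_lit 4), (nat_lit 4)], (nat_lit 2), (nat_lit 0), (nat_lit 0), (nat_lit 3)⟩) (BT.node (nat_lit 8) (BT.leaf ⟨[(nat_lit 2), (nat_lit 2), (nat_lit 2)], (nat_lit 1), (nat_lit 0), (nat_lit 0), (nat_lit 3)⟩) (BT.leaf ⟨[(nat_lit 1), (nat_lit 4), (nat_lit 1), (nat_lit 4)], (nat_lit 3), (nat_lit 1), (nat_lit 0), (nat_lit 3)⟩))))) (BT.node (nat_lit 14) (BT.node (nat_lit 11) (BT.node (nat_lit 10) (BT.leaf ⟨[(nat_lit 2), (nat_lit 1), (nat_lit 2), (nat_lit 1), (nat_lit 2), (nat_lit 1)], (nat_lit 4), (nat_lit 0), (nat_lit 0), (nat_lit 3)⟩) (BT.leaf ⟨[(nat_lit 3), (nat_lit 1), (nat_lit 3), (nat_lit 1), (nat_lit 3), (nat_lit 1)], (nat_lit 17), (nat_lit 1), (nat_lit 0), (nat_lit 3)⟩)) (BT.node (nat_lit 12) (BT.leaf ⟨[(nat_lit 3), (nat_lit 3), (nat_lit 3)], (nat_lit 14), (nat_lit 0), (nat_lit 0), (nat_lit 3)⟩) (BT.node (nat_lit 13) (BT.leaf ⟨[(nat_lit 4), (nat_lit 2), (nat_lit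 4), (nat_lit 2), (nat_lit 4), (nat_lit 2)], (nat_lit 5), (nat_lit 0), (nat_lit 0), (nat_lit 3)⟩) (BT.leaf ⟨[(nat_lit 4), (nat_lit 1), (nat_lit 4), (nat_lit 1)], (nat_lit 3), (nat_lit 0), (nat_lit 0), (nat_lit 3)⟩)))) (BT.node (nat_lit 16) (BT.node (nat_lit 15) (BT.leaf ⟨[(nat_lit 4), (nat_lit 3), (nat_lit 4), (nat_lit 3), (nat_lit 4), (nat_lit 3)], (nat_lit 18), (nat_lit 1), (nat_lit 0), (nat_lit 3)⟩) (BT.leaf ⟨[(nat_lit 1), (nat_lit 3), (nat_lit 1), (nat_lit 3), (nat_lit 1), (nat_lit 3)], (nat_lit 17), (nat_lit 0), (nat_lit 0), (nat_lit 3)⟩)) (BT.node (nat_lit 17) (BT.leaf ⟨[(nat_lit 1), (nat_lit 3), (nat_lit 4), (nat_lit 2), (nat_lit 1), (nat_lit 3), (nat_lit 4), (nat_lit 2)], (nat_lit 6), (nat_lit 3), (nat_lit 0), (nat_lit 3)⟩) (BT.node (nat_lit 18) (BT.leaf ⟨[(nat_lit 2), (nat_lit 4), (nat_lit 2), (nat_lit 4), (nat_lit 2), (nat_lit 4)], (nat_lit 5), (nat_lit 1), (nat_lit 0), (nat_lit 3)⟩) (BT.leaf ⟨[(nat_lit 1), (nat_lit 2), (nat_lit 1), (nat_lit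 2), (nat_lit 1), (nat_lit 2)], (nat_lit 4), (nat_lit 1), (nat_lit 0), (nat_lit 3)⟩))))))
noncomputable def eM22_0_hcs : List CW := []
noncomputable def eM22_0_H (x j : Nat) : Bx (Nat → Nat → Nat) := mkH eM22_0_L eM22_0_pb.1 eM22_0_e.get (lmap CW.w eM22_0_hcs) (nat_lit 48) (nat_lit 49) (nat_lit 5) (nat_lit 64) (nat_lit 2048) (nat_lit 4095) x (eM22_0_rots.get j)
noncomputable def eM22_0_F (x b : Nat) : Bool := blkOK eM22_0_H eM22_0_ch (nat_lit 49) (nat_lit 64) (nat_lit 32) (nat_lit 8) (nat_lit 255) (nat_lit 15) (nat_lit 32767) x b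

theorem eM22_0_k0_0 : allFrom (eM22_0_F (nat_lit 0)) (nat_lit 0) (nat_lit 4) = true := by decide +kernel
theorem eM22_0_k1_0 : allFrom (eM22_0_F (nat_lit 1)) (nat_lit 0) (nat_lit 4) = true := by decide +kernel
theorem eM22_0_k2_0 : allFrom (eM22_0_F (nat_lit 2)) (nat_lit 0) (nat_lit 4) = true := by decide +kernel
theorem eM22_0_k3_0 : allFrom (eM22_0_F (nat_lit 3)) (nat_lit 0) (nat_lit 4) = true := by decide +kernel
theorem eM22_0_k4_0 : allFrom (eM22_0_F (nat_lit 4)) (nat_lit 0) (nat_lit 4) = true := by decide +kernel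

noncomputable def eM22_1_c0 : BT (Bx Nat) := (BT.leaf (Bx.mk (nat_lit 0x0)))
noncomputable def eM22_1_c1 : BT (Bx Nat) := (BT.leaf (Bx.mk (nat_lit 0x1e50653ecaab2a58b452ccb0e852c64c72b7032c0c5b08a5120a5991a4a7b28b023c184000)))
noncomputable def eM22_1_c2 : BT (Bx Nat) := (BT.leaf (Bx.mk (nat_lit 0x2d0d54c9aab84d2d07a4c1d0c9a46968c0ced04a4aa50ec0bed03a49b029c096962c184000)))
noncomputable def eM22_1_c3 : BT (Bx Nat) := (BT.leaf (Bx.mk (nat_lit 0x1cf1b3ad0f383b64efb39e988c0d21ae53ca4e9b3924ecc0c24e5b38f02ac09a4e2b384000)))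
noncomputable def eM22_1_c4 : BT (Bx Nat) := (BT.leaf (Bx.mk (nat_lit 0x29efa742271734a4d39350eeeb31a6ecb3160c99729ee8b30f02dc0aecc2c09f024c184000)))
noncomputable def eM22_1_c5 : BT (Bx Nat) := (BT.leaf (Bx.mk (nat_lit 0x1611724a333425188f78c2c864db6c85ad2e08998aac838b1f02ec0b2a04c0a2c81c088000)))
noncomputable def eM22_1_p : BT (Bx Nat) := (BT.leaf (Bx.mk (nat_lit 0x2b43ab0a28189061c3870a1858612145851190364098c563118c3630908442048450000000)))
noncomputable def eM22_1_e0 : BT Nat := (BT.node (nat_lit 66) (BT.leaf (nat_lit 524290)) (BT.node (nat_lit 68) (BT.leaf (nat_lit 262146)) (BT.leaf (nat_lit 2))))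
noncomputable def eM22_1_e : BT Nat := eM22_1_e0
noncomputable def eM22_1_cols : List (BT (Bx Nat)) := [eM22_1_c0, eM22_1_c1, eM22_1_c2, eM22_1_c3, eM22_1_c4, eM22_1_c5]
noncomputable def eM22_1_ch (x j : Nat) : Bx Nat := chunkG eM22_1_cols (nat_lit 1) x j
noncomputable def eM22_1_L (x : Nat) : Bx (Nat → Nat) := lookG eM22_1_ch (nat_lit 8) (nat_lit 255) (nat_lit 14) (nat_lit 16383) x
noncomputable def eM22_1_pc (_ j : Nat) : Bx Nat := eM22_1_p.get j
noncomputable def eM22_1_pb : Bx (Nat → Nat) := lookG eM22_1_pc (nat_lit 8) (nat_lit 255) (nat_lit 14) (nat_lit 16383) (nat_lit 0)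
noncomputable def eM22_1_rots : BT CW := (BT.node (nat_lit 13) (BT.node (nat_lit 6) (BT.node (nat_lit 3) (BT.node (nat_lit 1) (BT.leaf ⟨[], (nat_lit 1000000), (nat_lit 0), (nat_lit 0), (nat_lit 0)⟩) (BT.node (nat_lit 2) (BT.leaf ⟨[], (nat_lit 1000000), (nat_lit 0), (nat_lit 0), (nat_lit 1)⟩) (BT.leaf ⟨[], (nat_lit 1000000), (nat_lit 0), (nat_lit 0), (nat_lit 2)⟩))) (BT.node (nat_lit 4) (BT.leaf ⟨[(nat_lit 5), (nat_lit 5)], (nat_lit 7), (nat_lit 0), (nat_lit 0), (nat_lit 3)⟩) (BT.node (nat_lit 5) (BT.leaf ⟨[(nat_lit 1), (nat_lit 1)], (nat_lit 0), (nat_lit 0), (nat_lit 0), (nat_lit 3)⟩) (BT.leaf ⟨[(nat_lit 4), (nat_lit 4)], (nat_lit 2), (nat_lit 0), (nat_lit 0), (nat_lit 3)⟩)))) (BT.node (nat_lit 9) (BT.node (nat_lit 7) (BT.leaf ⟨[(nat_lit 3), (nat_lit 2)], (nat_lit 16), (nat_lit 1), (nat_lit 0), (nat_lit 3)⟩) (BT.node (nat_lit 8) (BT.leaf ⟨[(nat_lit 2), (nat_lit 3)], (nat_lit 16), (nat_lit 0), (nat_lit 0), (nat_lit 3)⟩) (BT.leaf ⟨[(nat_lit 2), (nat_lit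 2), (nat_lit 2)], (nat_lit 1), (nat_lit 0), (nat_lit 0), (nat_lit 3)⟩))) (BT.node (nat_lit 11) (BT.node (nat_lit 10) (BT.leaf ⟨[(nat_lit 1), (nat_lit 4), (nat_lit 1), (nat_lit 4)], (nat_lit 3), (nat_lit 1), (nat_lit 0), (nat_lit 3)⟩) (BT.leaf ⟨[(nat_lit 2), (nat_lit 5), (nat_lit 2), (nat_lit 5)], (nat_lit 8), (nat_lit 1), (nat_lit 0), (nat_lit 3)⟩)) (BT.node (nat_lit 12) (BT.leaf ⟨[(nat_lit 3), (nat_lit 5), (nat_lit 3), (nat_lit 5)], (nat_lit 26), (nat_lit 0), (nat_lit 0), (nat_lit 3)⟩) (BT.leaf ⟨[(nat_lit 3), (nat_lit 3), (nat_lit 3)], (nat_lit 19), (nat_lit 0), (nat_lit 0), (nat_lit 3)⟩))))) (BT.node (nat_lit 20) (BT.node (nat_lit 16) (BT.node (nat_lit 14) (BT.leaf ⟨[(nat_lit 4), (nat_lit 2), (nat_lit 4), (nat_lit 2), (nat_lit 4), (nat_lit 2)], (nat_lit 5), (nat_lit 0), (nat_lit 0), (nat_lit 3)⟩) (BT.node (nat_lit 15) (BT.leaf ⟨[(nat_lit 4), (nat_lit 3), (nat_lit 4), (nat_lit 3), (nat_lit 4), (nat_lit 3)], (nat_lit 23), (nat_lit 1), (nat_lit 0),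 (nat_lit 3)⟩) (BT.leaf ⟨[(nat_lit 5), (nat_lit 4), (nat_lit 5), (nat_lit 4), (nat_lit 5), (nat_lit 4)], (nat_lit 9), (nat_lit 0), (nat_lit 0), (nat_lit 3)⟩))) (BT.node (nat_lit 18) (BT.node (nat_lit 17) (BT.leaf ⟨[(nat_lit 5), (nat_lit 2), (nat_lit 5), (nat_lit 2)], (nat_lit 8), (nat_lit 0), (nat_lit 0), (nat_lit 3)⟩) (BT.leaf ⟨[(nat_lit 1), (nat_lit 2), (nat_lit 1), (nat_lit 2), (nat_lit 1), (nat_lit 2)], (nat_lit 4), (nat_lit 1), (nat_lit 0), (nat_lit 3)⟩)) (BT.node (nat_lit 19) (BT.leaf ⟨[(nat_lit 4), (nat_lit 1), (nat_lit 4), (nat_lit 1)], (nat_lit 3), (nat_lit 0), (nat_lit 0), (nat_lit 3)⟩) (BT.leaf ⟨[(nat_lit 2), (nat_lit 1), (nat_lit 3), (nat_lit 4), (nat_lit 2), (nat_lit 1), (nat_lit 3), (nat_lit 4)], (nat_lit 6), (nat_lit 2), (nat_lit 0), (nat_lit 3)⟩)))) (BT.node (nat_lit 23) (BT.node (nat_lit 21) (BT.leaf ⟨[(nat_lit 2), (nat_lit 1), (nat_lit 2), (nat_lit 1), (nat_lit 2), (nat_lit 1)], (nat_lit 4), (nat_lit 0), (nat_lit 0), (nat_lit 3)⟩)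 (BT.node (nat_lit 22) (BT.leaf ⟨[(nat_lit 5), (nat_lit 4), (nat_lit 1), (nat_lit 5), (nat_lit 4), (nat_lit 1), (nat_lit 5), (nat_lit 4), (nat_lit 1)], (nat_lit 10), (nat_lit 0), (nat_lit 0), (nat_lit 3)⟩) (BT.leaf ⟨[(nat_lit 4), (nat_lit 5), (nat_lit 4), (nat_lit 5), (nat_lit 4), (nat_lit 5)], (nat_lit 9), (nat_lit 1), (nat_lit 0), (nat_lit 3)⟩))) (BT.node (nat_lit 25) (BT.node (nat_lit 24) (BT.leaf ⟨[(nat_lit 1), (nat_lit 5), (nat_lit 4), (nat_lit 1), (nat_lit 5), (nat_lit 4), (nat_lit 1), (nat_lit 5), (nat_lit 4)], (nat_lit 10), (nat_lit 2), (nat_lit 0), (nat_lit 3)⟩) (BT.leaf ⟨[(nat_lit 5), (nat_lit 3), (nat_lit 4), (nat_lit 1), (nat_lit 2), (nat_lit 1), (nat_lit 5), (nat_lit 1), (nat_lit 2), (nat_lit 4), (nat_lit 5), (nat_lit 4), (nat_lit 3), (nat_lit 1)], (nat_lit 11), (nat_lit 8), (nat_lit 0), (nat_lit 3)⟩)) (BT.node (nat_lit 26) (BT.leaf ⟨[(nat_lit 5), (nat_lit 4), (nat_lit 3), (nat_lit 1), (nat_lit 5), (nat_lit 3), (nat_lit 4), (nat_lit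 1), (nat_lit 2), (nat_lit 1), (nat_lit 5), (nat_lit 1), (nat_lit 2), (nat_lit 4)], (nat_lit 11), (nat_lit 4), (nat_lit 0), (nat_lit 3)⟩) (BT.leaf ⟨[(nat_lit 5), (nat_lit 3), (nat_lit 5), (nat_lit 3)], (nat_lit 26), (nat_lit 1), (nat_lit 0), (nat_lit 3)⟩))))))
noncomputable def eM22_1_hcs : List CW := [⟨[(nat_lit 4)], (nat_lit 0), (nat_lit 0), (nat_lit 0), (nat_lit 0)⟩, ⟨[(nat_lit 2)], (nat_lit 1), (nat_lit 0), (nat_lit 0), (nat_lit 0)⟩, ⟨[(nat_lit 1)], (nat_lit 2), (nat_lit 0), (nat_lit 0), (nat_lit 0)⟩, ⟨[(nat_lit 4)], (nat_lit 3), (nat_lit 0), (nat_lit 0), (nat_lit 0)⟩, ⟨[(nat_lit 3)], (nat_lit 4), (nat_lit 0), (nat_lit 0), (nat_lit 0)⟩, ⟨[(nat_lit 1)], (nat_lit 5), (nat_lit 0), (nat_lit 0), (nat_lit 0)⟩]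
noncomputable def eM22_1_H (x j : Nat) : Bx (Nat → Nat → Nat) := mkH eM22_1_L eM22_1_pb.1 eM22_1_e.get (lmap CW.w eM22_1_hcs) (nat_lit 20) (nat_lit 21) (nat_lit 6) (nat_lit 32) (nat_lit 1024) (nat_lit 2047) x (eM22_1_rots.get j)
noncomputable def eM22_1_F (x b : Nat) : Bool := blkOK eM22_1_H eM22_1_ch (nat_lit 21) (nat_lit 32) (nat_lit 32) (nat_lit 8) (nat_lit 255) (nat_lit 14) (nat_lit 16383) x b

theorem eM22_1_k0_0 : allFrom (eM22_1_F (nat_lit 0)) (nat_lit 0) (nat_lit 4) = true := by decide +kernel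
theorem eM22_1_k1_0 : allFrom (eM22_1_F (nat_lit 1)) (nat_lit 0) (nat_lit 4) = true := by decide +kernel
theorem eM22_1_k2_0 : allFrom (eM22_1_F (nat_lit 2)) (nat_lit 0) (nat_lit 4) = true := by decide +kernel
theorem eM22_1_k3_0 : allFrom (eM22_1_F (nat_lit 3)) (nat_lit 0) (nat_lit 4) = true := by decide +kernel
theorem eM22_1_k4_0 : allFrom (eM22_1_F (nat_lit 4)) (nat_lit 0) (nat_lit 4) = true := by decide +kernel
theorem eM22_1_k5_0 : allFrom (eM22_1_F (nat_lit 5)) (nat_lit 0) (nat_lit 4) = true := by decide +kernel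

noncomputable def eM22_2_c0 : BT (Bx Nat) := (BT.leaf (Bx.mk (nat_lit 0x0)))
noncomputable def eM22_2_c1 : BT (Bx Nat) := (BT.leaf (Bx.mk (nat_lit 0x2857e310916322ba8b9d8b4b66b45c9176d96a54d742b1d34e966d4cf82a2c5262e5e145e08fc308000)))
noncomputable def eM22_2_c2 : BT (Bx Nat) := (BT.leaf (Bx.mk (nat_lit 0x38766955e1d5a54f8746951e1cda53e875f834d30fe0cb0c4f830c1dbe0bb8716945d587e093c308000)))
noncomputable def eM22_2_c3 : BT (Bx Nat) := (BT.leaf (Bx.mk (nat_lit 0x306a70ccc1a5c32b06870c8c19dc31b4d3f835b39be0cec64f831c197e0bf06270c2c187e0978608000)))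
noncomputable def eM22_2_c4 : BT (Bx Nat) := (BT.leaf (Bx.mk (nat_lit 0x35075113b429a7bec8861f1c2258455956f1055557c412954f103c54fc40bc16782af051e09bc308000)))
noncomputable def eM22_2_c5 : BT (Bx Nat) := (BT.leaf (Bx.mk (nat_lit 0x1c9a43d56264efce4985291b25d8a3f892ba8ce248ca2b891db68e245a91bc16f82bf053e09fc308000)))
noncomputable def eM22_2_c6 : BT (Bx Nat) := (BT.leaf (Bx.mk (nat_lit 0x9d6c09396a88ead5d6188a581ed03844aa091312488c25c4d3879111a899dd230858447c207c110000)))
noncomputable def eM22_2_p : BT (Bx Nat) := (BT.leaf (Bx.mk (nat_lit 0x8c0e3028a0e282880e202660d9826515944641590463158c44215084420d08242048460000000)))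
noncomputable def eM22_2_e0 : BT Nat := (BT.node (nat_lit 68) (BT.node (nat_lit 66) (BT.leaf (nat_lit 786434)) (BT.leaf (nat_lit 524290))) (BT.node (nat_lit 69) (BT.leaf (nat_lit 262146)) (BT.leaf (nat_lit 2))))
noncomputable def eM22_2_e : BT Nat := eM22_2_e0
noncomputable def eM22_2_cols : List (BT (Bx Nat)) := [eM22_2_c0, eM22_2_c1, eM22_2_c2, eM22_2_c3, eM22_2_c4, eM22_2_c5, eM22_2_c6]
noncomputable def eM22_2_ch (x j : Nat) : Bx Nat := chunkG eM22_2_cols (nat_lit 1) x j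
noncomputable def eM22_2_L (x : Nat) : Bx (Nat → Nat) := lookG eM22_2_ch (nat_lit 8) (nat_lit 255) (nat_lit 15) (nat_lit 32767) x
noncomputable def eM22_2_pc (_ j : Nat) : Bx Nat := eM22_2_p.get j
noncomputable def eM22_2_pb : Bx (Nat → Nat) := lookG eM22_2_pc (nat_lit 8) (nat_lit 255) (nat_lit 14) (nat_lit 16383) (nat_lit 0)
noncomputable def eM22_2_rots : BT CW := (BT.node (nat_lit 16) (BT.node (nat_lit 8) (BT.node (nat_lit 4) (BT.node (nat_lit 2) (BT.node (nat_lit 1) (BT.leaf ⟨[], (nat_lit 1000000), (nat_lit 0), (nat_lit 0), (nat_lit 0)⟩) (BT.leaf ⟨[], (nat_lit 1000000), (nat_lit 0), (nat_lit 0), (nat_lit 1)⟩)) (BT.node (nat_lit 3) (BT.leaf ⟨[], (nat_lit 1000000), (nat_lit 0), (nat_lit 0), (nat_lit 2)⟩) (BT.leaf ⟨[(nat_lit 6), (nat_lit 6)], (nat_lit 12), (nat_lit 0), (nat_lit 0), (nat_lit 3)⟩))) (BT.node (nat_lit 6) (BT.node (nat_lit 5) (BT.leaf ⟨[(nat_lit 1), (nat_lit 1)], (nat_lit 0), (nat_lit 0), (nat_lit 0), (nat_lit 3)⟩) (BT.leaf ⟨[(nat_lit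 3), (nat_lit 2)], (nat_lit 20), (nat_lit 1), (nat_lit 0), (nat_lit 3)⟩)) (BT.node (nat_lit 7) (BT.leaf ⟨[(nat_lit 2), (nat_lit 3)], (nat_lit 20), (nat_lit 0), (nat_lit 0), (nat_lit 3)⟩) (BT.leaf ⟨[(nat_lit 4), (nat_lit 4)], (nat_lit 2), (nat_lit 0), (nat_lit 0), (nat_lit 3)⟩)))) (BT.node (nat_lit 12) (BT.node (nat_lit 10) (BT.node (nat_lit 9) (BT.leaf ⟨[(nat_lit 5), (nat_lit 5)], (nat_lit 7), (nat_lit 0), (nat_lit 0), (nat_lit 3)⟩) (BT.leaf ⟨[(nat_lit 2), (nat_lit 2), (nat_lit 2)], (nat_lit 1), (nat_lit 0), (nat_lit 0), (nat_lit 3)⟩)) (BT.node (nat_lit 11) (BT.leaf ⟨[(nat_lit 1), (nat_lit 4), (nat_lit 1), (nat_lit 4)], (nat_lit 3), (nat_lit 1), (nat_lit 0), (nat_lit 3)⟩) (BT.leaf ⟨[(nat_lit 2), (nat_lit 5), (nat_lit 2), (nat_lit 5)], (nat_lit 8), (nat_lit 1), (nat_lit 0), (nat_lit 3)⟩))) (BT.node (nat_lit 14) (BT.node (nat_lit 13) (BT.leaf ⟨[(nat_lit 3), (nat_lit 5), (nat_lit 3), (nat_lit 5)], (nat_lit 30), (nat_lit 0), (nat_lit 0), (nat_lit 3)⟩)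 (BT.leaf ⟨[(nat_lit 3), (nat_lit 3), (nat_lit 3)], (nat_lit 23), (nat_lit 0), (nat_lit 0), (nat_lit 3)⟩)) (BT.node (nat_lit 15) (BT.leaf ⟨[(nat_lit 4), (nat_lit 2), (nat_lit 4), (nat_lit 2), (nat_lit 4), (nat_lit 2)], (nat_lit 5), (nat_lit 0), (nat_lit 0), (nat_lit 3)⟩) (BT.leaf ⟨[(nat_lit 4), (nat_lit 3), (nat_lit 4), (nat_lit 3), (nat_lit 4), (nat_lit 3)], (nat_lit 27), (nat_lit 1), (nat_lit 0), (nat_lit 3)⟩))))) (BT.node (nat_lit 24) (BT.node (nat_lit 20) (BT.node (nat_lit 18) (BT.node (nat_lit 17) (BT.leaf ⟨[(nat_lit 6), (nat_lit 4), (nat_lit 6), (nat_lit 4), (nat_lit 6), (nat_lit 4)], (nat_lit 13), (nat_lit 0), (nat_lit 0), (nat_lit 3)⟩) (BT.leaf ⟨[(nat_lit 5), (nat_lit 4), (nat_lit 6), (nat_lit 5), (nat_lit 1), (nat_lit 5), (nat_lit 6), (nat_lit 4)], (nat_lit 15), (nat_lit 3), (nat_lit 0), (nat_lit 3)⟩)) (BT.node (nat_lit 19) (BT.leaf ⟨[(nat_lit 1), (nat_lit 5), (nat_lit 6), (nat_lit 4), (nat_lit 5), (nat_lit 4), (nat_lit 6), (nat_lit 5)],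 (nat_lit 15), (nat_lit 7), (nat_lit 0), (nat_lit 3)⟩) (BT.leaf ⟨[(nat_lit 5), (nat_lit 2), (nat_lit 5), (nat_lit 2)], (nat_lit 8), (nat_lit 0), (nat_lit 0), (nat_lit 3)⟩))) (BT.node (nat_lit 22) (BT.node (nat_lit 21) (BT.leaf ⟨[(nat_lit 4), (nat_lit 5), (nat_lit 4), (nat_lit 5), (nat_lit 4), (nat_lit 5)], (nat_lit 9), (nat_lit 1), (nat_lit 0), (nat_lit 3)⟩) (BT.leaf ⟨[(nat_lit 2), (nat_lit 1), (nat_lit 6), (nat_lit 1), (nat_lit 2), (nat_lit 1), (nat_lit 6), (nat_lit 1)], (nat_lit 14), (nat_lit 2), (nat_lit 0), (nat_lit 3)⟩)) (BT.node (nat_lit 23) (BT.leaf ⟨[(nat_lit 1), (nat_lit 2), (nat_lit 1), (nat_lit 2), (nat_lit 1), (nat_lit 2)], (nat_lit 4), (nat_lit 1), (nat_lit 0), (nat_lit 3)⟩) (BT.leaf ⟨[(nat_lit 1), (nat_lit 3), (nat_lit 4), (nat_lit 2), (nat_lit 1), (nat_lit 3), (nat_lit 4), (nat_lit 2)], (nat_lit 6), (nat_lit 3), (nat_lit 0), (nat_lit 3)⟩)))) (BT.node (nat_lit 28) (BT.node (nat_lit 26) (BT.node (nat_lit 25) (BT.leaf ⟨[(nat_lit 1), (nat_lit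 3), (nat_lit 1), (nat_lit 3), (nat_lit 1), (nat_lit 3)], (nat_lit 26), (nat_lit 0), (nat_lit 0), (nat_lit 3)⟩) (BT.leaf ⟨[(nat_lit 6), (nat_lit 1), (nat_lit 3), (nat_lit 1), (nat_lit 6), (nat_lit 1), (nat_lit 3), (nat_lit 1)], (nat_lit 36), (nat_lit 3), (nat_lit 0), (nat_lit 3)⟩)) (BT.node (nat_lit 27) (BT.leaf ⟨[(nat_lit 5), (nat_lit 4), (nat_lit 1), (nat_lit 5), (nat_lit 4), (nat_lit 1), (nat_lit 5), (nat_lit 4), (nat_lit 1)], (nat_lit 10), (nat_lit 0), (nat_lit 0), (nat_lit 3)⟩) (BT.leaf ⟨[(nat_lit 6), (nat_lit 4), (nat_lit 5), (nat_lit 4), (nat_lit 6), (nat_lit 5), (nat_lit 1), (nat_lit 5)], (nat_lit 15), (nat_lit 1), (nat_lit 0), (nat_lit 3)⟩))) (BT.node (nat_lit 30) (BT.node (nat_lit 29) (BT.leaf ⟨[(nat_lit 6), (nat_lit 1), (nat_lit 2), (nat_lit 1), (nat_lit 6), (nat_lit 1), (nat_lit 2), (nat_lit 1)], (nat_lit 14), (nat_lit 0), (nat_lit 0), (nat_lit 3)⟩) (BT.leaf ⟨[(nat_lit 5), (nat_lit 3), (nat_lit 4), (nat_lit 1), (nat_lit 2), (nat_lit 1),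 (nat_lit 5), (nat_lit 1), (nat_lit 2), (nat_lit 4), (nat_lit 5), (nat_lit 4), (nat_lit 3), (nat_lit 1)], (nat_lit 11), (nat_lit 8), (nat_lit 0), (nat_lit 3)⟩)) (BT.node (nat_lit 31) (BT.leaf ⟨[(nat_lit 5), (nat_lit 4), (nat_lit 5), (nat_lit 4), (nat_lit 5), (nat_lit 4)], (nat_lit 9), (nat_lit 0), (nat_lit 0), (nat_lit 3)⟩) (BT.leaf ⟨[(nat_lit 6), (nat_lit 5), (nat_lit 1), (nat_lit 5), (nat_lit 6), (nat_lit 4), (nat_lit 5), (nat_lit 4)], (nat_lit 15), (nat_lit 5), (nat_lit 0), (nat_lit 3)⟩))))))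
noncomputable def eM22_2_hcs : List CW := [⟨[(nat_lit 5)], (nat_lit 0), (nat_lit 0), (nat_lit 0), (nat_lit 0)⟩, ⟨[(nat_lit 4)], (nat_lit 1), (nat_lit 0), (nat_lit 0), (nat_lit 0)⟩, ⟨[(nat_lit 2)], (nat_lit 2), (nat_lit 0), (nat_lit 0), (nat_lit 0)⟩, ⟨[(nat_lit 1)], (nat_lit 3), (nat_lit 0), (nat_lit 0), (nat_lit 0)⟩, ⟨[(nat_lit 5)], (nat_lit 4), (nat_lit 0), (nat_lit 0), (nat_lit 0)⟩, ⟨[(nat_lit 4)], (nat_lit 5), (nat_lit 0), (nat_lit 0), (nat_lit 0)⟩, ⟨[(nat_lit 3)], (nat_lit 6), (nat_lit 0), (nat_lit 0), (nat_lit 0)⟩, ⟨[(nat_lit 1)], (nat_lit 7), (nat_lit 0), (nat_lit 0), (nat_lit 0)⟩]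
noncomputable def eM22_2_H (x j : Nat) : Bx (Nat → Nat → Nat) := mkH eM22_2_L eM22_2_pb.1 eM22_2_e.get (lmap CW.w eM22_2_hcs) (nat_lit 21) (nat_lit 22) (nat_lit 7) (nat_lit 32) (nat_lit 2048) (nat_lit 2047) x (eM22_2_rots.get j)
noncomputable def eM22_2_F (x b : Nat) : Bool := blkOK eM22_2_H eM22_2_ch (nat_lit 22) (nat_lit 32) (nat_lit 64) (nat_lit 8) (nat_lit 255) (nat_lit 15) (nat_lit 32767) x b

theorem eM22_2_k0_0 : allFrom (eM22_2_F (nat_lit 0)) (nat_lit 0) (nat_lit 4) = true := by decide +kernel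
theorem eM22_2_k1_0 : allFrom (eM22_2_F (nat_lit 1)) (nat_lit 0) (nat_lit 4) = true := by decide +kernel
theorem eM22_2_k2_0 : allFrom (eM22_2_F (nat_lit 2)) (nat_lit 0) (nat_lit 4) = true := by decide +kernel
theorem eM22_2_k3_0 : allFrom (eM22_2_F (nat_lit 3)) (nat_lit 0) (nat_lit 4) = true := by decide +kernel
theorem eM22_2_k4_0 : allFrom (eM22_2_F (nat_lit 4)) (nat_lit 0) (nat_lit 4) = true := by decide +kernel
theorem eM22_2_k5_0 : allFrom (eM22_2_F (nat_lit 5)) (nat_lit 0) (nat_lit 4) = true := by decide +kernel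
theorem eM22_2_k6_0 : allFrom (eM22_2_F (nat_lit 6)) (nat_lit 0) (nat_lit 4) = true := by decide +kernel

noncomputable def eM22_3_c0 : BT (Bx Nat) := (BT.leaf (Bx.mk (nat_lit 0x758c84cb6d648ca300000000000000000000000000000000000000000000000000000000000000000000000000000000000000000000)))
noncomputable def eM22_3_c1 : BT (Bx Nat) := (BT.leaf (Bx.mk (nat_lit 0xb0a50000000000002bd626f59b1470b27d33b0a77bd048ae518f98a86865b0a48b0aa986a28db831a0a9b85ab82bb0a2b823b8610000)))
noncomputable def eM22_3_c2 : BT (Bx Nat) := (BT.leaf (Bx.mk (nat_lit 0x78f3000000000000b0ea297630f470f168eba43a30f0b0e6a96f6d52687390ed36b538e9b0e3a968b82eb0e2a965b827b824b8610000)))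
noncomputable def eM22_3_c3 : BT (Bx Nat) := (BT.leaf (Bx.mk (nat_lit 0xaad100000000000020d528ca3e5484fa60cd7d133e70a0ceb0c69acb687172d2b8364629a0c7b0c3b82fa0c4b0c2b828b825b0c10000)))
noncomputable def eM22_3_c4 : BT (Bx Nat) := (BT.leaf (Bx.mk (nat_lit 0x4ab625d5a2b465cf5dee55eda250591351124911b104590592aab1034e074108b10265abb82cb829b826b8610000)))
noncomputable def eM22_3_c5 : BT (Bx Nat) := (BT.leaf (Bx.mk (nat_lit 0xa45193ed000000009b4e29cfb149a9f361d29c1a83b0215591568c196871786d9946b8349947a1c8a32a9944a1c5aa63a9a2b8610000)))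
noncomputable def eM22_3_c6 : BT (Bx Nat) := (BT.leaf (Bx.mk (nat_lit 0x438b1f0c9b94b128b127912db1263b6e312f9af111353936b1238b69b833b832b830aa05b858b82aaa22b8610000)))
noncomputable def eM22_3_c7 : BT (Bx Nat) := (BT.leaf (Bx.mk (nat_lit 0x8891b084000000003f76b089188f5e9326d0949a189227341f2eb08568717864174ab835946788880f26b82db859b857b081b8220000)))
noncomputable def eM22_3_p : BT (Bx Nat) := (BT.leaf (Bx.mk (nat_lit 0x1941641d906631e283891e245881a1c68705986660d982651d90464058c663118c36309084420d08242048470000000)))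
noncomputable def eM22_3_e0 : BT Nat := (BT.node (nat_lit 711) (BT.node (nat_lit 69) (BT.node (nat_lit 66) (BT.leaf (nat_lit 1048578)) (BT.node (nat_lit 68) (BT.leaf (nat_lit 786434)) (BT.leaf (nat_lit 524290)))) (BT.node (nat_lit 70) (BT.leaf (nat_lit 262146)) (BT.node (nat_lit 709) (BT.leaf (nat_lit 2)) (BT.leaf (nat_lit 100))))) (BT.node (nat_lit 771) (BT.node (nat_lit 769) (BT.leaf (nat_lit 100)) (BT.node (nat_lit 770) (BT.leaf (nat_lit 104)) (BT.leaf (nat_lit 104)))) (BT.node (nat_lit 773) (BT.leaf (nat_lit 104)) (BT.node (nat_lit 775) (BT.leaf (nat_lit 104)) (BT.leaf (nat_lit 104))))))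
noncomputable def eM22_3_e : BT Nat := eM22_3_e0
noncomputable def eM22_3_cols : List (BT (Bx Nat)) := [eM22_3_c0, eM22_3_c1, eM22_3_c2, eM22_3_c3, eM22_3_c4, eM22_3_c5, eM22_3_c6, eM22_3_c7]
noncomputable def eM22_3_ch (x j : Nat) : Bx Nat := chunkG eM22_3_cols (nat_lit 1) x j
noncomputable def eM22_3_L (x : Nat) : Bx (Nat → Nat) := lookG eM22_3_ch (nat_lit 8) (nat_lit 255) (nat_lit 16) (nat_lit 65535) x
noncomputable def eM22_3_pc (_ j : Nat) : Bx Nat := eM22_3_p.get j
noncomputable def eM22_3_pb : Bx (Nat → Nat) := lookG eM22_3_pc (nat_lit 8) (nat_lit 255) (nat_lit 14) (nat_lit 16383) (nat_lit 0)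
noncomputable def eM22_3_rots : BT CW := (BT.node (nat_lit 29) (BT.node (nat_lit 14) (BT.node (nat_lit 7) (BT.node (nat_lit 3) (BT.node (nat_lit 1) (BT.leaf ⟨[], (nat_lit 1000000), (nat_lit 0), (nat_lit 0), (nat_lit 0)⟩) (BT.node (nat_lit 2) (BT.leaf ⟨[], (nat_lit 1000000), (nat_lit 0), (nat_lit 0), (nat_lit 1)⟩) (BT.leaf ⟨[], (nat_lit 1000000), (nat_lit 0), (nat_lit 0), (nat_lit 2)⟩))) (BT.node (nat_lit 5) (BT.node (nat_lit 4) (BT.leaf ⟨[(nat_lit 7), (nat_lit 7)], (nat_lit 16), (nat_lit 0), (nat_lit 0), (nat_lit 3)⟩) (BT.leaf ⟨[(nat_lit 1), (nat_lit 1)], (nat_lit 0), (nat_lit 0), (nat_lit 0), (nat_lit 3)⟩)) (BT.node (nat_lit 6) (BT.leaf ⟨[(nat_lit 3), (nat_lit 2)], (nat_lit 26), (nat_lit 1), (nat_lit 0), (nat_lit 3)⟩) (BT.leaf ⟨[(nat_lit 2), (nat_lit 3)], (nat_lit 26), (nat_lit 0), (nat_lit 0), (nat_lit 3)⟩)))) (BT.node (nat_lit 10) (BT.node (nat_lit 8) (BT.leaf ⟨[(nat_lit 4), (nat_lit 4)], (nat_lit 2), (nat_lit 0), (nat_lit 0), (nat_lit 3)⟩) (BT.node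 (nat_lit 9) (BT.leaf ⟨[(nat_lit 6), (nat_lit 6)], (nat_lit 12), (nat_lit 0), (nat_lit 0), (nat_lit 3)⟩) (BT.leaf ⟨[(nat_lit 5), (nat_lit 5)], (nat_lit 7), (nat_lit 0), (nat_lit 0), (nat_lit 3)⟩))) (BT.node (nat_lit 12) (BT.node (nat_lit 11) (BT.leaf ⟨[(nat_lit 2), (nat_lit 2), (nat_lit 2)], (nat_lit 1), (nat_lit 0), (nat_lit 0), (nat_lit 3)⟩) (BT.leaf ⟨[(nat_lit 1), (nat_lit 4), (nat_lit 1), (nat_lit 4)], (nat_lit 3), (nat_lit 1), (nat_lit 0), (nat_lit 3)⟩)) (BT.node (nat_lit 13) (BT.leaf ⟨[(nat_lit 5), (nat_lit 7), (nat_lit 6), (nat_lit 5), (nat_lit 4), (nat_lit 5), (nat_lit 6), (nat_lit 5), (nat_lit 1), (nat_lit 7)], (nat_lit 21), (nat_lit 1), (nat_lit 0), (nat_lit 3)⟩) (BT.leaf ⟨[(nat_lit 5), (nat_lit 2), (nat_lit 5), (nat_lit 2)], (nat_lit 8), (nat_lit 0), (nat_lit 0), (nat_lit 3)⟩))))) (BT.node (nat_lit 21) (BT.node (nat_lit 17) (BT.node (nat_lit 15) (BT.leaf ⟨[(nat_lit 5), (nat_lit 6), (nat_lit 2), (nat_lit 1), (nat_lit 7), (nat_lit 3), (nat_lit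 6), (nat_lit 2), (nat_lit 7), (nat_lit 1), (nat_lit 3), (nat_lit 6)], (nat_lit 19), (nat_lit 8), (nat_lit 0), (nat_lit 3)⟩) (BT.node (nat_lit 16) (BT.leaf ⟨[(nat_lit 6), (nat_lit 2), (nat_lit 7), (nat_lit 1), (nat_lit 3), (nat_lit 6), (nat_lit 5), (nat_lit 6), (nat_lit 2), (nat_lit 1), (nat_lit 7), (nat_lit 3)], (nat_lit 19), (nat_lit 2), (nat_lit 0), (nat_lit 3)⟩) (BT.leaf ⟨[(nat_lit 6), (nat_lit 7), (nat_lit 2), (nat_lit 6), (nat_lit 3), (nat_lit 1), (nat_lit 5), (nat_lit 1), (nat_lit 2), (nat_lit 6), (nat_lit 3), (nat_lit 7)], (nat_lit 20), (nat_lit 6), (nat_lit 0), (nat_lit 3)⟩))) (BT.node (nat_lit 19) (BT.node (nat_lit 18) (BT.leaf ⟨[(nat_lit 4), (nat_lit 6), (nat_lit 4), (nat_lit 6), (nat_lit 4), (nat_lit 6)], (nat_lit 13), (nat_lit 1), (nat_lit 0), (nat_lit 3)⟩) (BT.leaf ⟨[(nat_lit 5), (nat_lit 1), (nat_lit 7), (nat_lit 5), (nat_lit 1), (nat_lit 2), (nat_lit 1), (nat_lit 5), (nat_lit 1), (nat_lit 2), (nat_lit 7), (nat_lit 1)], (nat_lit 17),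 (nat_lit 5), (nat_lit 0), (nat_lit 3)⟩)) (BT.node (nat_lit 20) (BT.leaf ⟨[(nat_lit 1), (nat_lit 7), (nat_lit 2), (nat_lit 7), (nat_lit 5), (nat_lit 1), (nat_lit 2), (nat_lit 1), (nat_lit 7), (nat_lit 5), (nat_lit 1), (nat_lit 3)], (nat_lit 18), (nat_lit 4), (nat_lit 0), (nat_lit 3)⟩) (BT.leaf ⟨[(nat_lit 4), (nat_lit 5), (nat_lit 4), (nat_lit 5), (nat_lit 4), (nat_lit 5)], (nat_lit 9), (nat_lit 1), (nat_lit 0), (nat_lit 3)⟩)))) (BT.node (nat_lit 25) (BT.node (nat_lit 23) (BT.node (nat_lit 22) (BT.leaf ⟨[(nat_lit 3), (nat_lit 1), (nat_lit 3), (nat_lit 1), (nat_lit 3), (nat_lit 1)], (nat_lit 32), (nat_lit 1), (nat_lit 0), (nat_lit 3)⟩) (BT.leaf ⟨[(nat_lit 6), (nat_lit 1), (nat_lit 3), (nat_lit 1), (nat_lit 6), (nat_lit 1), (nat_lit 3), (nat_lit 1)], (nat_lit 42), (nat_lit 3), (nat_lit 0), (nat_lit 3)⟩)) (BT.node (nat_lit 24) (BT.leaf ⟨[(nat_lit 1), (nat_lit 5), (nat_lit 4), (nat_lit 1), (nat_lit 5), (nat_lit 4), (nat_lit 1), (nat_lit 5), (nat_lit 4)],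 (nat_lit 10), (nat_lit 2), (nat_lit 0), (nat_lit 3)⟩) (BT.leaf ⟨[(nat_lit 5), (nat_lit 6), (nat_lit 5), (nat_lit 1), (nat_lit 7), (nat_lit 5), (nat_lit 7), (nat_lit 6), (nat_lit 5), (nat_lit 4)], (nat_lit 21), (nat_lit 6), (nat_lit 0), (nat_lit 3)⟩))) (BT.node (nat_lit 27) (BT.node (nat_lit 26) (BT.leaf ⟨[(nat_lit 5), (nat_lit 3), (nat_lit 5), (nat_lit 3)], (nat_lit 36), (nat_lit 1), (nat_lit 0), (nat_lit 3)⟩) (BT.leaf ⟨[(nat_lit 6), (nat_lit 4), (nat_lit 6), (nat_lit 4), (nat_lit 6), (nat_lit 4)], (nat_lit 13), (nat_lit 0), (nat_lit 0), (nat_lit 3)⟩)) (BT.node (nat_lit 28) (BT.leaf ⟨[(nat_lit 6), (nat_lit 5), (nat_lit 1), (nat_lit 5), (nat_lit 6), (nat_lit 4), (nat_lit 5), (nat_lit 4)], (nat_lit 15), (nat_lit 5), (nat_lit 0), (nat_lit 3)⟩) (BT.leaf ⟨[(nat_lit 5), (nat_lit 4), (nat_lit 6), (nat_lit 5), (nat_lit 1), (nat_lit 5), (nat_lit 6), (nat_lit 4)], (nat_lit 15), (nat_lit 3), (nat_lit 0), (nat_lit 3)⟩)))))) (BT.node (nat_lit 44) (BT.node (nat_lit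 36) (BT.node (nat_lit 32) (BT.node (nat_lit 30) (BT.leaf ⟨[(nat_lit 1), (nat_lit 5), (nat_lit 6), (nat_lit 4), (nat_lit 5), (nat_lit 4), (nat_lit 6), (nat_lit 5)], (nat_lit 15), (nat_lit 7), (nat_lit 0), (nat_lit 3)⟩) (BT.node (nat_lit 31) (BT.leaf ⟨[(nat_lit 5), (nat_lit 1), (nat_lit 2), (nat_lit 1), (nat_lit 7), (nat_lit 5), (nat_lit 1), (nat_lit 3), (nat_lit 1), (nat_lit 7), (nat_lit 2), (nat_lit 7)], (nat_lit 18), (nat_lit 8), (nat_lit 0), (nat_lit 3)⟩) (BT.leaf ⟨[(nat_lit 5), (nat_lit 5)], (nat_lit 7), (nat_lit 0), (nat_lit 0), (nat_lit 5)⟩))) (BT.node (nat_lit 34) (BT.node (nat_lit 33) (BT.leaf ⟨[(nat_lit 2), (nat_lit 3)], (nat_lit 26), (nat_lit 0), (nat_lit 0), (nat_lit 5)⟩) (BT.leaf ⟨[(nat_lit 5), (nat_lit 1), (nat_lit 3), (nat_lit 1), (nat_lit 5), (nat_lit 7), (nat_lit 1), (nat_lit 5), (nat_lit 1), (nat_lit 7), (nat_lit 3), (nat_lit 1)], (nat_lit 45), (nat_lit 11), (nat_lit 0), (nat_lit 3)⟩)) (BT.node (nat_lit 35) (BT.leaf ⟨[(nat_lit 7),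 (nat_lit 1), (nat_lit 5), (nat_lit 1), (nat_lit 7), (nat_lit 3), (nat_lit 1), (nat_lit 5), (nat_lit 1), (nat_lit 3), (nat_lit 1), (nat_lit 5)], (nat_lit 45), (nat_lit 4), (nat_lit 0), (nat_lit 3)⟩) (BT.leaf ⟨[(nat_lit 7), (nat_lit 3), (nat_lit 1), (nat_lit 5), (nat_lit 1), (nat_lit 3), (nat_lit 1), (nat_lit 5), (nat_lit 7), (nat_lit 1), (nat_lit 5), (nat_lit 1)], (nat_lit 45), (nat_lit 8), (nat_lit 0), (nat_lit 5)⟩)))) (BT.node (nat_lit 40) (BT.node (nat_lit 38) (BT.node (nat_lit 37) (BT.leaf ⟨[(nat_lit 0), (nat_lit 1), (nat_lit 3), (nat_lit 1), (nat_lit 5), (nat_lit 7), (nat_lit 3), (nat_lit 7), (nat_lit 1), (nat_lit 2), (nat_lit 1), (nat_lit 5), (nat_lit 7)], (nat_lit 46), (nat_lit 0), (nat_lit 1), (nat_lit 3)⟩) (BT.leaf ⟨[(nat_lit 0), (nat_lit 1), (nat_lit 2), (nat_lit 1), (nat_lit 5), (nat_lit 1), (nat_lit 2), (nat_lit 7), (nat_lit 1), (nat_lit 5), (nat_lit 1), (nat_lit 7), (nat_lit 5)], (nat_lit 17), (nat_lit 9), (nat_lit 1), (nat_lit 3)⟩))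 (BT.node (nat_lit 39) (BT.leaf ⟨[(nat_lit 3), (nat_lit 7), (nat_lit 6), (nat_lit 7), (nat_lit 2), (nat_lit 6), (nat_lit 3), (nat_lit 1), (nat_lit 5), (nat_lit 1), (nat_lit 2), (nat_lit 6)], (nat_lit 20), (nat_lit 4), (nat_lit 0), (nat_lit 5)⟩) (BT.leaf ⟨[(nat_lit 3), (nat_lit 3), (nat_lit 3)], (nat_lit 29), (nat_lit 0), (nat_lit 0), (nat_lit 3)⟩))) (BT.node (nat_lit 42) (BT.node (nat_lit 41) (BT.leaf ⟨[(nat_lit 1), (nat_lit 3), (nat_lit 1), (nat_lit 6), (nat_lit 1), (nat_lit 3), (nat_lit 1), (nat_lit 6)], (nat_lit 42), (nat_lit 0), (nat_lit 0), (nat_lit 3)⟩) (BT.leaf ⟨[(nat_lit 2), (nat_lit 1), (nat_lit 2), (nat_lit 1), (nat_lit 2), (nat_lit 1)], (nat_lit 4), (nat_lit 0), (nat_lit 0), (nat_lit 3)⟩)) (BT.node (nat_lit 43) (BT.leaf ⟨[(nat_lit 0), (nat_lit 1), (nat_lit 3), (nat_lit 1), (nat_lit 6), (nat_lit 1), (nat_lit 3), (nat_lit 1), (nat_lit 6)], (nat_lit 42), (nat_lit 0), (nat_lit 1), (nat_lit 3)⟩) (BT.leaf ⟨[(nat_lit 0), (nat_lit 4), (nat_lit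 5), (nat_lit 6), (nat_lit 7), (nat_lit 5), (nat_lit 7), (nat_lit 1), (nat_lit 5), (nat_lit 6), (nat_lit 5)], (nat_lit 49), (nat_lit 4), (nat_lit 1), (nat_lit 5)⟩))))) (BT.node (nat_lit 51) (BT.node (nat_lit 47) (BT.node (nat_lit 45) (BT.leaf ⟨[(nat_lit 4), (nat_lit 5), (nat_lit 6), (nat_lit 5), (nat_lit 1), (nat_lit 7), (nat_lit 5), (nat_lit 7), (nat_lit 6), (nat_lit 5)], (nat_lit 21), (nat_lit 5), (nat_lit 0), (nat_lit 5)⟩) (BT.node (nat_lit 46) (BT.leaf ⟨[(nat_lit 4), (nat_lit 2), (nat_lit 4), (nat_lit 2), (nat_lit 4), (nat_lit 2)], (nat_lit 5), (nat_lit 0), (nat_lit 0), (nat_lit 3)⟩) (BT.leaf ⟨[(nat_lit 4), (nat_lit 3), (nat_lit 4), (nat_lit 3), (nat_lit 4), (nat_lit 3)], (nat_lit 33), (nat_lit 1), (nat_lit 0), (nat_lit 3)⟩))) (BT.node (nat_lit 49) (BT.node (nat_lit 48) (BT.leaf ⟨[(nat_lit 4), (nat_lit 1), (nat_lit 4), (nat_lit 1)], (nat_lit 3), (nat_lit 0), (nat_lit 0), (nat_lit 3)⟩) (BT.leaf ⟨[(nat_lit 3), (nat_lit 4), (nat_lit 3), (nat_lit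 4), (nat_lit 3), (nat_lit 4)], (nat_lit 33), (nat_lit 0), (nat_lit 0), (nat_lit 3)⟩)) (BT.node (nat_lit 50) (BT.leaf ⟨[(nat_lit 3), (nat_lit 5), (nat_lit 3), (nat_lit 5)], (nat_lit 36), (nat_lit 0), (nat_lit 0), (nat_lit 3)⟩) (BT.leaf ⟨[(nat_lit 3), (nat_lit 1), (nat_lit 6), (nat_lit 1), (nat_lit 3), (nat_lit 1), (nat_lit 6), (nat_lit 1)], (nat_lit 42), (nat_lit 1), (nat_lit 0), (nat_lit 3)⟩)))) (BT.node (nat_lit 55) (BT.node (nat_lit 53) (BT.node (nat_lit 52) (BT.leaf ⟨[(nat_lit 7), (nat_lit 5), (nat_lit 1), (nat_lit 3), (nat_lit 1), (nat_lit 7), (nat_lit 2), (nat_lit 7), (nat_lit 5), (nat_lit 1), (nat_lit 2), (nat_lit 1)], (nat_lit 18), (nat_lit 0), (nat_lit 0), (nat_lit 3)⟩) (BT.leaf ⟨[(nat_lit 2), (nat_lit 7), (nat_lit 1), (nat_lit 3), (nat_lit 6), (nat_lit 5), (nat_lit 6), (nat_lit 2), (nat_lit 1), (nat_lit 7), (nat_lit 3), (nat_lit 6)], (nat_lit 19), (nat_lit 3), (nat_lit 0), (nat_lit 3)⟩)) (BT.node (nat_lit 54) (BT.leaf ⟨[(nat_lit 7), (nat_lit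 2), (nat_lit 6), (nat_lit 3), (nat_lit 1), (nat_lit 5), (nat_lit 1), (nat_lit 2), (nat_lit 6), (nat_lit 3), (nat_lit 7), (nat_lit 6)], (nat_lit 20), (nat_lit 7), (nat_lit 0), (nat_lit 3)⟩) (BT.leaf ⟨[(nat_lit 1), (nat_lit 2), (nat_lit 1), (nat_lit 2), (nat_lit 1), (nat_lit 2)], (nat_lit 4), (nat_lit 1), (nat_lit 0), (nat_lit 3)⟩))) (BT.node (nat_lit 57) (BT.node (nat_lit 56) (BT.leaf ⟨[(nat_lit 6), (nat_lit 1), (nat_lit 2), (nat_lit 1), (nat_lit 6), (nat_lit 1), (nat_lit 2), (nat_lit 1)], (nat_lit 14), (nat_lit 0), (nat_lit 0), (nat_lit 3)⟩) (BT.leaf ⟨[(nat_lit 7), (nat_lit 6), (nat_lit 5), (nat_lit 4), (nat_lit 5), (nat_lit 6), (nat_lit 5), (nat_lit 1), (nat_lit 7), (nat_lit 5)], (nat_lit 21), (nat_lit 2), (nat_lit 0), (nat_lit 3)⟩)) (BT.node (nat_lit 58) (BT.leaf ⟨[(nat_lit 7), (nat_lit 2), (nat_lit 6), (nat_lit 3), (nat_lit 1), (nat_lit 5), (nat_lit 1), (nat_lit 2), (nat_lit 6), (nat_lit 3), (nat_lit 7), (nat_lit 6)], (nat_lit 20), (nat_lit 7),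 (nat_lit 0), (nat_lit 5)⟩) (BT.leaf ⟨[(nat_lit 7), (nat_lit 6), (nat_lit 7), (nat_lit 2), (nat_lit 6), (nat_lit 3), (nat_lit 1), (nat_lit 5), (nat_lit 1), (nat_lit 2), (nat_lit 6), (nat_lit 3)], (nat_lit 20), (nat_lit 5), (nat_lit 0), (nat_lit 3)⟩)))))))
noncomputable def eM22_3_hcs : List CW := [⟨[(nat_lit 6)], (nat_lit 0), (nat_lit 0), (nat_lit 0), (nat_lit 0)⟩, ⟨[(nat_lit 5)], (nat_lit 1), (nat_lit 0), (nat_lit 0), (nat_lit 0)⟩, ⟨[(nat_lit 4)], (nat_lit 2), (nat_lit 0), (nat_lit 0), (nat_lit 0)⟩, ⟨[(nat_lit 2)], (nat_lit 3), (nat_lit 0), (nat_lit 0), (nat_lit 0)⟩, ⟨[(nat_lit 1)], (nat_lit 4), (nat_lit 0), (nat_lit 0), (nat_lit 0)⟩, ⟨[(nat_lit 6)], (nat_lit 5), (nat_lit 0), (nat_lit 0), (nat_lit 0)⟩, ⟨[(nat_lit 5)], (nat_lit 6), (nat_lit 0), (nat_lit 0), (nat_lit 0)⟩, ⟨[(nat_lit 4)], (nat_lit 7), (nat_lit 0), (nat_lit 0), (nat_lit 0)⟩, ⟨[(nat_lit 3)], (nat_lit 8), (nat_lit 0), (nat_lit 0), (nat_lit 0)⟩, ⟨[(nat_lit 1)], (nat_lit 9), (nat_lit 0),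 (nat_lit 0), (nat_lit 0)⟩]
noncomputable def eM22_3_H (x j : Nat) : Bx (Nat → Nat → Nat) := mkH eM22_3_L eM22_3_pb.1 eM22_3_e.get (lmap CW.w eM22_3_hcs) (nat_lit 22) (nat_lit 23) (nat_lit 8) (nat_lit 32) (nat_lit 2048) (nat_lit 2047) x (eM22_3_rots.get j)
noncomputable def eM22_3_F (x b : Nat) : Bool := blkOK eM22_3_H eM22_3_ch (nat_lit 23) (nat_lit 32) (nat_lit 64) (nat_lit 8) (nat_lit 255) (nat_lit 16) (nat_lit 65535) x b

theorem eM22_3_k0_0 : allFrom (eM22_3_F (nat_lit 0)) (nat_lit 0) (nat_lit 4) = true := by decide +kernel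
theorem eM22_3_k1_0 : allFrom (eM22_3_F (nat_lit 1)) (nat_lit 0) (nat_lit 4) = true := by decide +kernel
theorem eM22_3_k2_0 : allFrom (eM22_3_F (nat_lit 2)) (nat_lit 0) (nat_lit 4) = true := by decide +kernel
theorem eM22_3_k3_0 : allFrom (eM22_3_F (nat_lit 3)) (nat_lit 0) (nat_lit 4) = true := by decide +kernel
theorem eM22_3_k4_0 : allFrom (eM22_3_F (nat_lit 4)) (nat_lit 0) (nat_lit 4) = true := by decide +kernel
theorem eM22_3_k5_0 : allFrom (eM22_3_F (nat_lit 5)) (nat_lit 0) (nat_lit 4) = true := by decide +kernel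
theorem eM22_3_k6_0 : allFrom (eM22_3_F (nat_lit 6)) (nat_lit 0) (nat_lit 4) = true := by decide +kernel
theorem eM22_3_k7_0 : allFrom (eM22_3_F (nat_lit 7)) (nat_lit 0) (nat_lit 4) = true := by decide +kernel

noncomputable def KM22c3_0 : Net := (Net.cons (nat_lit 1) (nat_lit 0x1541554111554551015040011055410450441011504041551410110410) (Net.cons (nat_lit 2) (nat_lit 0x1113220020021112213102031101322123023123311013330000202100) (Net.cons (nat_lit 4) (nat_lit 0x70f01000b000a0d0a0206030d0e08010502060d0a0c05030100010000) (Net.cons (nat_lit 8) (nat_lit 0x9400fd00e900d600d700290021008000a00020004c005600b10020) (Net.cons (nat_lit 16) (nat_lit 0x1f2300006534000073c5000054c00000c03c0000045600000020) (Net.cons (nat_lit 32) (nat_lit 0xa000000000734065a000000004bb05c500000000008040000) (Net.cons (nat_lit 64) (nat_lit 0x92101529000000000000000006c74100000000000) (Net.cons (nat_lit 128) (nat_lit 0x9330156d06f74140200000000) (Net.cons (nat_lit 64) (nat_lit 0x493d77c39a0000000000000000fcf459f0c80c0020)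 (Net.cons (nat_lit 32) (nat_lit 0x2f0000000077ad7e6f000000003ab1bc46000000006c765200) (Net.cons (nat_lit 16) (nat_lit 0x66a30000a535000033d4000004c10000843c0000445f000059b0) (Net.cons (nat_lit 8) (nat_lit 0x8400fd00fe00c700ce00390020009000b30030005c004600a100bc) (Net.cons (nat_lit 4) (nat_lit 0x70f09010b000a0d0a0206030d0e08010502060d0a0c0503010801080a) (Net.cons (nat_lit 2) (nat_lit 0x1113220020031012213322031101322323023123311013330000202100) (Net.cons (nat_lit 1) (nat_lit 0x1501554101544451015541011055410450441011504041551410110410) Net.nil)))))))))))))))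
noncomputable def KM22c3_1 : Net := (Net.cons (nat_lit 1) (nat_lit 0x1045441404445000414554104055500011440015100414154500404014) (Net.cons (nat_lit 2) (nat_lit 0x1101031103201323031100022201223022302202233021030103130300) (Net.cons (nat_lit 4) (nat_lit 0x30c030509050f090e0f0707020e0d010204000c040703070d0a0f0c00) (Net.cons (nat_lit 8) (nat_lit 0x77003100200060001b00a0004400d0005200b90049002c00280004) (Net.cons (nat_lit 16) (nat_lit 0x3a020000a6c0000024330000ccc8000041ce0000835600000004) (Net.cons (nat_lit 32) (nat_lit 0x19000000000669210000000000ed0b3dc000000000a0104080) (Net.cons (nat_lit 64) (nat_lit 0x451a0281c0000000000000000ae82580000000000) (Net.cons (nat_lit 128) (nat_lit 0x1d71fc6ffefe8b5a1020000000) (Net.cons (nat_lit 64) (nat_lit 0x27d6fe577f00000000000000004f9172654d2a4084) (Net.cons (nat_lit 32) (nat_lit 0x1f00000000da3bde5f00000000b09dd0ca00000000dceffb84) (Net.cons (nat_lit 16) (nat_lit 0x747000030840000fb420000566e000028d30000487b000008f4)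 (Net.cons (nat_lit 8) (nat_lit 0xb00082001100fb0062006200c60055008f002300b800cf00870038) (Net.cons (nat_lit 4) (nat_lit 0x902030600080d0a06070b020e080c0701090c0d0704080b00020504) (Net.cons (nat_lit 2) (nat_lit 0x100313203230332303002121200130201322133010321232232002310) (Net.cons (nat_lit 1) (nat_lit 0x100045444041445401541441554455554040141400444040411411400) Net.nil)))))))))))))))
noncomputable def KM22c3_2 : Net := (Net.cons (nat_lit 1) (nat_lit 0x1515114114554400551455105110011455441451411145115540410000) (Net.cons (nat_lit 2) (nat_lit 0x1012311111333033231110103020311300120222321010020231222000) (Net.cons (nat_lit 4) (nat_lit 0x60b0e000f0d02010e06050a0c0c07020c0b06000303040a0007010800) (Net.cons (nat_lit 8) (nat_lit 0x10009700b600ca0011004d000f00b200320021004b008800610003) (Net.cons (nat_lit 16) (nat_lit 0x21060000656a0000b33a0000224e000053c200005c8400000000) (Net.cons (nat_lit 32) (nat_lit 0x97ecaa040000000018a777040000000010868200) (Net.cons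 (nat_lit 64) (nat_lit 0x38028288700000000000000001c94c30000000000) (Net.cons (nat_lit 128) (nat_lit 0x3b02b3c879df4db8400000000) (Net.cons (nat_lit 64) (nat_lit 0x3abfccb8700000000000000004e16d7e847048200) (Net.cons (nat_lit 32) (nat_lit 0x3f00000000e7ef9eff000000003ae7d797000000002a0e7202) (Net.cons (nat_lit 16) (nat_lit 0x81860000d5ea0000033a0000034e000063e200006c150000b0d1) (Net.cons (nat_lit 8) (nat_lit 0x9000170036004a009100cd000f003a00b200a100cb000800e1008f) (Net.cons (nat_lit 4) (nat_lit 0x70b0e010f0d02010e06050a0c0c07020c0b06000303040a0007010802) (Net.cons (nat_lit 2) (nat_lit 0x1012311111333033231110303020311300120222321010020231222000) (Net.cons (nat_lit 1) (nat_lit 0x1515114114554400551455105110011455441451411145115540410000) Net.nil)))))))))))))))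
noncomputable def KM22c3_3 : Net := (Net.cons (nat_lit 1) (nat_lit 0x1411114501100554450154510104151400001140405401010045010400) (Net.cons (nat_lit 2) (nat_lit 0x321002313022023001311200020230032001223101211030003010000) (Net.cons (nat_lit 4) (nat_lit 0x60b080d0a0504000508040908030e05000803060f0e0b0b030d090000) (Net.cons (nat_lit 8) (nat_lit 0xb8005000120016006d003100340000009b008b007200aa00c80000) (Net.cons (nat_lit 16) (nat_lit 0x5480000001d3000045fe0000c8c10000a1210000e40800000009) (Net.cons (nat_lit 32) (nat_lit 0x1a0000000061fe9300000000001db10c6c0000000000000400) (Net.cons (nat_lit 64) (nat_lit 0x8097a67c200000000000000003408180000000000) (Net.cons (nat_lit 128) (nat_lit 0x1849fb67c63cbd180000000000) (Net.cons (nat_lit 64) (nat_lit 0x6b4de7fbea00000000000000007f811965ba000409) (Net.cons (nat_lit 32) (nat_lit 0x3a000000006eff83fc0000000041298c2c000000001d02fe00) (Net.cons (nat_lit 16) (nat_lit 0xf2880000305b0000d1ef0000dd000000e1200000e48000000059)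 (Net.cons (nat_lit 8) (nat_lit 0x6000810002008f006d006300250051008a00d2006300eb00c90004) (Net.cons (nat_lit 4) (nat_lit 0x60301090200040805090008010606020205030e0f0e0203090c090008) (Net.cons (nat_lit 2) (nat_lit 0x1121002203122023003301200020331122101223100211033203010200) (Net.cons (nat_lit 1) (nat_lit 0x1511114501101154451114510104141410001141405401010045010401) Net.nil)))))))))))))))
noncomputable def KM22c3_4 : Net := (Net.cons (nat_lit 1) (nat_lit 0x1015510455001154110540414041150510440005515110100000040040) (Net.cons (nat_lit 2) (nat_lit 0x221103003102101022222233123212231202202210111320102200020) (Net.cons (nat_lit 4) (nat_lit 0x5070c0a020206050204080502080a00040d0d04090203060000080008) (Net.cons (nat_lit 8) (nat_lit 0x8500e300010088009900c2005400ee002500440033000600200000) (Net.cons (nat_lit 16) (nat_lit 0x19990000214400002f75000029ec0000019e0000104000000040) (Net.cons (nat_lit 32) (nat_lit 0x17000000008994e80d0000000096e350880000000012420080)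 (Net.cons (nat_lit 64) (nat_lit 0x284e204565000000000000000000c0238000000000) (Net.cons (nat_lit 128) (nat_lit 0x28dea36565cdec238000000000) (Net.cons (nat_lit 64) (nat_lit 0x2f4d74fff5000000000000000056eb778d057400c0) (Net.cons (nat_lit 32) (nat_lit 0x7f00000000ddbecb2500000000b2cb39b20000000026f37ac0) (Net.cons (nat_lit 16) (nat_lit 0x5f990000434c0000a57d00006be40000c1960000604a00007008) (Net.cons (nat_lit 8) (nat_lit 0x8500eb008100d800d900ca005400ee00650050006b0006006100c0) (Net.cons (nat_lit 4) (nat_lit 0x5070d0b00000607020000070b0a0b000c0c0d010d0b030600090d000a) (Net.cons (nat_lit 2) (nat_lit 0x221103003102101022222233123212231202202210111320102200021) (Net.cons (nat_lit 1) (nat_lit 0x1015510455001154110540414041150510440005515110100000040040) Net.nil)))))))))))))))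
noncomputable def KM22c3_5 : Net := (Net.cons (nat_lit 1) (nat_lit 0x1501145100050110140550401045004501055140540050140410005014) (Net.cons (nat_lit 2) (nat_lit 0x1131030231320312230200031301232233311302201320312220103020) (Net.cons (nat_lit 4) (nat_lit 0x4030002040108000a020c040003090a010f0f080500000c04000008) (Net.cons (nat_lit 8) (nat_lit 0x9800dc000200f8003f00890087002c0079000a0068000500410000) (Net.cons (nat_lit 16) (nat_lit 0x10d0000004840000098f0000c4e4000052740000481100000000) (Net.cons (nat_lit 32) (nat_lit 0x8000000002309522100000000b0d653000000000000030800) (Net.cons (nat_lit 64) (nat_lit 0x58484122400000000000000001100490000000000) (Net.cons (nat_lit 128) (nat_lit 0x594975327958c490000020000) (Net.cons (nat_lit 64) (nat_lit 0x6e7c508af0000000000000000d7d77b3aee840800) (Net.cons (nat_lit 32) (nat_lit 0x5f00000000af8dd67600000000347341c700000000bd863500) (Net.cons (nat_lit 16) (nat_lit 0xc500000548400001baf0000f4e40000687e0000701100003858)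 (Net.cons (nat_lit 8) (nat_lit 0x110076002100fa003f00890087002e006a00080068008700430080) (Net.cons (nat_lit 4) (nat_lit 0xe0a080a070b08000a0a0f040103090a000e0f080500010c0500000a) (Net.cons (nat_lit 2) (nat_lit 0x1131030231320312230200031301232233311302201320312220103021) (Net.cons (nat_lit 1) (nat_lit 0x1501145100050110140541541045004501055140540050140410005014) Net.nil)))))))))))))))
noncomputable def KM22c3 : List Net := [KM22c3_0, KM22c3_1, KM22c3_2, KM22c3_3, KM22c3_4, KM22c3_5]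
noncomputable def AM22c3 : List Nat := [(nat_lit 0x208c090170040b4244202cd11004040191210008622108c0282040d000),
  (nat_lit 0x62c60d185426068c091182640400804882472081081802000020000001),
  (nat_lit 0x40840692040841c09f00202180800018008212049a0001082008000000),
  (nat_lit 0x48884ce1141b8004080380a70040004800148003300500410020000000),
  (nat_lit 0x70620222064000b14800920a02000448e002100106420080000041200),
  (nat_lit 0xd900483a5321740002a5120402840500118048444302081000000000),
  full (nat_lit 231)]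

noncomputable def BM22c3 : List Nat := [(nat_lit 0x242120409883000800ec104e29a42902a00b082000ca2280104810000),
  (nat_lit 0x8085024a990281122224892a268060100804000040200002000208002),
  (nat_lit 0x212082540a11032001f0002044145401a00400b000480000100500000),
  (nat_lit 0x2042901ca004624141504158432a40044002200c0400c0001400000000),
  (nat_lit 0x105040988100a810211030004c44120050018c21000080404600814000),
  (nat_lit 0x40008ab181a48800040852c84bc0504000ce0800a11810000420010000),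
  (nat_lit 0)]

noncomputable def KM22c4_0 : Net := (Net.cons (nat_lit 1) (nat_lit 0x51151500114404504411404404155405410054555114051515444114041415414055000140400405500010004400400545045441500504401510054041151441501555040014045500005005514010000155415445105441154501004555104554550555005011045511155511004141554550451441014000115410415055154541151015055044440041550014115400101005145114110140) (Net.cons (nat_lit 2) (nat_lit 0x2000101120102030101102030222133133230323122133331212322123132312021010100013111030121032012002132120332033023020030133110331221320103300310120223233201313011311223311133321000101203031120311232320230213301302222310322111322210003332112303221321031232023000220002000111130120221331230002021130302001120022020) (Net.cons (nat_lit 4) (nat_lit 0x5020b0705000700000108050506040700030e02070c0f0d0a030d080201040103080c0d04020908020c070504040b000603060c0e0a0906010d02000f0200000806090a0f08000b010e0a0e0809050600010402010d0400090d09010202070a0c0b0b050c020f0304040a000d01030b0209080b080d0c090003000c0504080909040603090b07060f010402030009040b0609000a010b000000)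 (Net.cons (nat_lit 8) (nat_lit 0x5700890041003700da00eb001e007a000e00ff000f002600cb00950020005b007f0001002a0061005c000a00ee00c200320079001e00780099001b00a100a8009c0080003f00fc004d00f800710058000800fe004200d000ad001400bd0034008300ca000000a5008900ea008100160007009e002b0094008d004a004500c600b200cf0092003900f9005900b6002900280048000100950000) (Net.cons (nat_lit 16) (nat_lit 0x7ab40000009f00001fe70000b5100000761b0000b7be000024260000fd4d000042430000897c000014f40000f01f000061910000c50e0000d15f0000b82f0000a2e100003c230000219d00009e9b0000d74c0000888e0000d49f00005d3700006f2700000b96000031a00000413400003ebe00006b0900003959000003c30000cfa0000022d70000fb7a00005cc20000f30000001d06) (Net.cons (nat_lit 32) (nat_lit 0xb41c5e2000000003d8fc5c70000000004777a35000000003b4de8db00000000a0154e9e00000000ecf1dcde00000000f24a904a00000000e1f88bcb00000000c441ce0b00000000f7407c780000000007a5c43e000000002580ffdd00000000cd2fe17400000000570ad1e800000000caa10949000000008bac193b00000000206a14780000000004c15a070000000000000002)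 (Net.cons (nat_lit 64) (nat_lit 0x2c1100000000000000009858d61f08ce09090000000000000000b8b5801c2ee7e785000000000000000014df1239492365bc00000000000000005530b20a18518285000000000000000038bf14e180678d0100000000000000002a16e4c8468a44ab00000000000000008fc9396b315fcee80000000000000000a4e0361a56c6400600000000000000000450404803600000) (Net.cons (nat_lit 128) (nat_lit 0x34b90529a30816a0427800000000000000000000000000000000080514d315874f597c96cb4244504d2300000000000000000000000000000000dbe13a0e0d596533e2e5d681f9253e340000000000000000000000000000000014ae505304178a423340372818154000000000000000000000000000000000000001c482000000000000000000000000) (Net.cons (nat_lit 256) (nat_lit 0xf8b0981331b261221662320cd7760d3b660e2c5600cb96baeb948deb4b2223a100000000000000000000000000000000000000000000000000000000000000000000000000000300102006082284040000208000000000000200000000004000) (Net.cons (nat_lit 512) (nat_lit 0xf903c78262c66f6065a7a19ceffbff93f2bedf195a49b5711a9) (Net.cons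 (nat_lit 1024) (nat_lit 0xf903c78262c66f6065a7a39ceffbff93f2beff195a49b5751a9) (Net.cons (nat_lit 512) (nat_lit 0xfbf89e9e34dc537a5682cec9a1c41d33341fa514e2e3bfb1fce799fffabdae08020600018163af903c58f7be74fe465e7a398effbff93f2beff195a49b5751a9) (Net.cons (nat_lit 256) (nat_lit 0xb088d98a6a9443f6b9f5064cebe6a64bc363b9112c66d6ad4d26c29582a37ba2000000000000000000000000000000000000000000000000000000000000000054a78041c322e926ab7831369f1fe7d8e92e5eb2001cd04c0210004803604000) (Net.cons (nat_lit 128) (nat_lit 0xa7d6602cde7233882b66000000000000000000000000000000008c2939da1501d8a87210d708154120b500000000000000000000000000000000cfc709b9154bb2bbf477f7dfffad640f00000000000000000000000000000000101144d2ed820901f4020b5a0c134fa500000000000000000000000000000000a40e17ff189694d0f0cf3b7902600002) (Net.cons (nat_lit 64) (nat_lit 0x79fa0000000000000000486313f3d02e1c420000000000000000ca13c0d6aa67c3fd0000000000000000b4631a3d81a970b4000000000000000017078bfcf17d89fe00000000000000000e7b0e0610f3e9680000000000000000293cac14a78465f800000000000000004e713a15b0dd8fe9000000000000000000e837cac3f405440000000000000000b27833baa3112c00)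 (Net.cons (nat_lit 32) (nat_lit 0x6af1d4ca0000000085def3470000000013ef3d7d000000001fc5ee9b00000000e4220f1e000000008c1ddfdc000000009f5298c800000000f14f8a290000000022dceedb00000000c7fc28eb000000004331e32500000000021d88580000000002b1c67c00000000f61a425a00000000eebe0f2000000000fef27f7800000000054003fd0000000035910a07000000001d70c406) (Net.cons (nat_lit 16) (nat_lit 0x1a9500001abe000003a5000035300000b45a0000933f000022b70000b2fd000062e10000e1780000543c00002045000098ba0000c92e000081f70000ec850000f8630000ee6b0000a10d0000a10b0000f66f000018a40000d00b00000b81000020e70000ed9c0000f13a0000d05c00004b5400004ec00000a998000035930000fd10000053c100006b1200004a8b0000e72200004bde) (Net.cons (nat_lit 8) (nat_lit 0x70089002100be009a00a900160073004f00bf00fd0007004a00950072005300ff00e90009002500f900aa00ae00b300ca0048003700500046007b008a00a8004800e0006e0018005500e80061004000680096005100f3001d001000ba000500f30068000a00810060009a00b10026005300dd006e00d700fe0048007500fe00f0007d00b6000900cd003b00c6004c002a003a003100e50050)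 (Net.cons (nat_lit 4) (nat_lit 0x4030b070502070000000a0705060107000305020d0e0f0d0a030c090203040001090c0d04010d0a02000f04060401000409070c0e020904000c00020f0200000c0f0b080f080e0b030e0a0e0a08070600010e0302050408090d09000602050a0c0a080f0c030f030e0c0a000501020b02090a09080f0e090003000c070708090a070e03090a06070d03040303000b040b060b000b030b000002) (Net.cons (nat_lit 2) (nat_lit 0x2000121120102020101102020222033133230323022132331212222123132312020110100013111030021032012002132120332033023030130133110321221320103300310130223232201313011301223311333321002101203031020211232320310213201302222310322111322210003332112303221321030232203300222002000111130120221331231002021132302001120022020) (Net.cons (nat_lit 1) (nat_lit 0x51151500114404504411414404155405410054555114051515444154041415414055000140400405500010004401400545045441500504401510054041151441501555050014045500005005514010000155415445105441154501004555104554550555005011045511155511004141554550451441014000115410415055154541151015055044440041550014115400101005145114110140)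 Net.nil)))))))))))))))))))))
noncomputable def KM22c4_1 : Net := (Net.cons (nat_lit 1) (nat_lit 0x105415015045405501154514141150400115140554411410515110041454150451505141000441541001415415451505410444441545114104500450441505445140051155551501514144440041404515014055111005105551450510041445450551401141414044010511150454051010111555414150140115440115515454014401144511514040140555040411501054010000150404) (Net.cons (nat_lit 2) (nat_lit 0x20133203110033330123303100033010213233330313013330000133023031223012021223030120211033110332220003331002200231000310200112101322112311102033320120030222213120120313133222231100012330021203133010120220212022231300001213131023221021001001123111031002122201200103232333321321103012301200011323212012302000010000) (Net.cons (nat_lit 4) (nat_lit 0xe0202050f020a0d0e00000d060e030c05040508090a0f0303030606040b07080a0d0a0f040906090d010005040d030f0c05080a030f060c080f0f010b0e040c08040505030602010b02080903050f060a08060f0d020f0b030c030b0e0f0f00010501030201020908020a030a0d02060909090a0a0d0002090e0900070f010e020b04040e0e0d0e090a080008040a0d0b0d0702060c09000b00)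 (Net.cons (nat_lit 8) (nat_lit 0x570056003000df000b006700ad002a0017006500b8008a006200a700a1004b002c00f1003c003c0030006700b5004a00b600950003007800dd00a4005d00da00ed00b9009e00a100ce0015007a001300d8004600b1006200fe0060007300fa009c00ae008200cc0035000d00b3004c00cc0060001e00d200b8002b009100ba001f00a700700059005800f40075000200180071006b00020000) (Net.cons (nat_lit 16) (nat_lit 0xd0cd0000ed5f0000a19400008fc30000bb07000069540000b32b00001fbf0000c5fb00006f4000008ba30000b6e90000514800001eb600007d21000042d20000d2830000f1e300001a90000069aa0000fb8c0000a0880000249100003ea00000fa1b00000bcc00000a9e0000ce8a000074dc0000262800005bc1000006b40000c0dc00008ae00000690400000caa0000084300002c80) (Net.cons (nat_lit 32) (nat_lit 0x196ff60d000000006114c4600000000086bbc239000000008cb487b9000000001df58f390000000047d1015500000000030667880000000025dbcbed000000008456cb88000000009d7e7255000000005ed26ae0000000000ac310c800000000f69d11be0000000086147d5400000000fa6da127000000003a44080500000000730ecf190000000003019a360000000000008400)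 (Net.cons (nat_lit 64) (nat_lit 0x83990000000000000000332d394534b37ce10000000000000000004946345fca42120000000000000000fa86c93b4373a5d90000000000000000e8c5e69d00d32b480000000000000000b73c108bf82827830000000000000000429edd93785e4d0f0000000000000000768f2e045849923e00000000000000001812074196a380420000000000000000080c092208100000) (Net.cons (nat_lit 128) (nat_lit 0x52b64312861f222ebc0700000000000000000000000000000000bdc8d161e8c24ed13278732282c9300f00000000000000000000000000000000ef518a5a1ff0a0c401a7958177c853f10000000000000000000000000000000001e0e8c205d5002602a69084201891c000000000000000000000000000000000a00c28a4400000000000000000000000) (Net.cons (nat_lit 256) (nat_lit 0xe4ac914832d25994a9d15ca8a1b3cd250f9a0c22c5b48b50459be1851c687223000000000000000000000000000000000000000000000000000000000000000000000000000021208800044022a1c022803020205808000040400000c04a1000) (Net.cons (nat_lit 512) (nat_lit 0x61beaa09ffe8bbb3fce7f7dfbaf75d981a014ddbb1b7fcff9212)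 (Net.cons (nat_lit 1024) (nat_lit 0x61beaa09ffe8bbb3fce7f7ffbaf75d981a014ddbb1b7fcff9212) (Net.cons (nat_lit 512) (nat_lit 0xfdef03ee9fc0f3dc41c51471a180af1f0e024e20e3759b53300bc4913f2063e302019002211e291e263afeedbd92bc8777ef9a7345901a010d9bb1b73cb58212) (Net.cons (nat_lit 256) (nat_lit 0xb4a00149c060210c7a08344068f1d782be8e576241b0d7954127df13077460190000000000000000000000000000000000000000000000000000000000000000ec11f401388a2ce0aea5d586217b51edd0de2ad86a415f3648480122c04a1000) (Net.cons (nat_lit 128) (nat_lit 0x2aae96afa9cc1e6071ce000000000000000000000000000000003bed0b8b459f518a02a7fed02708a15100000000000000000000000000000000e753fa533b1efdd6043d6d373fd3fa5f00000000000000000000000000000000bee949048216a88d672129c16e22f84400000000000000000000000000000000590b91d4f6ef0ac7ae7a529d08108c00) (Net.cons (nat_lit 64) (nat_lit 0x47d6000000000000000015b5bccd298822b10000000000000000c72fbfd27dca768c0000000000000000feb17a7d63b0455900000000000000006a15f294425131150000000000000000131225195a53a50b000000000000000091e5bc35ef9a2ba500000000000000000cbe879437cce5480000000000000000ce350561be5121840000000000000000043c5494d36b2480)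 (Net.cons (nat_lit 32) (nat_lit 0x426cae3b00000000db29c722000000004373c4e000000000c7b33749000000006007d8ff0000000081f3f30e00000000d26262d100000000afff28cc0000000003f2e1d700000000a2c4371d000000004d91f3c200000000e44dc1130000000098e2313900000000652760f900000000bf049e9400000000edf88c8f000000001911c7f500000000f10278cd00000000d7117b80) (Net.cons (nat_lit 16) (nat_lit 0x874a00000978000039dd00001f5000001f8d00007ab000003b60000055fc0000ce9900002bcd0000fe1000005097000075e60000ce5a0000908c0000d5de00000ba40000539f00000b9800000ce40000bde30000b0200000afae00008b6400000ebf0000189b00003ac3000072e10000a80f000086080000a78500001131000040710000806600003a2a0000eb8a000043c10000f5f4) (Net.cons (nat_lit 8) (nat_lit 0x1c000a006800c3009400000035001c00b4006a009400d700890052004f008e004900fd009200490056004500280036003600b90081005a00f600e200b000c3001300c000ec00d80090008c00cf00c800a800eb0098003f0046007d002e00a4000700ff004f00a300b4007600c300590080005700cb00f300a200dc00ee00190070000c00200038008d0093003300de006b00b50079006b006c)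 (Net.cons (nat_lit 4) (nat_lit 0x60401040e0a030a000d0b06030205010c0e020c0602050d0f0c05050c04030a0605040000030100030c0f06090b0d0b0f0b0809050a05080a00030708050c0406080c0001090c0a050705030d0c02030404090702080e0b000a08070002020c00030e0a050907090401080d0706090d05090406000a0f0b0b0b000502010d0d000c0f07080e090c05030b0b0e0e030c0d0a0801020c0a0a0a0e) (Net.cons (nat_lit 2) (nat_lit 0x13331322103222033313031011302100333310003302220202123321033311331331022210100000113230101313201201000011212013101013102301102213102320321130300133033210131313203112301223100201220122111032311222320223313120222210312003322210120123302032211121001220012303130321230131220023003022310030232102322203212102312132) (Net.cons (nat_lit 1) (nat_lit 0x45114151045444111115041044400411551005040454004451515540051541145101140551055154451110541451044000050504411410041054405050450041140514440401051415011115041045554440115551005455405515040510544545440441045111015554450410415544401400404104105145141105551505514144415040054151050141405451500150114455114400011511)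 Net.nil)))))))))))))))))))))
noncomputable def KM22c4_2 : Net := (Net.cons (nat_lit 1) (nat_lit 0x14151510504150054501444145455515000510514415110504004501044114544401115511500151551445001510511544114504455105045500450044014555150551555151454414110041001114004541510545411555141404510445455011415415001000051145010444100414414114001140100454410104000041404410044001400454055505100045004510400004101550440100) (Net.cons (nat_lit 2) (nat_lit 0x12130233001132212131123021333203011013123130022012013221210332310312232101301100312221332203312232121111221220032012203111222310113311010231201020200111213133010233033220100111131311031210200200003111133020310013320210010103000130020110133321211001332322233302132120002123110302200322232200231211100011000100) (Net.cons (nat_lit 4) (nat_lit 0x8000c00070b0c0f03080d0902070704090e0402010402090d00090c03000b0e0b00060b05020e000d020e040a0a0e06030f070a01000208030d030c020e0c03080a0c0000020f0d0406060f0901070a090105080c080903000f030d0a050e09040f0503020e010608040804030104030406010a0f090404010803020208030409070c07010b030c050e0d090a0d050200050206040800010100)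 (Net.cons (nat_lit 8) (nat_lit 0xd300a700530020003700cf00c900ee000900db005a00f4003a00e400e90062009c0083004a00ea006d00b5005e00c6002500c0005200b200f5003300f9008600f7009a0089008d0040004b0098004f004b00c200b300500049004e007300fa007d0008004a009a00e60097001900af0002001e0036002c003c0044008c000e00a800fc009e008d0074009a008c00960093002a005000400000) (Net.cons (nat_lit 16) (nat_lit 0x77330000a49500006d3600001f8b000021e10000dea60000c22a00001a6d00002984000088eb0000f8490000a09000007cd2000021fe0000d6b20000aefa000031870000a06d0000530b0000129f0000ab8b0000370c0000115f00004db80000e8490000cc600000b6950000695c000040410000980d0000c95f00002b890000c811000040cc0000b236000048dd00009a1500000010) (Net.cons (nat_lit 32) (nat_lit 0x1496f77c00000000d3b28ed50000000003567c5f0000000078eac3000000000085c32a99000000001604f4de000000000f98fad900000000851b62430000000031e4c74800000000c0bb063d00000000908093db00000000128e16ce000000007c4f11540000000022692d200000000059c64c900000000078c80a6900000000e656442f000000002d0443630000000000002000)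 (Net.cons (nat_lit 64) (nat_lit 0x21d000000000000000002c99eeea374907d000000000000000003f4c37c1b20405d00000000000000000cb3dcc1cedc38091000000000000000099a7c38d51d9f80500000000000000004ffc7b49b7acf5b00000000000000000284ec9994b27073d000000000000000073c2b665e2841bd900000000000000001a9a0d8216d0610000000000000000004012834000000000) (Net.cons (nat_lit 128) (nat_lit 0x5218402de84e3c439011000000000000000000000000000000001c6c212386e0f04e4112c2181a8000110000000000000000000000000000000063ab1316c9b68748112325c874e45f00000000000000000000000000000000003c4c406420204200ee068a00819088270000000000000000000000000000000004048400000000000000000000000000) (Net.cons (nat_lit 256) (nat_lit 0x8f10251020803044705a61dcc8209f997a56caf3abf4903e0769f2057626670100000000000000000000000000000000000000000000000000000000000000000000000000000000000001030000000104000000000000000000001100000000) (Net.cons (nat_lit 512) (nat_lit 0x229076da380e8a2b95195c4dfdf7fcf7d18f4dffd6557f7e0546)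 (Net.cons (nat_lit 1024) (nat_lit 0x229076da390f8a2b95195c4dfdf7fcf7d18f4dffd6557f7e0546) (Net.cons (nat_lit 512) (nat_lit 0xee1dc57537beb7d941a3e44e72821a81fe5212231b6fb0343aad3722b376ffef31e978000164aebc7ffa3d9fbebbf5195c4dfdf7fcf7d18f4dffd6447f7e0546) (Net.cons (nat_lit 256) (nat_lit 0x881000edea822353b256190bc320871d76efb249eae4d0da7c2bc56f1ce27e50000000000000000000000000000000000000000000000000000000000000000013622b1008400066ae043bd1c57dbfae19edac9de2904fba4012805100000000) (Net.cons (nat_lit 128) (nat_lit 0x3a7e232b9bab62e7e2800000000000000000000000000000000074ae4af8a0a4d9485a54ca9840a828150000000000000000000000000000000033ff3b0bcdfe867f592785de3f767f6300000000000000000000000000000000845c26100420b022ca0c181d0b809011000000000000000000000000000000005c520067a6884231bccbd30d80002000) (Net.cons (nat_lit 64) (nat_lit 0x2382000000000000000035c0f2ea574b65a800000000000000006546398283070575000000000000000063fd944bdd1342770000000000000000b3afdb0ab41bce060000000000000000b49c1fe994dce5b60000000000000000a54eaed9fe2535be00000000000000003dd28533c3d62cfe000000000000000007b83f45349452a20000000000000000ee1053438fe7e010)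 (Net.cons (nat_lit 32) (nat_lit 0x3582946d0000000082b6ed9000000000c3121dbb0000000069aab28200000000b447215f00000000c684516a000000003a89fb6d0000000098cf6ba6000000007070c04c00000000e0ce983d000000009783ce5e00000000b68c9f2e00000000ccdb7a95000000009afa4ac0000000009a06dbb100000000cefb1c9f0000000050074cae000000008fd024260000000086205d90) (Net.cons (nat_lit 16) (nat_lit 0xf5720000f5430000482600005bb9000033b6000098ee0000c36c00004bab0000791400009e3a00007ede0000b4c20000bcd2000076690000d0700000bb7f0000b2070000a4e90000038f000021d2000089ed0000723c0000f05f00000df40000e99d00002ac20000a2940000cbfb0000d69d00001b1d00005dab000018d800001d210000c7cd0000b6b1000028ca0000297100007068) (Net.cons (nat_lit 8) (nat_lit 0xf100a600100071007d00ce009c00ce004d00fe006a00c6003a00c600bb007400dc00d5005800a8006b00f7009c00b00025008100d600c300e0002500a800c6008500c80088008d0040003b00de000e007e00a600810000007b0018005500f90038005a005800c8009000630048004a0063008a00e7006d007e0067009c000e008a008800ab009a00a7006f0069007300f2000f002300e40072)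 (Net.cons (nat_lit 4) (nat_lit 0xa050d01000a0d0a070a0e09050305050d0d0107010c03090c00090c03010e090f00020f01020f0208020b05080f0f06060d060b00040308060a030f070f0d0a0f0b0f0000070b0c0607070f0901070f0803010e0c0a0b03000e040f0a050e09050f0103070e020008050904020004070406020b0e0a040402080302020d06000a000e03030a070c04090b080a09020003050201020e01020000) (Net.cons (nat_lit 2) (nat_lit 0x3132223001132312131123021233303011012123131023012013231210332300312232101301101212221332202212233121011221220132013203111322310113311011231201120202111212033111233033220100111130311021201200200103111133120300013320200010103000130030110033321211001332013323302132020112123100212200322222200232311010101100011) (Net.cons (nat_lit 1) (nat_lit 0x14151510504150054501444145455515000510514415110504004501044114544401115511500151551445001510511544114504455105045500450044014555150551555151454414110041001114004541510545411555141404510445455011415415001000051145010444100414414114001140100454410104000041404410044001400454055505100045004510400004101550440100)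 Net.nil)))))))))))))))))))))
noncomputable def KM22c4_3 : Net := (Net.cons (nat_lit 1) (nat_lit 0x15154400155045141410510145415540454101101401155500054450000100401140015115005140440510550441040105114454511511545445150001044404100045155040005411040001045410415104450155055145500110011141010504001550550450141050054440544104100000440100111401400400140104144044000540541044151555010415011441514440154410100004) (Net.cons (nat_lit 2) (nat_lit 0x31231020302210002012330312203113332312103111201012202211021321310120301132220021211131000122222220101031312030123331003000032331110132211020132210223133322323312031123031331013001300333103213121201232101223113332330021001120101302322122020002101332323202100203212322323322020102311221221030100200311321023000) (Net.cons (nat_lit 4) (nat_lit 0x2020000080a020b08050d0c020c090909050e0e0f050602090808040c0e0400050a01030c0c0c03020e070301010f0e04050c0e030b0b05030a060d050b0d06080c060b020401080808060f000d090905050a0705090003090d0702000b050f05030e0308010003010f03040d09020a030b01030c040303060d0d0e060b0b080b020801020900050b000506000b0a0e0e0400070e050c090900)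 (Net.cons (nat_lit 8) (nat_lit 0x13003a00ba004200d7009b008a0044001e00ee001e005e002c002d00f0006400da00240045008b00cf00760004000800e200070095001d002f00c40085004a0021007600c5000a007a008200d100a500f9003b00b700c9007000f10092008d007c007600800021006200f6003300e100e1001000260028008700600017000500d70091007d0077009400c4000200a300d500c5005800010000) (Net.cons (nat_lit 16) (nat_lit 0x3d320000ab1e0000a1490000f2df00001ef4000074400000822d000061660000a3cd000056ab000054c200007d4a0000bb1d000080c100001e6200006284000008870000e95b000051360000d36c0000ee6f0000d3d100008de90000ac2b0000a8da0000d0bd0000056400006a3200008041000046e00000dca200009bda00003881000000180000778c000005590000105300000402) (Net.cons (nat_lit 32) (nat_lit 0xa9615d4000000000cadbd10c000000006ad106d100000000c10d481300000000e291736d00000000b061631b00000000f7474c040000000063cb251b000000001a17484a0000000083d49b8400000000824187e70000000050281ca900000000777539b400000000cb4c61270000000005145e6300000000501f9117000000001839c30100000000419808720000000000000020)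 (Net.cons (nat_lit 64) (nat_lit 0xe11100000000000000002716a91c1cd928c10000000000000000681014f4a6054e2a0000000000000000cfb0d752021e6b2200000000000000003163e3433162510000000000000000007f2c247c9c088ec6000000000000000022ad4c9ee83bc2a4000000000000000040a978f4ae56960d0000000000000000912c284010d42190000000000000000014c0300004000000) (Net.cons (nat_lit 128) (nat_lit 0x22c4201c760ba122156100000000000000000000000000000000bdac4297c4eb4870228784c154ec723100000000000000000000000000000000906b0e373706645c73b141a39f7692070000000000000000000000000000000091b00236489b60008830b00126c080840000000000000000000000000000000040200010000100000000000000000000) (Net.cons (nat_lit 256) (nat_lit 0xc22c016c0309905dac4171bec1b00b7f05f11108e898f78e87377e863e6787000000000000000000000000000000000000000000000000000000000000000000000000000000204c04010000014002140000000000008000000000000008080) (Net.cons (nat_lit 512) (nat_lit 0x8285fec47116ac14148173fd6c5ebbdf2d507898f64d6fa6e150) (Net.cons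 (nat_lit 1024) (nat_lit 0x8285fec47116ac1414a173fd6c5ebbdf2d507898f64d6fa6e1d0) (Net.cons (nat_lit 512) (nat_lit 0x54e6d61fe6b89bddd1c916dbc07f0657f50a31ee0d23e3a8a27fdff8ffe2596d0a4020012202c6adfec47996bcf435a173fd6c5ebbdf25507898f64d6fa661d0) (Net.cons (nat_lit 256) (nat_lit 0xc0a7801658148b44fed2935f0c145895d92f33e1ccdaab48d37fe72b79675be00000000000000000000000000000000000000000000000000000000000000000aa3820b0104660223830c925ef9af9af60038e0168550e0514c0300000008080) (Net.cons (nat_lit 128) (nat_lit 0x5f936e535be3737f3e6400000000000000000000000000000000119e2246dad977525f19f5241675c50000000000000000000000000000000000bcaaa6b32f9bc67ee3f0d18ffaf5fbe9000000000000000000000000000000008fb20296043b5900c246baabb6a4900100000000000000000000000000000000709612a2c9b1fbd1cdeb375804000400) (Net.cons (nat_lit 64) (nat_lit 0x9d28000000000000000087d629dd1409464400000000000000000b024efc20835d810000000000000000cb26664bd1e78dc30000000000000000b6d405420399ccee00000000000000008e3fae3416496fe00000000000000000e0ab8ab56cfaf6280000000000000000171c0896aa66ef0f0000000000000000b90c2040d0ca00970000000000000000dde071049f190122)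 (Net.cons (nat_lit 32) (nat_lit 0x2b256c5700000000468bd0940000000032a39e51000000006b0c78ef00000000b68d42b5000000003711de2400000000f9dfcd2700000000654425e800000000165b4c47000000005c3395a5000000003ad4d4f2000000001980c922000000002f633e5d00000000c75e41870000000059163cab00000000cf6cd0a40000000014bb8020000000009e0b6a7800000000ad54e120) (Net.cons (nat_lit 16) (nat_lit 0x79b200008d0a0000a599000054eb0000ecac0000bc500000a12b000007650000218c000014290000971300004d6a0000a6c60000aa5f0000780a0000d966000076ee000087db000056bc000015e80000d85f000067cb0000bc4d000053400000fbdd0000e2bb00007da800006aa40000f6ed000016f30000beb00000d9f800001a830000411e0000078e0000647a00007443000065b2) (Net.cons (nat_lit 8) (nat_lit 0xc300a600ae0006000300b5004a0048001e0033004e005e009e00ad004000b0008b00740050001f005500e300d4005c00bb002a008f008300b700a100500042008700ce00c3008a003400b000d80025007800a7007a009b00e100510010008100650032009400be006c0032006a00e900e9005400eb004e0016002a0034000700c7008b006b00ff008600c60000000400d700c7005a0012005a)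 (Net.cons (nat_lit 4) (nat_lit 0x6020400040f020f0c010d0c02080c0109050a0f0f05020e0c080c04000a0104040b01070c0d0903060e0007010803080c05090a030e0a010f0e0a0f050a0806080e0e0a060400080808060f0401000d050a0e0a09040007090d0706000b0d0b01020a0708050b01040f030d0d0c030e0f0f04020c0a07040a0c0d0a070b0b0908060801050904050f030602000b0b0f0d0400030e0d0d080d00) (Net.cons (nat_lit 2) (nat_lit 0x31320020312210123013330302202012332312103011300102002211120330300020301032321131311121031132223220110121213130123331013100032220231023211320032301233133222333312031123021320003000212233102303121201232100220303333221020111131101213322013120013101333323212120203312333333322020122200221220030100201211320023111) (Net.cons (nat_lit 1) (nat_lit 0x15154400155045141410510145415540454101101401155500054450000100401140015115005140440510550441040105114454511511545445150001044404100045155040005411040001045410415104440155055145500110011141010504001550550450141050054440545104100000440100111440400400140104144144000540541044151555010415011451514440154410100004)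 Net.nil)))))))))))))))))))))
noncomputable def KM22c4_4 : Net := (Net.cons (nat_lit 1) (nat_lit 0x11115151104415451115510544541141144545041100044011411000141451000011055504514155454050415450015011450050011000400451014145040144501400140041450445501104100055414104045405150054041004514114055514414114455551114414514041054400015551045155550055440545110540101545014111451100551011144141510041411405041004000400) (Net.cons (nat_lit 2) (nat_lit 0x1333322320130012030003103131222100311011332301321321230321203211312221302030311312301312101001100331122331123131231111211121001310232211021002132123200130122011332322002110210031303301332312201203200120333020321323222213233203110302003300200000031000031312230311111312111322200213232130301332030030100002200) (Net.cons (nat_lit 4) (nat_lit 0x1010a00040e02060503070209050e03030d07060a0701090e0d02010c04060404030e0d0c090a060c0109020c040204040b0c0a00010b04020701020406080d090c0b060f0d0504050804040e07000b0e010f0a00010c0c05040b09030f0f0f07000a0f0a0f010204060c070d0d06020d0e0e05000e00040f0c0903070d060406050c03060002020009040a0b0b0a06020d000c07040f080600)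 (Net.cons (nat_lit 8) (nat_lit 0x6a00d100b8002200a600e7005e0077000d003b000f0009006c006d0080003f00e400e8002e000100f800a6009900ec004f00870038003000bc005c001f00640043002800f9005d00b0006300fd00070055006c004c00140047003d00ec00c6004e00d3009a00d00061006700350071009f0098007800be00de0012006b002e002800aa002600ab00fe008800e5001f00170078003500600000) (Net.cons (nat_lit 16) (nat_lit 0x5102000067950000b3d0000074be00003f6300003868000098d0000083130000fb34000022e9000096ef0000f0f100008d400000502a00009c450000e3f400001ee800008e930000afc60000303e00004e250000b8bb0000098c00001bdc0000c656000003810000792400002e010000ea29000098ef00003f810000dabc00002c1d0000b6c00000f59c0000b2730000080c00000900) (Net.cons (nat_lit 32) (nat_lit 0x5409b93300000000451c463100000000c4d49f68000000000c10cc2d00000000400286e10000000029444a84000000008f10344a00000000eb121b6700000000f94805c60000000024c8d90a0000000045c04b9500000000fe18386200000000a3d73a2d0000000019c042410000000044034cd90000000082dc2d05000000008400678300000000907066900000000000000100)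 (Net.cons (nat_lit 64) (nat_lit 0x48ad0000000000000000dc788eadc5984b4e00000000000000004997ca068682ea00000000000000000092677230514d2a900000000000000000649fb8359fcd403d000000000000000055b7b1210a16618800000000000000001652902b0237e7d2000000000000000091d80ab5334218080000000000000000c22e4683c20c00a10000000000000000408004120a000000) (Net.cons (nat_lit 128) (nat_lit 0x40d82ab510c3800ccc44000000000000000000000000000000005603fd6b8474000431cac8301860c231000000000000000000000000000000005c34b8abdc17d288994154b5c179fce200000000000000000000000000000000623062e0e05904f9084a0e020c1c20000000000000000000000000000000000080080011c44000000000000000000000) (Net.cons (nat_lit 256) (nat_lit 0xae992801840113bd4e5453303982ff01521a636a59b36c51b11495d7827188400000000000000000000000000000000000000000000000000000000000000000000000000000021100000010000c000000000010204000020000000000000000) (Net.cons (nat_lit 512) (nat_lit 0x22754ebd73781eafdb44b398fefbcefdfc8ea35ce4ab8e650da8)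 (Net.cons (nat_lit 1024) (nat_lit 0x22754ebd73781eafdb44b398fefbeefdfc8ea35ce4ab8e650da8) (Net.cons (nat_lit 512) (nat_lit 0xeebe9b4b8c1b9b95bbe5e010630c3c2341c26753dde64b5dba0ebff6e67dc1c74021b0242912a67f5fbf7f7b5eafdb44b398fefbeefdfc8ca35ce4ab8e650da8) (Net.cons (nat_lit 256) (nat_lit 0x9940bc0c0092ab5680043381d2f773963fa283171434c15e315b1cfd121cfc7000000000000000000000000000000000000000000000000000000000000000015016085f705064a085a1b538df3b3cc8e1f1a6c2028e8b20080000200000000) (Net.cons (nat_lit 128) (nat_lit 0x2dc16c350447a3f9127600000000000000000000000000000000f2b15a7de353c43f4fd9ee4b1c9d5b7000000000000000000000000000000000c9a3b8ee3917da9fb3c79df77c3e9ce300000000000000000000000000000000a38a5581f55435866f0ecc31080064b10000000000000000000000000000000028c22e4220687d7f6626ea8e0e000800) (Net.cons (nat_lit 64) (nat_lit 0x2cdf0000000000000000d5f2f1b4bbd2253d00000000000000001f42b50e9204cfe700000000000000002fb46472457d35ad0000000000000000df8cf1bc9b9d0c7d0000000000000000e07d2306881e0dcf0000000000000000c7d796cae733ffd000000000000000002190a2086dccb9260000000000000000ffa00d1e5b582081000000000000000060a2cf83de7f0200)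 (Net.cons (nat_lit 32) (nat_lit 0xfa89350a0000000061946c40000000004e80e1850000000058cbbd1e00000000b8d62f8400000000446eecd30000000051b20030000000008f6311970000000049540b2b00000000c2dc286c00000000ff829ffa000000004e404d230000000053c3926c0000000045fc543800000000ff198513000000002e16edaf00000000181877f200000000d16084d700000000cd28d1c0) (Net.cons (nat_lit 16) (nat_lit 0xcf700000bd1600004f5100007cee000077630000b06800001f920000cb400000ee17000013fb00004e490000e84e0000997200008e0b00005ff700008d620000a2a8000023970000f8c20000b0b700003e610000048b00002dab00003f9c0000bf15000053a3000075900000fc3200000563000070fd0000c1fd000033d80000b1080000f680000079a20000582f0000d9080000cba8) (Net.cons (nat_lit 8) (nat_lit 0xde00f4000000750093006300fc00f40065008f007b0029002c000900a0008e008400990019004000bc0043003900c50062000d009200230098007c004e00430086003d00ae005800b0002d0029002a00f5005d005100740042002c006d0046005f00e300af00c10085005500bd0077008b0098007f00c8005e009600c50007008900ab003600ab00ef00b800e9003900170041003500600026)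 (Net.cons (nat_lit 4) (nat_lit 0x3050b030605030604000e000a040c0703080b0606060409080305010d00070104030e080d090b030d0409050d080e0505030c0c02020a0402050202050d0f0d0d0f0b020e08050000090804080200010e0d030e09040c0804020e0f000f0b0b06050a0e0a0f01060406080b0d0d0403090e0905040e05000f0c0d0d0e080204030d050301000a030108000a090f0f0606070105060d0d04050b) (Net.cons (nat_lit 2) (nat_lit 0x323222230130012030002103131322101211111333301321330220321203211312221303020311312301213001011100331120331123031231111211121001330022301021002122123201130022011332332002110301031202301322212201203200120333020320303222233232213110302002310200000031000031313230200110302111322200213233120301332030030100102200) (Net.cons (nat_lit 1) (nat_lit 0x11115151104415451115510544541141144545041100044011411000141451000011055504514154454050415450005011450050011000400451014145040144501400140041450445501104100055414104045405150054041004514114055514414114455551154415514041054400015551045155550055450545114541101545014100451100151011144151550041411405041004000400)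 Net.nil)))))))))))))))))))))
noncomputable def KM22c4_5 : Net := (Net.cons (nat_lit 1) (nat_lit 0x4504400541144154040110504505500544405150041515545550111550501015104010005005445415105154154011114004051500000550444514010511115540045100000040550404004540540044155014005500145150451510514514540004405500104551144511111501110105154041114155050514410004140110051015540551151510155114001104004140405450140104010) (Net.cons (nat_lit 2) (nat_lit 0x2123212123222201132213330321321231221031130020220323001021022312103033030121303333100112230032010030013100212223330102312100213213133221112212113032200200032003122001123300312122110320221233023013301232021113222330122300020300220301021100001100113030011022300000001133120211021011100003000000203011300200200) (Net.cons (nat_lit 4) (nat_lit 0x40f0c0005070e00000d0a000a0c0204010f0602000c0102010f0c0a0c0a0208040b0d0802000c0a0500020d080c0b0b01040c070a09090d0b04070b000f0b0d000d00090b0d0404040e0f0f050f010900070b0d0c050e02040903020108020d030000050b020c0e0f0d04030309060909000e00080c0e0c030d040c0e000b070604060d010f0b090803060a03090505040b000e00010b080000)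 (Net.cons (nat_lit 8) (nat_lit 0xb9009100a7006200ff007a004200f6009d00de0039003500e70079009e000e0082008000de008900c80098006200540031004300cc001000840059005e00b500d100f300590088004d0037009c00f900d500e70030002d00100063009100c900a70045008c009500f7009c00fa006100c300840086004800d10036009a005400f400660069001000010060004c00880094006500200000) (Net.cons (nat_lit 16) (nat_lit 0x1540000e611000051380000ccc6000092e90000799a0000ede30000a6ed00005be500001c3f000043440000328d0000b4170000ca690000a74900006ec90000708d00007e640000c74a0000ea1700001f03000007d20000698e00004a0d0000428a00007c4700003b25000003f400005e02000005130000093000001c700000d840000082960000283000000e070000202000004844) (Net.cons (nat_lit 32) (nat_lit 0x78003d660000000055a6cd0c000000000ca5eb5c0000000051a7d9df0000000042f0114c000000008ca66554000000002f3d2802000000007c4d8170000000003968a4b900000000dd986f64000000001795a8c6000000009e48a10e00000000516971a800000000215262e6000000009e2c7e11000000005e540039000000003279fa5b000000006e82e0100000000000008000)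 (Net.cons (nat_lit 64) (nat_lit 0x60e000000000000000098ec6158409d685e00000000000000007a11a411eac3d50e00000000000000005653c489264f2ab10000000000000000226eadad93b8920500000000000000001f63399461e028140000000000000000945560385802bc2a00000000000000003c327d05c8404fe20000000000000000409f600170720315000000000000000009101c504c800000) (Net.cons (nat_lit 128) (nat_lit 0x645e071582214b5441db00000000000000000000000000000000b2ab730562a8317502e517a1a1022454000000000000000000000000000000008c8f09e32c708088c04081d0ea5b42a000000000000000000000000000000000c84d78802184b16204984804024010810000000000000000000000000000000015006808008400000000000000000000) (Net.cons (nat_lit 256) (nat_lit 0x5d7ca00904c03147c4368b7578645db0caa32b4475888c529dd3d0c49617c02100000000000000000000000000000000000000000000000000000000000000000000000000006000040040000040000001800880008400000000000000000000) (Net.cons (nat_lit 512) (nat_lit 0x61442f07ffeccd40c15bddefff7c33fd0d3fa99f52e5c614b6b1) (Net.cons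 (nat_lit 1024) (nat_lit 0x61442f07ffeccd40c15bddeffffc33fd0d3fa99f52e5c614b6b1) (Net.cons (nat_lit 512) (nat_lit 0xf77e627b14ac7809e425f37378d786b40f33994c4d9ca842f5fffbb792ef7ff028829422294065ce2f9fffeccf6adb5bdd6ffffc33fd0d3fa99f52e5c614b6b1) (Net.cons (nat_lit 256) (nat_lit 0x10416984c00263304c4240dd94d000603f320b8cfecc0fdecf578fb559ff65f100000000000000000000000000000000000000000000000000000000000000000cc19409e55287e2d89a8dd4e96438abf0e8622390ea5e8f011004404c000000) (Net.cons (nat_lit 128) (nat_lit 0xbad21db3d9d4b4f5404f00000000000000000000000000000000d24e1bbfe48d107c4aca495d16f810a8000000000000000000000000000000001cb79fa3a97cfdde571dc2f7b3af3fd40000000000000000000000000000000005dc740c6b00202016a413391300255500000000000000000000000000000000cb39799010acb93627bc4aae04808000) (Net.cons (nat_lit 64) (nat_lit 0x6b660000000000000000ddd1bd9a661b095e000000000000000094112c01c802fc000000000000000000020799516c8f57b90000000000000000f723fd2db32cab1400000000000000008ab7c914205340d60000000000000000a858b48d68e3d5ce0000000000000000755f3d4455e83e8f0000000000000000c78cb910f05533140000000000000000479accdc7f110844)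 (Net.cons (nat_lit 32) (nat_lit 0x729c342b000000001c2240cc00000000c724cf84000000000c16e997000000000021314d00000000e57f7411000000002349258f000000007ee491a5000000003c88ec4d00000000fe150aec00000000d636e5da00000000736dc94b00000000f1ff058400000000247a2f8b00000000ce4c2604000000005f3e412400000000aa4be6ba000000007a2ab0510000000098c0fd44) (Net.cons (nat_lit 16) (nat_lit 0x8d130000afc700001d180000800e0000daa50000312a0000d1c20000beec000013c900003da700007f7b0000be660000e81600004ab40000bf8600003fc50000b429000072c400008386000046990000d6d400006be60000403f00009a2e00007b2e0000bc7b000003a00000c65800004207000008f300005f880000e4aa0000e5e00000cba7000079980000476f000078d90000502c) (Net.cons (nat_lit 8) (nat_lit 0xce00dd00dd00e6003a00fb00fe00a200b20010009a006d0015007900980057006e00e2005000ac00ec00e100f80012009000700003004c005900cc001d000b00bb001000f30049009000080026003c00e500d400b300440019005100360021004500c700a100ff00bc00060095006700e1008700c400060040008c0027005a00540080006200f40074002000a8001800c900d4002100610046)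 (Net.cons (nat_lit 4) (nat_lit 0xf080401030e00050d0a040a080e04050b020a010d0d02000b0106000d0b0d020f090c0a010c0a01010e0d0c0a0b030d080c030e0d090c0b0c0e0b0103020c0d0d090d0701040400020b0a050f0d050c0a0b050d040e07000d02070d0c0f0f0605040102020c0a020d080b0f0d0b0c0908060800090b00030501000e00070707040209050b020c0c0a0e020f0d0c01080b000e040d0b0d0405) (Net.cons (nat_lit 2) (nat_lit 0x2123212123222201032213330321321231221030130020230323101021032312103033031021303333100113230032010030013110212223330102312100312213133321112212113032210200032003122001123300312122100320221233033013201232021113222220122300020300220301021000001100113030011022300000001133020211021011100003101000203011300210200) (Net.cons (nat_lit 1) (nat_lit 0x4504400541144154040110504505500544405150041515545550111550501015104010005005445415105154154011114004051500000550444514010511115540045100000040550404004540540044155014005500145150451510514514540004405500104551144511111501110105154041114155050514410004140110051015540551151510155114001104004140405450140104010)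 Net.nil)))))))))))))))))))))
noncomputable def KM22c4 : List Net := [KM22c4_0, KM22c4_1, KM22c4_2, KM22c4_3, KM22c4_4, KM22c4_5]
noncomputable def AM22c4 : List Nat := [(nat_lit 0x88009106b950a54257684cbadd20d6348a9c60d0c68a6d0ae1581ce790688e718601206162211351bf6af425086f038eb36c92f309bb18ba21db8150f4ed6c3e7f30621066da1c7a05a02c62002688425d2e4028e4c4d0888024ac41fb2047be0268402dc3487932c54a00286f3c14a2422200364cc0012713872c154518404f461100039228b3141d66a0008202040052820400104100020005),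
  (nat_lit 0x2e4342d42814647b10124169c90772abe0350e66005c914c876981b00aa8258e240e804dc1040020e30d198a501288e59a91180f181121183b05ee11cbd046288e0014238de40b92d1d9459a95e5501f21364d700010c679014343868ae8a030928a801814d606102c002213a4702880000c8046b8187022282ada04869282718d00402204405c240080000102100009289a200102c001000800),
  (nat_lit 0x99a16d344b4b711cb432c8b5d4227a959a006283916a5e1620b1085bb0409270c201017228462a7863e281c88895969a46d4920ed21a4e70053451424234aa3814ec60480f814475a822f0f031992868454f0760db3328aa2010038058492880816a2502002201a4900c100983700031d00040a848000818560cd200554801084150794046200815203001004010001002048000100000000000),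
  (nat_lit 0x24051d0eb7444aae8b3f207a258468c2b421e090ab29c47927909d0c0dee959c140d001828189640e09120a24cbe8831b509218aac4b3e4b893a0e02930a45d52500d07159de7e0800b9064805b500892191e13001529d39064a908c453cec609d12000208101400002262062448029e19e544400410200a0fd008b14258206100002123000a548400028000084e000150a0880102d240440140),
  (nat_lit 0xe592c9082896a22160211e800f108090070b0e1bd6609a442270c40167d63a1e2d2009818b0e808c9ffa3a020852a0fe44a1052c87d0835c4041d41234d2f489888299965841157f52b72259716485bba39a829b24740223ec217a93c22401591284820ca4a600322a0008130148010e60920f51880dccf0c41381104a141a835d08d8016089102900001c000080000f00012182200000801000),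
  (nat_lit 0x8c36114705245ffb8bdd9240dca8cf6ea4741949437065c1b1fa0f9057389d04894d30282a080870b481628ed6c997f06395c48b84cb950a0aec0fa399a6b211f1c2685d91e221100742164c000a422bb610772000d06e0680741380003ad3c22c140406d0000dee4023c13004204a12034204034e82828a0050860642013284e01a140030900b0002001c00288003480160409d280018001000),
  full (nat_lit 1232)]

noncomputable def BM22c4 : List Nat := [(nat_lit 0x73e8aa3dba4907b14409f528d1f79ea611582a70f6a28c12b210bf161071da11a295b2163d5784a1213461e40a273360466194e41d85e5219d1a000dbd69384f418b729116befd4acdb6bb838ce214929f69aa0372ae36d6518965750ac7cf8ff9c9bbf9e5ffd47bd6b1daae1ab7e0076eadba0910f55d56050d44a1e8859127f8e2a9d52de25e57b7ffab2dd6b7bea5fd54b4ead669ab58febb),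
  (nat_lit 0x26996006846620bab16e651b21f2708c2061dae4085810d671001084a028a5833f0e704c0500472c042041aa1110288dda0179065211b0483525403dad482e338662774a0de48ba61d0c5c22a030502dc194425181194ed9143d7bc092cf301002004008941204005c0e22029070622e0000006480714868026aa04586ca228a071840221441d02002804001232008018ac82010068000010800),
  (nat_lit 0x9f2f7ff45942e10ca11009bfcf284bd5b3b8511e92c47c371acbc7d9ea8506372b5e22da88280a5b014492687acc6cd8c8b40990c44a58d48d63782456032b34b70d49026b2a54af09a3b4a42ac14bec4064cad0111d4f0e175ad861414da86da2e5daebcde1b58adf8d8eb2728fd73c0aeba2f935d778ce5ed5dac669a719f992fee25e898ef2dffdccaeee8e7eb6e3ecde760bcefa6f7bfefb),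
  (nat_lit 0xe30d769a13a6377b024e263b22a16069d0692f85093d45720d0549108d0cc04f104dd011e20895050c41f2a8081459293c194a800ccade663783e016b3544701359fda583a88d4cc4814460cf9e58c93412c81a4041611390c5ec98450387084859a000214711a0284092209000801589000f5208004055289626808053c824d11302323480ecc8601d204000b40480088080902025100000100),
  (nat_lit 0x8ca0c0624abe118500ad251da81a8082d489783c1653544064c1962020ca28526d880d03808a189f478d7c01106ac9fae381cdbc9a89ac1cc6328ca002c76f814240b812df100c5d04698089512c28c0c5ec3210243520266805daab8a2634c2116c801821e4012c32010830401401983582e7d16c0560eab482855000310002790b1820bb601038c060000000caf4814005a0c0180400601000),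
  (nat_lit 0x54ee93540aa901792a8a68acd023e56225c72948a55041c9a9d051b04e281a0ec34b700919e06b58f44960965683ba50ec5220301c7b84377104bf4042b82518a0b1e55d00e30010010e104b82087e1cae0302100a11020680a033827e701018b06c05040828042908878d9079e07030b1020406ccc001824032965910226824e418142020bc288001000c366000010823400017080094000000),
  (nat_lit 0)]


end CF.Schur.MatC
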