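import Cfsg.Agent.Schur.Mdl
import Cfsg.Agent.Schur.TitsD
import Cfsg.Agent.Tits.Main

/-! The Schur multiplier of Tits. -/

set_option autoImplicit false
set_option maxRecDepth 1000000
set_option maxHeartbeats 0
set_option Elab.async false

namespace CF.Schur.Tits

open CF.Comp CF.Schur.Pc Cfsg CF.Tits

theorem mdl : type_of% (mdl_of_exact exact mem) := mdl_of_exact exact mem

noncomputable def Wx2 : List (List Nat) := [[(nat_lit 7), (nat_lit 19), (nat_lit 3), (nat_lit 1), (nat_lit 1), (nat_lit 7), (nat_lit 5), (nat_lit 5), (nat_lit 12), (nat_lit 10), (nat_lit 15), (nat_lit 21), (nat_lit 25)],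
  [(nat_lit 3), (nat_lit 2), (nat_lit 2), (nat_lit 7), (nat_lit 5), (nat_lit 5), (nat_lit 10), (nat_lit 17), (nat_lit 17), (nat_lit 15), (nat_lit 21)],
  [(nat_lit 1), (nat_lit 6), (nat_lit 10), (nat_lit 17), (nat_lit 15), (nat_lit 29), (nat_lit 25), (nat_lit 27)],
  [(nat_lit 2), (nat_lit 3), (nat_lit 1), (nat_lit 3), (nat_lit 1), (nat_lit 7), (nat_lit 5), (nat_lit 17), (nat_lit 17), (nat_lit 15), (nat_lit 21), (nat_lit 25), (nat_lit 27)],
  [(nat_lit 8), (nat_lit 3), (nat_lit 3), (nat_lit 3), (nat_lit 1), (nat_lit 8), (nat_lit 11), (nat_lit 10), (nat_lit 29), (nat_lit 27)],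
  [(nat_lit 3), (nat_lit 2), (nat_lit 4), (nat_lit 1), (nat_lit 6), (nat_lit 15), (nat_lit 21)],
  [(nat_lit 17), (nat_lit 3), (nat_lit 1), (nat_lit 9), (nat_lit 5), (nat_lit 10), (nat_lit 18), (nat_lit 21), (nat_lit 27)],
  [(nat_lit 23), (nat_lit 3), (nat_lit 2), (nat_lit 2), (nat_lit 7), (nat_lit 5), (nat_lit 5), (nat_lit 18), (nat_lit 15), (nat_lit 27)],
  [(nat_lit 1), (nat_lit 6), (nat_lit 9), (nat_lit 18), (nat_lit 15), (nat_lit 21), (nat_lit 29)],
  [(nat_lit 9), (nat_lit 9), (nat_lit 17), (nat_lit 17), (nat_lit 15), (nat_lit 25)],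
  [(nat_lit 17), (nat_lit 3), (nat_lit 1), (nat_lit 9), (nat_lit 5), (nat_lit 9), (nat_lit 17), (nat_lit 29)],
  [(nat_lit 5), (nat_lit 2), (nat_lit 4), (nat_lit 4), (nat_lit 2), (nat_lit 9), (nat_lit 9), (nat_lit 18), (nat_lit 15), (nat_lit 21), (nat_lit 27)],
  [(nat_lit 2), (nat_lit 3), (nat_lit 1), (nat_lit 3), (nat_lit 1), (nat_lit 7), (nat_lit 5), (nat_lit 17), (nat_lit 17), (nat_lit 15), (nat_lit 21)]]

theorem qx2_0 : allFrom (preRow N Nx2 Wx2 1755 11) 0 13 = true := by decide +kernel

theorem qx2 : ∀ j < 13, preRow N Nx2 Wx2 1755 11 j = true := by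
  have h : ∀ j < 0, preRow N Nx2 Wx2 1755 11 j = true := by simp
  have h := forall_lt_add h (allFrom_iff.1 qx2_0)
  exact h

theorem wx2 : wfAll Nx2 1755 = true := by decide +kernel

noncomputable def Px2 : Dat := ⟨(nat_lit 2), (nat_lit 11), (nat_lit 8), (nat_lit 7), (nat_lit 73),
  (BT.node (nat_lit 33) (BT.node (nat_lit 16) (BT.node (nat_lit 8) (BT.node (nat_lit 4) (BT.node (nat_lit 2) (BT.node (nat_lit 1) (BT.leaf []) (BT.leaf [(nat_lit 1), (nat_lit 3)])) (BT.node (nat_lit 3) (BT.leaf [(nat_lit 2)]) (BT.leaf [(nat_lit 2), (nat_lit 4), (nat_lit 5), (nat_lit 9)]))) (BT.node (nat_lit 6) (BT.node (nat_lit 5) (BT.leaf [(nat_lit 2)]) (BT.leaf [])) (BT.node (nat_lit 7) (BT.leaf [(nat_lit 3), (nat_lit 4), (nat_lit 8)]) (BT.leaf [(nat_lit 3), (nat_lit 5), (nat_lit 7)])))) (BT.node (nat_lit 12) (BT.node (nat_lit 10) (BT.node (nat_lit 9) (BT.leaf [(nat_lit 3), (nat_lit 6), (nat_lit 10)]) (BT.leaf [(nat_lit 4), (nat_lit 8)])) (BT.node (nat_lit 11) (BT.leaf [(nat_lit 4)]) (BT.leaf [(nat_lit 4), (nat_lit 7)]))) (BT.node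 (nat_lit 14) (BT.node (nat_lit 13) (BT.leaf [(nat_lit 4), (nat_lit 8)]) (BT.leaf [(nat_lit 4), (nat_lit 10)])) (BT.node (nat_lit 15) (BT.leaf []) (BT.leaf [(nat_lit 5), (nat_lit 8), (nat_lit 10)]))))) (BT.node (nat_lit 24) (BT.node (nat_lit 20) (BT.node (nat_lit 18) (BT.node (nat_lit 17) (BT.leaf [(nat_lit 5), (nat_lit 6)]) (BT.leaf [(nat_lit 5)])) (BT.node (nat_lit 19) (BT.leaf [(nat_lit 5), (nat_lit 7), (nat_lit 8), (nat_lit 9), (nat_lit 10)]) (BT.leaf [(nat_lit 5)]))) (BT.node (nat_lit 22) (BT.node (nat_lit 21) (BT.leaf [(nat_lit 8)]) (BT.leaf [(nat_lit 6), (nat_lit 7)])) (BT.node (nat_lit 23) (BT.leaf [(nat_lit 6)]) (BT.leaf [(nat_lit 6)])))) (BT.node (nat_lit 28) (BT.node (nat_lit 26) (BT.node (nat_lit 25) (BT.leaf [(nat_lit 6), (nat_lit 8)]) (BT.leaf [(nat_lit 6), (nat_lit 10)])) (BT.node (nat_lit 27) (BT.leaf [(nat_lit 6), (nat_lit 9)]) (BT.leaf []))) (BT.node (nat_lit 30) (BT.node (nat_lit 29) (BT.leaf [(nat_lit 7)]) (BT.leaf [(nat_lit 7), (nat_lit 8)])) (BT.node (nat_lit 31) (BT.leaf [(nat_lit 7), (nat_lit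 9)]) (BT.node (nat_lit 32) (BT.leaf [(nat_lit 7), (nat_lit 10)]) (BT.leaf [(nat_lit 7)]))))))) (BT.node (nat_lit 49) (BT.node (nat_lit 41) (BT.node (nat_lit 37) (BT.node (nat_lit 35) (BT.node (nat_lit 34) (BT.leaf [(nat_lit 7), (nat_lit 10)]) (BT.leaf [(nat_lit 7)])) (BT.node (nat_lit 36) (BT.leaf []) (BT.leaf [(nat_lit 8)]))) (BT.node (nat_lit 39) (BT.node (nat_lit 38) (BT.leaf [(nat_lit 8), (nat_lit 9)]) (BT.leaf [(nat_lit 8)])) (BT.node (nat_lit 40) (BT.leaf [(nat_lit 8), (nat_lit 10)]) (BT.leaf [(nat_lit 8)])))) (BT.node (nat_lit 45) (BT.node (nat_lit 43) (BT.node (nat_lit 42) (BT.leaf [(nat_lit 8)]) (BT.leaf [(nat_lit 8)])) (BT.node (nat_lit 44) (BT.leaf [(nat_lit 8)]) (BT.leaf []))) (BT.node (nat_lit 47) (BT.node (nat_lit 46) (BT.leaf [(nat_lit 9), (nat_lit 10)]) (BT.leaf [(nat_lit 9)])) (BT.node (nat_lit 48) (BT.leaf [(nat_lit 9)]) (BT.leaf [(nat_lit 9)]))))) (BT.node (nat_lit 57) (BT.node (nat_lit 53) (BT.node (nat_lit 51) (BT.node (nat_lit 50) (BT.leaf [(nat_lit 9)]) (BT.leaf [(nat_lit 9)])) (BT.node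 (nat_lit 52) (BT.leaf [(nat_lit 9)]) (BT.leaf [(nat_lit 9)]))) (BT.node (nat_lit 55) (BT.node (nat_lit 54) (BT.leaf [(nat_lit 9)]) (BT.leaf [])) (BT.node (nat_lit 56) (BT.leaf [(nat_lit 10)]) (BT.leaf [(nat_lit 10)])))) (BT.node (nat_lit 61) (BT.node (nat_lit 59) (BT.node (nat_lit 58) (BT.leaf [(nat_lit 10)]) (BT.leaf [(nat_lit 10)])) (BT.node (nat_lit 60) (BT.leaf [(nat_lit 10)]) (BT.leaf [(nat_lit 10)]))) (BT.node (nat_lit 63) (BT.node (nat_lit 62) (BT.leaf [(nat_lit 10)]) (BT.leaf [(nat_lit 10)])) (BT.node (nat_lit 64) (BT.leaf [(nat_lit 10)]) (BT.node (nat_lit 65) (BT.leaf [(nat_lit 10)]) (BT.leaf [])))))))),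
  [⟨(nat_lit 0), [(nat_lit 8)], [(nat_lit 4), (nat_lit 10)]⟩,
  ⟨(nat_lit 0), [(nat_lit 6)], [(nat_lit 0), (nat_lit 4), (nat_lit 8), (nat_lit 10)]⟩,
  ⟨(nat_lit 1), [(nat_lit 4)], [(nat_lit 2), (nat_lit 4), (nat_lit 5), (nat_lit 10)]⟩,
  ⟨(nat_lit 1), [(nat_lit 5)], [(nat_lit 5), (nat_lit 6), (nat_lit 7), (nat_lit 8), (nat_lit 9)]⟩,
  ⟨(nat_lit 1), [(nat_lit 8)], [(nat_lit 8), (nat_lit 9), (nat_lit 10)]⟩,
  ⟨(nat_lit 1), [(nat_lit 6)], [(nat_lit 6), (nat_lit 8), (nat_lit 9)]⟩,
  ⟨(nat_lit 1), [(nat_lit 3)], [(nat_lit 1), (nat_lit 3), (nat_lit 6), (nat_lit 10)]⟩]⟩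

noncomputable def Xx2_0 : List Test := [⟨(nat_lit 1), [(nat_lit 0), (nat_lit 0)], [], (nat_lit 0x101000000000001000000000000000000000000000001000000000000000000000000000000000000000000000000000000000001000000000000000000000000000000000000000000)⟩,
  ⟨(nat_lit 0), [(nat_lit 1)], [(nat_lit 1), (nat_lit 1)], (nat_lit 0x100000000000000000000000000000000000000000000000000000000000000000000000000000000000000000000000000000000000000000000000000010000000000000000000000)⟩,
  ⟨(nat_lit 0), [(nat_lit 5)], [(nat_lit 5), (nat_lit 5)], (nat_lit 0x100000000000000000000000000000000000000000000000001000000000000000000000000000000000000000000000000000000000000000000000000000000000000000000000000)⟩,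
  ⟨(nat_lit 0), [(nat_lit 4)], [(nat_lit 2), (nat_lit 2)], (nat_lit 0x100000000000000000000000000000000000000000001000000000001000000000000000000000000000000000000000000000000000000000000000000000000000000000000000000)⟩,
  ⟨(nat_lit 0), [(nat_lit 6)], [(nat_lit 0), (nat_lit 0)], (nat_lit 0x100000000000000000000000000000000000000000000000000000000000001000000000000010000000000000000000000000000000000000000000000000000000000000000000000)⟩,
  ⟨(nat_lit 0), [(nat_lit 6)], [(nat_lit 4), (nat_lit 4)], (nat_lit 0x101000000000001000000000000000000000000000000000000000000000000000000000000000000000000000000000000000000000000000000000000000000000000000000000000)⟩,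
  ⟨(nat_lit 0), [(nat_lit 7)], [(nat_lit 2), (nat_lit 2)], (nat_lit 0x100000000000000000000000100000000000001000000000000000000000000000000000000000000000000000000000000000000000000000000000000000000000000000000000000)⟩,
  ⟨(nat_lit 0), [(nat_lit 9)], [(nat_lit 0), (nat_lit 0)], (nat_lit 0x101000000000000000000010000000000000000000000000000000000000000000000000000000000000000000000000000000000000000000000000000000000000000000000000000)⟩,
  ⟨(nat_lit 0), [(nat_lit 6)], [(nat_lit 1), (nat_lit 1)], (nat_lit 0x100000000000000000000000000000000000000000000000000000000000000000000000000000000000001000000000000000000000000000000000000000000000000000000000000)⟩,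
  ⟨(nat_lit 0), [(nat_lit 9)], [(nat_lit 1), (nat_lit 1)], (nat_lit 0x100000000000000000000000000000000000001000000000000000000000000000000000000000000000000000000000000000000000000000000000000000000000000000000000000)⟩,
  ⟨(nat_lit 0), [(nat_lit 9)], [(nat_lit 5), (nat_lit 5)], (nat_lit 0x100000000000000000000000001000000000000000000000000000000000000000000000000000000000000000000000000000000000000000000000000000000000000000000000000)⟩,
  ⟨(nat_lit 0), [(nat_lit 10)], [(nat_lit 1), (nat_lit 1)], (nat_lit 0x100000000000000000100000000000000000000000000000000000000000000000000000000000000000000000000000000000000000000000000000000000000000000000000000000)⟩,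
  ⟨(nat_lit 0), [(nat_lit 10)], [(nat_lit 5), (nat_lit 5)], (nat_lit 0x100000100000000000000000000000000000000000000000000000000000000000000000000000000000000000000000000000000000000000000000000000000000000000000000000)⟩,
  ⟨(nat_lit 0), [(nat_lit 5)], [(nat_lit 5), (nat_lit 2)], (nat_lit 0x100000000000000000000000000000000000000000000000000000001000000000000000000000000000000000000000000000000000000000000000000000000000000000000000000)⟩,
  ⟨(nat_lit 0), [(nat_lit 5)], [(nat_lit 5), (nat_lit 4)], (nat_lit 0x100000000000000000000000000000000000000000000000000010000000000000000000000000000000000000000000000000000000000000000000000000000000000000000000000)⟩,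
  ⟨(nat_lit 0), [(nat_lit 4)], [(nat_lit 4), (nat_lit 1)], (nat_lit 0x100000000000000000000000000000000000000000000000000000000000001000001000000000000000000000000000000000000000000000000000000000000000000000000000000)⟩,
  ⟨(nat_lit 0), [(nat_lit 6)], [(nat_lit 6), (nat_lit 0)], (nat_lit 0x100000000000000000000000000000000000000000000000000000000000001010000000000000000000000000000000000000000000000000000000000000000000000000000000000)⟩,
  ⟨(nat_lit 0), [(nat_lit 6)], [(nat_lit 6), (nat_lit 3)], (nat_lit 0x100000000000000000000000000000000000000000001000100000000000000000000000000000000000000000000000000000000000000000000000000000000000000000000000000)⟩,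
  ⟨(nat_lit 0), [(nat_lit 6)], [(nat_lit 6), (nat_lit 4)], (nat_lit 0x101000000010000000000000000000000000000000000000000000000000000000000000000000000000000000000000000000000000000000000000000000000000000000000000000)⟩,
  ⟨(nat_lit 0), [(nat_lit 6)], [(nat_lit 6), (nat_lit 5)], (nat_lit 0x100000000000000000000000100000100000000000000000000000000000000000000000000000000000000000000000000000000000000000000000000000000000000000000000000)⟩,
  ⟨(nat_lit 0), [(nat_lit 7)], [(nat_lit 7), (nat_lit 1)], (nat_lit 0x100000000000000000000000000000000000000000001010000000000000000000000000000000000000000000000000000000000000000000000000000000000000000000000000000)⟩,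
  ⟨(nat_lit 0), [(nat_lit 7)], [(nat_lit 7), (nat_lit 2)], (nat_lit 0x100000000000000000000000100010000000000000000000000000000000000000000000000000000000000000000000000000000000000000000000000000000000000000000000000)⟩,
  ⟨(nat_lit 0), [(nat_lit 7)], [(nat_lit 7), (nat_lit 3)], (nat_lit 0x101000001000000000000000000000000000000000000000000000000000000000000000000000000000000000000000000000000000000000000000000000000000000000000000000)⟩,
  ⟨(nat_lit 0), [(nat_lit 8)], [(nat_lit 8), (nat_lit 3)], (nat_lit 0x101000100000000000000000000000000000000000000000000000000000000000000000000000000000000000000000000000000000000000000000000000000000000000000000000)⟩,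
  ⟨(nat_lit 0), [(nat_lit 9)], [(nat_lit 9), (nat_lit 0)], (nat_lit 0x101010000000000000000000000000000000000000000000000000000000000000000000000000000000000000000000000000000000000000000000000000000000000000000000000)⟩,
  ⟨(nat_lit 0), [(nat_lit 5)], [(nat_lit 1), (nat_lit 1)], (nat_lit 0x100000000000000000000000000000000000000000000000000000000000000000000000000000100000000010000000001000000000000000000000000000000000000000000000000)⟩,
  ⟨(nat_lit 0), [(nat_lit 6)], [(nat_lit 5), (nat_lit 5)], (nat_lit 0x100000000000000000000000100000001000000000000000100000000000000000000000000000000000000000000000000000000000000000000000000000000000000000000000000)⟩,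
  ⟨(nat_lit 0), [(nat_lit 7)], [(nat_lit 5), (nat_lit 5)], (nat_lit 0x101000000000100000000000000000000000000000000010000000000000000000000000000000000000000000000000000000000000000000000000000000000000000000000000000)⟩,
  ⟨(nat_lit 0), [(nat_lit 8)], [(nat_lit 1), (nat_lit 1)], (nat_lit 0x100000000000000000000000100000000000000010000000000000001000000000000000000000000000000000000000000000000000000000000000000000000000000000000000000)⟩,
  ⟨(nat_lit 0), [(nat_lit 1)], [(nat_lit 0), (nat_lit 0)], (nat_lit 0x100000000000000000000000000000000000000000001000000010000000000000000000000000000000000000000000000000001000000000100000100000000000000000000000000)⟩,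
  ⟨(nat_lit 0), [(nat_lit 3)], [(nat_lit 0), (nat_lit 0)], (nat_lit 0x100000000000000000000000000000000000000000001000000010000000100000000000000000000000000000000000000000001000000010000000000000000000000000000000000)⟩,
  ⟨(nat_lit 0), [(nat_lit 3)], [(nat_lit 2), (nat_lit 2)], (nat_lit 0x101000000010000000100000000000000000000000000000000000000000000000000000000000100000001000000000000000000000000000000000000000000000000000000000000)⟩,
  ⟨(nat_lit 0), [(nat_lit 5)], [(nat_lit 0), (nat_lit 0)], (nat_lit 0x101000100000000000000010000000000000000000001000000000000000100000000000000000000000000000000000000000000000000000000000000000000000000000000000000)⟩,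
  ⟨(nat_lit 0), [(nat_lit 9)], [(nat_lit 3), (nat_lit 3)], (nat_lit 0x100000000000000000000000001000000010000000000000000000000000000000000000000000000000000000000000000000000000000000000000000000000000000000000000000)⟩,
  ⟨(nat_lit 0), [(nat_lit 3)], [(nat_lit 3), (nat_lit 3)], (nat_lit 0x101000100000000000000000000000000000000000000000000000100000000000000000000000000000000000000000000000000010000000000000000000000000000000000000000)⟩,
  ⟨(nat_lit 0), [(nat_lit 4)], [(nat_lit 1), (nat_lit 1)], (nat_lit 0x100000000000000000000000000000000000000000000000000000000000001000000000001000000000000000000000000000000000100000000000000000000000000000000000000)⟩,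
  ⟨(nat_lit 0), [(nat_lit 7)], [(nat_lit 1), (nat_lit 1)], (nat_lit 0x100000000000000000000000000000000000000000001000000000000010000000000000100000000000000000000000000000000000000000000000000000000000000000000000000)⟩,
  ⟨(nat_lit 0), [(nat_lit 4)], [(nat_lit 3), (nat_lit 3)], (nat_lit 0x101000000000000010000000000000000000000000000000000010000000000000000000000000000000000000000000000000000000000000000000000000000000000000000000000)⟩,
  ⟨(nat_lit 1), [(nat_lit 1), (nat_lit 1)], [], (nat_lit 0x101000100000001000000010000000000000000000001000000010000000100000000000000000100000000000000000000000001000000010000000000000000000100000000000000)⟩,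
  ⟨(nat_lit 0), [(nat_lit 7)], [(nat_lit 3), (nat_lit 3)], (nat_lit 0x101000000000000010000000000000000000000000000010000000000000000000001000000000000000000000000000000000000000000000000000000000000000000000000000000)⟩,
  ⟨(nat_lit 0), [(nat_lit 6)], [(nat_lit 3), (nat_lit 3)], (nat_lit 0x100000100000000000000000000000000000000000001000100000100000000000000000000000000010000000000000000000000000000000000000000000000000000000000000000)⟩,
  ⟨(nat_lit 0), [(nat_lit 5)], [(nat_lit 5), (nat_lit 1)], (nat_lit 0x100000000000000000000000000000100000000000000000000000000010000000000000000000101000000000000000000000000000000000000000000000000000000000000000000)⟩,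
  ⟨(nat_lit 2), [(nat_lit 2), (nat_lit 2)], [], (nat_lit 0x101000000000101000100000000000000000000000001000000010000000000000000000000000000000000000001010001000000000100000000000001000000000000000000000000)⟩,
  ⟨(nat_lit 0), [(nat_lit 6)], [(nat_lit 4), (nat_lit 1)], (nat_lit 0x100000001000000000001000000000000000000000000000000000000000000010000000000000000000000000000000000000000000000000000000000000000000000000000000000)⟩,
  ⟨(nat_lit 0), [(nat_lit 9)], [(nat_lit 1), (nat_lit 0)], (nat_lit 0x100000000000000010001000000000000000100000000000000000000000000000000000000000000000000000000000000000000000000000000000000000000000000000000000000)⟩,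
  ⟨(nat_lit 0), [(nat_lit 4)], [(nat_lit 1), (nat_lit 0)], (nat_lit 0x101000001000000000000000000000000000000000000000000000000000000000000010000010000000000000000000000000000010000000000000000000000000000000000000000)⟩,
  ⟨(nat_lit 0), [(nat_lit 8)], [(nat_lit 1), (nat_lit 0)], (nat_lit 0x100010000000000000000000000000000000100000100000000000100000000000000000000000000000000000000000000000000000000000000000000000000000000000000000000)⟩,
  ⟨(nat_lit 0), [(nat_lit 2)], [(nat_lit 0), (nat_lit 0)], (nat_lit 0x101010000000000000000000101000001010000000101000000000000000000000000000000000000000000000001010000000101000000010000000000000000000000000000000000)⟩,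
  ⟨(nat_lit 0), [(nat_lit 3)], [(nat_lit 3), (nat_lit 2)], (nat_lit 0x101000000010000010000000000000000000000000000000100000001000000000000000000000100000100000000000000000000000100000000000000000000000000000000000000)⟩,
  ⟨(nat_lit 0), [(nat_lit 5)], [(nat_lit 4), (nat_lit 1)], (nat_lit 0x100000001010000000000000000000000000000000000000000000000000000010100000000000000010000000000000000000000000000000000000000000000000000000000000000)⟩,
  ⟨(nat_lit 0), [(nat_lit 2)], [(nat_lit 2), (nat_lit 0)], (nat_lit 0x100000000000000000000000100000001010001000001000000010000000000000000000000000000000000000001010001000001000100000000000000000000000000000000000000)⟩,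
  ⟨(nat_lit 0), [(nat_lit 4)], [(nat_lit 2), (nat_lit 0)], (nat_lit 0x100000000000000000000000001000000010000000000000001010000000100000000000000000000000000000000010000000000000000000000000000000000000000000000000000)⟩,
  ⟨(nat_lit 0), [(nat_lit 1)], [(nat_lit 1), (nat_lit 0)], (nat_lit 0x101000001000000000000000000010000000000000001010001000000000001000000010000000000000000000000000100000000000000000100010000000100000000000000000000)⟩,
  ⟨(nat_lit 0), [(nat_lit 3)], [(nat_lit 1), (nat_lit 1)], (nat_lit 0x100000101010000000000000000000000000000000001000100000000000001010100000001000000000000000001000000010000000000000001000000000000000000000000000000)⟩,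
  ⟨(nat_lit 2), [(nat_lit 3), (nat_lit 3)], [(nat_lit 4)], (nat_lit 0x100000001010000000000000101010001000000000001010101000000000001010100000000000101000000000000000000000000000000000000000000000000000000000100000000)⟩,
  ⟨(nat_lit 0), [(nat_lit 3)], [(nat_lit 3), (nat_lit 1)], (nat_lit 0x101000001000000000000000000000001000000000001000001000000010001000000010000000000000000000001000100000000000001000000000000000000000000000000000000)⟩,
  ⟨(nat_lit 2), [(nat_lit 5), (nat_lit 6)], [(nat_lit 6), (nat_lit 5), (nat_lit 4)], (nat_lit 0x100000000000000000000000001000000000000010000000000000100010000000000000000000000000000010000000000000000000000000000000000000000000000000100000000)⟩,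
  ⟨(nat_lit 0), [(nat_lit 5)], [(nat_lit 1), (nat_lit 0)], (nat_lit 0x101000001000000010001000100000100000100000001010000000100010000010000000000000000000100000100000100000000000000000000000000000000000000000000000000)⟩]

noncomputable def cx2 : Cert := ⟨Px2, (nat_lit 0), Xx2_0,
  [],
  [(nat_lit 0),
  (nat_lit 0),
  (nat_lit 0x100000000000000000000000000000000000000000000000000000000000000000000000000000000000000000000000000000000000000000000000000000001000000000000000000),
  (nat_lit 0x100000000000000000000000000000000000000000000000000000000000000000000000000000000000000000000000000000000000000000000000000000000010000000000000000),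
  (nat_lit 0x100000000000000000000000000000000000000000000000000000000000000000000000000000000000000000000000000000000000100000000000100000000000000000000000000),
  (nat_lit 0x100000000000000000000000000000000000000000000000000000000000000000000000000000000000000000000000000000000000001000000010000000000000000000000000000),
  (nat_lit 0x100000000000000000000000000000000000000000000000000000000000000000000000000000000000000000000000000000000010000000001000000000000000000000000000000),
  (nat_lit 0x100000000000000000000000000000000000000000000000000000000000000000000000000000000000000000000000000000000000001000000000000000000000000000000000000),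
  (nat_lit 0x100000000000000000000000000000000000000000000000000000000000000000000000000000000000000000000000000000000000100000000000000000000000000000000000000),
  (nat_lit 0x100000000000000000000000000000000000000000000000000000000000000000000000000000000000000000000000000000000000101000000010100000100000000000000000000),
  (nat_lit 0x100000000000000000000000000000000000000000000000000000000000000000000000000000000000000000000000000000000010000000000000000000000000000000000000000)],
  (BT.node (nat_lit 33) (BT.node (nat_lit 16) (BT.node (nat_lit 8) (BT.node (nat_lit 4) (BT.node (nat_lit 2) (BT.node (nat_lit 1) (BT.leaf (nat_lit 0x40c08409a0)) (BT.leaf (nat_lit 0))) (BT.node (nat_lit 3) (BT.leaf (nat_lit 0)) (BT.leaf (nat_lit 0)))) (BT.node (nat_lit 6) (BT.node (nat_lit 5) (BT.leaf (nat_lit 2)) (BT.leaf (nat_lit 0x404020c923e09))) (BT.node (nat_lit 7) (BT.leaf (nat_lit 0)) (BT.leaf (nat_lit 0))))) (BT.node (nat_lit 12) (BT.node (nat_lit 10) (BT.node (nat_lit 9) (BT.leaf (nat_lit 0)) (BT.leaf (nat_lit 536887329)))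 (BT.node (nat_lit 11) (BT.leaf (nat_lit 0x1400070a9)) (BT.leaf (nat_lit 0)))) (BT.node (nat_lit 14) (BT.node (nat_lit 13) (BT.leaf (nat_lit 0)) (BT.leaf (nat_lit 0))) (BT.node (nat_lit 15) (BT.leaf (nat_lit 8233)) (BT.leaf (nat_lit 0x146db25d67f5ded)))))) (BT.node (nat_lit 24) (BT.node (nat_lit 20) (BT.node (nat_lit 18) (BT.node (nat_lit 17) (BT.leaf (nat_lit 0x16c02ad92accde9)) (BT.leaf (nat_lit 0x14203a0962edb4c))) (BT.node (nat_lit 19) (BT.leaf (nat_lit 0x10200020304275)) (BT.leaf (nat_lit 0x800030000708c)))) (BT.node (nat_lit 22) (BT.node (nat_lit 21) (BT.leaf (nat_lit 0x14e03a1922ccde9)) (BT.leaf (nat_lit 0x3cf3325166576bd))) (BT.node (nat_lit 23) (BT.leaf (nat_lit 0x14203a0142ad24c)) (BT.leaf (nat_lit 256))))) (BT.node (nat_lit 28) (BT.node (nat_lit 26) (BT.node (nat_lit 25) (BT.leaf (nat_lit 0x1002080825908)) (BT.leaf (nat_lit 0x10400821000))) (BT.node (nat_lit 27) (BT.leaf (nat_lit 0x1de01a136128688)) (BT.leaf (nat_lit 2147748096)))) (BT.node (nat_lit 30) (BT.node (nat_lit 29) (BT.leaf (nat_lit 0xa00010e018))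 (BT.leaf (nat_lit 0xa80010e008))) (BT.node (nat_lit 31) (BT.leaf (nat_lit 0x1de03b1b61eadc0)) (BT.node (nat_lit 32) (BT.leaf (nat_lit 0x20a00050e018)) (BT.leaf (nat_lit 0xa000106008)))))))) (BT.node (nat_lit 49) (BT.node (nat_lit 41) (BT.node (nat_lit 37) (BT.node (nat_lit 35) (BT.node (nat_lit 34) (BT.leaf (nat_lit 0x201a400d7f008)) (BT.leaf (nat_lit 0xa00011e008))) (BT.node (nat_lit 36) (BT.leaf (nat_lit 0xa00010e008)) (BT.leaf (nat_lit 0x100003088)))) (BT.node (nat_lit 39) (BT.node (nat_lit 38) (BT.leaf (nat_lit 0x1de03a1b61e8dc8)) (BT.leaf (nat_lit 8192))) (BT.node (nat_lit 40) (BT.leaf (nat_lit 0x400800000)) (BT.leaf (nat_lit 16384))))) (BT.node (nat_lit 45) (BT.node (nat_lit 43) (BT.node (nat_lit 42) (BT.leaf (nat_lit 4)) (BT.leaf (nat_lit 139272))) (BT.node (nat_lit 44) (BT.leaf (nat_lit 1056776)) (BT.leaf (nat_lit 8200)))) (BT.node (nat_lit 47) (BT.node (nat_lit 46) (BT.leaf (nat_lit 0x58840151b008)) (BT.leaf (nat_lit 268444224))) (BT.node (nat_lit 48) (BT.leaf (nat_lit 512)) (BT.leaf (nat_lit 0x18800051a008))))))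 (BT.node (nat_lit 57) (BT.node (nat_lit 53) (BT.node (nat_lit 51) (BT.node (nat_lit 50) (BT.leaf (nat_lit 0x200000400)) (BT.leaf (nat_lit 67248712))) (BT.node (nat_lit 52) (BT.leaf (nat_lit 524864)) (BT.leaf (nat_lit 2097728)))) (BT.node (nat_lit 55) (BT.node (nat_lit 54) (BT.leaf (nat_lit 1024)) (BT.leaf (nat_lit 576))) (BT.node (nat_lit 56) (BT.leaf (nat_lit 8392832)) (BT.leaf (nat_lit 0x8a000d1f008))))) (BT.node (nat_lit 61) (BT.node (nat_lit 59) (BT.node (nat_lit 58) (BT.leaf (nat_lit 2048)) (BT.leaf (nat_lit 0x2000805000))) (BT.node (nat_lit 60) (BT.leaf (nat_lit 8392736)) (BT.leaf (nat_lit 143667208)))) (BT.node (nat_lit 63) (BT.node (nat_lit 62) (BT.leaf (nat_lit 8654848)) (BT.leaf (nat_lit 12587008))) (BT.node (nat_lit 64) (BT.leaf (nat_lit 4096)) (BT.node (nat_lit 65) (BT.leaf (nat_lit 25169920)) (BT.leaf (nat_lit 8392704)))))))))⟩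

theorem okx2 : cx2.OK := Cert.ok_of_check (by decide) (by decide +kernel)


noncomputable def Lx2 : List Lvl := [⟨(nat_lit 0), [[(nat_lit 1), (nat_lit 21)],
  [(nat_lit 7)],
  [(nat_lit 9), (nat_lit 17)],
  [(nat_lit 11), (nat_lit 15)],
  [(nat_lit 15)],
  [(nat_lit 17)],
  [(nat_lit 21)]], (nat_lit 1)⟩,
  ⟨(nat_lit 12), [[(nat_lit 3), (nat_lit 15), (nat_lit 19)],
  [(nat_lit 5), (nat_lit 17)],
  [(nat_lit 13), (nat_lit 21)],
  [(nat_lit 19)]], (nat_lit 1)⟩]


noncomputable def gx2 : List (List Nat) := [[(nat_lit 23)],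
  [(nat_lit 25)]]

theorem hx2_0 : allFrom (relRow (sameW Nx2 1755 11) 0 Px2) 0 11 = true := by decide +kernel

theorem hx2 : ∀ j < 11, relRow (sameW Nx2 1755 11) 0 Px2 j = true := by
  have h : ∀ j < 0, relRow (sameW Nx2 1755 11) 0 Px2 j = true := by simp
  have h := forall_lt_add h (allFrom_iff.1 hx2_0)
  exact h

theorem px2 : lall (prAt (sameW Nx2 1755 11) 0 gx2) Px2.prs = true := by decide +kernel

theorem lx2 : lowOK Nx2 1755 0 Px2 Lx2 = true := by decide +kernel

theorem pbdx2 : PBd T 2 1 :=
  have h := (mdl.new (k := 11) (l := 13) (by decide) wx2 (by decide +kernel) (by decide +kernel) qx2)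
  h.pbd (h.sameW (k := 11) (by decide)) okx2 (gs := gx2) hx2 px2 lx2 card (by decide) rfl rfl

noncomputable def Wx3 : List (List Nat) := [[(nat_lit 25), (nat_lit 10), (nat_lit 1), (nat_lit 1), (nat_lit 1), (nat_lit 1), (nat_lit 11), (nat_lit 10), (nat_lit 25), (nat_lit 27)],
  [(nat_lit 13), (nat_lit 4), (nat_lit 2), (nat_lit 2), (nat_lit 7), (nat_lit 5), (nat_lit 10), (nat_lit 18), (nat_lit 15), (nat_lit 29)],
  [(nat_lit 2), (nat_lit 4), (nat_lit 5), (nat_lit 1), (nat_lit 1), (nat_lit 5), (nat_lit 5), (nat_lit 25)],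
  [(nat_lit 11), (nat_lit 4), (nat_lit 4), (nat_lit 4), (nat_lit 7), (nat_lit 15), (nat_lit 9), (nat_lit 15), (nat_lit 27)]]

theorem qx3_0 : allFrom (preRow N Nx3 Wx3 1755 11) 0 4 = true := by decide +kernel

theorem qx3 : ∀ j < 4, preRow N Nx3 Wx3 1755 11 j = true := by
  have h : ∀ j < 0, preRow N Nx3 Wx3 1755 11 j = true := by simp
  have h := forall_lt_add h (allFrom_iff.1 qx3_0)
  exact h

theorem wx3 : wfAll Nx3 1755 = true := by decide +kernel

noncomputable def Px3 : Dat := ⟨(nat_lit 3), (nat_lit 3), (nat_lit 6), (nat_lit 3), (nat_lit 9),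
  (BT.node (nat_lit 3) (BT.node (nat_lit 1) (BT.leaf []) (BT.node (nat_lit 2) (BT.leaf [(nat_lit 1), (nat_lit 2)]) (BT.leaf []))) (BT.node (nat_lit 4) (BT.leaf [(nat_lit 2)]) (BT.node (nat_lit 5) (BT.leaf [(nat_lit 2)]) (BT.leaf [])))),
  [⟨(nat_lit 0), [(nat_lit 2)], [(nat_lit 2)]⟩,
  ⟨(nat_lit 0), [(nat_lit 0)], [(nat_lit 0), (nat_lit 1), (nat_lit 1), (nat_lit 2)]⟩,
  ⟨(nat_lit 0), [(nat_lit 1)], [(nat_lit 0), (nat_lit 0), (nat_lit 1), (nat_lit 1), (nat_lit 2)]⟩]⟩

noncomputable def Xx3_0 : List Test := [⟨(nat_lit 1), [(nat_lit 0), (nat_lit 1)], [(nat_lit 1), (nat_lit 0)], (nat_lit 0x80080000000000)⟩,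
  ⟨(nat_lit 0), [(nat_lit 1)], [(nat_lit 0), (nat_lit 0), (nat_lit 0)], (nat_lit 0x41000000000000)⟩,
  ⟨(nat_lit 1), [(nat_lit 0), (nat_lit 2)], [(nat_lit 2), (nat_lit 0)], (nat_lit 0x80042000000000)⟩,
  ⟨(nat_lit 1), [(nat_lit 1), (nat_lit 1), (nat_lit 1)], [], (nat_lit 0x82082080000000)⟩,
  ⟨(nat_lit 1), [(nat_lit 2), (nat_lit 2), (nat_lit 2)], [], (nat_lit 0x80042040080000)⟩]

noncomputable def cx3 : Cert := ⟨Px3, (nat_lit 0), Xx3_0,
  [],
  [(nat_lit 0),
  (nat_lit 0),
  (nat_lit 0x40000001000000)],
  (BT.node (nat_lit 3) (BT.node (nat_lit 1) (BT.leaf (nat_lit 121)) (BT.node (nat_lit 2) (BT.leaf (nat_lit 0)) (BT.leaf (nat_lit 49)))) (BT.node (nat_lit 4) (BT.leaf (nat_lit 10)) (BT.node (nat_lit 5) (BT.leaf (nat_lit 1)) (BT.leaf (nat_lit 6)))))⟩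

theorem okx3 : cx3.OK := Cert.ok_of_check (by decide) (by decide +kernel)


noncomputable def Lx3 : List Lvl := [⟨(nat_lit 0), [[(nat_lit 1)],
  [(nat_lit 1)],
  [(nat_lit 3), (nat_lit 5), (nat_lit 5)],
  [(nat_lit 3), (nat_lit 5), (nat_lit 5)],
  [(nat_lit 5)],
  [(nat_lit 5)]], (nat_lit 1)⟩]


noncomputable def gx3 : List (List Nat) := [[(nat_lit 7)]]

theorem hx3_0 : allFrom (relRow (sameW Nx3 1755 11) 0 Px3) 0 3 = true := by decide +kernel

theorem hx3 : ∀ j < 3, relRow (sameW Nx3 1755 11) 0 Px3 j = true := by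
  have h : ∀ j < 0, relRow (sameW Nx3 1755 11) 0 Px3 j = true := by simp
  have h := forall_lt_add h (allFrom_iff.1 hx3_0)
  exact h

theorem px3 : lall (prAt (sameW Nx3 1755 11) 0 gx3) Px3.prs = true := by decide +kernel

theorem lx3 : lowOK Nx3 1755 0 Px3 Lx3 = true := by decide +kernel

theorem pbdx3 : PBd T 3 1 :=
  have h := (mdl.new (k := 11) (l := 4) (by decide) wx3 (by decide +kernel) (by decide +kernel) qx3)
  h.pbd (h.sameW (k := 11) (by decide)) okx3 (gs := gx3) hx3 px3 lx3 card (by decide) rfl rfl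

noncomputable def Wx5 : List (List Nat) := [[(nat_lit 4), (nat_lit 10), (nat_lit 4), (nat_lit 4), (nat_lit 2), (nat_lit 9), (nat_lit 5), (nat_lit 9), (nat_lit 9), (nat_lit 18), (nat_lit 15), (nat_lit 21)],
  [(nat_lit 19), (nat_lit 2), (nat_lit 2), (nat_lit 2), (nat_lit 2), (nat_lit 8), (nat_lit 11), (nat_lit 10), (nat_lit 17)],
  [(nat_lit 7), (nat_lit 9), (nat_lit 1), (nat_lit 1), (nat_lit 1), (nat_lit 6), (nat_lit 10), (nat_lit 17), (nat_lit 17), (nat_lit 25)]]

theorem qx5_0 : allFrom (preRow N Nx5 Wx5 1755 11) 0 3 = true := by decide +kernel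

theorem qx5 : ∀ j < 3, preRow N Nx5 Wx5 1755 11 j = true := by
  have h : ∀ j < 0, preRow N Nx5 Wx5 1755 11 j = true := by simp
  have h := forall_lt_add h (allFrom_iff.1 qx5_0)
  exact h

theorem wx5 : wfAll Nx5 1755 = true := by decide +kernel

noncomputable def Px5 : Dat := ⟨(nat_lit 5), (nat_lit 2), (nat_lit 7), (nat_lit 2), (nat_lit 5),
  (BT.node (nat_lit 1) (BT.leaf []) (BT.node (nat_lit 2) (BT.leaf [(nat_lit 1)]) (BT.leaf []))),
  [⟨(nat_lit 0), [(nat_lit 1)], [(nat_lit 0), (nat_lit 0), (nat_lit 0), (nat_lit 1), (nat_lit 1), (nat_lit 1)]⟩,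
  ⟨(nat_lit 0), [(nat_lit 0)], [(nat_lit 0), (nat_lit 0), (nat_lit 0), (nat_lit 0), (nat_lit 1)]⟩]⟩

noncomputable def Xx5_0 : List Test := [⟨(nat_lit 1), [(nat_lit 0), (nat_lit 1)], [(nat_lit 1), (nat_lit 0)], (nat_lit 0x1800600000)⟩,
  ⟨(nat_lit 1), [(nat_lit 0), (nat_lit 0), (nat_lit 0), (nat_lit 0), (nat_lit 0)], [], (nat_lit 0x182000c000)⟩,
  ⟨(nat_lit 1), [(nat_lit 1), (nat_lit 1), (nat_lit 1), (nat_lit 1), (nat_lit 1)], [], (nat_lit 0x181000c000)⟩]

noncomputable def cx5 : Cert := ⟨Px5, (nat_lit 0), Xx5_0,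
  [],
  [(nat_lit 0),
  (nat_lit 0)],
  (BT.node (nat_lit 1) (BT.leaf (nat_lit 35)) (BT.node (nat_lit 2) (BT.leaf (nat_lit 3)) (BT.leaf (nat_lit 45))))⟩

theorem okx5 : cx5.OK := Cert.ok_of_check (by decide) (by decide +kernel)


noncomputable def Lx5 : List Lvl := [⟨(nat_lit 0), [[(nat_lit 1)],
  [(nat_lit 1)],
  [(nat_lit 1)],
  [(nat_lit 1)],
  [(nat_lit 3)],
  [(nat_lit 3)],
  [(nat_lit 3)],
  [(nat_lit 3)]], (nat_lit 1)⟩]


noncomputable def gx5 : List (List Nat) := [[(nat_lit 5)]]

theorem hx5_0 : allFrom (relRow (sameW Nx5 1755 11) 0 Px5) 0 2 = true := by decide +kernel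

theorem hx5 : ∀ j < 2, relRow (sameW Nx5 1755 11) 0 Px5 j = true := by
  have h : ∀ j < 0, relRow (sameW Nx5 1755 11) 0 Px5 j = true := by simp
  have h := forall_lt_add h (allFrom_iff.1 hx5_0)
  exact h

theorem px5 : lall (prAt (sameW Nx5 1755 11) 0 gx5) Px5.prs = true := by decide +kernel

theorem lx5 : lowOK Nx5 1755 0 Px5 Lx5 = true := by decide +kernel

theorem pbdx5 : PBd T 5 1 :=
  have h := (mdl.new (k := 11) (l := 3) (by decide) wx5 (by decide +kernel) (by decide +kernel) qx5)
  h.pbd (h.sameW (k := 11) (by decide)) okx5 (gs := gx5) hx5 px5 lx5 card (by decide) rfl rfl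

theorem mult : Nat.card (Mult T) ≤ 1 :=
  card_mult_le (b := 13) (k := 11) card [(2, 1), (3, 1), (5, 1)] (by decide +kernel) (by
    simp only [List.mem_cons, List.not_mem_nil, or_false, forall_eq_or_imp, forall_eq]
    exact ⟨⟨by decide, pbdx2⟩, ⟨by decide, pbdx3⟩, ⟨by decide, pbdx5⟩⟩)

theorem schur : HasCyclicSchurMultiplier Lie.TitsGroup 1 :=
  HasSchur.congr_left (trivial_of_mult_le mult) eT

end CF.Schur.Tits
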